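import Cfsg.Agent.Spor.Rua.D0

set_option autoImplicit false
set_option maxRecDepth 100000000
set_option Elab.async false

namespace Cfsg.Agent.Spor.Rua

theorem ok0 : Net.okb 12 n0 = true := by decide +kernel

theorem ok1 : Net.okb 12 n1 = true := by decide +kernel

theorem ok2 : Net.okb 12 n2 = true := by decide +kernel

theorem ok3 : Net.okb 12 n3 = true := by decide +kernel

theorem ok4 : Net.okb 12 n4 = true := by decide +kernel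

theorem rel0 : T.rel 12 [1, 1] 0 12 = true := by decide +kernel

theorem rel1 : T.rel 12 [2, 2] 0 12 = true := by decide +kernel

theorem rel2 : T.rel 12 [2, 4, 4, 5, 7, 2, 8, 2, 4, 4, 5, 7, 2, 8, 2, 4, 4, 5, 7, 2, 8, 2, 4, 4, 5, 7, 2, 8] 0 12 = true := by decide +kernel

theorem rel3 : T.rel 12 [4, 8, 7, 7, 8, 2, 4, 4, 5, 7, 2, 4, 4, 5, 7, 2, 4, 4, 5, 7, 2, 8, 2, 4, 8, 7, 7, 2, 5, 5, 2, 4, 8, 7, 7, 2] 0 12 = true := by decide +kernel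

theorem rel4 : T.rel 12 [8, 2, 4, 4, 5, 7, 2, 8, 2, 4, 4, 5, 7, 2, 2, 4, 4, 5, 7, 2, 8, 2, 4, 8, 7, 7, 2, 5, 2, 4, 8, 7, 7, 2, 5, 5, 2, 4, 8, 7, 7, 2] 0 12 = true := by decide +kernel

theorem rel5 : T.rel 12 [8, 2, 4, 4, 5, 7, 2, 4, 8, 7, 7, 8, 2, 4, 4, 5, 7, 2, 8, 2, 4, 4, 5, 7, 2, 4, 4, 5, 7, 8, 2, 4, 4, 5, 7, 2] 0 12 = true := by decide +kernel

theorem rel6 : T.rel 12 [4, 8, 7, 7, 4, 8, 7, 7, 8, 2, 4, 4, 5, 7, 2, 5, 2, 4, 8, 7, 7, 2, 8, 2, 4, 4, 5, 7, 2, 2, 4, 4, 5, 7, 2, 8] 0 12 = true := by decide +kernel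

theorem rel7 : T.rel 12 [4, 8, 7, 7, 4, 8, 7, 7, 4, 8, 7, 7, 4, 8, 7, 7] 0 12 = true := by decide +kernel

theorem rel8 : T.rel 12 [4, 8, 7, 7, 4, 8, 7, 7, 2, 4, 4, 5, 7, 2, 8, 4, 8, 7, 7, 2, 4, 4, 5, 7, 2, 8, 2, 4, 4, 5, 7, 2, 8, 4, 8, 7, 7, 2, 4, 4, 5, 7, 2, 8] 0 12 = true := by decide +kernel

theorem rel9 : T.rel 12 [4, 8, 7, 7, 2, 4, 4, 5, 7, 2, 8, 4, 8, 7, 7, 2, 4, 4, 5, 7, 2, 8, 4, 8, 7, 7, 2, 4, 4, 5, 7, 2, 8, 4, 8, 7, 7, 2, 4, 4, 5, 7, 2, 8] 0 12 = true := by decide +kernel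

theorem rel10 : T.rel 12 [5, 5, 5, 2, 4, 4, 5, 7, 2, 2, 4, 8, 7, 7, 2, 5] 0 12 = true := by decide +kernel

theorem rel11 : T.rel 12 [5, 4, 8, 7, 7, 8, 8, 2, 4, 4, 5, 7, 2, 4, 4, 5, 7, 5, 2, 4, 8, 7, 7, 2] 0 12 = true := by decide +kernel

theorem rel12 : T.rel 12 [5, 5, 4, 8, 7, 7, 2, 4, 8, 7, 7, 2, 8, 5, 2, 4, 8, 7, 7, 2, 2, 4, 8, 7, 7, 2, 5, 5, 2, 4, 8, 7, 7, 2, 4, 4, 5, 7] 0 12 = true := by decide +kernel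

theorem rel13 : T.rel 12 [5, 2, 4, 4, 5, 7, 2, 2, 4, 4, 5, 7, 2, 2, 4, 4, 5, 7, 2, 2, 4, 4, 5, 7, 2, 8] 0 12 = true := by decide +kernel

theorem rel14 : T.rel 12 [4, 2, 4, 8, 7, 7, 2, 7, 4, 8, 7, 7, 8, 2, 4, 4, 5, 7, 2, 5, 4, 4, 5, 7] 0 12 = true := by decide +kernel

theorem rel15 : T.rel 12 [4, 5, 5, 4, 2, 4, 8, 7, 7, 2, 5, 4, 4, 5, 7, 2, 4, 4, 5, 7, 2] 0 12 = true := by decide +kernel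

theorem rel16 : T.rel 12 [4, 5, 2, 4, 8, 7, 7, 2, 8, 7, 2, 4, 4, 5, 7, 2, 4, 4, 5, 7, 8, 2, 4, 4, 5, 7, 2, 2, 4, 4, 5, 7, 2] 0 12 = true := by decide +kernel

theorem rel17 : T.rel 12 [4, 5, 7, 7, 2, 8, 2, 8, 7, 5, 4] 0 12 = true := by decide +kernel

theorem rel18 : T.rel 12 [2, 4, 2, 4, 2, 5, 7, 2, 7, 7, 2, 8, 4, 8, 2, 7, 2, 7, 2, 4, 5] 0 12 = true := by decide +kernel

theorem rel19 : T.rel 12 [2, 4, 5, 4, 4, 2, 7, 7, 8, 7, 2, 4, 5, 2, 4, 4, 5, 7, 2, 7, 2, 4, 8, 7, 7, 2, 4, 8, 7] 0 12 = true := by decide +kernel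

theorem rel20 : T.rel 12 [4, 4, 4, 4, 4] 0 12 = true := by decide +kernel

theorem rel21 : T.rel 12 [3, 3, 3, 3] 0 12 = true := by decide +kernel

theorem rel22 : T.rel 12 [4, 5, 7, 5, 6, 4, 4, 6] 0 12 = true := by decide +kernel

theorem rel23 : T.rel 12 [3, 8, 8, 2, 8, 4, 8, 7, 7, 2] 0 12 = true := by decide +kernel

theorem rel24 : T.rel 12 [1, 2, 4, 3, 7, 7, 2, 1, 2, 4, 4, 8, 4, 2] 0 12 = true := by decide +kernel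

theorem rel25 : T.rel 12 [1, 2, 7, 3, 4, 4, 2, 1, 8, 8, 2, 5, 2] 0 12 = true := by decide +kernel

theorem rel26 : T.rel 12 [1, 4, 1, 7, 7, 8, 2, 5, 2, 7, 7] 0 12 = true := by decide +kernel

theorem rel27 : T.rel 12 [1, 2, 1, 7, 8, 6, 4, 2, 1, 8, 8, 2, 8, 4, 5, 4, 4, 2] 0 12 = true := by decide +kernel

theorem rel28 : T.rel 12 [1, 2, 1, 4, 2, 1, 2, 7, 2, 1, 4, 8, 7, 7, 8, 2, 4, 4, 2, 5] 0 12 = true := by decide +kernel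

theorem rel29 : T.rel 12 [2, 7, 2, 8, 7, 7, 3, 5, 6, 4, 2, 4, 2, 3] 0 12 = true := by decide +kernel

theorem rel30 : T.rel 12 [5, 7, 2, 3, 2, 6, 6, 7, 5] 0 12 = true := by decide +kernel

theorem rel31 : T.rel 12 [1, 2, 1, 4, 2, 7, 6, 2, 1, 2, 4, 2, 4, 2, 1, 2, 8, 7, 2, 8, 7, 5, 7, 5, 2] 0 12 = true := by decide +kernel

theorem rel32 : T.rel 12 [2, 8, 4, 5, 2, 3, 2, 4, 4, 2, 6] 0 12 = true := by decide +kernel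

theorem rel33 : T.rel 12 [1, 2, 4, 2, 7, 2, 1, 5, 7, 1, 7, 2, 4, 4, 2, 4, 2, 1, 7, 5, 7, 7, 5] 0 12 = true := by decide +kernel

theorem hcov : T.treeCov (ones 4060) L 1 = true := by decide +kernel

theorem hg : lall (fun z => band (memL L z) (band (sub (ones 4060) (T.let z).cl) (T.closed (ones 4060) z))) gs = true := by decide +kernel

theorem rot1_1 : T.rot 1 [1] (sel (ones 4060) ip1 1) = true := by decide +kernel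

theorem rot1_1r : band (Rule.ok (2 * 2) EX RL ⟨1 :: [1], [], 32, false⟩) (lall (memL L) [1]) = true := by decide +kernel

theorem rot1_2 : T.rot 1 [4, 1, 7, 7, 8, 2, 5, 2, 7, 7] (sel (ones 4060) ip1 2) = true := by decide +kernel

theorem rot1_2r : band (Rule.ok (2 * 2) EX RL ⟨1 :: [4, 1, 7, 7, 8, 2, 5, 2, 7, 7], [], 24, true⟩) (lall (memL L) [4, 1, 7, 7, 8, 2, 5, 2, 7, 7]) = true := by decide +kernel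

theorem rot1_3 : T.rot 1 [7, 7, 8, 2, 5, 2, 7, 7, 1, 4] (sel (ones 4060) ip1 3) = true := by decide +kernel

theorem rot1_3r : band (Rule.ok (2 * 2) EX RL ⟨1 :: [7, 7, 8, 2, 5, 2, 7, 7, 1, 4], [0, 7], 24, true⟩) (lall (memL L) [7, 7, 8, 2, 5, 2, 7, 7, 1, 4]) = true := by decide +kernel

theorem rot1_4 : T.rot 1 [7, 1, 4, 4, 2, 8, 2, 5, 4, 4] (sel (ones 4060) ip1 4) = true := by decide +kernel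

theorem rot1_4r : band (Rule.ok (2 * 2) EX RL ⟨1 :: [7, 1, 4, 4, 2, 8, 2, 5, 4, 4], [0, 7, 0], 24, false⟩) (lall (memL L) [7, 1, 4, 4, 2, 8, 2, 5, 4, 4]) = true := by decide +kernel

theorem rot1_5 : T.rot 1 [4, 4, 2, 8, 2, 5, 4, 4, 1, 7] (sel (ones 4060) ip1 5) = true := by decide +kernel

theorem rot1_5r : band (Rule.ok (2 * 2) EX RL ⟨1 :: [4, 4, 2, 8, 2, 5, 4, 4, 1, 7], [0], 24, false⟩) (lall (memL L) [4, 4, 2, 8, 2, 5, 4, 4, 1, 7]) = true := by decide +kernel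

theorem rot1_6 : T.rot 1 [2, 7, 3, 4, 4, 2, 1, 8, 8, 2, 5, 2] (sel (ones 4060) ip1 6) = true := by decide +kernel

theorem rot1_6r : band (Rule.ok (2 * 2) EX RL ⟨1 :: [2, 7, 3, 4, 4, 2, 1, 8, 8, 2, 5, 2], [], 23, true⟩) (lall (memL L) [2, 7, 3, 4, 4, 2, 1, 8, 8, 2, 5, 2]) = true := by decide +kernel

theorem rot1_7 : T.rot 1 [8, 8, 2, 5, 2, 1, 2, 7, 3, 4, 4, 2] (sel (ones 4060) ip1 7) = true := by decide +kernel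

theorem rot1_7r : band (Rule.ok (2 * 2) EX RL ⟨1 :: [8, 8, 2, 5, 2, 1, 2, 7, 3, 4, 4, 2], [2, 8, 2, 9, 9, 0], 23, true⟩) (lall (memL L) [8, 8, 2, 5, 2, 1, 2, 7, 3, 4, 4, 2]) = true := by decide +kernel

theorem rot1_8 : T.rot 1 [2, 7, 7, 6, 4, 2, 1, 2, 8, 2, 5, 5] (sel (ones 4060) ip1 8) = true := by decide +kernel

theorem rot1_8r : band (Rule.ok (2 * 2) EX RL ⟨1 :: [2, 7, 7, 6, 4, 2, 1, 2, 8, 2, 5, 5], [2, 8, 2, 9, 9], 23, false⟩) (lall (memL L) [2, 7, 7, 6, 4, 2, 1, 2, 8, 2, 5, 5]) = true := by decide +kernel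

theorem rot1_9 : T.rot 1 [2, 8, 2, 5, 5, 1, 2, 7, 7, 6, 4, 2] (sel (ones 4060) ip1 9) = true := by decide +kernel

theorem rot1_9r : band (Rule.ok (2 * 2) EX RL ⟨1 :: [2, 8, 2, 5, 5, 1, 2, 7, 7, 6, 4, 2], [0], 23, false⟩) (lall (memL L) [2, 8, 2, 5, 5, 1, 2, 7, 7, 6, 4, 2]) = true := by decide +kernel

theorem rot1_10 : T.rot 1 [2, 4, 3, 7, 7, 2, 1, 2, 4, 4, 8, 4, 2] (sel (ones 4060) ip1 10) = true := by decide +kernel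

theorem rot1_10r : band (Rule.ok (2 * 2) EX RL ⟨1 :: [2, 4, 3, 7, 7, 2, 1, 2, 4, 4, 8, 4, 2], [], 22, true⟩) (lall (memL L) [2, 4, 3, 7, 7, 2, 1, 2, 4, 4, 8, 4, 2]) = true := by decide +kernel

theorem rot1_11 : T.rot 1 [2, 4, 4, 8, 4, 2, 1, 2, 4, 3, 7, 7, 2] (sel (ones 4060) ip1 11) = true := by decide +kernel

theorem rot1_11r : band (Rule.ok (2 * 2) EX RL ⟨1 :: [2, 4, 4, 8, 4, 2, 1, 2, 4, 3, 7, 7, 2], [2, 6, 9, 6, 6, 2, 0], 22, true⟩) (lall (memL L) [2, 4, 4, 8, 4, 2, 1, 2, 4, 3, 7, 7, 2]) = true := by decide +kernel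

theorem rot1_12 : T.rot 1 [2, 4, 4, 6, 7, 2, 1, 2, 7, 5, 7, 7, 2] (sel (ones 4060) ip1 12) = true := by decide +kernel

theorem rot1_12r : band (Rule.ok (2 * 2) EX RL ⟨1 :: [2, 4, 4, 6, 7, 2, 1, 2, 7, 5, 7, 7, 2], [2, 6, 9, 6, 6, 2], 22, false⟩) (lall (memL L) [2, 4, 4, 6, 7, 2, 1, 2, 7, 5, 7, 7, 2]) = true := by decide +kernel

theorem rot1_13 : T.rot 1 [2, 7, 5, 7, 7, 2, 1, 2, 4, 4, 6, 7, 2] (sel (ones 4060) ip1 13) = true := by decide +kernel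

theorem rot1_13r : band (Rule.ok (2 * 2) EX RL ⟨1 :: [2, 7, 5, 7, 7, 2, 1, 2, 4, 4, 6, 7, 2], [0], 22, false⟩) (lall (memL L) [2, 7, 5, 7, 7, 2, 1, 2, 4, 4, 6, 7, 2]) = true := by decide +kernel

theorem rot1_14 : T.rot 1 [2, 1, 7, 8, 6, 4, 2, 1, 8, 8, 2, 8, 4, 5, 4, 4, 2] (sel (ones 4060) ip1 14) = true := by decide +kernel

theorem rot1_14r : band (Rule.ok (2 * 2) EX RL ⟨1 :: [2, 1, 7, 8, 6, 4, 2, 1, 8, 8, 2, 8, 4, 5, 4, 4, 2], [], 25, true⟩) (lall (memL L) [2, 1, 7, 8, 6, 4, 2, 1, 8, 8, 2, 8, 4, 5, 4, 4, 2]) = true := by decide +kernel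

theorem rot1_15 : T.rot 1 [7, 8, 6, 4, 2, 1, 8, 8, 2, 8, 4, 5, 4, 4, 2, 1, 2] (sel (ones 4060) ip1 15) = true := by decide +kernel

theorem rot1_15r : band (Rule.ok (2 * 2) EX RL ⟨1 :: [7, 8, 6, 4, 2, 1, 8, 8, 2, 8, 4, 5, 4, 4, 2, 1, 2], [0, 2], 25, true⟩) (lall (memL L) [7, 8, 6, 4, 2, 1, 8, 8, 2, 8, 4, 5, 4, 4, 2, 1, 2]) = true := by decide +kernel

theorem rot1_16 : T.rot 1 [8, 8, 2, 8, 4, 5, 4, 4, 2, 1, 2, 1, 7, 8, 6, 4, 2] (sel (ones 4060) ip1 16) = true := by decide +kernel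

theorem rot1_16r : band (Rule.ok (2 * 2) EX RL ⟨1 :: [8, 8, 2, 8, 4, 5, 4, 4, 2, 1, 2, 1, 7, 8, 6, 4, 2], [0, 2, 0, 6, 8, 4, 7, 2], 25, true⟩) (lall (memL L) [8, 8, 2, 8, 4, 5, 4, 4, 2, 1, 2, 1, 7, 8, 6, 4, 2]) = true := by decide +kernel

theorem rot1_17 : T.rot 1 [2, 7, 3, 5, 4, 1, 2, 1, 2, 7, 7, 8, 7, 5, 2, 5, 5] (sel (ones 4060) ip1 17) = true := by decide +kernel

theorem rot1_17r : band (Rule.ok (2 * 2) EX RL ⟨1 :: [2, 7, 3, 5, 4, 1, 2, 1, 2, 7, 7, 8, 7, 5, 2, 5, 5], [0, 2, 0, 6, 8, 4, 7, 2, 0], 25, false⟩) (lall (memL L) [2, 7, 3, 5, 4, 1, 2, 1, 2, 7, 7, 8, 7, 5, 2, 5, 5]) = true := by decide +kernel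

theorem rot1_18 : T.rot 1 [2, 1, 2, 7, 7, 8, 7, 5, 2, 5, 5, 1, 2, 7, 3, 5, 4] (sel (ones 4060) ip1 18) = true := by decide +kernel

theorem rot1_18r : band (Rule.ok (2 * 2) EX RL ⟨1 :: [2, 1, 2, 7, 7, 8, 7, 5, 2, 5, 5, 1, 2, 7, 3, 5, 4], [0, 2, 0], 25, false⟩) (lall (memL L) [2, 1, 2, 7, 7, 8, 7, 5, 2, 5, 5, 1, 2, 7, 3, 5, 4]) = true := by decide +kernel

theorem rot1_19 : T.rot 1 [2, 7, 7, 8, 7, 5, 2, 5, 5, 1, 2, 7, 3, 5, 4, 1, 2] (sel (ones 4060) ip1 19) = true := by decide +kernel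

theorem rot1_19r : band (Rule.ok (2 * 2) EX RL ⟨1 :: [2, 7, 7, 8, 7, 5, 2, 5, 5, 1, 2, 7, 3, 5, 4, 1, 2], [0], 25, false⟩) (lall (memL L) [2, 7, 7, 8, 7, 5, 2, 5, 5, 1, 2, 7, 3, 5, 4, 1, 2]) = true := by decide +kernel

theorem rot1_20 : T.rot 1 [2, 1, 4, 2, 1, 2, 7, 2, 1, 4, 8, 7, 7, 8, 2, 4, 4, 2, 5] (sel (ones 4060) ip1 20) = true := by decide +kernel

theorem rot1_20r : band (Rule.ok (2 * 2) EX RL ⟨1 :: [2, 1, 4, 2, 1, 2, 7, 2, 1, 4, 8, 7, 7, 8, 2, 4, 4, 2, 5], [], 26, true⟩) (lall (memL L) [2, 1, 4, 2, 1, 2, 7, 2, 1, 4, 8, 7, 7, 8, 2, 4, 4, 2, 5]) = true := by decide +kernel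

theorem rot1_21 : T.rot 1 [4, 2, 1, 2, 7, 2, 1, 4, 8, 7, 7, 8, 2, 4, 4, 2, 5, 1, 2] (sel (ones 4060) ip1 21) = true := by decide +kernel

theorem rot1_21r : band (Rule.ok (2 * 2) EX RL ⟨1 :: [4, 2, 1, 2, 7, 2, 1, 4, 8, 7, 7, 8, 2, 4, 4, 2, 5, 1, 2], [0, 2], 26, true⟩) (lall (memL L) [4, 2, 1, 2, 7, 2, 1, 4, 8, 7, 7, 8, 2, 4, 4, 2, 5, 1, 2]) = true := by decide +kernel

theorem rot1_22 : T.rot 1 [2, 7, 2, 1, 4, 8, 7, 7, 8, 2, 4, 4, 2, 5, 1, 2, 1, 4, 2] (sel (ones 4060) ip1 22) = true := by decide +kernel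

theorem rot1_22r : band (Rule.ok (2 * 2) EX RL ⟨1 :: [2, 7, 2, 1, 4, 8, 7, 7, 8, 2, 4, 4, 2, 5, 1, 2, 1, 4, 2], [0, 2, 0, 7, 2], 26, true⟩) (lall (memL L) [2, 7, 2, 1, 4, 8, 7, 7, 8, 2, 4, 4, 2, 5, 1, 2, 1, 4, 2]) = true := by decide +kernel

theorem rot1_23 : T.rot 1 [4, 8, 7, 7, 8, 2, 4, 4, 2, 5, 1, 2, 1, 4, 2, 1, 2, 7, 2] (sel (ones 4060) ip1 23) = true := by decide +kernel

theorem rot1_23r : band (Rule.ok (2 * 2) EX RL ⟨1 :: [4, 8, 7, 7, 8, 2, 4, 4, 2, 5, 1, 2, 1, 4, 2, 1, 2, 7, 2], [0, 2, 0, 7, 2, 0, 2, 6, 2], 26, true⟩) (lall (memL L) [4, 8, 7, 7, 8, 2, 4, 4, 2, 5, 1, 2, 1, 4, 2, 1, 2, 7, 2]) = true := by decide +kernel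

theorem rot1_24 : T.rot 1 [2, 4, 2, 1, 2, 7, 1, 2, 1, 8, 2, 7, 7, 2, 5, 4, 4, 5, 7] (sel (ones 4060) ip1 24) = true := by decide +kernel

theorem rot1_24r : band (Rule.ok (2 * 2) EX RL ⟨1 :: [2, 4, 2, 1, 2, 7, 1, 2, 1, 8, 2, 7, 7, 2, 5, 4, 4, 5, 7], [0, 2, 0, 7, 2, 0, 2, 6, 2, 0], 26, false⟩) (lall (memL L) [2, 4, 2, 1, 2, 7, 1, 2, 1, 8, 2, 7, 7, 2, 5, 4, 4, 5, 7]) = true := by decide +kernel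

theorem rot1_25 : T.rot 1 [2, 7, 1, 2, 1, 8, 2, 7, 7, 2, 5, 4, 4, 5, 7, 1, 2, 4, 2] (sel (ones 4060) ip1 25) = true := by decide +kernel

theorem rot1_25r : band (Rule.ok (2 * 2) EX RL ⟨1 :: [2, 7, 1, 2, 1, 8, 2, 7, 7, 2, 5, 4, 4, 5, 7, 1, 2, 4, 2], [0, 2, 0, 7, 2, 0], 26, false⟩) (lall (memL L) [2, 7, 1, 2, 1, 8, 2, 7, 7, 2, 5, 4, 4, 5, 7, 1, 2, 4, 2]) = true := by decide +kernel

theorem rot1_26 : T.rot 1 [2, 1, 8, 2, 7, 7, 2, 5, 4, 4, 5, 7, 1, 2, 4, 2, 1, 2, 7] (sel (ones 4060) ip1 26) = true := by decide +kernel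

theorem rot1_26r : band (Rule.ok (2 * 2) EX RL ⟨1 :: [2, 1, 8, 2, 7, 7, 2, 5, 4, 4, 5, 7, 1, 2, 4, 2, 1, 2, 7], [0, 2, 0], 26, false⟩) (lall (memL L) [2, 1, 8, 2, 7, 7, 2, 5, 4, 4, 5, 7, 1, 2, 4, 2, 1, 2, 7]) = true := by decide +kernel

theorem rot1_27 : T.rot 1 [8, 2, 7, 7, 2, 5, 4, 4, 5, 7, 1, 2, 4, 2, 1, 2, 7, 1, 2] (sel (ones 4060) ip1 27) = true := by decide +kernel

theorem rot1_27r : band (Rule.ok (2 * 2) EX RL ⟨1 :: [8, 2, 7, 7, 2, 5, 4, 4, 5, 7, 1, 2, 4, 2, 1, 2, 7, 1, 2], [0], 26, false⟩) (lall (memL L) [8, 2, 7, 7, 2, 5, 4, 4, 5, 7, 1, 2, 4, 2, 1, 2, 7, 1, 2]) = true := by decide +kernel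

theorem rot1_28 : T.rot 1 [2, 4, 2, 7, 2, 1, 5, 7, 1, 7, 2, 4, 4, 2, 4, 2, 1, 7, 5, 7, 7, 5] (sel (ones 4060) ip1 28) = true := by decide +kernel

theorem rot1_28r : band (Rule.ok (2 * 2) EX RL ⟨1 :: [2, 4, 2, 7, 2, 1, 5, 7, 1, 7, 2, 4, 4, 2, 4, 2, 1, 7, 5, 7, 7, 5], [], 31, true⟩) (lall (memL L) [2, 4, 2, 7, 2, 1, 5, 7, 1, 7, 2, 4, 4, 2, 4, 2, 1, 7, 5, 7, 7, 5]) = true := by decide +kernel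

theorem rot1_29 : T.rot 1 [5, 7, 1, 7, 2, 4, 4, 2, 4, 2, 1, 7, 5, 7, 7, 5, 1, 2, 4, 2, 7, 2] (sel (ones 4060) ip1 29) = true := by decide +kernel

theorem rot1_29r : band (Rule.ok (2 * 2) EX RL ⟨1 :: [5, 7, 1, 7, 2, 4, 4, 2, 4, 2, 1, 7, 5, 7, 7, 5, 1, 2, 4, 2, 7, 2], [0, 2, 7, 2, 6, 2], 31, true⟩) (lall (memL L) [5, 7, 1, 7, 2, 4, 4, 2, 4, 2, 1, 7, 5, 7, 7, 5, 1, 2, 4, 2, 7, 2]) = true := by decide +kernel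

theorem rot1_30 : T.rot 1 [7, 2, 4, 4, 2, 4, 2, 1, 7, 5, 7, 7, 5, 1, 2, 4, 2, 7, 2, 1, 5, 7] (sel (ones 4060) ip1 30) = true := by decide +kernel

theorem rot1_30r : band (Rule.ok (2 * 2) EX RL ⟨1 :: [7, 2, 4, 4, 2, 4, 2, 1, 7, 5, 7, 7, 5, 1, 2, 4, 2, 7, 2, 1, 5, 7], [0, 2, 7, 2, 6, 2, 0, 9, 6], 31, true⟩) (lall (memL L) [7, 2, 4, 4, 2, 4, 2, 1, 7, 5, 7, 7, 5, 1, 2, 4, 2, 7, 2, 1, 5, 7]) = true := by decide +kernel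

theorem rot1_31 : T.rot 1 [7, 5, 7, 7, 5, 1, 2, 4, 2, 7, 2, 1, 5, 7, 1, 7, 2, 4, 4, 2, 4, 2] (sel (ones 4060) ip1 31) = true := by decide +kernel

theorem rot1_31r : band (Rule.ok (2 * 2) EX RL ⟨1 :: [7, 5, 7, 7, 5, 1, 2, 4, 2, 7, 2, 1, 5, 7, 1, 7, 2, 4, 4, 2, 4, 2], [8, 7, 7, 8, 7, 0], 31, true⟩) (lall (memL L) [7, 5, 7, 7, 5, 1, 2, 4, 2, 7, 2, 1, 5, 7, 1, 7, 2, 4, 4, 2, 4, 2]) = true := by decide +kernel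

theorem rot1_32 : T.rot 1 [2, 7, 2, 7, 7, 2, 4, 1, 4, 8, 1, 2, 4, 2, 7, 2, 1, 8, 4, 4, 8, 4] (sel (ones 4060) ip1 32) = true := by decide +kernel

theorem rot1_32r : band (Rule.ok (2 * 2) EX RL ⟨1 :: [2, 7, 2, 7, 7, 2, 4, 1, 4, 8, 1, 2, 4, 2, 7, 2, 1, 8, 4, 4, 8, 4], [8, 7, 7, 8, 7], 31, false⟩) (lall (memL L) [2, 7, 2, 7, 7, 2, 4, 1, 4, 8, 1, 2, 4, 2, 7, 2, 1, 8, 4, 4, 8, 4]) = true := by decide +kernel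

theorem rot1_33 : T.rot 1 [4, 8, 1, 2, 4, 2, 7, 2, 1, 8, 4, 4, 8, 4, 1, 2, 7, 2, 7, 7, 2, 4] (sel (ones 4060) ip1 33) = true := by decide +kernel

theorem rot1_33r : band (Rule.ok (2 * 2) EX RL ⟨1 :: [4, 8, 1, 2, 4, 2, 7, 2, 1, 8, 4, 4, 8, 4, 1, 2, 7, 2, 7, 7, 2, 4], [0, 2, 7, 2, 6, 2, 0, 9, 6, 0], 31, false⟩) (lall (memL L) [4, 8, 1, 2, 4, 2, 7, 2, 1, 8, 4, 4, 8, 4, 1, 2, 7, 2, 7, 7, 2, 4]) = true := by decide +kernel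

theorem rot1_34 : T.rot 1 [2, 4, 2, 7, 2, 1, 8, 4, 4, 8, 4, 1, 2, 7, 2, 7, 7, 2, 4, 1, 4, 8] (sel (ones 4060) ip1 34) = true := by decide +kernel

theorem rot1_34r : band (Rule.ok (2 * 2) EX RL ⟨1 :: [2, 4, 2, 7, 2, 1, 8, 4, 4, 8, 4, 1, 2, 7, 2, 7, 7, 2, 4, 1, 4, 8], [0, 2, 7, 2, 6, 2, 0], 31, false⟩) (lall (memL L) [2, 4, 2, 7, 2, 1, 8, 4, 4, 8, 4, 1, 2, 7, 2, 7, 7, 2, 4, 1, 4, 8]) = true := by decide +kernel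

theorem rot1_35 : T.rot 1 [8, 4, 4, 8, 4, 1, 2, 7, 2, 7, 7, 2, 4, 1, 4, 8, 1, 2, 4, 2, 7, 2] (sel (ones 4060) ip1 35) = true := by decide +kernel

theorem rot1_35r : band (Rule.ok (2 * 2) EX RL ⟨1 :: [8, 4, 4, 8, 4, 1, 2, 7, 2, 7, 7, 2, 4, 1, 4, 8, 1, 2, 4, 2, 7, 2], [0], 31, false⟩) (lall (memL L) [8, 4, 4, 8, 4, 1, 2, 7, 2, 7, 7, 2, 4, 1, 4, 8, 1, 2, 4, 2, 7, 2]) = true := by decide +kernel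

theorem rot1_36 : T.rot 1 [2, 1, 4, 2, 7, 6, 2, 1, 2, 4, 2, 4, 2, 1, 2, 8, 7, 2, 8, 7, 5, 7, 5, 2] (sel (ones 4060) ip1 36) = true := by decide +kernel

theorem rot1_36r : band (Rule.ok (2 * 2) EX RL ⟨1 :: [2, 1, 4, 2, 7, 6, 2, 1, 2, 4, 2, 4, 2, 1, 2, 8, 7, 2, 8, 7, 5, 7, 5, 2], [], 29, true⟩) (lall (memL L) [2, 1, 4, 2, 7, 6, 2, 1, 2, 4, 2, 4, 2, 1, 2, 8, 7, 2, 8, 7, 5, 7, 5, 2]) = true := by decide +kernel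

theorem rot1_37 : T.rot 1 [4, 2, 7, 6, 2, 1, 2, 4, 2, 4, 2, 1, 2, 8, 7, 2, 8, 7, 5, 7, 5, 2, 1, 2] (sel (ones 4060) ip1 37) = true := by decide +kernel

theorem rot1_37r : band (Rule.ok (2 * 2) EX RL ⟨1 :: [4, 2, 7, 6, 2, 1, 2, 4, 2, 4, 2, 1, 2, 8, 7, 2, 8, 7, 5, 7, 5, 2, 1, 2], [0, 2], 29, true⟩) (lall (memL L) [4, 2, 7, 6, 2, 1, 2, 4, 2, 4, 2, 1, 2, 8, 7, 2, 8, 7, 5, 7, 5, 2, 1, 2]) = true := by decide +kernel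

theorem rot1_38 : T.rot 1 [2, 4, 2, 4, 2, 1, 2, 8, 7, 2, 8, 7, 5, 7, 5, 2, 1, 2, 1, 4, 2, 7, 6, 2] (sel (ones 4060) ip1 38) = true := by decide +kernel

theorem rot1_38r : band (Rule.ok (2 * 2) EX RL ⟨1 :: [2, 4, 2, 4, 2, 1, 2, 8, 7, 2, 8, 7, 5, 7, 5, 2, 1, 2, 1, 4, 2, 7, 6, 2], [0, 2, 0, 7, 2, 6, 4, 2], 29, true⟩) (lall (memL L) [2, 4, 2, 4, 2, 1, 2, 8, 7, 2, 8, 7, 5, 7, 5, 2, 1, 2, 1, 4, 2, 7, 6, 2]) = true := by decide +kernel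

theorem rot1_39 : T.rot 1 [2, 8, 7, 2, 8, 7, 5, 7, 5, 2, 1, 2, 1, 4, 2, 7, 6, 2, 1, 2, 4, 2, 4, 2] (sel (ones 4060) ip1 39) = true := by decide +kernel

theorem rot1_39r : band (Rule.ok (2 * 2) EX RL ⟨1 :: [2, 8, 7, 2, 8, 7, 5, 7, 5, 2, 1, 2, 1, 4, 2, 7, 6, 2, 1, 2, 4, 2, 4, 2], [2, 8, 7, 8, 7, 9, 2, 7, 9, 2, 0], 29, true⟩) (lall (memL L) [2, 8, 7, 2, 8, 7, 5, 7, 5, 2, 1, 2, 1, 4, 2, 7, 6, 2, 1, 2, 4, 2, 4, 2]) = true := by decide +kernel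

theorem rot1_40 : T.rot 1 [2, 7, 2, 7, 2, 1, 2, 3, 4, 2, 7, 1, 2, 1, 2, 8, 4, 8, 4, 5, 2, 4, 5, 2] (sel (ones 4060) ip1 40) = true := by decide +kernel

theorem rot1_40r : band (Rule.ok (2 * 2) EX RL ⟨1 :: [2, 7, 2, 7, 2, 1, 2, 3, 4, 2, 7, 1, 2, 1, 2, 8, 4, 8, 4, 5, 2, 4, 5, 2], [2, 8, 7, 8, 7, 9, 2, 7, 9, 2], 29, false⟩) (lall (memL L) [2, 7, 2, 7, 2, 1, 2, 3, 4, 2, 7, 1, 2, 1, 2, 8, 4, 8, 4, 5, 2, 4, 5, 2]) = true := by decide +kernel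

theorem rot1_41 : T.rot 1 [2, 3, 4, 2, 7, 1, 2, 1, 2, 8, 4, 8, 4, 5, 2, 4, 5, 2, 1, 2, 7, 2, 7, 2] (sel (ones 4060) ip1 41) = true := by decide +kernel

theorem rot1_41r : band (Rule.ok (2 * 2) EX RL ⟨1 :: [2, 3, 4, 2, 7, 1, 2, 1, 2, 8, 4, 8, 4, 5, 2, 4, 5, 2, 1, 2, 7, 2, 7, 2], [0, 2, 0, 7, 2, 6, 4, 2, 0], 29, false⟩) (lall (memL L) [2, 3, 4, 2, 7, 1, 2, 1, 2, 8, 4, 8, 4, 5, 2, 4, 5, 2, 1, 2, 7, 2, 7, 2]) = true := by decide +kernel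

theorem rot1_42 : T.rot 1 [2, 1, 2, 8, 4, 8, 4, 5, 2, 4, 5, 2, 1, 2, 7, 2, 7, 2, 1, 2, 3, 4, 2, 7] (sel (ones 4060) ip1 42) = true := by decide +kernel

theorem rot1_42r : band (Rule.ok (2 * 2) EX RL ⟨1 :: [2, 1, 2, 8, 4, 8, 4, 5, 2, 4, 5, 2, 1, 2, 7, 2, 7, 2, 1, 2, 3, 4, 2, 7], [0, 2, 0], 29, false⟩) (lall (memL L) [2, 1, 2, 8, 4, 8, 4, 5, 2, 4, 5, 2, 1, 2, 7, 2, 7, 2, 1, 2, 3, 4, 2, 7]) = true := by decide +kernel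

theorem rot1_43 : T.rot 1 [2, 8, 4, 8, 4, 5, 2, 4, 5, 2, 1, 2, 7, 2, 7, 2, 1, 2, 3, 4, 2, 7, 1, 2] (sel (ones 4060) ip1 43) = true := by decide +kernel

theorem rot1_43r : band (Rule.ok (2 * 2) EX RL ⟨1 :: [2, 8, 4, 8, 4, 5, 2, 4, 5, 2, 1, 2, 7, 2, 7, 2, 1, 2, 3, 4, 2, 7, 1, 2], [0], 29, false⟩) (lall (memL L) [2, 8, 4, 8, 4, 5, 2, 4, 5, 2, 1, 2, 7, 2, 7, 2, 1, 2, 3, 4, 2, 7, 1, 2]) = true := by decide +kernel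

theorem cov1 : T.cover 1 [(sel (ones 4060) ip1 1), (sel (ones 4060) ip1 2), (sel (ones 4060) ip1 3), (sel (ones 4060) ip1 4), (sel (ones 4060) ip1 5), (sel (ones 4060) ip1 6), (sel (ones 4060) ip1 7), (sel (ones 4060) ip1 8), (sel (ones 4060) ip1 9), (sel (ones 4060) ip1 10), (sel (ones 4060) ip1 11), (sel (ones 4060) ip1 12), (sel (ones 4060) ip1 13), (sel (ones 4060) ip1 14), (sel (ones 4060) ip1 15), (sel (ones 4060) ip1 16), (sel (ones 4060) ip1 17), (sel (ones 4060) ip1 18), (sel (ones 4060) ip1 19), (sel (ones 4060) ip1 20), (sel (ones 4060) ip1 21), (sel (ones 4060) ip1 22), (sel (ones 4060) ip1 23), (sel (ones 4060) ip1 24), (sel (ones 4060) ip1 25), (sel (ones 4060) ip1 26), (sel (ones 4060) ip1 27), (sel (ones 4060) ip1 28), (sel (ones 4060) ip1 29), (sel (ones 4060)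 ip1 30), (sel (ones 4060) ip1 31), (sel (ones 4060) ip1 32), (sel (ones 4060) ip1 33), (sel (ones 4060) ip1 34), (sel (ones 4060) ip1 35), (sel (ones 4060) ip1 36), (sel (ones 4060) ip1 37), (sel (ones 4060) ip1 38), (sel (ones 4060) ip1 39), (sel (ones 4060) ip1 40), (sel (ones 4060) ip1 41), (sel (ones 4060) ip1 42), (sel (ones 4060) ip1 43)] = true := by decide +kernel

theorem tl1 : T.treeLt 12 1 = true := by decide +kernel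

theorem rot2_1 : T.rot 2 [2] (sel (ones 4060) ip2 1) = true := by decide +kernel

theorem rot2_1r : band (Rule.ok (2 * 2) EX RL ⟨2 :: [2], [], 32, false⟩) (lall (memL L) [2]) = true := by decide +kernel

theorem rot2_2 : T.rot 2 [3, 2, 6, 6, 7, 5, 5, 7] (sel (ones 4060) ip2 2) = true := by decide +kernel

theorem rot2_2r : band (Rule.ok (2 * 2) EX RL ⟨2 :: [3, 2, 6, 6, 7, 5, 5, 7], [9, 6], 28, true⟩) (lall (memL L) [3, 2, 6, 6, 7, 5, 5, 7]) = true := by decide +kernel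

theorem rot2_3 : T.rot 2 [6, 6, 7, 5, 5, 7, 2, 3] (sel (ones 4060) ip2 3) = true := by decide +kernel

theorem rot2_3r : band (Rule.ok (2 * 2) EX RL ⟨2 :: [6, 6, 7, 5, 5, 7, 2, 3], [9, 6, 2, 5], 28, true⟩) (lall (memL L) [6, 6, 7, 5, 5, 7, 2, 3]) = true := by decide +kernel

theorem rot2_4 : T.rot 2 [6, 2, 4, 8, 8, 4, 3, 3] (sel (ones 4060) ip2 4) = true := by decide +kernel

theorem rot2_4r : band (Rule.ok (2 * 2) EX RL ⟨2 :: [6, 2, 4, 8, 8, 4, 3, 3], [8, 7, 5, 5], 28, false⟩) (lall (memL L) [6, 2, 4, 8, 8, 4, 3, 3]) = true := by decide +kernel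

theorem rot2_5 : T.rot 2 [4, 8, 8, 4, 3, 3, 2, 6] (sel (ones 4060) ip2 5) = true := by decide +kernel

theorem rot2_5r : band (Rule.ok (2 * 2) EX RL ⟨2 :: [4, 8, 8, 4, 3, 3, 2, 6], [9, 6, 2], 28, false⟩) (lall (memL L) [4, 8, 8, 4, 3, 3, 2, 6]) = true := by decide +kernel

theorem rot2_6 : T.rot 2 [8, 4, 8, 7, 7, 2, 3, 8, 8] (sel (ones 4060) ip2 6) = true := by decide +kernel

theorem rot2_6r : band (Rule.ok (2 * 2) EX RL ⟨2 :: [8, 4, 8, 7, 7, 2, 3, 8, 8], [5, 8, 8], 21, true⟩) (lall (memL L) [8, 4, 8, 7, 7, 2, 3, 8, 8]) = true := by decide +kernel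

theorem rot2_7 : T.rot 2 [3, 8, 8, 2, 8, 4, 8, 7, 7] (sel (ones 4060) ip2 7) = true := by decide +kernel

theorem rot2_7r : band (Rule.ok (2 * 2) EX RL ⟨2 :: [3, 8, 8, 2, 8, 4, 8, 7, 7], [2], 21, true⟩) (lall (memL L) [3, 8, 8, 2, 8, 4, 8, 7, 7]) = true := by decide +kernel

theorem rot2_8 : T.rot 2 [4, 4, 5, 7, 5, 2, 5, 5, 6] (sel (ones 4060) ip2 8) = true := by decide +kernel

theorem rot2_8r : band (Rule.ok (2 * 2) EX RL ⟨2 :: [4, 4, 5, 7, 5, 2, 5, 5, 6], [], 21, false⟩) (lall (memL L) [4, 4, 5, 7, 5, 2, 5, 5, 6]) = true := by decide +kernel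

theorem rot2_9 : T.rot 2 [5, 5, 6, 2, 4, 4, 5, 7, 5] (sel (ones 4060) ip2 9) = true := by decide +kernel

theorem rot2_9r : band (Rule.ok (2 * 2) EX RL ⟨2 :: [5, 5, 6, 2, 4, 4, 5, 7, 5], [5, 8, 8, 2], 21, false⟩) (lall (memL L) [5, 5, 6, 2, 4, 4, 5, 7, 5]) = true := by decide +kernel

theorem rot2_10 : T.rot 2 [8, 2, 8, 7, 5, 4, 4, 5, 7, 7] (sel (ones 4060) ip2 10) = true := by decide +kernel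

theorem rot2_10r : band (Rule.ok (2 * 2) EX RL ⟨2 :: [8, 2, 8, 7, 5, 4, 4, 5, 7, 7], [7, 9, 6, 6], 15, true⟩) (lall (memL L) [8, 2, 8, 7, 5, 4, 4, 5, 7, 7]) = true := by decide +kernel

theorem rot2_11 : T.rot 2 [8, 7, 5, 4, 4, 5, 7, 7, 2, 8] (sel (ones 4060) ip2 11) = true := by decide +kernel

theorem rot2_11r : band (Rule.ok (2 * 2) EX RL ⟨2 :: [8, 7, 5, 4, 4, 5, 7, 7, 2, 8], [6, 8, 7, 9, 2], 15, true⟩) (lall (memL L) [8, 7, 5, 4, 4, 5, 7, 7, 2, 8]) = true := by decide +kernel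

theorem rot2_12 : T.rot 2 [5, 2, 4, 4, 8, 7, 7, 8, 4, 5] (sel (ones 4060) ip2 12) = true := by decide +kernel

theorem rot2_12r : band (Rule.ok (2 * 2) EX RL ⟨2 :: [5, 2, 4, 4, 8, 7, 7, 8, 4, 5], [6, 8, 7, 9], 15, false⟩) (lall (memL L) [5, 2, 4, 4, 8, 7, 7, 8, 4, 5]) = true := by decide +kernel

theorem rot2_13 : T.rot 2 [4, 4, 8, 7, 7, 8, 4, 5, 2, 5] (sel (ones 4060) ip2 13) = true := by decide +kernel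

theorem rot2_13r : band (Rule.ok (2 * 2) EX RL ⟨2 :: [4, 4, 8, 7, 7, 8, 4, 5, 2, 5], [7, 9, 6, 6, 2], 15, false⟩) (lall (memL L) [4, 4, 8, 7, 7, 8, 4, 5, 2, 5]) = true := by decide +kernel

theorem rot2_14 : T.rot 2 [5, 2, 7, 7, 1, 4, 1, 7, 7, 8] (sel (ones 4060) ip2 14) = true := by decide +kernel

theorem rot2_14r : band (Rule.ok (2 * 2) EX RL ⟨2 :: [5, 2, 7, 7, 1, 4, 1, 7, 7, 8], [7, 7, 2, 8, 2], 24, true⟩) (lall (memL L) [5, 2, 7, 7, 1, 4, 1, 7, 7, 8]) = true := by decide +kernel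

theorem rot2_15 : T.rot 2 [7, 7, 1, 4, 1, 7, 7, 8, 2, 5] (sel (ones 4060) ip2 15) = true := by decide +kernel

theorem rot2_15r : band (Rule.ok (2 * 2) EX RL ⟨2 :: [7, 7, 1, 4, 1, 7, 7, 8, 2, 5], [7, 7, 2], 24, true⟩) (lall (memL L) [7, 7, 1, 4, 1, 7, 7, 8, 2, 5]) = true := by decide +kernel

theorem rot2_16 : T.rot 2 [8, 2, 5, 4, 4, 1, 7, 1, 4, 4] (sel (ones 4060) ip2 16) = true := by decide +kernel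

theorem rot2_16r : band (Rule.ok (2 * 2) EX RL ⟨2 :: [8, 2, 5, 4, 4, 1, 7, 1, 4, 4], [7, 7], 24, false⟩) (lall (memL L) [8, 2, 5, 4, 4, 1, 7, 1, 4, 4]) = true := by decide +kernel

theorem rot2_17 : T.rot 2 [5, 4, 4, 1, 7, 1, 4, 4, 2, 8] (sel (ones 4060) ip2 17) = true := by decide +kernel

theorem rot2_17r : band (Rule.ok (2 * 2) EX RL ⟨2 :: [5, 4, 4, 1, 7, 1, 4, 4, 2, 8], [7, 7, 2, 8], 24, false⟩) (lall (memL L) [5, 4, 4, 1, 7, 1, 4, 4, 2, 8]) = true := by decide +kernel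

theorem rot2_18 : T.rot 2 [8, 4, 5, 2, 3, 2, 4, 4, 2, 6] (sel (ones 4060) ip2 18) = true := by decide +kernel

theorem rot2_18r : band (Rule.ok (2 * 2) EX RL ⟨2 :: [8, 4, 5, 2, 3, 2, 4, 4, 2, 6], [], 30, true⟩) (lall (memL L) [8, 4, 5, 2, 3, 2, 4, 4, 2, 6]) = true := by decide +kernel

theorem rot2_19 : T.rot 2 [3, 2, 4, 4, 2, 6, 2, 8, 4, 5] (sel (ones 4060) ip2 19) = true := by decide +kernel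

theorem rot2_19r : band (Rule.ok (2 * 2) EX RL ⟨2 :: [3, 2, 4, 4, 2, 6, 2, 8, 4, 5], [2, 8, 7, 9], 30, true⟩) (lall (memL L) [3, 2, 4, 4, 2, 6, 2, 8, 4, 5]) = true := by decide +kernel

theorem rot2_20 : T.rot 2 [4, 4, 2, 6, 2, 8, 4, 5, 2, 3] (sel (ones 4060) ip2 20) = true := by decide +kernel

theorem rot2_20r : band (Rule.ok (2 * 2) EX RL ⟨2 :: [4, 4, 2, 6, 2, 8, 4, 5, 2, 3], [5, 2, 6, 6, 2], 30, true⟩) (lall (memL L) [4, 4, 2, 6, 2, 8, 4, 5, 2, 3]) = true := by decide +kernel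

theorem rot2_21 : T.rot 2 [6, 2, 8, 4, 5, 2, 3, 2, 4, 4] (sel (ones 4060) ip2 21) = true := by decide +kernel

theorem rot2_21r : band (Rule.ok (2 * 2) EX RL ⟨2 :: [6, 2, 8, 4, 5, 2, 3, 2, 4, 4], [5, 2], 30, true⟩) (lall (memL L) [6, 2, 8, 4, 5, 2, 3, 2, 4, 4]) = true := by decide +kernel

theorem rot2_22 : T.rot 2 [7, 7, 2, 6, 2, 8, 7, 5, 2, 3] (sel (ones 4060) ip2 22) = true := by decide +kernel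

theorem rot2_22r : band (Rule.ok (2 * 2) EX RL ⟨2 :: [7, 7, 2, 6, 2, 8, 7, 5, 2, 3], [5], 30, false⟩) (lall (memL L) [7, 7, 2, 6, 2, 8, 7, 5, 2, 3]) = true := by decide +kernel

theorem rot2_23 : T.rot 2 [6, 2, 8, 7, 5, 2, 3, 2, 7, 7] (sel (ones 4060) ip2 23) = true := by decide +kernel

theorem rot2_23r : band (Rule.ok (2 * 2) EX RL ⟨2 :: [6, 2, 8, 7, 5, 2, 3, 2, 7, 7], [5, 2, 6, 6], 30, false⟩) (lall (memL L) [6, 2, 8, 7, 5, 2, 3, 2, 7, 7]) = true := by decide +kernel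

theorem rot2_24 : T.rot 2 [8, 7, 5, 2, 3, 2, 7, 7, 2, 6] (sel (ones 4060) ip2 24) = true := by decide +kernel

theorem rot2_24r : band (Rule.ok (2 * 2) EX RL ⟨2 :: [8, 7, 5, 2, 3, 2, 7, 7, 2, 6], [2, 8, 7, 9, 2], 30, false⟩) (lall (memL L) [8, 7, 5, 2, 3, 2, 7, 7, 2, 6]) = true := by decide +kernel

theorem rot2_25 : T.rot 2 [3, 2, 7, 7, 2, 6, 2, 8, 7, 5] (sel (ones 4060) ip2 25) = true := by decide +kernel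

theorem rot2_25r : band (Rule.ok (2 * 2) EX RL ⟨2 :: [3, 2, 7, 7, 2, 6, 2, 8, 7, 5], [2], 30, false⟩) (lall (memL L) [3, 2, 7, 7, 2, 6, 2, 8, 7, 5]) = true := by decide +kernel

theorem rot2_26 : T.rot 2 [7, 3, 4, 4, 2, 1, 8, 8, 2, 5, 2, 1] (sel (ones 4060) ip2 26) = true := by decide +kernel

theorem rot2_26r : band (Rule.ok (2 * 2) EX RL ⟨2 :: [7, 3, 4, 4, 2, 1, 8, 8, 2, 5, 2, 1], [0], 23, true⟩) (lall (memL L) [7, 3, 4, 4, 2, 1, 8, 8, 2, 5, 2, 1]) = true := by decide +kernel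

theorem rot2_27 : T.rot 2 [1, 8, 8, 2, 5, 2, 1, 2, 7, 3, 4, 4] (sel (ones 4060) ip2 27) = true := by decide +kernel

theorem rot2_27r : band (Rule.ok (2 * 2) EX RL ⟨2 :: [1, 8, 8, 2, 5, 2, 1, 2, 7, 3, 4, 4], [0, 2, 6, 5, 7, 7], 23, true⟩) (lall (memL L) [1, 8, 8, 2, 5, 2, 1, 2, 7, 3, 4, 4]) = true := by decide +kernel

theorem rot2_28 : T.rot 2 [5, 2, 1, 2, 7, 3, 4, 4, 2, 1, 8, 8] (sel (ones 4060) ip2 28) = true := by decide +kernel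

theorem rot2_28r : band (Rule.ok (2 * 2) EX RL ⟨2 :: [5, 2, 1, 2, 7, 3, 4, 4, 2, 1, 8, 8], [2, 8, 2], 23, true⟩) (lall (memL L) [5, 2, 1, 2, 7, 3, 4, 4, 2, 1, 8, 8]) = true := by decide +kernel

theorem rot2_29 : T.rot 2 [1, 2, 7, 3, 4, 4, 2, 1, 8, 8, 2, 5] (sel (ones 4060) ip2 29) = true := by decide +kernel

theorem rot2_29r : band (Rule.ok (2 * 2) EX RL ⟨2 :: [1, 2, 7, 3, 4, 4, 2, 1, 8, 8, 2, 5], [2], 23, true⟩) (lall (memL L) [1, 2, 7, 3, 4, 4, 2, 1, 8, 8, 2, 5]) = true := by decide +kernel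

theorem rot2_30 : T.rot 2 [8, 2, 5, 5, 1, 2, 7, 7, 6, 4, 2, 1] (sel (ones 4060) ip2 30) = true := by decide +kernel

theorem rot2_30r : band (Rule.ok (2 * 2) EX RL ⟨2 :: [8, 2, 5, 5, 1, 2, 7, 7, 6, 4, 2, 1], [], 23, false⟩) (lall (memL L) [8, 2, 5, 5, 1, 2, 7, 7, 6, 4, 2, 1]) = true := by decide +kernel

theorem rot2_31 : T.rot 2 [5, 5, 1, 2, 7, 7, 6, 4, 2, 1, 2, 8] (sel (ones 4060) ip2 31) = true := by decide +kernel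

theorem rot2_31r : band (Rule.ok (2 * 2) EX RL ⟨2 :: [5, 5, 1, 2, 7, 7, 6, 4, 2, 1, 2, 8], [2, 8], 23, false⟩) (lall (memL L) [5, 5, 1, 2, 7, 7, 6, 4, 2, 1, 2, 8]) = true := by decide +kernel

theorem rot2_32 : T.rot 2 [7, 7, 6, 4, 2, 1, 2, 8, 2, 5, 5, 1] (sel (ones 4060) ip2 32) = true := by decide +kernel

theorem rot2_32r : band (Rule.ok (2 * 2) EX RL ⟨2 :: [7, 7, 6, 4, 2, 1, 2, 8, 2, 5, 5, 1], [2, 8, 2, 9, 9, 0], 23, false⟩) (lall (memL L) [7, 7, 6, 4, 2, 1, 2, 8, 2, 5, 5, 1]) = true := by decide +kernel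

theorem rot2_33 : T.rot 2 [1, 2, 8, 2, 5, 5, 1, 2, 7, 7, 6, 4] (sel (ones 4060) ip2 33) = true := by decide +kernel

theorem rot2_33r : band (Rule.ok (2 * 2) EX RL ⟨2 :: [1, 2, 8, 2, 5, 5, 1, 2, 7, 7, 6, 4], [0, 2], 23, false⟩) (lall (memL L) [1, 2, 8, 2, 5, 5, 1, 2, 7, 7, 6, 4]) = true := by decide +kernel

theorem rot2_34 : T.rot 2 [4, 3, 7, 7, 2, 1, 2, 4, 4, 8, 4, 2, 1] (sel (ones 4060) ip2 34) = true := by decide +kernel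

theorem rot2_34r : band (Rule.ok (2 * 2) EX RL ⟨2 :: [4, 3, 7, 7, 2, 1, 2, 4, 4, 8, 4, 2, 1], [0], 22, true⟩) (lall (memL L) [4, 3, 7, 7, 2, 1, 2, 4, 4, 8, 4, 2, 1]) = true := by decide +kernel

theorem rot2_35 : T.rot 2 [1, 2, 4, 4, 8, 4, 2, 1, 2, 4, 3, 7, 7] (sel (ones 4060) ip2 35) = true := by decide +kernel

theorem rot2_35r : band (Rule.ok (2 * 2) EX RL ⟨2 :: [1, 2, 4, 4, 8, 4, 2, 1, 2, 4, 3, 7, 7], [0, 2, 7, 5, 6, 6], 22, true⟩) (lall (memL L) [1, 2, 4, 4, 8, 4, 2, 1, 2, 4, 3, 7, 7]) = true := by decide +kernel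

theorem rot2_36 : T.rot 2 [4, 4, 8, 4, 2, 1, 2, 4, 3, 7, 7, 2, 1] (sel (ones 4060) ip2 36) = true := by decide +kernel

theorem rot2_36r : band (Rule.ok (2 * 2) EX RL ⟨2 :: [4, 4, 8, 4, 2, 1, 2, 4, 3, 7, 7, 2, 1], [2, 6, 9, 6, 6, 2], 22, true⟩) (lall (memL L) [4, 4, 8, 4, 2, 1, 2, 4, 3, 7, 7, 2, 1]) = true := by decide +kernel

theorem rot2_37 : T.rot 2 [1, 2, 4, 3, 7, 7, 2, 1, 2, 4, 4, 8, 4] (sel (ones 4060) ip2 37) = true := by decide +kernel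

theorem rot2_37r : band (Rule.ok (2 * 2) EX RL ⟨2 :: [1, 2, 4, 3, 7, 7, 2, 1, 2, 4, 4, 8, 4], [2], 22, true⟩) (lall (memL L) [1, 2, 4, 3, 7, 7, 2, 1, 2, 4, 4, 8, 4]) = true := by decide +kernel

theorem rot2_38 : T.rot 2 [7, 5, 7, 7, 2, 1, 2, 4, 4, 6, 7, 2, 1] (sel (ones 4060) ip2 38) = true := by decide +kernel

theorem rot2_38r : band (Rule.ok (2 * 2) EX RL ⟨2 :: [7, 5, 7, 7, 2, 1, 2, 4, 4, 6, 7, 2, 1], [], 22, false⟩) (lall (memL L) [7, 5, 7, 7, 2, 1, 2, 4, 4, 6, 7, 2, 1]) = true := by decide +kernel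

theorem rot2_39 : T.rot 2 [1, 2, 4, 4, 6, 7, 2, 1, 2, 7, 5, 7, 7] (sel (ones 4060) ip2 39) = true := by decide +kernel

theorem rot2_39r : band (Rule.ok (2 * 2) EX RL ⟨2 :: [1, 2, 4, 4, 6, 7, 2, 1, 2, 7, 5, 7, 7], [2, 6, 9, 6, 6], 22, false⟩) (lall (memL L) [1, 2, 4, 4, 6, 7, 2, 1, 2, 7, 5, 7, 7]) = true := by decide +kernel

theorem rot2_40 : T.rot 2 [4, 4, 6, 7, 2, 1, 2, 7, 5, 7, 7, 2, 1] (sel (ones 4060) ip2 40) = true := by decide +kernel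

theorem rot2_40r : band (Rule.ok (2 * 2) EX RL ⟨2 :: [4, 4, 6, 7, 2, 1, 2, 7, 5, 7, 7, 2, 1], [0, 2, 7, 5, 6, 6, 2], 22, false⟩) (lall (memL L) [4, 4, 6, 7, 2, 1, 2, 7, 5, 7, 7, 2, 1]) = true := by decide +kernel

theorem rot2_41 : T.rot 2 [1, 2, 7, 5, 7, 7, 2, 1, 2, 4, 4, 6, 7] (sel (ones 4060) ip2 41) = true := by decide +kernel

theorem rot2_41r : band (Rule.ok (2 * 2) EX RL ⟨2 :: [1, 2, 7, 5, 7, 7, 2, 1, 2, 4, 4, 6, 7], [0, 2], 22, false⟩) (lall (memL L) [1, 2, 7, 5, 7, 7, 2, 1, 2, 4, 4, 6, 7]) = true := by decide +kernel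

theorem rot2_42 : T.rot 2 [7, 2, 8, 7, 7, 3, 5, 6, 4, 2, 4, 2, 3] (sel (ones 4060) ip2 42) = true := by decide +kernel

theorem rot2_42r : band (Rule.ok (2 * 2) EX RL ⟨2 :: [7, 2, 8, 7, 7, 3, 5, 6, 4, 2, 4, 2, 3], [], 27, true⟩) (lall (memL L) [7, 2, 8, 7, 7, 3, 5, 6, 4, 2, 4, 2, 3]) = true := by decide +kernel

theorem rot2_43 : T.rot 2 [8, 7, 7, 3, 5, 6, 4, 2, 4, 2, 3, 2, 7] (sel (ones 4060) ip2 43) = true := by decide +kernel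

theorem rot2_43r : band (Rule.ok (2 * 2) EX RL ⟨2 :: [8, 7, 7, 3, 5, 6, 4, 2, 4, 2, 3, 2, 7], [2, 6], 27, true⟩) (lall (memL L) [8, 7, 7, 3, 5, 6, 4, 2, 4, 2, 3, 2, 7]) = true := by decide +kernel

theorem rot2_44 : T.rot 2 [4, 2, 3, 2, 7, 2, 8, 7, 7, 3, 5, 6, 4] (sel (ones 4060) ip2 44) = true := by decide +kernel

theorem rot2_44r : band (Rule.ok (2 * 2) EX RL ⟨2 :: [4, 2, 3, 2, 7, 2, 8, 7, 7, 3, 5, 6, 4], [4, 2, 6, 2], 27, true⟩) (lall (memL L) [4, 2, 3, 2, 7, 2, 8, 7, 7, 3, 5, 6, 4]) = true := by decide +kernel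

theorem rot2_45 : T.rot 2 [3, 2, 7, 2, 8, 7, 7, 3, 5, 6, 4, 2, 4] (sel (ones 4060) ip2 45) = true := by decide +kernel

theorem rot2_45r : band (Rule.ok (2 * 2) EX RL ⟨2 :: [3, 2, 7, 2, 8, 7, 7, 3, 5, 6, 4, 2, 4], [4, 2], 27, true⟩) (lall (memL L) [3, 2, 7, 2, 8, 7, 7, 3, 5, 6, 4, 2, 4]) = true := by decide +kernel

theorem rot2_46 : T.rot 2 [7, 2, 7, 3, 8, 6, 4, 4, 5, 2, 4, 2, 6] (sel (ones 4060) ip2 46) = true := by decide +kernel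

theorem rot2_46r : band (Rule.ok (2 * 2) EX RL ⟨2 :: [7, 2, 7, 3, 8, 6, 4, 4, 5, 2, 4, 2, 6], [4], 27, false⟩) (lall (memL L) [7, 2, 7, 3, 8, 6, 4, 4, 5, 2, 4, 2, 6]) = true := by decide +kernel

theorem rot2_47 : T.rot 2 [7, 3, 8, 6, 4, 4, 5, 2, 4, 2, 6, 2, 7] (sel (ones 4060) ip2 47) = true := by decide +kernel

theorem rot2_47r : band (Rule.ok (2 * 2) EX RL ⟨2 :: [7, 3, 8, 6, 4, 4, 5, 2, 4, 2, 6, 2, 7], [4, 2, 6], 27, false⟩) (lall (memL L) [7, 3, 8, 6, 4, 4, 5, 2, 4, 2, 6, 2, 7]) = true := by decide +kernel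

theorem rot2_48 : T.rot 2 [4, 2, 6, 2, 7, 2, 7, 3, 8, 6, 4, 4, 5] (sel (ones 4060) ip2 48) = true := by decide +kernel

theorem rot2_48r : band (Rule.ok (2 * 2) EX RL ⟨2 :: [4, 2, 6, 2, 7, 2, 7, 3, 8, 6, 4, 4, 5], [2, 6, 2], 27, false⟩) (lall (memL L) [4, 2, 6, 2, 7, 2, 7, 3, 8, 6, 4, 4, 5]) = true := by decide +kernel

theorem rot2_49 : T.rot 2 [6, 2, 7, 2, 7, 3, 8, 6, 4, 4, 5, 2, 4] (sel (ones 4060) ip2 49) = true := by decide +kernel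

theorem rot2_49r : band (Rule.ok (2 * 2) EX RL ⟨2 :: [6, 2, 7, 2, 7, 3, 8, 6, 4, 4, 5, 2, 4], [2], 27, false⟩) (lall (memL L) [6, 2, 7, 2, 7, 3, 8, 6, 4, 4, 5, 2, 4]) = true := by decide +kernel

theorem rot2_50 : T.rot 2 [1, 7, 8, 6, 4, 2, 1, 8, 8, 2, 8, 4, 5, 4, 4, 2, 1] (sel (ones 4060) ip2 50) = true := by decide +kernel

theorem rot2_50r : band (Rule.ok (2 * 2) EX RL ⟨2 :: [1, 7, 8, 6, 4, 2, 1, 8, 8, 2, 8, 4, 5, 4, 4, 2, 1], [0], 25, true⟩) (lall (memL L) [1, 7, 8, 6, 4, 2, 1, 8, 8, 2, 8, 4, 5, 4, 4, 2, 1]) = true := by decide +kernel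

theorem rot2_51 : T.rot 2 [1, 8, 8, 2, 8, 4, 5, 4, 4, 2, 1, 2, 1, 7, 8, 6, 4] (sel (ones 4060) ip2 51) = true := by decide +kernel

theorem rot2_51r : band (Rule.ok (2 * 2) EX RL ⟨2 :: [1, 8, 8, 2, 8, 4, 5, 4, 4, 2, 1, 2, 1, 7, 8, 6, 4], [0, 2, 0, 6, 8, 4, 7], 25, true⟩) (lall (memL L) [1, 8, 8, 2, 8, 4, 5, 4, 4, 2, 1, 2, 1, 7, 8, 6, 4]) = true := by decide +kernel

theorem rot2_52 : T.rot 2 [8, 4, 5, 4, 4, 2, 1, 2, 1, 7, 8, 6, 4, 2, 1, 8, 8] (sel (ones 4060) ip2 52) = true := by decide +kernel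

theorem rot2_52r : band (Rule.ok (2 * 2) EX RL ⟨2 :: [8, 4, 5, 4, 4, 2, 1, 2, 1, 7, 8, 6, 4, 2, 1, 8, 8], [2, 6, 6, 8, 6, 9, 2], 25, true⟩) (lall (memL L) [8, 4, 5, 4, 4, 2, 1, 2, 1, 7, 8, 6, 4, 2, 1, 8, 8]) = true := by decide +kernel

theorem rot2_53 : T.rot 2 [1, 2, 1, 7, 8, 6, 4, 2, 1, 8, 8, 2, 8, 4, 5, 4, 4] (sel (ones 4060) ip2 53) = true := by decide +kernel

theorem rot2_53r : band (Rule.ok (2 * 2) EX RL ⟨2 :: [1, 2, 1, 7, 8, 6, 4, 2, 1, 8, 8, 2, 8, 4, 5, 4, 4], [2], 25, true⟩) (lall (memL L) [1, 2, 1, 7, 8, 6, 4, 2, 1, 8, 8, 2, 8, 4, 5, 4, 4]) = true := by decide +kernel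

theorem rot2_54 : T.rot 2 [7, 7, 8, 7, 5, 2, 5, 5, 1, 2, 7, 3, 5, 4, 1, 2, 1] (sel (ones 4060) ip2 54) = true := by decide +kernel

theorem rot2_54r : band (Rule.ok (2 * 2) EX RL ⟨2 :: [7, 7, 8, 7, 5, 2, 5, 5, 1, 2, 7, 3, 5, 4, 1, 2, 1], [], 25, false⟩) (lall (memL L) [7, 7, 8, 7, 5, 2, 5, 5, 1, 2, 7, 3, 5, 4, 1, 2, 1]) = true := by decide +kernel

theorem rot2_55 : T.rot 2 [5, 5, 1, 2, 7, 3, 5, 4, 1, 2, 1, 2, 7, 7, 8, 7, 5] (sel (ones 4060) ip2 55) = true := by decide +kernel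

theorem rot2_55r : band (Rule.ok (2 * 2) EX RL ⟨2 :: [5, 5, 1, 2, 7, 3, 5, 4, 1, 2, 1, 2, 7, 7, 8, 7, 5], [2, 6, 6, 8, 6, 9], 25, false⟩) (lall (memL L) [5, 5, 1, 2, 7, 3, 5, 4, 1, 2, 1, 2, 7, 7, 8, 7, 5]) = true := by decide +kernel

theorem rot2_56 : T.rot 2 [7, 3, 5, 4, 1, 2, 1, 2, 7, 7, 8, 7, 5, 2, 5, 5, 1] (sel (ones 4060) ip2 56) = true := by decide +kernel

theorem rot2_56r : band (Rule.ok (2 * 2) EX RL ⟨2 :: [7, 3, 5, 4, 1, 2, 1, 2, 7, 7, 8, 7, 5, 2, 5, 5, 1], [0, 2, 0, 6, 8, 4, 7, 2], 25, false⟩) (lall (memL L) [7, 3, 5, 4, 1, 2, 1, 2, 7, 7, 8, 7, 5, 2, 5, 5, 1]) = true := by decide +kernel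

theorem rot2_57 : T.rot 2 [1, 2, 7, 7, 8, 7, 5, 2, 5, 5, 1, 2, 7, 3, 5, 4, 1] (sel (ones 4060) ip2 57) = true := by decide +kernel

theorem rot2_57r : band (Rule.ok (2 * 2) EX RL ⟨2 :: [1, 2, 7, 7, 8, 7, 5, 2, 5, 5, 1, 2, 7, 3, 5, 4, 1], [0, 2], 25, false⟩) (lall (memL L) [1, 2, 7, 7, 8, 7, 5, 2, 5, 5, 1, 2, 7, 3, 5, 4, 1]) = true := by decide +kernel

theorem rot2_58 : T.rot 2 [1, 4, 2, 1, 2, 7, 2, 1, 4, 8, 7, 7, 8, 2, 4, 4, 2, 5, 1] (sel (ones 4060) ip2 58) = true := by decide +kernel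

theorem rot2_58r : band (Rule.ok (2 * 2) EX RL ⟨2 :: [1, 4, 2, 1, 2, 7, 2, 1, 4, 8, 7, 7, 8, 2, 4, 4, 2, 5, 1], [0], 26, true⟩) (lall (memL L) [1, 4, 2, 1, 2, 7, 2, 1, 4, 8, 7, 7, 8, 2, 4, 4, 2, 5, 1]) = true := by decide +kernel

theorem rot2_59 : T.rot 2 [1, 2, 7, 2, 1, 4, 8, 7, 7, 8, 2, 4, 4, 2, 5, 1, 2, 1, 4] (sel (ones 4060) ip2 59) = true := by decide +kernel

theorem rot2_59r : band (Rule.ok (2 * 2) EX RL ⟨2 :: [1, 2, 7, 2, 1, 4, 8, 7, 7, 8, 2, 4, 4, 2, 5, 1, 2, 1, 4], [0, 2, 0, 7], 26, true⟩) (lall (memL L) [1, 2, 7, 2, 1, 4, 8, 7, 7, 8, 2, 4, 4, 2, 5, 1, 2, 1, 4]) = true := by decide +kernel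

theorem rot2_60 : T.rot 2 [7, 2, 1, 4, 8, 7, 7, 8, 2, 4, 4, 2, 5, 1, 2, 1, 4, 2, 1] (sel (ones 4060) ip2 60) = true := by decide +kernel

theorem rot2_60r : band (Rule.ok (2 * 2) EX RL ⟨2 :: [7, 2, 1, 4, 8, 7, 7, 8, 2, 4, 4, 2, 5, 1, 2, 1, 4, 2, 1], [0, 2, 0, 7, 2, 0], 26, true⟩) (lall (memL L) [7, 2, 1, 4, 8, 7, 7, 8, 2, 4, 4, 2, 5, 1, 2, 1, 4, 2, 1]) = true := by decide +kernel

theorem rot2_61 : T.rot 2 [1, 4, 8, 7, 7, 8, 2, 4, 4, 2, 5, 1, 2, 1, 4, 2, 1, 2, 7] (sel (ones 4060) ip2 61) = true := by decide +kernel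

theorem rot2_61r : band (Rule.ok (2 * 2) EX RL ⟨2 :: [1, 4, 8, 7, 7, 8, 2, 4, 4, 2, 5, 1, 2, 1, 4, 2, 1, 2, 7], [0, 2, 0, 7, 2, 0, 2, 6], 26, true⟩) (lall (memL L) [1, 4, 8, 7, 7, 8, 2, 4, 4, 2, 5, 1, 2, 1, 4, 2, 1, 2, 7]) = true := by decide +kernel

theorem rot2_62 : T.rot 2 [4, 4, 2, 5, 1, 2, 1, 4, 2, 1, 2, 7, 2, 1, 4, 8, 7, 7, 8] (sel (ones 4060) ip2 62) = true := by decide +kernel

theorem rot2_62r : band (Rule.ok (2 * 2) EX RL ⟨2 :: [4, 4, 2, 5, 1, 2, 1, 4, 2, 1, 2, 7, 2, 1, 4, 8, 7, 7, 8], [8, 2, 6, 6, 2], 26, true⟩) (lall (memL L) [4, 4, 2, 5, 1, 2, 1, 4, 2, 1, 2, 7, 2, 1, 4, 8, 7, 7, 8]) = true := by decide +kernel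

theorem rot2_63 : T.rot 2 [5, 1, 2, 1, 4, 2, 1, 2, 7, 2, 1, 4, 8, 7, 7, 8, 2, 4, 4] (sel (ones 4060) ip2 63) = true := by decide +kernel

theorem rot2_63r : band (Rule.ok (2 * 2) EX RL ⟨2 :: [5, 1, 2, 1, 4, 2, 1, 2, 7, 2, 1, 4, 8, 7, 7, 8, 2, 4, 4], [8, 2], 26, true⟩) (lall (memL L) [5, 1, 2, 1, 4, 2, 1, 2, 7, 2, 1, 4, 8, 7, 7, 8, 2, 4, 4]) = true := by decide +kernel

theorem rot2_64 : T.rot 2 [7, 7, 2, 5, 4, 4, 5, 7, 1, 2, 4, 2, 1, 2, 7, 1, 2, 1, 8] (sel (ones 4060) ip2 64) = true := by decide +kernel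

theorem rot2_64r : band (Rule.ok (2 * 2) EX RL ⟨2 :: [7, 7, 2, 5, 4, 4, 5, 7, 1, 2, 4, 2, 1, 2, 7, 1, 2, 1, 8], [8], 26, false⟩) (lall (memL L) [7, 7, 2, 5, 4, 4, 5, 7, 1, 2, 4, 2, 1, 2, 7, 1, 2, 1, 8]) = true := by decide +kernel

theorem rot2_65 : T.rot 2 [5, 4, 4, 5, 7, 1, 2, 4, 2, 1, 2, 7, 1, 2, 1, 8, 2, 7, 7] (sel (ones 4060) ip2 65) = true := by decide +kernel

theorem rot2_65r : band (Rule.ok (2 * 2) EX RL ⟨2 :: [5, 4, 4, 5, 7, 1, 2, 4, 2, 1, 2, 7, 1, 2, 1, 8, 2, 7, 7], [8, 2, 6, 6], 26, false⟩) (lall (memL L) [5, 4, 4, 5, 7, 1, 2, 4, 2, 1, 2, 7, 1, 2, 1, 8, 2, 7, 7]) = true := by decide +kernel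

theorem rot2_66 : T.rot 2 [4, 2, 1, 2, 7, 1, 2, 1, 8, 2, 7, 7, 2, 5, 4, 4, 5, 7, 1] (sel (ones 4060) ip2 66) = true := by decide +kernel

theorem rot2_66r : band (Rule.ok (2 * 2) EX RL ⟨2 :: [4, 2, 1, 2, 7, 1, 2, 1, 8, 2, 7, 7, 2, 5, 4, 4, 5, 7, 1], [0, 2, 0, 7, 2, 0, 2, 6, 2], 26, false⟩) (lall (memL L) [4, 2, 1, 2, 7, 1, 2, 1, 8, 2, 7, 7, 2, 5, 4, 4, 5, 7, 1]) = true := by decide +kernel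

theorem rot2_67 : T.rot 2 [1, 2, 7, 1, 2, 1, 8, 2, 7, 7, 2, 5, 4, 4, 5, 7, 1, 2, 4] (sel (ones 4060) ip2 67) = true := by decide +kernel

theorem rot2_67r : band (Rule.ok (2 * 2) EX RL ⟨2 :: [1, 2, 7, 1, 2, 1, 8, 2, 7, 7, 2, 5, 4, 4, 5, 7, 1, 2, 4], [0, 2, 0, 7, 2, 0, 2], 26, false⟩) (lall (memL L) [1, 2, 7, 1, 2, 1, 8, 2, 7, 7, 2, 5, 4, 4, 5, 7, 1, 2, 4]) = true := by decide +kernel

theorem rot2_68 : T.rot 2 [7, 1, 2, 1, 8, 2, 7, 7, 2, 5, 4, 4, 5, 7, 1, 2, 4, 2, 1] (sel (ones 4060) ip2 68) = true := by decide +kernel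

theorem rot2_68r : band (Rule.ok (2 * 2) EX RL ⟨2 :: [7, 1, 2, 1, 8, 2, 7, 7, 2, 5, 4, 4, 5, 7, 1, 2, 4, 2, 1], [0, 2, 0, 7, 2], 26, false⟩) (lall (memL L) [7, 1, 2, 1, 8, 2, 7, 7, 2, 5, 4, 4, 5, 7, 1, 2, 4, 2, 1]) = true := by decide +kernel

theorem rot2_69 : T.rot 2 [1, 8, 2, 7, 7, 2, 5, 4, 4, 5, 7, 1, 2, 4, 2, 1, 2, 7, 1] (sel (ones 4060) ip2 69) = true := by decide +kernel

theorem rot2_69r : band (Rule.ok (2 * 2) EX RL ⟨2 :: [1, 8, 2, 7, 7, 2, 5, 4, 4, 5, 7, 1, 2, 4, 2, 1, 2, 7, 1], [0, 2], 26, false⟩) (lall (memL L) [1, 8, 2, 7, 7, 2, 5, 4, 4, 5, 7, 1, 2, 4, 2, 1, 2, 7, 1]) = true := by decide +kernel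

theorem rot2_70 : T.rot 2 [4, 8, 7, 7, 2, 5, 4, 4, 5, 7, 2, 4, 4, 5, 7, 2, 4, 5, 5, 4] (sel (ones 4060) ip2 70) = true := by decide +kernel

theorem rot2_70r : band (Rule.ok (2 * 2) EX RL ⟨2 :: [4, 8, 7, 7, 2, 5, 4, 4, 5, 7, 2, 4, 4, 5, 7, 2, 4, 5, 5, 4], [7, 9, 9, 7], 13, true⟩) (lall (memL L) [4, 8, 7, 7, 2, 5, 4, 4, 5, 7, 2, 4, 4, 5, 7, 2, 4, 5, 5, 4]) = true := by decide +kernel

theorem rot2_71 : T.rot 2 [5, 4, 4, 5, 7, 2, 4, 4, 5, 7, 2, 4, 5, 5, 4, 2, 4, 8, 7, 7] (sel (ones 4060) ip2 71) = true := by decide +kernel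

theorem rot2_71r : band (Rule.ok (2 * 2) EX RL ⟨2 :: [5, 4, 4, 5, 7, 2, 4, 4, 5, 7, 2, 4, 5, 5, 4, 2, 4, 8, 7, 7], [7, 9, 9, 7, 2, 7, 8, 6, 6], 13, true⟩) (lall (memL L) [5, 4, 4, 5, 7, 2, 4, 4, 5, 7, 2, 4, 5, 5, 4, 2, 4, 8, 7, 7]) = true := by decide +kernel

theorem rot2_72 : T.rot 2 [4, 4, 5, 7, 2, 4, 5, 5, 4, 2, 4, 8, 7, 7, 2, 5, 4, 4, 5, 7] (sel (ones 4060) ip2 72) = true := by decide +kernel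

theorem rot2_72r : band (Rule.ok (2 * 2) EX RL ⟨2 :: [4, 4, 5, 7, 2, 4, 5, 5, 4, 2, 4, 8, 7, 7, 2, 5, 4, 4, 5, 7], [2, 7, 8, 6, 6, 2], 13, true⟩) (lall (memL L) [4, 4, 5, 7, 2, 4, 5, 5, 4, 2, 4, 8, 7, 7, 2, 5, 4, 4, 5, 7]) = true := by decide +kernel

theorem rot2_73 : T.rot 2 [4, 5, 5, 4, 2, 4, 8, 7, 7, 2, 5, 4, 4, 5, 7, 2, 4, 4, 5, 7] (sel (ones 4060) ip2 73) = true := by decide +kernel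

theorem rot2_73r : band (Rule.ok (2 * 2) EX RL ⟨2 :: [4, 5, 5, 4, 2, 4, 8, 7, 7, 2, 5, 4, 4, 5, 7, 2, 4, 4, 5, 7], [2], 13, true⟩) (lall (memL L) [4, 5, 5, 4, 2, 4, 8, 7, 7, 2, 5, 4, 4, 5, 7, 2, 4, 4, 5, 7]) = true := by decide +kernel

theorem rot2_74 : T.rot 2 [4, 8, 7, 7, 2, 4, 8, 7, 7, 8, 2, 4, 4, 5, 7, 2, 7, 8, 8, 7] (sel (ones 4060) ip2 74) = true := by decide +kernel

theorem rot2_74r : band (Rule.ok (2 * 2) EX RL ⟨2 :: [4, 8, 7, 7, 2, 4, 8, 7, 7, 8, 2, 4, 4, 5, 7, 2, 7, 8, 8, 7], [], 13, false⟩) (lall (memL L) [4, 8, 7, 7, 2, 4, 8, 7, 7, 8, 2, 4, 4, 5, 7, 2, 7, 8, 8, 7]) = true := by decide +kernel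

theorem rot2_75 : T.rot 2 [4, 8, 7, 7, 8, 2, 4, 4, 5, 7, 2, 7, 8, 8, 7, 2, 4, 8, 7, 7] (sel (ones 4060) ip2 75) = true := by decide +kernel

theorem rot2_75r : band (Rule.ok (2 * 2) EX RL ⟨2 :: [4, 8, 7, 7, 8, 2, 4, 4, 5, 7, 2, 7, 8, 8, 7, 2, 4, 8, 7, 7], [2, 7, 8, 6, 6], 13, false⟩) (lall (memL L) [4, 8, 7, 7, 8, 2, 4, 4, 5, 7, 2, 7, 8, 8, 7, 2, 4, 8, 7, 7]) = true := by decide +kernel

theorem rot2_76 : T.rot 2 [4, 4, 5, 7, 2, 7, 8, 8, 7, 2, 4, 8, 7, 7, 2, 4, 8, 7, 7, 8] (sel (ones 4060) ip2 76) = true := by decide +kernel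

theorem rot2_76r : band (Rule.ok (2 * 2) EX RL ⟨2 :: [4, 4, 5, 7, 2, 7, 8, 8, 7, 2, 4, 8, 7, 7, 2, 4, 8, 7, 7, 8], [7, 9, 9, 7, 2, 7, 8, 6, 6, 2], 13, false⟩) (lall (memL L) [4, 4, 5, 7, 2, 7, 8, 8, 7, 2, 4, 8, 7, 7, 2, 4, 8, 7, 7, 8]) = true := by decide +kernel

theorem rot2_77 : T.rot 2 [7, 8, 8, 7, 2, 4, 8, 7, 7, 2, 4, 8, 7, 7, 8, 2, 4, 4, 5, 7] (sel (ones 4060) ip2 77) = true := by decide +kernel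

theorem rot2_77r : band (Rule.ok (2 * 2) EX RL ⟨2 :: [7, 8, 8, 7, 2, 4, 8, 7, 7, 2, 4, 8, 7, 7, 8, 2, 4, 4, 5, 7], [7, 9, 9, 7, 2], 13, false⟩) (lall (memL L) [7, 8, 8, 7, 2, 4, 8, 7, 7, 2, 4, 8, 7, 7, 8, 2, 4, 4, 5, 7]) = true := by decide +kernel

theorem rot2_78 : T.rot 2 [4, 2, 4, 2, 5, 7, 2, 7, 7, 2, 8, 4, 8, 2, 7, 2, 7, 2, 4, 5] (sel (ones 4060) ip2 78) = true := by decide +kernel

theorem rot2_78r : band (Rule.ok (2 * 2) EX RL ⟨2 :: [4, 2, 4, 2, 5, 7, 2, 7, 7, 2, 8, 4, 8, 2, 7, 2, 7, 2, 4, 5], [], 16, true⟩) (lall (memL L) [4, 2, 4, 2, 5, 7, 2, 7, 7, 2, 8, 4, 8, 2, 7, 2, 7, 2, 4, 5]) = true := by decide +kernel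

theorem rot2_79 : T.rot 2 [4, 2, 5, 7, 2, 7, 7, 2, 8, 4, 8, 2, 7, 2, 7, 2, 4, 5, 2, 4] (sel (ones 4060) ip2 79) = true := by decide +kernel

theorem rot2_79r : band (Rule.ok (2 * 2) EX RL ⟨2 :: [4, 2, 5, 7, 2, 7, 7, 2, 8, 4, 8, 2, 7, 2, 7, 2, 4, 5, 2, 4], [2, 7], 16, true⟩) (lall (memL L) [4, 2, 5, 7, 2, 7, 7, 2, 8, 4, 8, 2, 7, 2, 7, 2, 4, 5, 2, 4]) = true := by decide +kernel

theorem rot2_80 : T.rot 2 [5, 7, 2, 7, 7, 2, 8, 4, 8, 2, 7, 2, 7, 2, 4, 5, 2, 4, 2, 4] (sel (ones 4060) ip2 80) = true := by decide +kernel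

theorem rot2_80r : band (Rule.ok (2 * 2) EX RL ⟨2 :: [5, 7, 2, 7, 7, 2, 8, 4, 8, 2, 7, 2, 7, 2, 4, 5, 2, 4, 2, 4], [2, 7, 2, 7], 16, true⟩) (lall (memL L) [5, 7, 2, 7, 7, 2, 8, 4, 8, 2, 7, 2, 7, 2, 4, 5, 2, 4, 2, 4]) = true := by decide +kernel

theorem rot2_81 : T.rot 2 [7, 7, 2, 8, 4, 8, 2, 7, 2, 7, 2, 4, 5, 2, 4, 2, 4, 2, 5, 7] (sel (ones 4060) ip2 81) = true := by decide +kernel

theorem rot2_81r : band (Rule.ok (2 * 2) EX RL ⟨2 :: [7, 7, 2, 8, 4, 8, 2, 7, 2, 7, 2, 4, 5, 2, 4, 2, 4, 2, 5, 7], [2, 7, 2, 7, 2, 9, 6], 16, true⟩) (lall (memL L) [7, 7, 2, 8, 4, 8, 2, 7, 2, 7, 2, 4, 5, 2, 4, 2, 4, 2, 5, 7]) = true := by decide +kernel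

theorem rot2_82 : T.rot 2 [8, 4, 8, 2, 7, 2, 7, 2, 4, 5, 2, 4, 2, 4, 2, 5, 7, 2, 7, 7] (sel (ones 4060) ip2 82) = true := by decide +kernel

theorem rot2_82r : band (Rule.ok (2 * 2) EX RL ⟨2 :: [8, 4, 8, 2, 7, 2, 7, 2, 4, 5, 2, 4, 2, 4, 2, 5, 7, 2, 7, 7], [2, 7, 2, 7, 2, 9, 6, 2, 6, 6], 16, true⟩) (lall (memL L) [8, 4, 8, 2, 7, 2, 7, 2, 4, 5, 2, 4, 2, 4, 2, 5, 7, 2, 7, 7]) = true := by decide +kernel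

theorem rot2_83 : T.rot 2 [7, 2, 7, 2, 4, 5, 2, 4, 2, 4, 2, 5, 7, 2, 7, 7, 2, 8, 4, 8] (sel (ones 4060) ip2 83) = true := by decide +kernel

theorem rot2_83r : band (Rule.ok (2 * 2) EX RL ⟨2 :: [7, 2, 7, 2, 4, 5, 2, 4, 2, 4, 2, 5, 7, 2, 7, 7, 2, 8, 4, 8], [8, 6, 2, 7, 2, 7, 2], 16, true⟩) (lall (memL L) [7, 2, 7, 2, 4, 5, 2, 4, 2, 4, 2, 5, 7, 2, 7, 7, 2, 8, 4, 8]) = true := by decide +kernel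

theorem rot2_84 : T.rot 2 [7, 2, 4, 5, 2, 4, 2, 4, 2, 5, 7, 2, 7, 7, 2, 8, 4, 8, 2, 7] (sel (ones 4060) ip2 84) = true := by decide +kernel

theorem rot2_84r : band (Rule.ok (2 * 2) EX RL ⟨2 :: [7, 2, 4, 5, 2, 4, 2, 4, 2, 5, 7, 2, 7, 7, 2, 8, 4, 8, 2, 7], [8, 6, 2, 7, 2], 16, true⟩) (lall (memL L) [7, 2, 4, 5, 2, 4, 2, 4, 2, 5, 7, 2, 7, 7, 2, 8, 4, 8, 2, 7]) = true := by decide +kernel

theorem rot2_85 : T.rot 2 [4, 5, 2, 4, 2, 4, 2, 5, 7, 2, 7, 7, 2, 8, 4, 8, 2, 7, 2, 7] (sel (ones 4060) ip2 85) = true := by decide +kernel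

theorem rot2_85r : band (Rule.ok (2 * 2) EX RL ⟨2 :: [4, 5, 2, 4, 2, 4, 2, 5, 7, 2, 7, 7, 2, 8, 4, 8, 2, 7, 2, 7], [8, 6, 2], 16, true⟩) (lall (memL L) [4, 5, 2, 4, 2, 4, 2, 5, 7, 2, 7, 7, 2, 8, 4, 8, 2, 7, 2, 7]) = true := by decide +kernel

theorem rot2_86 : T.rot 2 [4, 2, 4, 2, 5, 7, 5, 2, 4, 4, 2, 4, 8, 2, 7, 2, 7, 2, 8, 7] (sel (ones 4060) ip2 86) = true := by decide +kernel

theorem rot2_86r : band (Rule.ok (2 * 2) EX RL ⟨2 :: [4, 2, 4, 2, 5, 7, 5, 2, 4, 4, 2, 4, 8, 2, 7, 2, 7, 2, 8, 7], [8, 6], 16, false⟩) (lall (memL L) [4, 2, 4, 2, 5, 7, 5, 2, 4, 4, 2, 4, 8, 2, 7, 2, 7, 2, 8, 7]) = true := by decide +kernel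

theorem rot2_87 : T.rot 2 [4, 2, 5, 7, 5, 2, 4, 4, 2, 4, 8, 2, 7, 2, 7, 2, 8, 7, 2, 4] (sel (ones 4060) ip2 87) = true := by decide +kernel

theorem rot2_87r : band (Rule.ok (2 * 2) EX RL ⟨2 :: [4, 2, 5, 7, 5, 2, 4, 4, 2, 4, 8, 2, 7, 2, 7, 2, 8, 7, 2, 4], [8, 6, 2, 7], 16, false⟩) (lall (memL L) [4, 2, 5, 7, 5, 2, 4, 4, 2, 4, 8, 2, 7, 2, 7, 2, 8, 7, 2, 4]) = true := by decide +kernel

theorem rot2_88 : T.rot 2 [5, 7, 5, 2, 4, 4, 2, 4, 8, 2, 7, 2, 7, 2, 8, 7, 2, 4, 2, 4] (sel (ones 4060) ip2 88) = true := by decide +kernel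

theorem rot2_88r : band (Rule.ok (2 * 2) EX RL ⟨2 :: [5, 7, 5, 2, 4, 4, 2, 4, 8, 2, 7, 2, 7, 2, 8, 7, 2, 4, 2, 4], [8, 6, 2, 7, 2, 7], 16, false⟩) (lall (memL L) [5, 7, 5, 2, 4, 4, 2, 4, 8, 2, 7, 2, 7, 2, 8, 7, 2, 4, 2, 4]) = true := by decide +kernel

theorem rot2_89 : T.rot 2 [4, 4, 2, 4, 8, 2, 7, 2, 7, 2, 8, 7, 2, 4, 2, 4, 2, 5, 7, 5] (sel (ones 4060) ip2 89) = true := by decide +kernel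

theorem rot2_89r : band (Rule.ok (2 * 2) EX RL ⟨2 :: [4, 4, 2, 4, 8, 2, 7, 2, 7, 2, 8, 7, 2, 4, 2, 4, 2, 5, 7, 5], [8, 6, 2, 7, 2, 7, 2, 9, 6, 9], 16, false⟩) (lall (memL L) [4, 4, 2, 4, 8, 2, 7, 2, 7, 2, 8, 7, 2, 4, 2, 4, 2, 5, 7, 5]) = true := by decide +kernel

theorem rot2_90 : T.rot 2 [4, 8, 2, 7, 2, 7, 2, 8, 7, 2, 4, 2, 4, 2, 5, 7, 5, 2, 4, 4] (sel (ones 4060) ip2 90) = true := by decide +kernel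

theorem rot2_90r : band (Rule.ok (2 * 2) EX RL ⟨2 :: [4, 8, 2, 7, 2, 7, 2, 8, 7, 2, 4, 2, 4, 2, 5, 7, 5, 2, 4, 4], [2, 7, 2, 7, 2, 9, 6, 2], 16, false⟩) (lall (memL L) [4, 8, 2, 7, 2, 7, 2, 8, 7, 2, 4, 2, 4, 2, 5, 7, 5, 2, 4, 4]) = true := by decide +kernel

theorem rot2_91 : T.rot 2 [7, 2, 7, 2, 8, 7, 2, 4, 2, 4, 2, 5, 7, 5, 2, 4, 4, 2, 4, 8] (sel (ones 4060) ip2 91) = true := by decide +kernel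

theorem rot2_91r : band (Rule.ok (2 * 2) EX RL ⟨2 :: [7, 2, 7, 2, 8, 7, 2, 4, 2, 4, 2, 5, 7, 5, 2, 4, 4, 2, 4, 8], [2, 7, 2, 7, 2], 16, false⟩) (lall (memL L) [7, 2, 7, 2, 8, 7, 2, 4, 2, 4, 2, 5, 7, 5, 2, 4, 4, 2, 4, 8]) = true := by decide +kernel

theorem rot2_92 : T.rot 2 [7, 2, 8, 7, 2, 4, 2, 4, 2, 5, 7, 5, 2, 4, 4, 2, 4, 8, 2, 7] (sel (ones 4060) ip2 92) = true := by decide +kernel

theorem rot2_92r : band (Rule.ok (2 * 2) EX RL ⟨2 :: [7, 2, 8, 7, 2, 4, 2, 4, 2, 5, 7, 5, 2, 4, 4, 2, 4, 8, 2, 7], [2, 7, 2], 16, false⟩) (lall (memL L) [7, 2, 8, 7, 2, 4, 2, 4, 2, 5, 7, 5, 2, 4, 4, 2, 4, 8, 2, 7]) = true := by decide +kernel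

theorem rot2_93 : T.rot 2 [8, 7, 2, 4, 2, 4, 2, 5, 7, 5, 2, 4, 4, 2, 4, 8, 2, 7, 2, 7] (sel (ones 4060) ip2 93) = true := by decide +kernel

theorem rot2_93r : band (Rule.ok (2 * 2) EX RL ⟨2 :: [8, 7, 2, 4, 2, 4, 2, 5, 7, 5, 2, 4, 4, 2, 4, 8, 2, 7, 2, 7], [2], 16, false⟩) (lall (memL L) [8, 7, 2, 4, 2, 4, 2, 5, 7, 5, 2, 4, 4, 2, 4, 8, 2, 7, 2, 7]) = true := by decide +kernel

theorem rot2_94 : T.rot 2 [7, 2, 1, 5, 7, 1, 7, 2, 4, 4, 2, 4, 2, 1, 7, 5, 7, 7, 5, 1, 2, 4] (sel (ones 4060) ip2 94) = true := by decide +kernel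

theorem rot2_94r : band (Rule.ok (2 * 2) EX RL ⟨2 :: [7, 2, 1, 5, 7, 1, 7, 2, 4, 4, 2, 4, 2, 1, 7, 5, 7, 7, 5, 1, 2, 4], [0, 2, 7], 31, true⟩) (lall (memL L) [7, 2, 1, 5, 7, 1, 7, 2, 4, 4, 2, 4, 2, 1, 7, 5, 7, 7, 5, 1, 2, 4]) = true := by decide +kernel

theorem rot2_95 : T.rot 2 [1, 5, 7, 1, 7, 2, 4, 4, 2, 4, 2, 1, 7, 5, 7, 7, 5, 1, 2, 4, 2, 7] (sel (ones 4060) ip2 95) = true := by decide +kernel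

theorem rot2_95r : band (Rule.ok (2 * 2) EX RL ⟨2 :: [1, 5, 7, 1, 7, 2, 4, 4, 2, 4, 2, 1, 7, 5, 7, 7, 5, 1, 2, 4, 2, 7], [0, 2, 7, 2, 6], 31, true⟩) (lall (memL L) [1, 5, 7, 1, 7, 2, 4, 4, 2, 4, 2, 1, 7, 5, 7, 7, 5, 1, 2, 4, 2, 7]) = true := by decide +kernel

theorem rot2_96 : T.rot 2 [4, 4, 2, 4, 2, 1, 7, 5, 7, 7, 5, 1, 2, 4, 2, 7, 2, 1, 5, 7, 1, 7] (sel (ones 4060) ip2 96) = true := by decide +kernel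

theorem rot2_96r : band (Rule.ok (2 * 2) EX RL ⟨2 :: [4, 4, 2, 4, 2, 1, 7, 5, 7, 7, 5, 1, 2, 4, 2, 7, 2, 1, 5, 7, 1, 7], [0, 2, 7, 2, 6, 2, 0, 9, 6, 0, 6], 31, true⟩) (lall (memL L) [4, 4, 2, 4, 2, 1, 7, 5, 7, 7, 5, 1, 2, 4, 2, 7, 2, 1, 5, 7, 1, 7]) = true := by decide +kernel

theorem rot2_97 : T.rot 2 [4, 2, 1, 7, 5, 7, 7, 5, 1, 2, 4, 2, 7, 2, 1, 5, 7, 1, 7, 2, 4, 4] (sel (ones 4060) ip2 97) = true := by decide +kernel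

theorem rot2_97r : band (Rule.ok (2 * 2) EX RL ⟨2 :: [4, 2, 1, 7, 5, 7, 7, 5, 1, 2, 4, 2, 7, 2, 1, 5, 7, 1, 7, 2, 4, 4], [8, 7, 7, 8, 7, 0, 2, 6, 2], 31, true⟩) (lall (memL L) [4, 2, 1, 7, 5, 7, 7, 5, 1, 2, 4, 2, 7, 2, 1, 5, 7, 1, 7, 2, 4, 4]) = true := by decide +kernel

theorem rot2_98 : T.rot 2 [1, 7, 5, 7, 7, 5, 1, 2, 4, 2, 7, 2, 1, 5, 7, 1, 7, 2, 4, 4, 2, 4] (sel (ones 4060) ip2 98) = true := by decide +kernel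

theorem rot2_98r : band (Rule.ok (2 * 2) EX RL ⟨2 :: [1, 7, 5, 7, 7, 5, 1, 2, 4, 2, 7, 2, 1, 5, 7, 1, 7, 2, 4, 4, 2, 4], [8, 7, 7, 8, 7, 0, 2], 31, true⟩) (lall (memL L) [1, 7, 5, 7, 7, 5, 1, 2, 4, 2, 7, 2, 1, 5, 7, 1, 7, 2, 4, 4, 2, 4]) = true := by decide +kernel

theorem rot2_99 : T.rot 2 [7, 2, 7, 7, 2, 4, 1, 4, 8, 1, 2, 4, 2, 7, 2, 1, 8, 4, 4, 8, 4, 1] (sel (ones 4060) ip2 99) = true := by decide +kernel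

theorem rot2_99r : band (Rule.ok (2 * 2) EX RL ⟨2 :: [7, 2, 7, 7, 2, 4, 1, 4, 8, 1, 2, 4, 2, 7, 2, 1, 8, 4, 4, 8, 4, 1], [8, 7, 7, 8, 7, 0], 31, false⟩) (lall (memL L) [7, 2, 7, 7, 2, 4, 1, 4, 8, 1, 2, 4, 2, 7, 2, 1, 8, 4, 4, 8, 4, 1]) = true := by decide +kernel

theorem rot2_100 : T.rot 2 [7, 7, 2, 4, 1, 4, 8, 1, 2, 4, 2, 7, 2, 1, 8, 4, 4, 8, 4, 1, 2, 7] (sel (ones 4060) ip2 100) = true := by decide +kernel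

theorem rot2_100r : band (Rule.ok (2 * 2) EX RL ⟨2 :: [7, 7, 2, 4, 1, 4, 8, 1, 2, 4, 2, 7, 2, 1, 8, 4, 4, 8, 4, 1, 2, 7], [8, 7, 7, 8, 7, 0, 2, 6], 31, false⟩) (lall (memL L) [7, 7, 2, 4, 1, 4, 8, 1, 2, 4, 2, 7, 2, 1, 8, 4, 4, 8, 4, 1, 2, 7]) = true := by decide +kernel

theorem rot2_101 : T.rot 2 [4, 1, 4, 8, 1, 2, 4, 2, 7, 2, 1, 8, 4, 4, 8, 4, 1, 2, 7, 2, 7, 7] (sel (ones 4060) ip2 101) = true := by decide +kernel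

theorem rot2_101r : band (Rule.ok (2 * 2) EX RL ⟨2 :: [4, 1, 4, 8, 1, 2, 4, 2, 7, 2, 1, 8, 4, 4, 8, 4, 1, 2, 7, 2, 7, 7], [8, 7, 7, 8, 7, 0, 2, 6, 2, 6, 6], 31, false⟩) (lall (memL L) [4, 1, 4, 8, 1, 2, 4, 2, 7, 2, 1, 8, 4, 4, 8, 4, 1, 2, 7, 2, 7, 7]) = true := by decide +kernel

theorem rot2_102 : T.rot 2 [4, 2, 7, 2, 1, 8, 4, 4, 8, 4, 1, 2, 7, 2, 7, 7, 2, 4, 1, 4, 8, 1] (sel (ones 4060) ip2 102) = true := by decide +kernel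

theorem rot2_102r : band (Rule.ok (2 * 2) EX RL ⟨2 :: [4, 2, 7, 2, 1, 8, 4, 4, 8, 4, 1, 2, 7, 2, 7, 7, 2, 4, 1, 4, 8, 1], [0, 2, 7, 2, 6, 2], 31, false⟩) (lall (memL L) [4, 2, 7, 2, 1, 8, 4, 4, 8, 4, 1, 2, 7, 2, 7, 7, 2, 4, 1, 4, 8, 1]) = true := by decide +kernel

theorem rot2_103 : T.rot 2 [7, 2, 1, 8, 4, 4, 8, 4, 1, 2, 7, 2, 7, 7, 2, 4, 1, 4, 8, 1, 2, 4] (sel (ones 4060) ip2 103) = true := by decide +kernel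

theorem rot2_103r : band (Rule.ok (2 * 2) EX RL ⟨2 :: [7, 2, 1, 8, 4, 4, 8, 4, 1, 2, 7, 2, 7, 7, 2, 4, 1, 4, 8, 1, 2, 4], [0, 2, 7, 2], 31, false⟩) (lall (memL L) [7, 2, 1, 8, 4, 4, 8, 4, 1, 2, 7, 2, 7, 7, 2, 4, 1, 4, 8, 1, 2, 4]) = true := by decide +kernel

theorem rot2_104 : T.rot 2 [4, 4, 5, 7, 2, 4, 4, 5, 7, 5, 2, 4, 8, 7, 7, 2, 5, 4, 8, 7, 7, 8, 8] (sel (ones 4060) ip2 104) = true := by decide +kernel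

theorem rot2_104r : band (Rule.ok (2 * 2) EX RL ⟨2 :: [4, 4, 5, 7, 2, 4, 4, 5, 7, 5, 2, 4, 8, 7, 7, 2, 5, 4, 8, 7, 7, 8, 8], [9, 7, 8, 6, 6, 8, 8], 9, true⟩) (lall (memL L) [4, 4, 5, 7, 2, 4, 4, 5, 7, 5, 2, 4, 8, 7, 7, 2, 5, 4, 8, 7, 7, 8, 8]) = true := by decide +kernel

theorem rot2_105 : T.rot 2 [4, 4, 5, 7, 5, 2, 4, 8, 7, 7, 2, 5, 4, 8, 7, 7, 8, 8, 2, 4, 4, 5, 7] (sel (ones 4060) ip2 105) = true := by decide +kernel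

theorem rot2_105r : band (Rule.ok (2 * 2) EX RL ⟨2 :: [4, 4, 5, 7, 5, 2, 4, 8, 7, 7, 2, 5, 4, 8, 7, 7, 8, 8, 2, 4, 4, 5, 7], [2, 7, 7, 9, 6, 2, 8, 7, 8, 6, 6, 2], 9, true⟩) (lall (memL L) [4, 4, 5, 7, 5, 2, 4, 8, 7, 7, 2, 5, 4, 8, 7, 7, 8, 8, 2, 4, 4, 5, 7]) = true := by decide +kernel

theorem rot2_106 : T.rot 2 [4, 8, 7, 7, 2, 5, 4, 8, 7, 7, 8, 8, 2, 4, 4, 5, 7, 2, 4, 4, 5, 7, 5] (sel (ones 4060) ip2 106) = true := by decide +kernel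

theorem rot2_106r : band (Rule.ok (2 * 2) EX RL ⟨2 :: [4, 8, 7, 7, 2, 5, 4, 8, 7, 7, 8, 8, 2, 4, 4, 5, 7, 2, 4, 4, 5, 7, 5], [2, 7, 7, 9, 6, 2], 9, true⟩) (lall (memL L) [4, 8, 7, 7, 2, 5, 4, 8, 7, 7, 8, 8, 2, 4, 4, 5, 7, 2, 4, 4, 5, 7, 5]) = true := by decide +kernel

theorem rot2_107 : T.rot 2 [5, 4, 8, 7, 7, 8, 8, 2, 4, 4, 5, 7, 2, 4, 4, 5, 7, 5, 2, 4, 8, 7, 7] (sel (ones 4060) ip2 107) = true := by decide +kernel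

theorem rot2_107r : band (Rule.ok (2 * 2) EX RL ⟨2 :: [5, 4, 8, 7, 7, 8, 8, 2, 4, 4, 5, 7, 2, 4, 4, 5, 7, 5, 2, 4, 8, 7, 7], [2], 9, true⟩) (lall (memL L) [5, 4, 8, 7, 7, 8, 8, 2, 4, 4, 5, 7, 2, 4, 4, 5, 7, 5, 2, 4, 8, 7, 7]) = true := by decide +kernel

theorem rot2_108 : T.rot 2 [4, 4, 5, 7, 2, 8, 4, 8, 7, 7, 2, 4, 8, 7, 7, 2, 5, 5, 4, 4, 5, 7, 8] (sel (ones 4060) ip2 108) = true := by decide +kernel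

theorem rot2_108r : band (Rule.ok (2 * 2) EX RL ⟨2 :: [4, 4, 5, 7, 2, 8, 4, 8, 7, 7, 2, 4, 8, 7, 7, 2, 5, 5, 4, 4, 5, 7, 8], [], 9, false⟩) (lall (memL L) [4, 4, 5, 7, 2, 8, 4, 8, 7, 7, 2, 4, 8, 7, 7, 2, 5, 5, 4, 4, 5, 7, 8]) = true := by decide +kernel

theorem rot2_109 : T.rot 2 [8, 4, 8, 7, 7, 2, 4, 8, 7, 7, 2, 5, 5, 4, 4, 5, 7, 8, 2, 4, 4, 5, 7] (sel (ones 4060) ip2 109) = true := by decide +kernel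

theorem rot2_109r : band (Rule.ok (2 * 2) EX RL ⟨2 :: [8, 4, 8, 7, 7, 2, 4, 8, 7, 7, 2, 5, 5, 4, 4, 5, 7, 8, 2, 4, 4, 5, 7], [2, 7, 7, 9, 6], 9, false⟩) (lall (memL L) [8, 4, 8, 7, 7, 2, 4, 8, 7, 7, 2, 5, 5, 4, 4, 5, 7, 8, 2, 4, 4, 5, 7]) = true := by decide +kernel

theorem rot2_110 : T.rot 2 [4, 8, 7, 7, 2, 5, 5, 4, 4, 5, 7, 8, 2, 4, 4, 5, 7, 2, 8, 4, 8, 7, 7] (sel (ones 4060) ip2 110) = true := by decide +kernel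

theorem rot2_110r : band (Rule.ok (2 * 2) EX RL ⟨2 :: [4, 8, 7, 7, 2, 5, 5, 4, 4, 5, 7, 8, 2, 4, 4, 5, 7, 2, 8, 4, 8, 7, 7], [2, 7, 7, 9, 6, 2, 8, 7, 8, 6, 6], 9, false⟩) (lall (memL L) [4, 8, 7, 7, 2, 5, 5, 4, 4, 5, 7, 8, 2, 4, 4, 5, 7, 2, 8, 4, 8, 7, 7]) = true := by decide +kernel

theorem rot2_111 : T.rot 2 [5, 5, 4, 4, 5, 7, 8, 2, 4, 4, 5, 7, 2, 8, 4, 8, 7, 7, 2, 4, 8, 7, 7] (sel (ones 4060) ip2 111) = true := by decide +kernel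

theorem rot2_111r : band (Rule.ok (2 * 2) EX RL ⟨2 :: [5, 5, 4, 4, 5, 7, 8, 2, 4, 4, 5, 7, 2, 8, 4, 8, 7, 7, 2, 4, 8, 7, 7], [9, 7, 8, 6, 6, 8, 8, 2], 9, false⟩) (lall (memL L) [5, 5, 4, 4, 5, 7, 8, 2, 4, 4, 5, 7, 2, 8, 4, 8, 7, 7, 2, 4, 8, 7, 7]) = true := by decide +kernel

theorem rot2_112 : T.rot 2 [4, 8, 7, 7, 2, 7, 4, 8, 7, 7, 8, 2, 4, 4, 5, 7, 2, 5, 4, 4, 5, 7, 4] (sel (ones 4060) ip2 112) = true := by decide +kernel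

theorem rot2_112r : band (Rule.ok (2 * 2) EX RL ⟨2 :: [4, 8, 7, 7, 2, 7, 4, 8, 7, 7, 8, 2, 4, 4, 5, 7, 2, 5, 4, 4, 5, 7, 4], [7], 12, true⟩) (lall (memL L) [4, 8, 7, 7, 2, 7, 4, 8, 7, 7, 8, 2, 4, 4, 5, 7, 2, 5, 4, 4, 5, 7, 4]) = true := by decide +kernel

theorem rot2_113 : T.rot 2 [7, 4, 8, 7, 7, 8, 2, 4, 4, 5, 7, 2, 5, 4, 4, 5, 7, 4, 2, 4, 8, 7, 7] (sel (ones 4060) ip2 113) = true := by decide +kernel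

theorem rot2_113r : band (Rule.ok (2 * 2) EX RL ⟨2 :: [7, 4, 8, 7, 7, 8, 2, 4, 4, 5, 7, 2, 5, 4, 4, 5, 7, 4, 2, 4, 8, 7, 7], [7, 2, 7, 8, 6, 6], 12, true⟩) (lall (memL L) [7, 4, 8, 7, 7, 8, 2, 4, 4, 5, 7, 2, 5, 4, 4, 5, 7, 4, 2, 4, 8, 7, 7]) = true := by decide +kernel

theorem rot2_114 : T.rot 2 [4, 4, 5, 7, 2, 5, 4, 4, 5, 7, 4, 2, 4, 8, 7, 7, 2, 7, 4, 8, 7, 7, 8] (sel (ones 4060) ip2 114) = true := by decide +kernel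

theorem rot2_114r : band (Rule.ok (2 * 2) EX RL ⟨2 :: [4, 4, 5, 7, 2, 5, 4, 4, 5, 7, 4, 2, 4, 8, 7, 7, 2, 7, 4, 8, 7, 7, 8], [7, 8, 6, 6, 8, 2, 7, 8, 6, 6, 2], 12, true⟩) (lall (memL L) [4, 4, 5, 7, 2, 5, 4, 4, 5, 7, 4, 2, 4, 8, 7, 7, 2, 7, 4, 8, 7, 7, 8]) = true := by decide +kernel

theorem rot2_115 : T.rot 2 [5, 4, 4, 5, 7, 4, 2, 4, 8, 7, 7, 2, 7, 4, 8, 7, 7, 8, 2, 4, 4, 5, 7] (sel (ones 4060) ip2 115) = true := by decide +kernel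

theorem rot2_115r : band (Rule.ok (2 * 2) EX RL ⟨2 :: [5, 4, 4, 5, 7, 4, 2, 4, 8, 7, 7, 2, 7, 4, 8, 7, 7, 8, 2, 4, 4, 5, 7], [7, 8, 6, 6, 8, 2], 12, true⟩) (lall (memL L) [5, 4, 4, 5, 7, 4, 2, 4, 8, 7, 7, 2, 7, 4, 8, 7, 7, 8, 2, 4, 4, 5, 7]) = true := by decide +kernel

theorem rot2_116 : T.rot 2 [4, 8, 7, 7, 2, 5, 4, 4, 5, 7, 4, 2, 4, 4, 5, 7, 2, 7, 4, 8, 7, 7, 8] (sel (ones 4060) ip2 116) = true := by decide +kernel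

theorem rot2_116r : band (Rule.ok (2 * 2) EX RL ⟨2 :: [4, 8, 7, 7, 2, 5, 4, 4, 5, 7, 4, 2, 4, 4, 5, 7, 2, 7, 4, 8, 7, 7, 8], [7, 8, 6, 6, 8], 12, false⟩) (lall (memL L) [4, 8, 7, 7, 2, 5, 4, 4, 5, 7, 4, 2, 4, 4, 5, 7, 2, 7, 4, 8, 7, 7, 8]) = true := by decide +kernel

theorem rot2_117 : T.rot 2 [5, 4, 4, 5, 7, 4, 2, 4, 4, 5, 7, 2, 7, 4, 8, 7, 7, 8, 2, 4, 8, 7, 7] (sel (ones 4060) ip2 117) = true := by decide +kernel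

theorem rot2_117r : band (Rule.ok (2 * 2) EX RL ⟨2 :: [5, 4, 4, 5, 7, 4, 2, 4, 4, 5, 7, 2, 7, 4, 8, 7, 7, 8, 2, 4, 8, 7, 7], [7, 8, 6, 6, 8, 2, 7, 8, 6, 6], 12, false⟩) (lall (memL L) [5, 4, 4, 5, 7, 4, 2, 4, 4, 5, 7, 2, 7, 4, 8, 7, 7, 8, 2, 4, 8, 7, 7]) = true := by decide +kernel

theorem rot2_118 : T.rot 2 [4, 4, 5, 7, 2, 7, 4, 8, 7, 7, 8, 2, 4, 8, 7, 7, 2, 5, 4, 4, 5, 7, 4] (sel (ones 4060) ip2 118) = true := by decide +kernel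

theorem rot2_118r : band (Rule.ok (2 * 2) EX RL ⟨2 :: [4, 4, 5, 7, 2, 7, 4, 8, 7, 7, 8, 2, 4, 8, 7, 7, 2, 5, 4, 4, 5, 7, 4], [7, 2, 7, 8, 6, 6, 2], 12, false⟩) (lall (memL L) [4, 4, 5, 7, 2, 7, 4, 8, 7, 7, 8, 2, 4, 8, 7, 7, 2, 5, 4, 4, 5, 7, 4]) = true := by decide +kernel

theorem rot2_119 : T.rot 2 [7, 4, 8, 7, 7, 8, 2, 4, 8, 7, 7, 2, 5, 4, 4, 5, 7, 4, 2, 4, 4, 5, 7] (sel (ones 4060) ip2 119) = true := by decide +kernel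

theorem rot2_119r : band (Rule.ok (2 * 2) EX RL ⟨2 :: [7, 4, 8, 7, 7, 8, 2, 4, 8, 7, 7, 2, 5, 4, 4, 5, 7, 4, 2, 4, 4, 5, 7], [7, 2], 12, false⟩) (lall (memL L) [7, 4, 8, 7, 7, 8, 2, 4, 8, 7, 7, 2, 5, 4, 4, 5, 7, 4, 2, 4, 4, 5, 7]) = true := by decide +kernel

theorem rot2_120 : T.rot 2 [1, 4, 2, 7, 6, 2, 1, 2, 4, 2, 4, 2, 1, 2, 8, 7, 2, 8, 7, 5, 7, 5, 2, 1] (sel (ones 4060) ip2 120) = true := by decide +kernel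

theorem rot2_120r : band (Rule.ok (2 * 2) EX RL ⟨2 :: [1, 4, 2, 7, 6, 2, 1, 2, 4, 2, 4, 2, 1, 2, 8, 7, 2, 8, 7, 5, 7, 5, 2, 1], [0], 29, true⟩) (lall (memL L) [1, 4, 2, 7, 6, 2, 1, 2, 4, 2, 4, 2, 1, 2, 8, 7, 2, 8, 7, 5, 7, 5, 2, 1]) = true := by decide +kernel

theorem rot2_121 : T.rot 2 [7, 6, 2, 1, 2, 4, 2, 4, 2, 1, 2, 8, 7, 2, 8, 7, 5, 7, 5, 2, 1, 2, 1, 4] (sel (ones 4060) ip2 121) = true := by decide +kernel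

theorem rot2_121r : band (Rule.ok (2 * 2) EX RL ⟨2 :: [7, 6, 2, 1, 2, 4, 2, 4, 2, 1, 2, 8, 7, 2, 8, 7, 5, 7, 5, 2, 1, 2, 1, 4], [0, 2, 0, 7], 29, true⟩) (lall (memL L) [7, 6, 2, 1, 2, 4, 2, 4, 2, 1, 2, 8, 7, 2, 8, 7, 5, 7, 5, 2, 1, 2, 1, 4]) = true := by decide +kernel

theorem rot2_122 : T.rot 2 [1, 2, 4, 2, 4, 2, 1, 2, 8, 7, 2, 8, 7, 5, 7, 5, 2, 1, 2, 1, 4, 2, 7, 6] (sel (ones 4060) ip2 122) = true := by decide +kernel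

theorem rot2_122r : band (Rule.ok (2 * 2) EX RL ⟨2 :: [1, 2, 4, 2, 4, 2, 1, 2, 8, 7, 2, 8, 7, 5, 7, 5, 2, 1, 2, 1, 4, 2, 7, 6], [0, 2, 0, 7, 2, 6, 4], 29, true⟩) (lall (memL L) [1, 2, 4, 2, 4, 2, 1, 2, 8, 7, 2, 8, 7, 5, 7, 5, 2, 1, 2, 1, 4, 2, 7, 6]) = true := by decide +kernel

theorem rot2_123 : T.rot 2 [4, 2, 4, 2, 1, 2, 8, 7, 2, 8, 7, 5, 7, 5, 2, 1, 2, 1, 4, 2, 7, 6, 2, 1] (sel (ones 4060) ip2 123) = true := by decide +kernel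

theorem rot2_123r : band (Rule.ok (2 * 2) EX RL ⟨2 :: [4, 2, 4, 2, 1, 2, 8, 7, 2, 8, 7, 5, 7, 5, 2, 1, 2, 1, 4, 2, 7, 6, 2, 1], [0, 2, 0, 7, 2, 6, 4, 2, 0], 29, true⟩) (lall (memL L) [4, 2, 4, 2, 1, 2, 8, 7, 2, 8, 7, 5, 7, 5, 2, 1, 2, 1, 4, 2, 7, 6, 2, 1]) = true := by decide +kernel

theorem rot2_124 : T.rot 2 [4, 2, 1, 2, 8, 7, 2, 8, 7, 5, 7, 5, 2, 1, 2, 1, 4, 2, 7, 6, 2, 1, 2, 4] (sel (ones 4060) ip2 124) = true := by decide +kernel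

theorem rot2_124r : band (Rule.ok (2 * 2) EX RL ⟨2 :: [4, 2, 1, 2, 8, 7, 2, 8, 7, 5, 7, 5, 2, 1, 2, 1, 4, 2, 7, 6, 2, 1, 2, 4], [0, 2, 0, 7, 2, 6, 4, 2, 0, 2, 7], 29, true⟩) (lall (memL L) [4, 2, 1, 2, 8, 7, 2, 8, 7, 5, 7, 5, 2, 1, 2, 1, 4, 2, 7, 6, 2, 1, 2, 4]) = true := by decide +kernel

theorem rot2_125 : T.rot 2 [1, 2, 8, 7, 2, 8, 7, 5, 7, 5, 2, 1, 2, 1, 4, 2, 7, 6, 2, 1, 2, 4, 2, 4] (sel (ones 4060) ip2 125) = true := by decide +kernel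

theorem rot2_125r : band (Rule.ok (2 * 2) EX RL ⟨2 :: [1, 2, 8, 7, 2, 8, 7, 5, 7, 5, 2, 1, 2, 1, 4, 2, 7, 6, 2, 1, 2, 4, 2, 4], [2, 8, 7, 8, 7, 9, 2, 7, 9, 2, 0, 2], 29, true⟩) (lall (memL L) [1, 2, 8, 7, 2, 8, 7, 5, 7, 5, 2, 1, 2, 1, 4, 2, 7, 6, 2, 1, 2, 4, 2, 4]) = true := by decide +kernel

theorem rot2_126 : T.rot 2 [8, 7, 2, 8, 7, 5, 7, 5, 2, 1, 2, 1, 4, 2, 7, 6, 2, 1, 2, 4, 2, 4, 2, 1] (sel (ones 4060) ip2 126) = true := by decide +kernel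

theorem rot2_126r : band (Rule.ok (2 * 2) EX RL ⟨2 :: [8, 7, 2, 8, 7, 5, 7, 5, 2, 1, 2, 1, 4, 2, 7, 6, 2, 1, 2, 4, 2, 4, 2, 1], [2, 8, 7, 8, 7, 9, 2, 7, 9, 2], 29, true⟩) (lall (memL L) [8, 7, 2, 8, 7, 5, 7, 5, 2, 1, 2, 1, 4, 2, 7, 6, 2, 1, 2, 4, 2, 4, 2, 1]) = true := by decide +kernel

theorem rot2_127 : T.rot 2 [8, 7, 5, 7, 5, 2, 1, 2, 1, 4, 2, 7, 6, 2, 1, 2, 4, 2, 4, 2, 1, 2, 8, 7] (sel (ones 4060) ip2 127) = true := by decide +kernel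

theorem rot2_127r : band (Rule.ok (2 * 2) EX RL ⟨2 :: [8, 7, 5, 7, 5, 2, 1, 2, 1, 4, 2, 7, 6, 2, 1, 2, 4, 2, 4, 2, 1, 2, 8, 7], [2, 8, 7, 8, 7, 9, 2], 29, true⟩) (lall (memL L) [8, 7, 5, 7, 5, 2, 1, 2, 1, 4, 2, 7, 6, 2, 1, 2, 4, 2, 4, 2, 1, 2, 8, 7]) = true := by decide +kernel

theorem rot2_128 : T.rot 2 [1, 2, 1, 4, 2, 7, 6, 2, 1, 2, 4, 2, 4, 2, 1, 2, 8, 7, 2, 8, 7, 5, 7, 5] (sel (ones 4060) ip2 128) = true := by decide +kernel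

theorem rot2_128r : band (Rule.ok (2 * 2) EX RL ⟨2 :: [1, 2, 1, 4, 2, 7, 6, 2, 1, 2, 4, 2, 4, 2, 1, 2, 8, 7, 2, 8, 7, 5, 7, 5], [2], 29, true⟩) (lall (memL L) [1, 2, 1, 4, 2, 7, 6, 2, 1, 2, 4, 2, 4, 2, 1, 2, 8, 7, 2, 8, 7, 5, 7, 5]) = true := by decide +kernel

theorem rot2_129 : T.rot 2 [8, 4, 8, 4, 5, 2, 4, 5, 2, 1, 2, 7, 2, 7, 2, 1, 2, 3, 4, 2, 7, 1, 2, 1] (sel (ones 4060) ip2 129) = true := by decide +kernel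

theorem rot2_129r : band (Rule.ok (2 * 2) EX RL ⟨2 :: [8, 4, 8, 4, 5, 2, 4, 5, 2, 1, 2, 7, 2, 7, 2, 1, 2, 3, 4, 2, 7, 1, 2, 1], [], 29, false⟩) (lall (memL L) [8, 4, 8, 4, 5, 2, 4, 5, 2, 1, 2, 7, 2, 7, 2, 1, 2, 3, 4, 2, 7, 1, 2, 1]) = true := by decide +kernel

theorem rot2_130 : T.rot 2 [4, 5, 2, 1, 2, 7, 2, 7, 2, 1, 2, 3, 4, 2, 7, 1, 2, 1, 2, 8, 4, 8, 4, 5] (sel (ones 4060) ip2 130) = true := by decide +kernel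

theorem rot2_130r : band (Rule.ok (2 * 2) EX RL ⟨2 :: [4, 5, 2, 1, 2, 7, 2, 7, 2, 1, 2, 3, 4, 2, 7, 1, 2, 1, 2, 8, 4, 8, 4, 5], [2, 8, 7, 8, 7, 9], 29, false⟩) (lall (memL L) [4, 5, 2, 1, 2, 7, 2, 7, 2, 1, 2, 3, 4, 2, 7, 1, 2, 1, 2, 8, 4, 8, 4, 5]) = true := by decide +kernel

theorem rot2_131 : T.rot 2 [1, 2, 7, 2, 7, 2, 1, 2, 3, 4, 2, 7, 1, 2, 1, 2, 8, 4, 8, 4, 5, 2, 4, 5] (sel (ones 4060) ip2 131) = true := by decide +kernel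

theorem rot2_131r : band (Rule.ok (2 * 2) EX RL ⟨2 :: [1, 2, 7, 2, 7, 2, 1, 2, 3, 4, 2, 7, 1, 2, 1, 2, 8, 4, 8, 4, 5, 2, 4, 5], [2, 8, 7, 8, 7, 9, 2, 7, 9], 29, false⟩) (lall (memL L) [1, 2, 7, 2, 7, 2, 1, 2, 3, 4, 2, 7, 1, 2, 1, 2, 8, 4, 8, 4, 5, 2, 4, 5]) = true := by decide +kernel

theorem rot2_132 : T.rot 2 [7, 2, 7, 2, 1, 2, 3, 4, 2, 7, 1, 2, 1, 2, 8, 4, 8, 4, 5, 2, 4, 5, 2, 1] (sel (ones 4060) ip2 132) = true := by decide +kernel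

theorem rot2_132r : band (Rule.ok (2 * 2) EX RL ⟨2 :: [7, 2, 7, 2, 1, 2, 3, 4, 2, 7, 1, 2, 1, 2, 8, 4, 8, 4, 5, 2, 4, 5, 2, 1], [2, 8, 7, 8, 7, 9, 2, 7, 9, 2, 0], 29, false⟩) (lall (memL L) [7, 2, 7, 2, 1, 2, 3, 4, 2, 7, 1, 2, 1, 2, 8, 4, 8, 4, 5, 2, 4, 5, 2, 1]) = true := by decide +kernel

theorem rot2_133 : T.rot 2 [7, 2, 1, 2, 3, 4, 2, 7, 1, 2, 1, 2, 8, 4, 8, 4, 5, 2, 4, 5, 2, 1, 2, 7] (sel (ones 4060) ip2 133) = true := by decide +kernel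

theorem rot2_133r : band (Rule.ok (2 * 2) EX RL ⟨2 :: [7, 2, 1, 2, 3, 4, 2, 7, 1, 2, 1, 2, 8, 4, 8, 4, 5, 2, 4, 5, 2, 1, 2, 7], [0, 2, 0, 7, 2, 6, 4, 2, 0, 2, 7, 2], 29, false⟩) (lall (memL L) [7, 2, 1, 2, 3, 4, 2, 7, 1, 2, 1, 2, 8, 4, 8, 4, 5, 2, 4, 5, 2, 1, 2, 7]) = true := by decide +kernel

theorem rot2_134 : T.rot 2 [1, 2, 3, 4, 2, 7, 1, 2, 1, 2, 8, 4, 8, 4, 5, 2, 4, 5, 2, 1, 2, 7, 2, 7] (sel (ones 4060) ip2 134) = true := by decide +kernel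

theorem rot2_134r : band (Rule.ok (2 * 2) EX RL ⟨2 :: [1, 2, 3, 4, 2, 7, 1, 2, 1, 2, 8, 4, 8, 4, 5, 2, 4, 5, 2, 1, 2, 7, 2, 7], [0, 2, 0, 7, 2, 6, 4, 2, 0, 2], 29, false⟩) (lall (memL L) [1, 2, 3, 4, 2, 7, 1, 2, 1, 2, 8, 4, 8, 4, 5, 2, 4, 5, 2, 1, 2, 7, 2, 7]) = true := by decide +kernel

theorem rot2_135 : T.rot 2 [3, 4, 2, 7, 1, 2, 1, 2, 8, 4, 8, 4, 5, 2, 4, 5, 2, 1, 2, 7, 2, 7, 2, 1] (sel (ones 4060) ip2 135) = true := by decide +kernel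

theorem rot2_135r : band (Rule.ok (2 * 2) EX RL ⟨2 :: [3, 4, 2, 7, 1, 2, 1, 2, 8, 4, 8, 4, 5, 2, 4, 5, 2, 1, 2, 7, 2, 7, 2, 1], [0, 2, 0, 7, 2, 6, 4, 2], 29, false⟩) (lall (memL L) [3, 4, 2, 7, 1, 2, 1, 2, 8, 4, 8, 4, 5, 2, 4, 5, 2, 1, 2, 7, 2, 7, 2, 1]) = true := by decide +kernel

theorem rot2_136 : T.rot 2 [7, 1, 2, 1, 2, 8, 4, 8, 4, 5, 2, 4, 5, 2, 1, 2, 7, 2, 7, 2, 1, 2, 3, 4] (sel (ones 4060) ip2 136) = true := by decide +kernel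

theorem rot2_136r : band (Rule.ok (2 * 2) EX RL ⟨2 :: [7, 1, 2, 1, 2, 8, 4, 8, 4, 5, 2, 4, 5, 2, 1, 2, 7, 2, 7, 2, 1, 2, 3, 4], [0, 2, 0, 7, 2], 29, false⟩) (lall (memL L) [7, 1, 2, 1, 2, 8, 4, 8, 4, 5, 2, 4, 5, 2, 1, 2, 7, 2, 7, 2, 1, 2, 3, 4]) = true := by decide +kernel

theorem rot2_137 : T.rot 2 [1, 2, 8, 4, 8, 4, 5, 2, 4, 5, 2, 1, 2, 7, 2, 7, 2, 1, 2, 3, 4, 2, 7, 1] (sel (ones 4060) ip2 137) = true := by decide +kernel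

theorem rot2_137r : band (Rule.ok (2 * 2) EX RL ⟨2 :: [1, 2, 8, 4, 8, 4, 5, 2, 4, 5, 2, 1, 2, 7, 2, 7, 2, 1, 2, 3, 4, 2, 7, 1], [0, 2], 29, false⟩) (lall (memL L) [1, 2, 8, 4, 8, 4, 5, 2, 4, 5, 2, 1, 2, 7, 2, 7, 2, 1, 2, 3, 4, 2, 7, 1]) = true := by decide +kernel

theorem rot2_138 : T.rot 2 [4, 4, 5, 7, 2, 8, 2, 4, 4, 5, 7, 2, 8, 2, 4, 4, 5, 7, 2, 8, 2, 4, 4, 5, 7, 2, 8] (sel (ones 4060) ip2 138) = true := by decide +kernel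

theorem rot2_138r : band (Rule.ok (2 * 2) EX RL ⟨2 :: [4, 4, 5, 7, 2, 8, 2, 4, 4, 5, 7, 2, 8, 2, 4, 4, 5, 7, 2, 8, 2, 4, 4, 5, 7, 2, 8], [], 0, true⟩) (lall (memL L) [4, 4, 5, 7, 2, 8, 2, 4, 4, 5, 7, 2, 8, 2, 4, 4, 5, 7, 2, 8, 2, 4, 4, 5, 7, 2, 8]) = true := by decide +kernel

theorem rot2_139 : T.rot 2 [8, 2, 4, 4, 5, 7, 2, 8, 2, 4, 4, 5, 7, 2, 8, 2, 4, 4, 5, 7, 2, 8, 2, 4, 4, 5, 7] (sel (ones 4060) ip2 139) = true := by decide +kernel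

theorem rot2_139r : band (Rule.ok (2 * 2) EX RL ⟨2 :: [8, 2, 4, 4, 5, 7, 2, 8, 2, 4, 4, 5, 7, 2, 8, 2, 4, 4, 5, 7, 2, 8, 2, 4, 4, 5, 7], [9, 2], 0, true⟩) (lall (memL L) [8, 2, 4, 4, 5, 7, 2, 8, 2, 4, 4, 5, 7, 2, 8, 2, 4, 4, 5, 7, 2, 8, 2, 4, 4, 5, 7]) = true := by decide +kernel

theorem rot2_140 : T.rot 2 [4, 8, 7, 7, 2, 5, 2, 4, 8, 7, 7, 2, 5, 2, 4, 8, 7, 7, 2, 5, 2, 4, 8, 7, 7, 2, 5] (sel (ones 4060) ip2 140) = true := by decide +kernel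

theorem rot2_140r : band (Rule.ok (2 * 2) EX RL ⟨2 :: [4, 8, 7, 7, 2, 5, 2, 4, 8, 7, 7, 2, 5, 2, 4, 8, 7, 7, 2, 5, 2, 4, 8, 7, 7, 2, 5], [9], 0, false⟩) (lall (memL L) [4, 8, 7, 7, 2, 5, 2, 4, 8, 7, 7, 2, 5, 2, 4, 8, 7, 7, 2, 5, 2, 4, 8, 7, 7, 2, 5]) = true := by decide +kernel

theorem rot2_141 : T.rot 2 [5, 2, 4, 8, 7, 7, 2, 5, 2, 4, 8, 7, 7, 2, 5, 2, 4, 8, 7, 7, 2, 5, 2, 4, 8, 7, 7] (sel (ones 4060) ip2 141) = true := by decide +kernel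

theorem rot2_141r : band (Rule.ok (2 * 2) EX RL ⟨2 :: [5, 2, 4, 8, 7, 7, 2, 5, 2, 4, 8, 7, 7, 2, 5, 2, 4, 8, 7, 7, 2, 5, 2, 4, 8, 7, 7], [2], 0, false⟩) (lall (memL L) [5, 2, 4, 8, 7, 7, 2, 5, 2, 4, 8, 7, 7, 2, 5, 2, 4, 8, 7, 7, 2, 5, 2, 4, 8, 7, 7]) = true := by decide +kernel

theorem rot2_142 : T.rot 2 [4, 5, 4, 4, 2, 7, 7, 8, 7, 2, 4, 5, 2, 4, 4, 5, 7, 2, 7, 2, 4, 8, 7, 7, 2, 4, 8, 7] (sel (ones 4060) ip2 142) = true := by decide +kernel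

theorem rot2_142r : band (Rule.ok (2 * 2) EX RL ⟨2 :: [4, 5, 4, 4, 2, 7, 7, 8, 7, 2, 4, 5, 2, 4, 4, 5, 7, 2, 7, 2, 4, 8, 7, 7, 2, 4, 8, 7], [], 17, true⟩) (lall (memL L) [4, 5, 4, 4, 2, 7, 7, 8, 7, 2, 4, 5, 2, 4, 4, 5, 7, 2, 7, 2, 4, 8, 7, 7, 2, 4, 8, 7]) = true := by decide +kernel

theorem rot2_143 : T.rot 2 [7, 7, 8, 7, 2, 4, 5, 2, 4, 4, 5, 7, 2, 7, 2, 4, 8, 7, 7, 2, 4, 8, 7, 2, 4, 5, 4, 4] (sel (ones 4060) ip2 143) = true := by decide +kernel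

theorem rot2_143r : band (Rule.ok (2 * 2) EX RL ⟨2 :: [7, 7, 8, 7, 2, 4, 5, 2, 4, 4, 5, 7, 2, 7, 2, 4, 8, 7, 7, 2, 4, 8, 7, 2, 4, 5, 4, 4], [2, 7, 9, 7, 7], 17, true⟩) (lall (memL L) [7, 7, 8, 7, 2, 4, 5, 2, 4, 4, 5, 7, 2, 7, 2, 4, 8, 7, 7, 2, 4, 8, 7, 2, 4, 5, 4, 4]) = true := by decide +kernel

theorem rot2_144 : T.rot 2 [4, 5, 2, 4, 4, 5, 7, 2, 7, 2, 4, 8, 7, 7, 2, 4, 8, 7, 2, 4, 5, 4, 4, 2, 7, 7, 8, 7] (sel (ones 4060) ip2 144) = true := by decide +kernel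

theorem rot2_144r : band (Rule.ok (2 * 2) EX RL ⟨2 :: [4, 5, 2, 4, 4, 5, 7, 2, 7, 2, 4, 8, 7, 7, 2, 4, 8, 7, 2, 4, 5, 4, 4, 2, 7, 7, 8, 7], [2, 7, 9, 7, 7, 2, 6, 6, 8, 6], 17, true⟩) (lall (memL L) [4, 5, 2, 4, 4, 5, 7, 2, 7, 2, 4, 8, 7, 7, 2, 4, 8, 7, 2, 4, 5, 4, 4, 2, 7, 7, 8, 7]) = true := by decide +kernel

theorem rot2_145 : T.rot 2 [4, 4, 5, 7, 2, 7, 2, 4, 8, 7, 7, 2, 4, 8, 7, 2, 4, 5, 4, 4, 2, 7, 7, 8, 7, 2, 4, 5] (sel (ones 4060) ip2 145) = true := by decide +kernel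

theorem rot2_145r : band (Rule.ok (2 * 2) EX RL ⟨2 :: [4, 4, 5, 7, 2, 7, 2, 4, 8, 7, 7, 2, 4, 8, 7, 2, 4, 5, 4, 4, 2, 7, 7, 8, 7, 2, 4, 5], [2, 7, 9, 7, 7, 2, 6, 6, 8, 6, 2, 7, 9], 17, true⟩) (lall (memL L) [4, 4, 5, 7, 2, 7, 2, 4, 8, 7, 7, 2, 4, 8, 7, 2, 4, 5, 4, 4, 2, 7, 7, 8, 7, 2, 4, 5]) = true := by decide +kernel

theorem rot2_146 : T.rot 2 [7, 2, 4, 8, 7, 7, 2, 4, 8, 7, 2, 4, 5, 4, 4, 2, 7, 7, 8, 7, 2, 4, 5, 2, 4, 4, 5, 7] (sel (ones 4060) ip2 146) = true := by decide +kernel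

theorem rot2_146r : band (Rule.ok (2 * 2) EX RL ⟨2 :: [7, 2, 4, 8, 7, 7, 2, 4, 8, 7, 2, 4, 5, 4, 4, 2, 7, 7, 8, 7, 2, 4, 5, 2, 4, 4, 5, 7], [7, 9, 6, 2, 7, 7, 9, 6, 2, 7, 2], 17, true⟩) (lall (memL L) [7, 2, 4, 8, 7, 7, 2, 4, 8, 7, 2, 4, 5, 4, 4, 2, 7, 7, 8, 7, 2, 4, 5, 2, 4, 4, 5, 7]) = true := by decide +kernel

theorem rot2_147 : T.rot 2 [4, 8, 7, 7, 2, 4, 8, 7, 2, 4, 5, 4, 4, 2, 7, 7, 8, 7, 2, 4, 5, 2, 4, 4, 5, 7, 2, 7] (sel (ones 4060) ip2 147) = true := by decide +kernel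

theorem rot2_147r : band (Rule.ok (2 * 2) EX RL ⟨2 :: [4, 8, 7, 7, 2, 4, 8, 7, 2, 4, 5, 4, 4, 2, 7, 7, 8, 7, 2, 4, 5, 2, 4, 4, 5, 7, 2, 7], [7, 9, 6, 2, 7, 7, 9, 6, 2], 17, true⟩) (lall (memL L) [4, 8, 7, 7, 2, 4, 8, 7, 2, 4, 5, 4, 4, 2, 7, 7, 8, 7, 2, 4, 5, 2, 4, 4, 5, 7, 2, 7]) = true := by decide +kernel

theorem rot2_148 : T.rot 2 [4, 8, 7, 2, 4, 5, 4, 4, 2, 7, 7, 8, 7, 2, 4, 5, 2, 4, 4, 5, 7, 2, 7, 2, 4, 8, 7, 7] (sel (ones 4060) ip2 148) = true := by decide +kernel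

theorem rot2_148r : band (Rule.ok (2 * 2) EX RL ⟨2 :: [4, 8, 7, 2, 4, 5, 4, 4, 2, 7, 7, 8, 7, 2, 4, 5, 2, 4, 4, 5, 7, 2, 7, 2, 4, 8, 7, 7], [7, 9, 6, 2], 17, true⟩) (lall (memL L) [4, 8, 7, 2, 4, 5, 4, 4, 2, 7, 7, 8, 7, 2, 4, 5, 2, 4, 4, 5, 7, 2, 7, 2, 4, 8, 7, 7]) = true := by decide +kernel

theorem rot2_149 : T.rot 2 [4, 4, 5, 7, 2, 4, 2, 4, 8, 7, 7, 2, 8, 7, 2, 4, 5, 4, 4, 2, 7, 7, 8, 7, 2, 4, 5, 7] (sel (ones 4060) ip2 149) = true := by decide +kernel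

theorem rot2_149r : band (Rule.ok (2 * 2) EX RL ⟨2 :: [4, 4, 5, 7, 2, 4, 2, 4, 8, 7, 7, 2, 8, 7, 2, 4, 5, 4, 4, 2, 7, 7, 8, 7, 2, 4, 5, 7], [7, 9, 6], 17, false⟩) (lall (memL L) [4, 4, 5, 7, 2, 4, 2, 4, 8, 7, 7, 2, 8, 7, 2, 4, 5, 4, 4, 2, 7, 7, 8, 7, 2, 4, 5, 7]) = true := by decide +kernel

theorem rot2_150 : T.rot 2 [4, 2, 4, 8, 7, 7, 2, 8, 7, 2, 4, 5, 4, 4, 2, 7, 7, 8, 7, 2, 4, 5, 7, 2, 4, 4, 5, 7] (sel (ones 4060) ip2 150) = true := by decide +kernel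

theorem rot2_150r : band (Rule.ok (2 * 2) EX RL ⟨2 :: [4, 2, 4, 8, 7, 7, 2, 8, 7, 2, 4, 5, 4, 4, 2, 7, 7, 8, 7, 2, 4, 5, 7, 2, 4, 4, 5, 7], [7, 9, 6, 2, 7, 7, 9, 6], 17, false⟩) (lall (memL L) [4, 2, 4, 8, 7, 7, 2, 8, 7, 2, 4, 5, 4, 4, 2, 7, 7, 8, 7, 2, 4, 5, 7, 2, 4, 4, 5, 7]) = true := by decide +kernel

theorem rot2_151 : T.rot 2 [4, 8, 7, 7, 2, 8, 7, 2, 4, 5, 4, 4, 2, 7, 7, 8, 7, 2, 4, 5, 7, 2, 4, 4, 5, 7, 2, 4] (sel (ones 4060) ip2 151) = true := by decide +kernel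

theorem rot2_151r : band (Rule.ok (2 * 2) EX RL ⟨2 :: [4, 8, 7, 7, 2, 8, 7, 2, 4, 5, 4, 4, 2, 7, 7, 8, 7, 2, 4, 5, 7, 2, 4, 4, 5, 7, 2, 4], [7, 9, 6, 2, 7, 7, 9, 6, 2, 7], 17, false⟩) (lall (memL L) [4, 8, 7, 7, 2, 8, 7, 2, 4, 5, 4, 4, 2, 7, 7, 8, 7, 2, 4, 5, 7, 2, 4, 4, 5, 7, 2, 4]) = true := by decide +kernel

theorem rot2_152 : T.rot 2 [8, 7, 2, 4, 5, 4, 4, 2, 7, 7, 8, 7, 2, 4, 5, 7, 2, 4, 4, 5, 7, 2, 4, 2, 4, 8, 7, 7] (sel (ones 4060) ip2 152) = true := by decide +kernel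

theorem rot2_152r : band (Rule.ok (2 * 2) EX RL ⟨2 :: [8, 7, 2, 4, 5, 4, 4, 2, 7, 7, 8, 7, 2, 4, 5, 7, 2, 4, 4, 5, 7, 2, 4, 2, 4, 8, 7, 7], [2, 7, 9, 7, 7, 2, 6, 6, 8, 6, 2, 7, 9, 2], 17, false⟩) (lall (memL L) [8, 7, 2, 4, 5, 4, 4, 2, 7, 7, 8, 7, 2, 4, 5, 7, 2, 4, 4, 5, 7, 2, 4, 2, 4, 8, 7, 7]) = true := by decide +kernel

theorem rot2_153 : T.rot 2 [4, 5, 4, 4, 2, 7, 7, 8, 7, 2, 4, 5, 7, 2, 4, 4, 5, 7, 2, 4, 2, 4, 8, 7, 7, 2, 8, 7] (sel (ones 4060) ip2 153) = true := by decide +kernel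

theorem rot2_153r : band (Rule.ok (2 * 2) EX RL ⟨2 :: [4, 5, 4, 4, 2, 7, 7, 8, 7, 2, 4, 5, 7, 2, 4, 4, 5, 7, 2, 4, 2, 4, 8, 7, 7, 2, 8, 7], [2, 7, 9, 7, 7, 2, 6, 6, 8, 6, 2], 17, false⟩) (lall (memL L) [4, 5, 4, 4, 2, 7, 7, 8, 7, 2, 4, 5, 7, 2, 4, 4, 5, 7, 2, 4, 2, 4, 8, 7, 7, 2, 8, 7]) = true := by decide +kernel

theorem rot2_154 : T.rot 2 [7, 7, 8, 7, 2, 4, 5, 7, 2, 4, 4, 5, 7, 2, 4, 2, 4, 8, 7, 7, 2, 8, 7, 2, 4, 5, 4, 4] (sel (ones 4060) ip2 154) = true := by decide +kernel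

theorem rot2_154r : band (Rule.ok (2 * 2) EX RL ⟨2 :: [7, 7, 8, 7, 2, 4, 5, 7, 2, 4, 4, 5, 7, 2, 4, 2, 4, 8, 7, 7, 2, 8, 7, 2, 4, 5, 4, 4], [2, 7, 9, 7, 7, 2], 17, false⟩) (lall (memL L) [7, 7, 8, 7, 2, 4, 5, 7, 2, 4, 4, 5, 7, 2, 4, 2, 4, 8, 7, 7, 2, 8, 7, 2, 4, 5, 4, 4]) = true := by decide +kernel

theorem rot2_155 : T.rot 2 [4, 5, 7, 2, 4, 4, 5, 7, 2, 4, 2, 4, 8, 7, 7, 2, 8, 7, 2, 4, 5, 4, 4, 2, 7, 7, 8, 7] (sel (ones 4060) ip2 155) = true := by decide +kernel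

theorem rot2_155r : band (Rule.ok (2 * 2) EX RL ⟨2 :: [4, 5, 7, 2, 4, 4, 5, 7, 2, 4, 2, 4, 8, 7, 7, 2, 8, 7, 2, 4, 5, 4, 4, 2, 7, 7, 8, 7], [2], 17, false⟩) (lall (memL L) [4, 5, 7, 2, 4, 4, 5, 7, 2, 4, 2, 4, 8, 7, 7, 2, 8, 7, 2, 4, 5, 4, 4, 2, 7, 7, 8, 7]) = true := by decide +kernel

theorem rot2_156 : T.rot 2 [4, 8, 7, 7, 2, 8, 7, 2, 4, 4, 5, 7, 2, 4, 4, 5, 7, 8, 2, 4, 4, 5, 7, 2, 2, 4, 4, 5, 7, 2, 4, 5] (sel (ones 4060) ip2 156) = true := by decide +kernel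

theorem rot2_156r : band (Rule.ok (2 * 2) EX RL ⟨2 :: [4, 8, 7, 7, 2, 8, 7, 2, 4, 4, 5, 7, 2, 4, 4, 5, 7, 8, 2, 4, 4, 5, 7, 2, 2, 4, 4, 5, 7, 2, 4, 5], [7, 9], 14, true⟩) (lall (memL L) [4, 8, 7, 7, 2, 8, 7, 2, 4, 4, 5, 7, 2, 4, 4, 5, 7, 8, 2, 4, 4, 5, 7, 2, 2, 4, 4, 5, 7, 2, 4, 5]) = true := by decide +kernel

theorem rot2_157 : T.rot 2 [8, 7, 2, 4, 4, 5, 7, 2, 4, 4, 5, 7, 8, 2, 4, 4, 5, 7, 2, 2, 4, 4, 5, 7, 2, 4, 5, 2, 4, 8, 7, 7] (sel (ones 4060) ip2 157) = true := by decide +kernel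

theorem rot2_157r : band (Rule.ok (2 * 2) EX RL ⟨2 :: [8, 7, 2, 4, 4, 5, 7, 2, 4, 4, 5, 7, 8, 2, 4, 4, 5, 7, 2, 2, 4, 4, 5, 7, 2, 4, 5, 2, 4, 8, 7, 7], [7, 9, 2, 7, 8, 6, 6], 14, true⟩) (lall (memL L) [8, 7, 2, 4, 4, 5, 7, 2, 4, 4, 5, 7, 8, 2, 4, 4, 5, 7, 2, 2, 4, 4, 5, 7, 2, 4, 5, 2, 4, 8, 7, 7]) = true := by decide +kernel

theorem rot2_158 : T.rot 2 [4, 4, 5, 7, 2, 4, 4, 5, 7, 8, 2, 4, 4, 5, 7, 2, 2, 4, 4, 5, 7, 2, 4, 5, 2, 4, 8, 7, 7, 2, 8, 7] (sel (ones 4060) ip2 158) = true := by decide +kernel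

theorem rot2_158r : band (Rule.ok (2 * 2) EX RL ⟨2 :: [4, 4, 5, 7, 2, 4, 4, 5, 7, 8, 2, 4, 4, 5, 7, 2, 2, 4, 4, 5, 7, 2, 4, 5, 2, 4, 8, 7, 7, 2, 8, 7], [7, 9, 2, 7, 8, 6, 6, 2, 8, 6], 14, true⟩) (lall (memL L) [4, 4, 5, 7, 2, 4, 4, 5, 7, 8, 2, 4, 4, 5, 7, 2, 2, 4, 4, 5, 7, 2, 4, 5, 2, 4, 8, 7, 7, 2, 8, 7]) = true := by decide +kernel

theorem rot2_159 : T.rot 2 [4, 4, 5, 7, 8, 2, 4, 4, 5, 7, 2, 2, 4, 4, 5, 7, 2, 4, 5, 2, 4, 8, 7, 7, 2, 8, 7, 2, 4, 4, 5, 7] (sel (ones 4060) ip2 159) = true := by decide +kernel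

theorem rot2_159r : band (Rule.ok (2 * 2) EX RL ⟨2 :: [4, 4, 5, 7, 8, 2, 4, 4, 5, 7, 2, 2, 4, 4, 5, 7, 2, 4, 5, 2, 4, 8, 7, 7, 2, 8, 7, 2, 4, 4, 5, 7], [2, 7, 8, 6, 8, 6, 6, 2, 9, 7, 8, 6, 6, 2], 14, true⟩) (lall (memL L) [4, 4, 5, 7, 8, 2, 4, 4, 5, 7, 2, 2, 4, 4, 5, 7, 2, 4, 5, 2, 4, 8, 7, 7, 2, 8, 7, 2, 4, 4, 5, 7]) = true := by decide +kernel

theorem rot2_160 : T.rot 2 [4, 5, 2, 4, 8, 7, 7, 2, 8, 7, 2, 4, 4, 5, 7, 2, 4, 4, 5, 7, 8, 2, 4, 4, 5, 7, 2, 2, 4, 4, 5, 7] (sel (ones 4060) ip2 160) = true := by decide +kernel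

theorem rot2_160r : band (Rule.ok (2 * 2) EX RL ⟨2 :: [4, 5, 2, 4, 8, 7, 7, 2, 8, 7, 2, 4, 4, 5, 7, 2, 4, 4, 5, 7, 8, 2, 4, 4, 5, 7, 2, 2, 4, 4, 5, 7], [2], 14, true⟩) (lall (memL L) [4, 5, 2, 4, 8, 7, 7, 2, 8, 7, 2, 4, 4, 5, 7, 2, 4, 4, 5, 7, 8, 2, 4, 4, 5, 7, 2, 2, 4, 4, 5, 7]) = true := by decide +kernel

theorem rot2_161 : T.rot 2 [4, 8, 7, 7, 2, 2, 4, 8, 7, 7, 2, 5, 4, 8, 7, 7, 2, 4, 8, 7, 7, 2, 4, 5, 2, 4, 4, 5, 7, 2, 8, 7] (sel (ones 4060) ip2 161) = true := by decide +kernel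

theorem rot2_161r : band (Rule.ok (2 * 2) EX RL ⟨2 :: [4, 8, 7, 7, 2, 2, 4, 8, 7, 7, 2, 5, 4, 8, 7, 7, 2, 4, 8, 7, 7, 2, 4, 5, 2, 4, 4, 5, 7, 2, 8, 7], [], 14, false⟩) (lall (memL L) [4, 8, 7, 7, 2, 2, 4, 8, 7, 7, 2, 5, 4, 8, 7, 7, 2, 4, 8, 7, 7, 2, 4, 5, 2, 4, 4, 5, 7, 2, 8, 7]) = true := by decide +kernel

theorem rot2_162 : T.rot 2 [4, 8, 7, 7, 2, 4, 5, 2, 4, 4, 5, 7, 2, 8, 7, 2, 4, 8, 7, 7, 2, 2, 4, 8, 7, 7, 2, 5, 4, 8, 7, 7] (sel (ones 4060) ip2 162) = true := by decide +kernel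

theorem rot2_162r : band (Rule.ok (2 * 2) EX RL ⟨2 :: [4, 8, 7, 7, 2, 4, 5, 2, 4, 4, 5, 7, 2, 8, 7, 2, 4, 8, 7, 7, 2, 2, 4, 8, 7, 7, 2, 5, 4, 8, 7, 7], [2, 7, 8, 6, 8, 6, 6, 2, 9, 7, 8, 6, 6], 14, false⟩) (lall (memL L) [4, 8, 7, 7, 2, 4, 5, 2, 4, 4, 5, 7, 2, 8, 7, 2, 4, 8, 7, 7, 2, 2, 4, 8, 7, 7, 2, 5, 4, 8, 7, 7]) = true := by decide +kernel

theorem rot2_163 : T.rot 2 [4, 4, 5, 7, 2, 8, 7, 2, 4, 8, 7, 7, 2, 2, 4, 8, 7, 7, 2, 5, 4, 8, 7, 7, 2, 4, 8, 7, 7, 2, 4, 5] (sel (ones 4060) ip2 163) = true := by decide +kernel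

theorem rot2_163r : band (Rule.ok (2 * 2) EX RL ⟨2 :: [4, 4, 5, 7, 2, 8, 7, 2, 4, 8, 7, 7, 2, 2, 4, 8, 7, 7, 2, 5, 4, 8, 7, 7, 2, 4, 8, 7, 7, 2, 4, 5], [7, 9, 2, 7, 8, 6, 6, 2], 14, false⟩) (lall (memL L) [4, 4, 5, 7, 2, 8, 7, 2, 4, 8, 7, 7, 2, 2, 4, 8, 7, 7, 2, 5, 4, 8, 7, 7, 2, 4, 8, 7, 7, 2, 4, 5]) = true := by decide +kernel

theorem rot2_164 : T.rot 2 [8, 7, 2, 4, 8, 7, 7, 2, 2, 4, 8, 7, 7, 2, 5, 4, 8, 7, 7, 2, 4, 8, 7, 7, 2, 4, 5, 2, 4, 4, 5, 7] (sel (ones 4060) ip2 164) = true := by decide +kernel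

theorem rot2_164r : band (Rule.ok (2 * 2) EX RL ⟨2 :: [8, 7, 2, 4, 8, 7, 7, 2, 2, 4, 8, 7, 7, 2, 5, 4, 8, 7, 7, 2, 4, 8, 7, 7, 2, 4, 5, 2, 4, 4, 5, 7], [7, 9, 2], 14, false⟩) (lall (memL L) [8, 7, 2, 4, 8, 7, 7, 2, 2, 4, 8, 7, 7, 2, 5, 4, 8, 7, 7, 2, 4, 8, 7, 7, 2, 4, 5, 2, 4, 4, 5, 7]) = true := by decide +kernel

theorem rot2_165 : T.rot 2 [4, 4, 5, 7, 2, 4, 4, 5, 7, 2, 4, 4, 5, 7, 2, 8, 2, 4, 8, 7, 7, 2, 5, 5, 2, 4, 8, 7, 7, 2, 4, 8, 7, 7, 8] (sel (ones 4060) ip2 165) = true := by decide +kernel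

theorem rot2_165r : band (Rule.ok (2 * 2) EX RL ⟨2 :: [4, 4, 5, 7, 2, 4, 4, 5, 7, 2, 4, 4, 5, 7, 2, 8, 2, 4, 8, 7, 7, 2, 5, 5, 2, 4, 8, 7, 7, 2, 4, 8, 7, 7, 8], [7, 8, 6, 6, 8], 1, true⟩) (lall (memL L) [4, 4, 5, 7, 2, 4, 4, 5, 7, 2, 4, 4, 5, 7, 2, 8, 2, 4, 8, 7, 7, 2, 5, 5, 2, 4, 8, 7, 7, 2, 4, 8, 7, 7, 8]) = true := by decide +kernel

theorem rot2_166 : T.rot 2 [4, 4, 5, 7, 2, 5, 2, 4, 8, 7, 7, 2, 4, 8, 7, 7, 2, 4, 8, 7, 7, 2, 5, 4, 4, 5, 7, 2, 4, 4, 5, 7, 2, 8, 8] (sel (ones 4060) ip2 166) = true := by decide +kernel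

theorem rot2_166r : band (Rule.ok (2 * 2) EX RL ⟨2 :: [4, 4, 5, 7, 2, 5, 2, 4, 8, 7, 7, 2, 4, 8, 7, 7, 2, 4, 8, 7, 7, 2, 5, 4, 4, 5, 7, 2, 4, 4, 5, 7, 2, 8, 8], [2, 7, 7, 9, 6, 2, 8, 8], 1, false⟩) (lall (memL L) [4, 4, 5, 7, 2, 5, 2, 4, 8, 7, 7, 2, 4, 8, 7, 7, 2, 4, 8, 7, 7, 2, 5, 4, 4, 5, 7, 2, 4, 4, 5, 7, 2, 8, 8]) = true := by decide +kernel

theorem rot2_167 : T.rot 2 [4, 8, 7, 7, 2, 4, 8, 7, 7, 2, 4, 8, 7, 7, 2, 5, 4, 4, 5, 7, 2, 4, 4, 5, 7, 2, 8, 8, 2, 4, 4, 5, 7, 2, 5] (sel (ones 4060) ip2 167) = true := by decide +kernel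

theorem rot2_167r : band (Rule.ok (2 * 2) EX RL ⟨2 :: [4, 8, 7, 7, 2, 4, 8, 7, 7, 2, 4, 8, 7, 7, 2, 5, 4, 4, 5, 7, 2, 4, 4, 5, 7, 2, 8, 8, 2, 4, 4, 5, 7, 2, 5], [2, 7, 7, 9, 6, 2, 8, 8, 2, 7, 7, 9, 6, 2, 9], 1, false⟩) (lall (memL L) [4, 8, 7, 7, 2, 4, 8, 7, 7, 2, 4, 8, 7, 7, 2, 5, 4, 4, 5, 7, 2, 4, 4, 5, 7, 2, 8, 8, 2, 4, 4, 5, 7, 2, 5]) = true := by decide +kernel

theorem rot2_168 : T.rot 2 [5, 4, 4, 5, 7, 2, 4, 4, 5, 7, 2, 8, 8, 2, 4, 4, 5, 7, 2, 5, 2, 4, 8, 7, 7, 2, 4, 8, 7, 7, 2, 4, 8, 7, 7] (sel (ones 4060) ip2 168) = true := by decide +kernel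

theorem rot2_168r : band (Rule.ok (2 * 2) EX RL ⟨2 :: [5, 4, 4, 5, 7, 2, 4, 4, 5, 7, 2, 8, 8, 2, 4, 4, 5, 7, 2, 5, 2, 4, 8, 7, 7, 2, 4, 8, 7, 7, 2, 4, 8, 7, 7], [7, 8, 6, 6, 8, 2], 1, false⟩) (lall (memL L) [5, 4, 4, 5, 7, 2, 4, 4, 5, 7, 2, 8, 8, 2, 4, 4, 5, 7, 2, 5, 2, 4, 8, 7, 7, 2, 4, 8, 7, 7, 2, 4, 8, 7, 7]) = true := by decide +kernel

theorem rot2_169 : T.rot 2 [4, 4, 5, 7, 2, 4, 8, 7, 7, 8, 2, 4, 4, 5, 7, 2, 8, 2, 4, 4, 5, 7, 2, 4, 4, 5, 7, 8, 2, 4, 4, 5, 7, 2, 8] (sel (ones 4060) ip2 169) = true := by decide +kernel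

theorem rot2_169r : band (Rule.ok (2 * 2) EX RL ⟨2 :: [4, 4, 5, 7, 2, 4, 8, 7, 7, 8, 2, 4, 4, 5, 7, 2, 8, 2, 4, 4, 5, 7, 2, 4, 4, 5, 7, 8, 2, 4, 4, 5, 7, 2, 8], [8], 3, true⟩) (lall (memL L) [4, 4, 5, 7, 2, 4, 8, 7, 7, 8, 2, 4, 4, 5, 7, 2, 8, 2, 4, 4, 5, 7, 2, 4, 4, 5, 7, 8, 2, 4, 4, 5, 7, 2, 8]) = true := by decide +kernel

theorem rot2_170 : T.rot 2 [4, 8, 7, 7, 8, 2, 4, 4, 5, 7, 2, 8, 2, 4, 4, 5, 7, 2, 4, 4, 5, 7, 8, 2, 4, 4, 5, 7, 2, 8, 2, 4, 4, 5, 7] (sel (ones 4060) ip2 170) = true := by decide +kernel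

theorem rot2_170r : band (Rule.ok (2 * 2) EX RL ⟨2 :: [4, 8, 7, 7, 8, 2, 4, 4, 5, 7, 2, 8, 2, 4, 4, 5, 7, 2, 4, 4, 5, 7, 8, 2, 4, 4, 5, 7, 2, 8, 2, 4, 4, 5, 7], [8, 2, 7, 7, 9, 6], 3, true⟩) (lall (memL L) [4, 8, 7, 7, 8, 2, 4, 4, 5, 7, 2, 8, 2, 4, 4, 5, 7, 2, 4, 4, 5, 7, 8, 2, 4, 4, 5, 7, 2, 8, 2, 4, 4, 5, 7]) = true := by decide +kernel

theorem rot2_171 : T.rot 2 [4, 4, 5, 7, 2, 8, 2, 4, 4, 5, 7, 2, 4, 4, 5, 7, 8, 2, 4, 4, 5, 7, 2, 8, 2, 4, 4, 5, 7, 2, 4, 8, 7, 7, 8] (sel (ones 4060) ip2 171) = true := by decide +kernel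

theorem rot2_171r : band (Rule.ok (2 * 2) EX RL ⟨2 :: [4, 4, 5, 7, 2, 8, 2, 4, 4, 5, 7, 2, 4, 4, 5, 7, 8, 2, 4, 4, 5, 7, 2, 8, 2, 4, 4, 5, 7, 2, 4, 8, 7, 7, 8], [8, 2, 7, 7, 9, 6, 2, 7, 8, 6, 6, 8], 3, true⟩) (lall (memL L) [4, 4, 5, 7, 2, 8, 2, 4, 4, 5, 7, 2, 4, 4, 5, 7, 8, 2, 4, 4, 5, 7, 2, 8, 2, 4, 4, 5, 7, 2, 4, 8, 7, 7, 8]) = true := by decide +kernel

theorem rot2_172 : T.rot 2 [8, 2, 4, 4, 5, 7, 2, 4, 4, 5, 7, 8, 2, 4, 4, 5, 7, 2, 8, 2, 4, 4, 5, 7, 2, 4, 8, 7, 7, 8, 2, 4, 4, 5, 7] (sel (ones 4060) ip2 172) = true := by decide +kernel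

theorem rot2_172r : band (Rule.ok (2 * 2) EX RL ⟨2 :: [8, 2, 4, 4, 5, 7, 2, 4, 4, 5, 7, 8, 2, 4, 4, 5, 7, 2, 8, 2, 4, 4, 5, 7, 2, 4, 8, 7, 7, 8, 2, 4, 4, 5, 7], [8, 2, 7, 7, 9, 6, 2, 7, 8, 6, 6, 8, 2, 7, 7, 9, 6], 3, true⟩) (lall (memL L) [8, 2, 4, 4, 5, 7, 2, 4, 4, 5, 7, 8, 2, 4, 4, 5, 7, 2, 8, 2, 4, 4, 5, 7, 2, 4, 8, 7, 7, 8, 2, 4, 4, 5, 7]) = true := by decide +kernel

theorem rot2_173 : T.rot 2 [8, 2, 4, 4, 5, 7, 2, 4, 8, 7, 7, 8, 2, 4, 4, 5, 7, 2, 8, 2, 4, 4, 5, 7, 2, 4, 4, 5, 7, 8, 2, 4, 4, 5, 7] (sel (ones 4060) ip2 173) = true := by decide +kernel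

theorem rot2_173r : band (Rule.ok (2 * 2) EX RL ⟨2 :: [8, 2, 4, 4, 5, 7, 2, 4, 8, 7, 7, 8, 2, 4, 4, 5, 7, 2, 8, 2, 4, 4, 5, 7, 2, 4, 4, 5, 7, 8, 2, 4, 4, 5, 7], [2], 3, true⟩) (lall (memL L) [8, 2, 4, 4, 5, 7, 2, 4, 8, 7, 7, 8, 2, 4, 4, 5, 7, 2, 8, 2, 4, 4, 5, 7, 2, 4, 4, 5, 7, 8, 2, 4, 4, 5, 7]) = true := by decide +kernel

theorem rot2_174 : T.rot 2 [5, 4, 8, 7, 7, 2, 4, 8, 7, 7, 2, 5, 2, 4, 8, 7, 7, 2, 5, 4, 4, 5, 7, 2, 4, 8, 7, 7, 2, 5, 2, 4, 8, 7, 7] (sel (ones 4060) ip2 174) = true := by decide +kernel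

theorem rot2_174r : band (Rule.ok (2 * 2) EX RL ⟨2 :: [5, 4, 8, 7, 7, 2, 4, 8, 7, 7, 2, 5, 2, 4, 8, 7, 7, 2, 5, 4, 4, 5, 7, 2, 4, 8, 7, 7, 2, 5, 2, 4, 8, 7, 7], [2, 7, 8, 6, 6], 3, false⟩) (lall (memL L) [5, 4, 8, 7, 7, 2, 4, 8, 7, 7, 2, 5, 2, 4, 8, 7, 7, 2, 5, 4, 4, 5, 7, 2, 4, 8, 7, 7, 2, 5, 2, 4, 8, 7, 7]) = true := by decide +kernel

theorem rot2_175 : T.rot 2 [4, 8, 7, 7, 2, 5, 4, 4, 5, 7, 2, 4, 8, 7, 7, 2, 5, 2, 4, 8, 7, 7, 2, 5, 4, 8, 7, 7, 2, 4, 8, 7, 7, 2, 5] (sel (ones 4060) ip2 175) = true := by decide +kernel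

theorem rot2_175r : band (Rule.ok (2 * 2) EX RL ⟨2 :: [4, 8, 7, 7, 2, 5, 4, 4, 5, 7, 2, 4, 8, 7, 7, 2, 5, 2, 4, 8, 7, 7, 2, 5, 4, 8, 7, 7, 2, 4, 8, 7, 7, 2, 5], [8, 2, 7, 7, 9, 6, 2, 7, 8, 6, 6, 8, 2, 7, 7, 9, 6, 2], 3, false⟩) (lall (memL L) [4, 8, 7, 7, 2, 5, 4, 4, 5, 7, 2, 4, 8, 7, 7, 2, 5, 2, 4, 8, 7, 7, 2, 5, 4, 8, 7, 7, 2, 4, 8, 7, 7, 2, 5]) = true := by decide +kernel

theorem rot2_176 : T.rot 2 [5, 4, 4, 5, 7, 2, 4, 8, 7, 7, 2, 5, 2, 4, 8, 7, 7, 2, 5, 4, 8, 7, 7, 2, 4, 8, 7, 7, 2, 5, 2, 4, 8, 7, 7] (sel (ones 4060) ip2 176) = true := by decide +kernel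

theorem rot2_176r : band (Rule.ok (2 * 2) EX RL ⟨2 :: [5, 4, 4, 5, 7, 2, 4, 8, 7, 7, 2, 5, 2, 4, 8, 7, 7, 2, 5, 4, 8, 7, 7, 2, 4, 8, 7, 7, 2, 5, 2, 4, 8, 7, 7], [8, 2, 7, 7, 9, 6, 2, 7, 8, 6, 6, 8, 2], 3, false⟩) (lall (memL L) [5, 4, 4, 5, 7, 2, 4, 8, 7, 7, 2, 5, 2, 4, 8, 7, 7, 2, 5, 4, 8, 7, 7, 2, 4, 8, 7, 7, 2, 5, 2, 4, 8, 7, 7]) = true := by decide +kernel

theorem rot2_177 : T.rot 2 [4, 8, 7, 7, 2, 5, 2, 4, 8, 7, 7, 2, 5, 4, 8, 7, 7, 2, 4, 8, 7, 7, 2, 5, 2, 4, 8, 7, 7, 2, 5, 4, 4, 5, 7] (sel (ones 4060) ip2 177) = true := by decide +kernel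

theorem rot2_177r : band (Rule.ok (2 * 2) EX RL ⟨2 :: [4, 8, 7, 7, 2, 5, 2, 4, 8, 7, 7, 2, 5, 4, 8, 7, 7, 2, 4, 8, 7, 7, 2, 5, 2, 4, 8, 7, 7, 2, 5, 4, 4, 5, 7], [8, 2, 7, 7, 9, 6, 2], 3, false⟩) (lall (memL L) [4, 8, 7, 7, 2, 5, 2, 4, 8, 7, 7, 2, 5, 4, 8, 7, 7, 2, 4, 8, 7, 7, 2, 5, 2, 4, 8, 7, 7, 2, 5, 4, 4, 5, 7]) = true := by decide +kernel

theorem rot2_178 : T.rot 2 [5, 2, 4, 8, 7, 7, 2, 5, 4, 8, 7, 7, 2, 4, 8, 7, 7, 2, 5, 2, 4, 8, 7, 7, 2, 5, 4, 4, 5, 7, 2, 4, 8, 7, 7] (sel (ones 4060) ip2 178) = true := by decide +kernel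

theorem rot2_178r : band (Rule.ok (2 * 2) EX RL ⟨2 :: [5, 2, 4, 8, 7, 7, 2, 5, 4, 8, 7, 7, 2, 4, 8, 7, 7, 2, 5, 2, 4, 8, 7, 7, 2, 5, 4, 4, 5, 7, 2, 4, 8, 7, 7], [8, 2], 3, false⟩) (lall (memL L) [5, 2, 4, 8, 7, 7, 2, 5, 4, 8, 7, 7, 2, 4, 8, 7, 7, 2, 5, 2, 4, 8, 7, 7, 2, 5, 4, 4, 5, 7, 2, 4, 8, 7, 7]) = true := by decide +kernel

theorem rot2_179 : T.rot 2 [4, 8, 7, 7, 2, 8, 2, 4, 4, 5, 7, 2, 2, 4, 4, 5, 7, 2, 8, 4, 8, 7, 7, 4, 8, 7, 7, 8, 2, 4, 4, 5, 7, 2, 5] (sel (ones 4060) ip2 179) = true := by decide +kernel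

theorem rot2_179r : band (Rule.ok (2 * 2) EX RL ⟨2 :: [4, 8, 7, 7, 2, 8, 2, 4, 4, 5, 7, 2, 2, 4, 4, 5, 7, 2, 8, 4, 8, 7, 7, 4, 8, 7, 7, 8, 2, 4, 4, 5, 7, 2, 5], [7, 8, 6, 8, 6, 6, 8, 2, 7, 7, 9, 6, 2, 9], 4, true⟩) (lall (memL L) [4, 8, 7, 7, 2, 8, 2, 4, 4, 5, 7, 2, 2, 4, 4, 5, 7, 2, 8, 4, 8, 7, 7, 4, 8, 7, 7, 8, 2, 4, 4, 5, 7, 2, 5]) = true := by decide +kernel

theorem rot2_180 : T.rot 2 [8, 2, 4, 4, 5, 7, 2, 2, 4, 4, 5, 7, 2, 8, 4, 8, 7, 7, 4, 8, 7, 7, 8, 2, 4, 4, 5, 7, 2, 5, 2, 4, 8, 7, 7] (sel (ones 4060) ip2 180) = true := by decide +kernel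

theorem rot2_180r : band (Rule.ok (2 * 2) EX RL ⟨2 :: [8, 2, 4, 4, 5, 7, 2, 2, 4, 4, 5, 7, 2, 8, 4, 8, 7, 7, 4, 8, 7, 7, 8, 2, 4, 4, 5, 7, 2, 5, 2, 4, 8, 7, 7], [9, 2, 7, 8, 6, 8, 6, 6, 2, 9, 2], 4, true⟩) (lall (memL L) [8, 2, 4, 4, 5, 7, 2, 2, 4, 4, 5, 7, 2, 8, 4, 8, 7, 7, 4, 8, 7, 7, 8, 2, 4, 4, 5, 7, 2, 5, 2, 4, 8, 7, 7]) = true := by decide +kernel

theorem rot2_181 : T.rot 2 [4, 4, 5, 7, 2, 8, 2, 4, 8, 7, 7, 2, 5, 4, 4, 5, 7, 4, 4, 5, 7, 5, 2, 4, 8, 7, 7, 2, 2, 4, 8, 7, 7, 2, 5] (sel (ones 4060) ip2 181) = true := by decide +kernel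

theorem rot2_181r : band (Rule.ok (2 * 2) EX RL ⟨2 :: [4, 4, 5, 7, 2, 8, 2, 4, 8, 7, 7, 2, 5, 4, 4, 5, 7, 4, 4, 5, 7, 5, 2, 4, 8, 7, 7, 2, 2, 4, 8, 7, 7, 2, 5], [9, 2, 7, 8, 6, 8, 6, 6, 2, 9], 4, false⟩) (lall (memL L) [4, 4, 5, 7, 2, 8, 2, 4, 8, 7, 7, 2, 5, 4, 4, 5, 7, 4, 4, 5, 7, 5, 2, 4, 8, 7, 7, 2, 2, 4, 8, 7, 7, 2, 5]) = true := by decide +kernel

theorem rot2_182 : T.rot 2 [8, 2, 4, 8, 7, 7, 2, 5, 4, 4, 5, 7, 4, 4, 5, 7, 5, 2, 4, 8, 7, 7, 2, 2, 4, 8, 7, 7, 2, 5, 2, 4, 4, 5, 7] (sel (ones 4060) ip2 182) = true := by decide +kernel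

theorem rot2_182r : band (Rule.ok (2 * 2) EX RL ⟨2 :: [8, 2, 4, 8, 7, 7, 2, 5, 4, 4, 5, 7, 4, 4, 5, 7, 5, 2, 4, 8, 7, 7, 2, 2, 4, 8, 7, 7, 2, 5, 2, 4, 4, 5, 7], [7, 8, 6, 8, 6, 6, 8, 2, 7, 7, 9, 6, 2, 9, 2], 4, false⟩) (lall (memL L) [8, 2, 4, 8, 7, 7, 2, 5, 4, 4, 5, 7, 4, 4, 5, 7, 5, 2, 4, 8, 7, 7, 2, 2, 4, 8, 7, 7, 2, 5, 2, 4, 4, 5, 7]) = true := by decide +kernel

theorem rot2_183 : T.rot 2 [4, 8, 7, 7, 2, 5, 4, 4, 5, 7, 4, 4, 5, 7, 5, 2, 4, 8, 7, 7, 2, 2, 4, 8, 7, 7, 2, 5, 2, 4, 4, 5, 7, 2, 8] (sel (ones 4060) ip2 183) = true := by decide +kernel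

theorem rot2_183r : band (Rule.ok (2 * 2) EX RL ⟨2 :: [4, 8, 7, 7, 2, 5, 4, 4, 5, 7, 4, 4, 5, 7, 5, 2, 4, 8, 7, 7, 2, 2, 4, 8, 7, 7, 2, 5, 2, 4, 4, 5, 7, 2, 8], [7, 8, 6, 8, 6, 6, 8, 2, 7, 7, 9, 6, 2], 4, false⟩) (lall (memL L) [4, 8, 7, 7, 2, 5, 4, 4, 5, 7, 4, 4, 5, 7, 5, 2, 4, 8, 7, 7, 2, 2, 4, 8, 7, 7, 2, 5, 2, 4, 4, 5, 7, 2, 8]) = true := by decide +kernel

theorem rot2_184 : T.rot 2 [4, 8, 7, 7, 2, 8, 5, 2, 4, 8, 7, 7, 2, 2, 4, 8, 7, 7, 2, 5, 5, 2, 4, 8, 7, 7, 2, 4, 4, 5, 7, 5, 5, 4, 8, 7, 7] (sel (ones 4060) ip2 184) = true := by decide +kernel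

theorem rot2_184r : band (Rule.ok (2 * 2) EX RL ⟨2 :: [4, 8, 7, 7, 2, 8, 5, 2, 4, 8, 7, 7, 2, 2, 4, 8, 7, 7, 2, 5, 5, 2, 4, 8, 7, 7, 2, 4, 4, 5, 7, 5, 5, 4, 8, 7, 7], [9, 9, 7, 8, 6, 6], 10, true⟩) (lall (memL L) [4, 8, 7, 7, 2, 8, 5, 2, 4, 8, 7, 7, 2, 2, 4, 8, 7, 7, 2, 5, 5, 2, 4, 8, 7, 7, 2, 4, 4, 5, 7, 5, 5, 4, 8, 7, 7]) = true := by decide +kernel

theorem rot2_185 : T.rot 2 [4, 8, 7, 7, 2, 4, 4, 5, 7, 5, 5, 4, 8, 7, 7, 2, 4, 8, 7, 7, 2, 8, 5, 2, 4, 8, 7, 7, 2, 2, 4, 8, 7, 7, 2, 5, 5] (sel (ones 4060) ip2 185) = true := by decide +kernel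

theorem rot2_185r : band (Rule.ok (2 * 2) EX RL ⟨2 :: [4, 8, 7, 7, 2, 4, 4, 5, 7, 5, 5, 4, 8, 7, 7, 2, 4, 8, 7, 7, 2, 8, 5, 2, 4, 8, 7, 7, 2, 2, 4, 8, 7, 7, 2, 5, 5], [7, 8, 6, 6, 2, 7, 7, 9, 6, 2], 10, true⟩) (lall (memL L) [4, 8, 7, 7, 2, 4, 4, 5, 7, 5, 5, 4, 8, 7, 7, 2, 4, 8, 7, 7, 2, 8, 5, 2, 4, 8, 7, 7, 2, 2, 4, 8, 7, 7, 2, 5, 5]) = true := by decide +kernel

theorem rot2_186 : T.rot 2 [8, 8, 2, 4, 4, 5, 7, 2, 2, 4, 4, 5, 7, 2, 8, 5, 2, 4, 4, 5, 7, 2, 4, 4, 5, 7, 8, 8, 4, 8, 7, 7, 2, 4, 4, 5, 7] (sel (ones 4060) ip2 186) = true := by decide +kernel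

theorem rot2_186r : band (Rule.ok (2 * 2) EX RL ⟨2 :: [8, 8, 2, 4, 4, 5, 7, 2, 2, 4, 4, 5, 7, 2, 8, 5, 2, 4, 4, 5, 7, 2, 4, 4, 5, 7, 8, 8, 4, 8, 7, 7, 2, 4, 4, 5, 7], [7, 8, 6, 6, 2, 7, 7, 9, 6], 10, false⟩) (lall (memL L) [8, 8, 2, 4, 4, 5, 7, 2, 2, 4, 4, 5, 7, 2, 8, 5, 2, 4, 4, 5, 7, 2, 4, 4, 5, 7, 8, 8, 4, 8, 7, 7, 2, 4, 4, 5, 7]) = true := by decide +kernel

theorem rot2_187 : T.rot 2 [4, 4, 5, 7, 2, 8, 2, 4, 4, 5, 7, 2, 2, 4, 4, 5, 7, 2, 8, 2, 4, 8, 7, 7, 2, 5, 2, 4, 8, 7, 7, 2, 5, 5, 2, 4, 8, 7, 7, 2, 8] (sel (ones 4060) ip2 187) = true := by decide +kernel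

theorem rot2_187r : band (Rule.ok (2 * 2) EX RL ⟨2 :: [4, 4, 5, 7, 2, 8, 2, 4, 4, 5, 7, 2, 2, 4, 4, 5, 7, 2, 8, 2, 4, 8, 7, 7, 2, 5, 2, 4, 8, 7, 7, 2, 5, 5, 2, 4, 8, 7, 7, 2, 8], [8], 2, true⟩) (lall (memL L) [4, 4, 5, 7, 2, 8, 2, 4, 4, 5, 7, 2, 2, 4, 4, 5, 7, 2, 8, 2, 4, 8, 7, 7, 2, 5, 2, 4, 8, 7, 7, 2, 5, 5, 2, 4, 8, 7, 7, 2, 8]) = true := by decide +kernel

theorem rot2_188 : T.rot 2 [8, 2, 4, 4, 5, 7, 2, 2, 4, 4, 5, 7, 2, 8, 2, 4, 8, 7, 7, 2, 5, 2, 4, 8, 7, 7, 2, 5, 5, 2, 4, 8, 7, 7, 2, 8, 2, 4, 4, 5, 7] (sel (ones 4060) ip2 188) = true := by decide +kernel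

theorem rot2_188r : band (Rule.ok (2 * 2) EX RL ⟨2 :: [8, 2, 4, 4, 5, 7, 2, 2, 4, 4, 5, 7, 2, 8, 2, 4, 8, 7, 7, 2, 5, 2, 4, 8, 7, 7, 2, 5, 5, 2, 4, 8, 7, 7, 2, 8, 2, 4, 4, 5, 7], [8, 2, 7, 7, 9, 6], 2, true⟩) (lall (memL L) [8, 2, 4, 4, 5, 7, 2, 2, 4, 4, 5, 7, 2, 8, 2, 4, 8, 7, 7, 2, 5, 2, 4, 8, 7, 7, 2, 5, 5, 2, 4, 8, 7, 7, 2, 8, 2, 4, 4, 5, 7]) = true := by decide +kernel

theorem rot2_189 : T.rot 2 [8, 2, 4, 8, 7, 7, 2, 5, 2, 4, 8, 7, 7, 2, 5, 5, 2, 4, 8, 7, 7, 2, 8, 2, 4, 4, 5, 7, 2, 8, 2, 4, 4, 5, 7, 2, 2, 4, 4, 5, 7] (sel (ones 4060) ip2 189) = true := by decide +kernel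

theorem rot2_189r : band (Rule.ok (2 * 2) EX RL ⟨2 :: [8, 2, 4, 8, 7, 7, 2, 5, 2, 4, 8, 7, 7, 2, 5, 5, 2, 4, 8, 7, 7, 2, 8, 2, 4, 4, 5, 7, 2, 8, 2, 4, 4, 5, 7, 2, 2, 4, 4, 5, 7], [8, 2, 7, 7, 9, 6, 2, 8, 2, 7, 7, 9, 7, 9, 6], 2, true⟩) (lall (memL L) [8, 2, 4, 8, 7, 7, 2, 5, 2, 4, 8, 7, 7, 2, 5, 5, 2, 4, 8, 7, 7, 2, 8, 2, 4, 4, 5, 7, 2, 8, 2, 4, 4, 5, 7, 2, 2, 4, 4, 5, 7]) = true := by decide +kernel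

theorem rot2_190 : T.rot 2 [4, 8, 7, 7, 2, 5, 5, 2, 4, 8, 7, 7, 2, 8, 2, 4, 4, 5, 7, 2, 8, 2, 4, 4, 5, 7, 2, 2, 4, 4, 5, 7, 2, 8, 2, 4, 8, 7, 7, 2, 5] (sel (ones 4060) ip2 190) = true := by decide +kernel

theorem rot2_190r : band (Rule.ok (2 * 2) EX RL ⟨2 :: [4, 8, 7, 7, 2, 5, 5, 2, 4, 8, 7, 7, 2, 8, 2, 4, 4, 5, 7, 2, 8, 2, 4, 4, 5, 7, 2, 2, 4, 4, 5, 7, 2, 8, 2, 4, 8, 7, 7, 2, 5], [2, 7, 7, 9, 6, 2, 8, 8, 2, 7, 7, 9, 6, 2], 2, true⟩) (lall (memL L) [4, 8, 7, 7, 2, 5, 5, 2, 4, 8, 7, 7, 2, 8, 2, 4, 4, 5, 7, 2, 8, 2, 4, 4, 5, 7, 2, 2, 4, 4, 5, 7, 2, 8, 2, 4, 8, 7, 7, 2, 5]) = true := by decide +kernel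

theorem rot2_191 : T.rot 2 [4, 8, 7, 7, 2, 8, 2, 4, 4, 5, 7, 2, 8, 2, 4, 4, 5, 7, 2, 2, 4, 4, 5, 7, 2, 8, 2, 4, 8, 7, 7, 2, 5, 2, 4, 8, 7, 7, 2, 5, 5] (sel (ones 4060) ip2 191) = true := by decide +kernel

theorem rot2_191r : band (Rule.ok (2 * 2) EX RL ⟨2 :: [4, 8, 7, 7, 2, 8, 2, 4, 4, 5, 7, 2, 8, 2, 4, 4, 5, 7, 2, 2, 4, 4, 5, 7, 2, 8, 2, 4, 8, 7, 7, 2, 5, 2, 4, 8, 7, 7, 2, 5, 5], [2, 7, 7, 9, 6, 2], 2, true⟩) (lall (memL L) [4, 8, 7, 7, 2, 8, 2, 4, 4, 5, 7, 2, 8, 2, 4, 4, 5, 7, 2, 2, 4, 4, 5, 7, 2, 8, 2, 4, 8, 7, 7, 2, 5, 2, 4, 8, 7, 7, 2, 5, 5]) = true := by decide +kernel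

theorem rot2_192 : T.rot 2 [8, 2, 4, 4, 5, 7, 2, 5, 2, 4, 8, 7, 7, 2, 2, 4, 8, 7, 7, 2, 5, 2, 4, 8, 7, 7, 2, 5, 2, 4, 4, 5, 7, 2, 8, 8, 2, 4, 4, 5, 7] (sel (ones 4060) ip2 192) = true := by decide +kernel

theorem rot2_192r : band (Rule.ok (2 * 2) EX RL ⟨2 :: [8, 2, 4, 4, 5, 7, 2, 5, 2, 4, 8, 7, 7, 2, 2, 4, 8, 7, 7, 2, 5, 2, 4, 8, 7, 7, 2, 5, 2, 4, 4, 5, 7, 2, 8, 8, 2, 4, 4, 5, 7], [2, 7, 7, 9, 6, 2, 8, 8, 2, 7, 7, 9, 6], 2, false⟩) (lall (memL L) [8, 2, 4, 4, 5, 7, 2, 5, 2, 4, 8, 7, 7, 2, 2, 4, 8, 7, 7, 2, 5, 2, 4, 8, 7, 7, 2, 5, 2, 4, 4, 5, 7, 2, 8, 8, 2, 4, 4, 5, 7]) = true := by decide +kernel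

theorem rot2_193 : T.rot 2 [4, 4, 5, 7, 2, 5, 2, 4, 8, 7, 7, 2, 2, 4, 8, 7, 7, 2, 5, 2, 4, 8, 7, 7, 2, 5, 2, 4, 4, 5, 7, 2, 8, 8, 2, 4, 4, 5, 7, 2, 8] (sel (ones 4060) ip2 193) = true := by decide +kernel

theorem rot2_193r : band (Rule.ok (2 * 2) EX RL ⟨2 :: [4, 4, 5, 7, 2, 5, 2, 4, 8, 7, 7, 2, 2, 4, 8, 7, 7, 2, 5, 2, 4, 8, 7, 7, 2, 5, 2, 4, 4, 5, 7, 2, 8, 8, 2, 4, 4, 5, 7, 2, 8], [2, 7, 7, 9, 6, 2, 8, 8, 2, 7, 7, 9, 6, 2, 8], 2, false⟩) (lall (memL L) [4, 4, 5, 7, 2, 5, 2, 4, 8, 7, 7, 2, 2, 4, 8, 7, 7, 2, 5, 2, 4, 8, 7, 7, 2, 5, 2, 4, 4, 5, 7, 2, 8, 8, 2, 4, 4, 5, 7, 2, 8]) = true := by decide +kernel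

theorem rot2_194 : T.rot 2 [5, 2, 4, 8, 7, 7, 2, 5, 2, 4, 4, 5, 7, 2, 8, 8, 2, 4, 4, 5, 7, 2, 8, 2, 4, 4, 5, 7, 2, 5, 2, 4, 8, 7, 7, 2, 2, 4, 8, 7, 7] (sel (ones 4060) ip2 194) = true := by decide +kernel

theorem rot2_194r : band (Rule.ok (2 * 2) EX RL ⟨2 :: [5, 2, 4, 8, 7, 7, 2, 5, 2, 4, 4, 5, 7, 2, 8, 8, 2, 4, 4, 5, 7, 2, 8, 2, 4, 4, 5, 7, 2, 5, 2, 4, 8, 7, 7, 2, 2, 4, 8, 7, 7], [8, 2, 7, 7, 9, 6, 2, 8, 2], 2, false⟩) (lall (memL L) [5, 2, 4, 8, 7, 7, 2, 5, 2, 4, 4, 5, 7, 2, 8, 8, 2, 4, 4, 5, 7, 2, 8, 2, 4, 4, 5, 7, 2, 5, 2, 4, 8, 7, 7, 2, 2, 4, 8, 7, 7]) = true := by decide +kernel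

theorem rot2_195 : T.rot 2 [5, 2, 4, 4, 5, 7, 2, 8, 8, 2, 4, 4, 5, 7, 2, 8, 2, 4, 4, 5, 7, 2, 5, 2, 4, 8, 7, 7, 2, 2, 4, 8, 7, 7, 2, 5, 2, 4, 8, 7, 7] (sel (ones 4060) ip2 195) = true := by decide +kernel

theorem rot2_195r : band (Rule.ok (2 * 2) EX RL ⟨2 :: [5, 2, 4, 4, 5, 7, 2, 8, 8, 2, 4, 4, 5, 7, 2, 8, 2, 4, 4, 5, 7, 2, 5, 2, 4, 8, 7, 7, 2, 2, 4, 8, 7, 7, 2, 5, 2, 4, 8, 7, 7], [8, 2], 2, false⟩) (lall (memL L) [5, 2, 4, 4, 5, 7, 2, 8, 8, 2, 4, 4, 5, 7, 2, 8, 2, 4, 4, 5, 7, 2, 5, 2, 4, 8, 7, 7, 2, 2, 4, 8, 7, 7, 2, 5, 2, 4, 8, 7, 7]) = true := by decide +kernel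

theorem rot2_196 : T.rot 2 [8, 2, 4, 4, 5, 7, 2, 8, 4, 8, 7, 7, 2, 4, 4, 5, 7, 2, 8, 4, 8, 7, 7, 4, 8, 7, 7, 2, 4, 4, 5, 7, 2, 8, 4, 8, 7, 7, 2, 4, 4, 5, 7] (sel (ones 4060) ip2 196) = true := by decide +kernel

theorem rot2_196r : band (Rule.ok (2 * 2) EX RL ⟨2 :: [8, 2, 4, 4, 5, 7, 2, 8, 4, 8, 7, 7, 2, 4, 4, 5, 7, 2, 8, 4, 8, 7, 7, 4, 8, 7, 7, 2, 4, 4, 5, 7, 2, 8, 4, 8, 7, 7, 2, 4, 4, 5, 7], [9, 2, 7, 8, 6, 6, 2, 7, 7, 9, 6, 9, 2, 7, 8, 6, 6, 2, 9, 2], 6, true⟩) (lall (memL L) [8, 2, 4, 4, 5, 7, 2, 8, 4, 8, 7, 7, 2, 4, 4, 5, 7, 2, 8, 4, 8, 7, 7, 4, 8, 7, 7, 2, 4, 4, 5, 7, 2, 8, 4, 8, 7, 7, 2, 4, 4, 5, 7]) = true := by decide +kernel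

theorem rot2_197 : T.rot 2 [8, 4, 8, 7, 7, 4, 8, 7, 7, 2, 4, 4, 5, 7, 2, 8, 4, 8, 7, 7, 2, 4, 4, 5, 7, 2, 8, 2, 4, 4, 5, 7, 2, 8, 4, 8, 7, 7, 2, 4, 4, 5, 7] (sel (ones 4060) ip2 197) = true := by decide +kernel

theorem rot2_197r : band (Rule.ok (2 * 2) EX RL ⟨2 :: [8, 4, 8, 7, 7, 4, 8, 7, 7, 2, 4, 4, 5, 7, 2, 8, 4, 8, 7, 7, 2, 4, 4, 5, 7, 2, 8, 2, 4, 4, 5, 7, 2, 8, 4, 8, 7, 7, 2, 4, 4, 5, 7], [9, 2], 6, true⟩) (lall (memL L) [8, 4, 8, 7, 7, 4, 8, 7, 7, 2, 4, 4, 5, 7, 2, 8, 4, 8, 7, 7, 2, 4, 4, 5, 7, 2, 8, 2, 4, 4, 5, 7, 2, 8, 4, 8, 7, 7, 2, 4, 4, 5, 7]) = true := by decide +kernel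

theorem rot2_198 : T.rot 2 [4, 8, 7, 7, 2, 5, 2, 4, 8, 7, 7, 2, 4, 4, 5, 7, 5, 2, 4, 8, 7, 7, 2, 4, 4, 5, 7, 4, 4, 5, 7, 5, 2, 4, 8, 7, 7, 2, 4, 4, 5, 7, 5] (sel (ones 4060) ip2 198) = true := by decide +kernel

theorem rot2_198r : band (Rule.ok (2 * 2) EX RL ⟨2 :: [4, 8, 7, 7, 2, 5, 2, 4, 8, 7, 7, 2, 4, 4, 5, 7, 5, 2, 4, 8, 7, 7, 2, 4, 4, 5, 7, 4, 4, 5, 7, 5, 2, 4, 8, 7, 7, 2, 4, 4, 5, 7, 5], [9, 2, 7, 8, 6, 6, 2, 7, 7, 9, 6, 9], 6, false⟩) (lall (memL L) [4, 8, 7, 7, 2, 5, 2, 4, 8, 7, 7, 2, 4, 4, 5, 7, 5, 2, 4, 8, 7, 7, 2, 4, 4, 5, 7, 4, 4, 5, 7, 5, 2, 4, 8, 7, 7, 2, 4, 4, 5, 7, 5]) = true := by decide +kernel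

theorem rot2_199 : T.rot 2 [4, 8, 7, 7, 2, 4, 4, 5, 7, 5, 2, 4, 8, 7, 7, 2, 4, 4, 5, 7, 4, 4, 5, 7, 5, 2, 4, 8, 7, 7, 2, 4, 4, 5, 7, 5, 2, 4, 8, 7, 7, 2, 5] (sel (ones 4060) ip2 199) = true := by decide +kernel

theorem rot2_199r : band (Rule.ok (2 * 2) EX RL ⟨2 :: [4, 8, 7, 7, 2, 4, 4, 5, 7, 5, 2, 4, 8, 7, 7, 2, 4, 4, 5, 7, 4, 4, 5, 7, 5, 2, 4, 8, 7, 7, 2, 4, 4, 5, 7, 5, 2, 4, 8, 7, 7, 2, 5], [9, 2, 7, 8, 6, 6, 2, 7, 7, 9, 6, 9, 2, 7, 8, 6, 6, 2, 9], 6, false⟩) (lall (memL L) [4, 8, 7, 7, 2, 4, 4, 5, 7, 5, 2, 4, 8, 7, 7, 2, 4, 4, 5, 7, 4, 4, 5, 7, 5, 2, 4, 8, 7, 7, 2, 4, 4, 5, 7, 5, 2, 4, 8, 7, 7, 2, 5]) = true := by decide +kernel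

theorem rot2_200 : T.rot 2 [4, 8, 7, 7, 2, 4, 4, 5, 7, 4, 4, 5, 7, 5, 2, 4, 8, 7, 7, 2, 4, 4, 5, 7, 5, 2, 4, 8, 7, 7, 2, 5, 2, 4, 8, 7, 7, 2, 4, 4, 5, 7, 5] (sel (ones 4060) ip2 200) = true := by decide +kernel

theorem rot2_200r : band (Rule.ok (2 * 2) EX RL ⟨2 :: [4, 8, 7, 7, 2, 4, 4, 5, 7, 4, 4, 5, 7, 5, 2, 4, 8, 7, 7, 2, 4, 4, 5, 7, 5, 2, 4, 8, 7, 7, 2, 5, 2, 4, 8, 7, 7, 2, 4, 4, 5, 7, 5], [7, 8, 6, 8, 6, 6, 2, 7, 7, 9, 6, 2], 6, false⟩) (lall (memL L) [4, 8, 7, 7, 2, 4, 4, 5, 7, 4, 4, 5, 7, 5, 2, 4, 8, 7, 7, 2, 4, 4, 5, 7, 5, 2, 4, 8, 7, 7, 2, 5, 2, 4, 8, 7, 7, 2, 4, 4, 5, 7, 5]) = true := by decide +kernel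

theorem rot2_201 : T.rot 2 [4, 4, 5, 7, 4, 4, 5, 7, 5, 2, 4, 8, 7, 7, 2, 4, 4, 5, 7, 5, 2, 4, 8, 7, 7, 2, 5, 2, 4, 8, 7, 7, 2, 4, 4, 5, 7, 5, 2, 4, 8, 7, 7] (sel (ones 4060) ip2 201) = true := by decide +kernel

theorem rot2_201r : band (Rule.ok (2 * 2) EX RL ⟨2 :: [4, 4, 5, 7, 4, 4, 5, 7, 5, 2, 4, 8, 7, 7, 2, 4, 4, 5, 7, 5, 2, 4, 8, 7, 7, 2, 5, 2, 4, 8, 7, 7, 2, 4, 4, 5, 7, 5, 2, 4, 8, 7, 7], [7, 8, 6, 8, 6, 6, 2], 6, false⟩) (lall (memL L) [4, 4, 5, 7, 4, 4, 5, 7, 5, 2, 4, 8, 7, 7, 2, 4, 4, 5, 7, 5, 2, 4, 8, 7, 7, 2, 5, 2, 4, 8, 7, 7, 2, 4, 4, 5, 7, 5, 2, 4, 8, 7, 7]) = true := by decide +kernel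

theorem rot2_202 : T.rot 2 [8, 4, 8, 7, 7, 2, 4, 4, 5, 7, 2, 8, 4, 8, 7, 7, 2, 4, 4, 5, 7, 2, 8, 4, 8, 7, 7, 2, 4, 4, 5, 7, 2, 8, 4, 8, 7, 7, 2, 4, 4, 5, 7] (sel (ones 4060) ip2 202) = true := by decide +kernel

theorem rot2_202r : band (Rule.ok (2 * 2) EX RL ⟨2 :: [8, 4, 8, 7, 7, 2, 4, 4, 5, 7, 2, 8, 4, 8, 7, 7, 2, 4, 4, 5, 7, 2, 8, 4, 8, 7, 7, 2, 4, 4, 5, 7, 2, 8, 4, 8, 7, 7, 2, 4, 4, 5, 7], [9, 2], 7, true⟩) (lall (memL L) [8, 4, 8, 7, 7, 2, 4, 4, 5, 7, 2, 8, 4, 8, 7, 7, 2, 4, 4, 5, 7, 2, 8, 4, 8, 7, 7, 2, 4, 4, 5, 7, 2, 8, 4, 8, 7, 7, 2, 4, 4, 5, 7]) = true := by decide +kernel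

theorem cov2 : T.cover 2 [(sel (ones 4060) ip2 1), (sel (ones 4060) ip2 2), (sel (ones 4060) ip2 3), (sel (ones 4060) ip2 4), (sel (ones 4060) ip2 5), (sel (ones 4060) ip2 6), (sel (ones 4060) ip2 7), (sel (ones 4060) ip2 8), (sel (ones 4060) ip2 9), (sel (ones 4060) ip2 10), (sel (ones 4060) ip2 11), (sel (ones 4060) ip2 12), (sel (ones 4060) ip2 13), (sel (ones 4060) ip2 14), (sel (ones 4060) ip2 15), (sel (ones 4060) ip2 16), (sel (ones 4060) ip2 17), (sel (ones 4060) ip2 18), (sel (ones 4060) ip2 19), (sel (ones 4060) ip2 20), (sel (ones 4060) ip2 21), (sel (ones 4060) ip2 22), (sel (ones 4060) ip2 23), (sel (ones 4060) ip2 24), (sel (ones 4060) ip2 25), (sel (ones 4060) ip2 26), (sel (ones 4060) ip2 27), (sel (ones 4060) ip2 28), (sel (ones 4060) ip2 29), (sel (ones 4060)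 ip2 30), (sel (ones 4060) ip2 31), (sel (ones 4060) ip2 32), (sel (ones 4060) ip2 33), (sel (ones 4060) ip2 34), (sel (ones 4060) ip2 35), (sel (ones 4060) ip2 36), (sel (ones 4060) ip2 37), (sel (ones 4060) ip2 38), (sel (ones 4060) ip2 39), (sel (ones 4060) ip2 40), (sel (ones 4060) ip2 41), (sel (ones 4060) ip2 42), (sel (ones 4060) ip2 43), (sel (ones 4060) ip2 44), (sel (ones 4060) ip2 45), (sel (ones 4060) ip2 46), (sel (ones 4060) ip2 47), (sel (ones 4060) ip2 48), (sel (ones 4060) ip2 49), (sel (ones 4060) ip2 50), (sel (ones 4060) ip2 51), (sel (ones 4060) ip2 52), (sel (ones 4060) ip2 53), (sel (ones 4060) ip2 54), (sel (ones 4060) ip2 55), (sel (ones 4060) ip2 56), (sel (ones 4060) ip2 57), (sel (ones 4060) ip2 58), (sel (ones 4060) ip2 59), (sel (ones 4060) ip2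 60), (sel (ones 4060) ip2 61), (sel (ones 4060) ip2 62), (sel (ones 4060) ip2 63), (sel (ones 4060) ip2 64), (sel (ones 4060) ip2 65), (sel (ones 4060) ip2 66), (sel (ones 4060) ip2 67), (sel (ones 4060) ip2 68), (sel (ones 4060) ip2 69), (sel (ones 4060) ip2 70), (sel (ones 4060) ip2 71), (sel (ones 4060) ip2 72), (sel (ones 4060) ip2 73), (sel (ones 4060) ip2 74), (sel (ones 4060) ip2 75), (sel (ones 4060) ip2 76), (sel (ones 4060) ip2 77), (sel (ones 4060) ip2 78), (sel (ones 4060) ip2 79), (sel (ones 4060) ip2 80), (sel (ones 4060) ip2 81), (sel (ones 4060) ip2 82), (sel (ones 4060) ip2 83), (sel (ones 4060) ip2 84), (sel (ones 4060) ip2 85), (sel (ones 4060) ip2 86), (sel (ones 4060) ip2 87), (sel (ones 4060) ip2 88), (sel (ones 4060) ip2 89), (sel (ones 4060) ip2 90),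 (sel (ones 4060) ip2 91), (sel (ones 4060) ip2 92), (sel (ones 4060) ip2 93), (sel (ones 4060) ip2 94), (sel (ones 4060) ip2 95), (sel (ones 4060) ip2 96), (sel (ones 4060) ip2 97), (sel (ones 4060) ip2 98), (sel (ones 4060) ip2 99), (sel (ones 4060) ip2 100), (sel (ones 4060) ip2 101), (sel (ones 4060) ip2 102), (sel (ones 4060) ip2 103), (sel (ones 4060) ip2 104), (sel (ones 4060) ip2 105), (sel (ones 4060) ip2 106), (sel (ones 4060) ip2 107), (sel (ones 4060) ip2 108), (sel (ones 4060) ip2 109), (sel (ones 4060) ip2 110), (sel (ones 4060) ip2 111), (sel (ones 4060) ip2 112), (sel (ones 4060) ip2 113), (sel (ones 4060) ip2 114), (sel (ones 4060) ip2 115), (sel (ones 4060) ip2 116), (sel (ones 4060) ip2 117), (sel (ones 4060) ip2 118), (sel (ones 4060) ip2 119), (sel (ones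 4060) ip2 120), (sel (ones 4060) ip2 121), (sel (ones 4060) ip2 122), (sel (ones 4060) ip2 123), (sel (ones 4060) ip2 124), (sel (ones 4060) ip2 125), (sel (ones 4060) ip2 126), (sel (ones 4060) ip2 127), (sel (ones 4060) ip2 128), (sel (ones 4060) ip2 129), (sel (ones 4060) ip2 130), (sel (ones 4060) ip2 131), (sel (ones 4060) ip2 132), (sel (ones 4060) ip2 133), (sel (ones 4060) ip2 134), (sel (ones 4060) ip2 135), (sel (ones 4060) ip2 136), (sel (ones 4060) ip2 137), (sel (ones 4060) ip2 138), (sel (ones 4060) ip2 139), (sel (ones 4060) ip2 140), (sel (ones 4060) ip2 141), (sel (ones 4060) ip2 142), (sel (ones 4060) ip2 143), (sel (ones 4060) ip2 144), (sel (ones 4060) ip2 145), (sel (ones 4060) ip2 146), (sel (ones 4060) ip2 147), (sel (ones 4060) ip2 148), (sel (ones 4060)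 ip2 149), (sel (ones 4060) ip2 150), (sel (ones 4060) ip2 151), (sel (ones 4060) ip2 152), (sel (ones 4060) ip2 153), (sel (ones 4060) ip2 154), (sel (ones 4060) ip2 155), (sel (ones 4060) ip2 156), (sel (ones 4060) ip2 157), (sel (ones 4060) ip2 158), (sel (ones 4060) ip2 159), (sel (ones 4060) ip2 160), (sel (ones 4060) ip2 161), (sel (ones 4060) ip2 162), (sel (ones 4060) ip2 163), (sel (ones 4060) ip2 164), (sel (ones 4060) ip2 165), (sel (ones 4060) ip2 166), (sel (ones 4060) ip2 167), (sel (ones 4060) ip2 168), (sel (ones 4060) ip2 169), (sel (ones 4060) ip2 170), (sel (ones 4060) ip2 171), (sel (ones 4060) ip2 172), (sel (ones 4060) ip2 173), (sel (ones 4060) ip2 174), (sel (ones 4060) ip2 175), (sel (ones 4060) ip2 176), (sel (ones 4060) ip2 177), (sel (ones 4060) ip2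 178), (sel (ones 4060) ip2 179), (sel (ones 4060) ip2 180), (sel (ones 4060) ip2 181), (sel (ones 4060) ip2 182), (sel (ones 4060) ip2 183), (sel (ones 4060) ip2 184), (sel (ones 4060) ip2 185), (sel (ones 4060) ip2 186), (sel (ones 4060) ip2 187), (sel (ones 4060) ip2 188), (sel (ones 4060) ip2 189), (sel (ones 4060) ip2 190), (sel (ones 4060) ip2 191), (sel (ones 4060) ip2 192), (sel (ones 4060) ip2 193), (sel (ones 4060) ip2 194), (sel (ones 4060) ip2 195), (sel (ones 4060) ip2 196), (sel (ones 4060) ip2 197), (sel (ones 4060) ip2 198), (sel (ones 4060) ip2 199), (sel (ones 4060) ip2 200), (sel (ones 4060) ip2 201), (sel (ones 4060) ip2 202), 1] = true := by decide +kernel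

theorem tl2 : T.treeLt 12 2 = true := by decide +kernel

theorem rot3_1 : T.rot 3 [6] (sel (ones 4060) ip3 1) = true := by decide +kernel

theorem rot3_1r : band (Rule.ok (2 * 2) EX RL ⟨3 :: [6], [], 32, false⟩) (lall (memL L) [6]) = true := by decide +kernel

theorem rot3_2 : T.rot 3 [3, 3, 3] (sel (ones 4060) ip3 2) = true := by decide +kernel

theorem rot3_2r : band (Rule.ok (2 * 2) EX RL ⟨3 :: [3, 3, 3], [], 19, true⟩) (lall (memL L) [3, 3, 3]) = true := by decide +kernel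

theorem rot3_3 : T.rot 3 [7, 7, 3, 8, 4, 8, 7] (sel (ones 4060) ip3 3) = true := by decide +kernel

theorem rot3_3r : band (Rule.ok (2 * 2) EX RL ⟨3 :: [7, 7, 3, 8, 4, 8, 7], [], 20, false⟩) (lall (memL L) [7, 7, 3, 8, 4, 8, 7]) = true := by decide +kernel

theorem rot3_4 : T.rot 3 [8, 4, 8, 7, 3, 7, 7] (sel (ones 4060) ip3 4) = true := by decide +kernel

theorem rot3_4r : band (Rule.ok (2 * 2) EX RL ⟨3 :: [8, 4, 8, 7, 3, 7, 7], [5, 6, 6], 20, false⟩) (lall (memL L) [8, 4, 8, 7, 3, 7, 7]) = true := by decide +kernel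

theorem rot3_5 : T.rot 3 [2, 6, 6, 7, 5, 5, 7, 2] (sel (ones 4060) ip3 5) = true := by decide +kernel

theorem rot3_5r : band (Rule.ok (2 * 2) EX RL ⟨3 :: [2, 6, 6, 7, 5, 5, 7, 2], [9, 6, 2], 28, true⟩) (lall (memL L) [2, 6, 6, 7, 5, 5, 7, 2]) = true := by decide +kernel

theorem rot3_6 : T.rot 3 [3, 2, 6, 2, 4, 8, 8, 4] (sel (ones 4060) ip3 6) = true := by decide +kernel

theorem rot3_6r : band (Rule.ok (2 * 2) EX RL ⟨3 :: [3, 2, 6, 2, 4, 8, 8, 4], [8, 7], 28, false⟩) (lall (memL L) [3, 2, 6, 2, 4, 8, 8, 4]) = true := by decide +kernel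

theorem rot3_7 : T.rot 3 [2, 6, 2, 4, 8, 8, 4, 3] (sel (ones 4060) ip3 7) = true := by decide +kernel

theorem rot3_7r : band (Rule.ok (2 * 2) EX RL ⟨3 :: [2, 6, 2, 4, 8, 8, 4, 3], [8, 7, 5], 28, false⟩) (lall (memL L) [2, 6, 2, 4, 8, 8, 4, 3]) = true := by decide +kernel

theorem rot3_8 : T.rot 3 [8, 8, 2, 8, 4, 8, 7, 7, 2] (sel (ones 4060) ip3 8) = true := by decide +kernel

theorem rot3_8r : band (Rule.ok (2 * 2) EX RL ⟨3 :: [8, 8, 2, 8, 4, 8, 7, 7, 2], [], 21, true⟩) (lall (memL L) [8, 8, 2, 8, 4, 8, 7, 7, 2]) = true := by decide +kernel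

theorem rot3_9 : T.rot 3 [2, 4, 4, 2, 6, 2, 8, 4, 5, 2] (sel (ones 4060) ip3 9) = true := by decide +kernel

theorem rot3_9r : band (Rule.ok (2 * 2) EX RL ⟨3 :: [2, 4, 4, 2, 6, 2, 8, 4, 5, 2], [2, 8, 7, 9, 2], 30, true⟩) (lall (memL L) [2, 4, 4, 2, 6, 2, 8, 4, 5, 2]) = true := by decide +kernel

theorem rot3_10 : T.rot 3 [2, 7, 7, 2, 6, 2, 8, 7, 5, 2] (sel (ones 4060) ip3 10) = true := by decide +kernel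

theorem rot3_10r : band (Rule.ok (2 * 2) EX RL ⟨3 :: [2, 7, 7, 2, 6, 2, 8, 7, 5, 2], [], 30, false⟩) (lall (memL L) [2, 7, 7, 2, 6, 2, 8, 7, 5, 2]) = true := by decide +kernel

theorem rot3_11 : T.rot 3 [4, 4, 2, 1, 8, 8, 2, 5, 2, 1, 2, 7] (sel (ones 4060) ip3 11) = true := by decide +kernel

theorem rot3_11r : band (Rule.ok (2 * 2) EX RL ⟨3 :: [4, 4, 2, 1, 8, 8, 2, 5, 2, 1, 2, 7], [0, 2, 6], 23, true⟩) (lall (memL L) [4, 4, 2, 1, 8, 8, 2, 5, 2, 1, 2, 7]) = true := by decide +kernel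

theorem rot3_12 : T.rot 3 [7, 7, 2, 1, 2, 4, 4, 8, 4, 2, 1, 2, 4] (sel (ones 4060) ip3 12) = true := by decide +kernel

theorem rot3_12r : band (Rule.ok (2 * 2) EX RL ⟨3 :: [7, 7, 2, 1, 2, 4, 4, 8, 4, 2, 1, 2, 4], [0, 2, 7], 22, true⟩) (lall (memL L) [7, 7, 2, 1, 2, 4, 4, 8, 4, 2, 1, 2, 4]) = true := by decide +kernel

theorem rot3_13 : T.rot 3 [5, 6, 4, 2, 4, 2, 3, 2, 7, 2, 8, 7, 7] (sel (ones 4060) ip3 13) = true := by decide +kernel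

theorem rot3_13r : band (Rule.ok (2 * 2) EX RL ⟨3 :: [5, 6, 4, 2, 4, 2, 3, 2, 7, 2, 8, 7, 7], [2, 6, 2, 8, 6, 6], 27, true⟩) (lall (memL L) [5, 6, 4, 2, 4, 2, 3, 2, 7, 2, 8, 7, 7]) = true := by decide +kernel

theorem rot3_14 : T.rot 3 [2, 7, 2, 8, 7, 7, 3, 5, 6, 4, 2, 4, 2] (sel (ones 4060) ip3 14) = true := by decide +kernel

theorem rot3_14r : band (Rule.ok (2 * 2) EX RL ⟨3 :: [2, 7, 2, 8, 7, 7, 3, 5, 6, 4, 2, 4, 2], [4], 27, true⟩) (lall (memL L) [2, 7, 2, 8, 7, 7, 3, 5, 6, 4, 2, 4, 2]) = true := by decide +kernel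

theorem rot3_15 : T.rot 3 [8, 6, 4, 4, 5, 2, 4, 2, 6, 2, 7, 2, 7] (sel (ones 4060) ip3 15) = true := by decide +kernel

theorem rot3_15r : band (Rule.ok (2 * 2) EX RL ⟨3 :: [8, 6, 4, 4, 5, 2, 4, 2, 6, 2, 7, 2, 7], [4, 2, 6, 2, 6], 27, false⟩) (lall (memL L) [8, 6, 4, 4, 5, 2, 4, 2, 6, 2, 7, 2, 7]) = true := by decide +kernel

theorem rot3_16 : T.rot 3 [5, 4, 1, 2, 1, 2, 7, 7, 8, 7, 5, 2, 5, 5, 1, 2, 7] (sel (ones 4060) ip3 16) = true := by decide +kernel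

theorem rot3_16r : band (Rule.ok (2 * 2) EX RL ⟨3 :: [5, 4, 1, 2, 1, 2, 7, 7, 8, 7, 5, 2, 5, 5, 1, 2, 7], [0, 2, 0, 6, 8, 4], 25, false⟩) (lall (memL L) [5, 4, 1, 2, 1, 2, 7, 7, 8, 7, 5, 2, 5, 5, 1, 2, 7]) = true := by decide +kernel

theorem rot3_17 : T.rot 3 [4, 2, 7, 1, 2, 1, 2, 8, 4, 8, 4, 5, 2, 4, 5, 2, 1, 2, 7, 2, 7, 2, 1, 2] (sel (ones 4060) ip3 17) = true := by decide +kernel

theorem rot3_17r : band (Rule.ok (2 * 2) EX RL ⟨3 :: [4, 2, 7, 1, 2, 1, 2, 8, 4, 8, 4, 5, 2, 4, 5, 2, 1, 2, 7, 2, 7, 2, 1, 2], [0, 2, 0, 7, 2, 6, 4], 29, false⟩) (lall (memL L) [4, 2, 7, 1, 2, 1, 2, 8, 4, 8, 4, 5, 2, 4, 5, 2, 1, 2, 7, 2, 7, 2, 1, 2]) = true := by decide +kernel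

theorem cov3 : T.cover 3 [(sel (ones 4060) ip3 1), (sel (ones 4060) ip3 2), (sel (ones 4060) ip3 3), (sel (ones 4060) ip3 4), (sel (ones 4060) ip3 5), (sel (ones 4060) ip3 6), (sel (ones 4060) ip3 7), (sel (ones 4060) ip3 8), (sel (ones 4060) ip3 9), (sel (ones 4060) ip3 10), (sel (ones 4060) ip3 11), (sel (ones 4060) ip3 12), (sel (ones 4060) ip3 13), (sel (ones 4060) ip3 14), (sel (ones 4060) ip3 15), (sel (ones 4060) ip3 16), (sel (ones 4060) ip3 17)] = true := by decide +kernel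

theorem tl3 : T.treeLt 12 3 = true := by decide +kernel

theorem rot4_1 : T.rot 4 [7] (sel (ones 4060) ip4 1) = true := by decide +kernel

theorem rot4_1r : band (Rule.ok (2 * 2) EX RL ⟨4 :: [7], [], 32, false⟩) (lall (memL L) [7]) = true := by decide +kernel

theorem rot4_2 : T.rot 4 [4, 4, 4, 4] (sel (ones 4060) ip4 2) = true := by decide +kernel

theorem rot4_2r : band (Rule.ok (2 * 2) EX RL ⟨4 :: [4, 4, 4, 4], [], 18, true⟩) (lall (memL L) [4, 4, 4, 4]) = true := by decide +kernel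

theorem rot4_3 : T.rot 4 [5, 7, 5, 6, 4, 4, 6] (sel (ones 4060) ip4 3) = true := by decide +kernel

theorem rot4_3r : band (Rule.ok (2 * 2) EX RL ⟨4 :: [5, 7, 5, 6, 4, 4, 6], [], 20, true⟩) (lall (memL L) [5, 7, 5, 6, 4, 4, 6]) = true := by decide +kernel

theorem rot4_4 : T.rot 4 [4, 6, 4, 5, 7, 5, 6] (sel (ones 4060) ip4 4) = true := by decide +kernel

theorem rot4_4r : band (Rule.ok (2 * 2) EX RL ⟨4 :: [4, 6, 4, 5, 7, 5, 6], [5, 6, 6], 20, true⟩) (lall (memL L) [4, 6, 4, 5, 7, 5, 6]) = true := by decide +kernel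

theorem rot4_5 : T.rot 4 [6, 4, 5, 7, 5, 6, 4] (sel (ones 4060) ip4 5) = true := by decide +kernel

theorem rot4_5r : band (Rule.ok (2 * 2) EX RL ⟨4 :: [6, 4, 5, 7, 5, 6, 4], [5, 6], 20, true⟩) (lall (memL L) [6, 4, 5, 7, 5, 6, 4]) = true := by decide +kernel

theorem rot4_6 : T.rot 4 [8, 7, 3, 7, 7, 3, 8] (sel (ones 4060) ip4 6) = true := by decide +kernel

theorem rot4_6r : band (Rule.ok (2 * 2) EX RL ⟨4 :: [8, 7, 3, 7, 7, 3, 8], [7, 9, 6], 20, false⟩) (lall (memL L) [8, 7, 3, 7, 7, 3, 8]) = true := by decide +kernel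

theorem rot4_7 : T.rot 4 [3, 3, 2, 6, 2, 4, 8, 8] (sel (ones 4060) ip4 7) = true := by decide +kernel

theorem rot4_7r : band (Rule.ok (2 * 2) EX RL ⟨4 :: [3, 3, 2, 6, 2, 4, 8, 8], [8], 28, false⟩) (lall (memL L) [3, 3, 2, 6, 2, 4, 8, 8]) = true := by decide +kernel

theorem rot4_8 : T.rot 4 [8, 8, 4, 3, 3, 2, 6, 2] (sel (ones 4060) ip4 8) = true := by decide +kernel

theorem rot4_8r : band (Rule.ok (2 * 2) EX RL ⟨4 :: [8, 8, 4, 3, 3, 2, 6, 2], [9, 6], 28, false⟩) (lall (memL L) [8, 8, 4, 3, 3, 2, 6, 2]) = true := by decide +kernel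

theorem rot4_9 : T.rot 4 [8, 7, 7, 2, 3, 8, 8, 2, 8] (sel (ones 4060) ip4 9) = true := by decide +kernel

theorem rot4_9r : band (Rule.ok (2 * 2) EX RL ⟨4 :: [8, 7, 7, 2, 3, 8, 8, 2, 8], [2, 7, 7, 9, 6], 21, true⟩) (lall (memL L) [8, 7, 7, 2, 3, 8, 8, 2, 8]) = true := by decide +kernel

theorem rot4_10 : T.rot 4 [4, 5, 7, 5, 2, 5, 5, 6, 2] (sel (ones 4060) ip4 10) = true := by decide +kernel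

theorem rot4_10r : band (Rule.ok (2 * 2) EX RL ⟨4 :: [4, 5, 7, 5, 2, 5, 5, 6, 2], [2], 21, false⟩) (lall (memL L) [4, 5, 7, 5, 2, 5, 5, 6, 2]) = true := by decide +kernel

theorem rot4_11 : T.rot 4 [5, 7, 5, 2, 5, 5, 6, 2, 4] (sel (ones 4060) ip4 11) = true := by decide +kernel

theorem rot4_11r : band (Rule.ok (2 * 2) EX RL ⟨4 :: [5, 7, 5, 2, 5, 5, 6, 2, 4], [2, 7], 21, false⟩) (lall (memL L) [5, 7, 5, 2, 5, 5, 6, 2, 4]) = true := by decide +kernel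

theorem rot4_12 : T.rot 4 [5, 7, 7, 2, 8, 2, 8, 7, 5, 4] (sel (ones 4060) ip4 12) = true := by decide +kernel

theorem rot4_12r : band (Rule.ok (2 * 2) EX RL ⟨4 :: [5, 7, 7, 2, 8, 2, 8, 7, 5, 4], [], 15, true⟩) (lall (memL L) [5, 7, 7, 2, 8, 2, 8, 7, 5, 4]) = true := by decide +kernel

theorem rot4_13 : T.rot 4 [4, 5, 7, 7, 2, 8, 2, 8, 7, 5] (sel (ones 4060) ip4 13) = true := by decide +kernel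

theorem rot4_13r : band (Rule.ok (2 * 2) EX RL ⟨4 :: [4, 5, 7, 7, 2, 8, 2, 8, 7, 5], [6], 15, true⟩) (lall (memL L) [4, 5, 7, 7, 2, 8, 2, 8, 7, 5]) = true := by decide +kernel

theorem rot4_14 : T.rot 4 [5, 2, 5, 2, 4, 4, 8, 7, 7, 8] (sel (ones 4060) ip4 14) = true := by decide +kernel

theorem rot4_14r : band (Rule.ok (2 * 2) EX RL ⟨4 :: [5, 2, 5, 2, 4, 4, 8, 7, 7, 8], [6, 8], 15, false⟩) (lall (memL L) [5, 2, 5, 2, 4, 4, 8, 7, 7, 8]) = true := by decide +kernel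

theorem rot4_15 : T.rot 4 [4, 8, 7, 7, 8, 4, 5, 2, 5, 2] (sel (ones 4060) ip4 15) = true := by decide +kernel

theorem rot4_15r : band (Rule.ok (2 * 2) EX RL ⟨4 :: [4, 8, 7, 7, 8, 4, 5, 2, 5, 2], [7, 9, 6, 6], 15, false⟩) (lall (memL L) [4, 8, 7, 7, 8, 4, 5, 2, 5, 2]) = true := by decide +kernel

theorem rot4_16 : T.rot 4 [8, 7, 7, 8, 4, 5, 2, 5, 2, 4] (sel (ones 4060) ip4 16) = true := by decide +kernel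

theorem rot4_16r : band (Rule.ok (2 * 2) EX RL ⟨4 :: [8, 7, 7, 8, 4, 5, 2, 5, 2, 4], [7, 9, 6], 15, false⟩) (lall (memL L) [8, 7, 7, 8, 4, 5, 2, 5, 2, 4]) = true := by decide +kernel

theorem rot4_17 : T.rot 4 [1, 7, 7, 8, 2, 5, 2, 7, 7, 1] (sel (ones 4060) ip4 17) = true := by decide +kernel

theorem rot4_17r : band (Rule.ok (2 * 2) EX RL ⟨4 :: [1, 7, 7, 8, 2, 5, 2, 7, 7, 1], [0], 24, true⟩) (lall (memL L) [1, 7, 7, 8, 2, 5, 2, 7, 7, 1]) = true := by decide +kernel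

theorem rot4_18 : T.rot 4 [4, 2, 8, 2, 5, 4, 4, 1, 7, 1] (sel (ones 4060) ip4 18) = true := by decide +kernel

theorem rot4_18r : band (Rule.ok (2 * 2) EX RL ⟨4 :: [4, 2, 8, 2, 5, 4, 4, 1, 7, 1], [], 24, false⟩) (lall (memL L) [4, 2, 8, 2, 5, 4, 4, 1, 7, 1]) = true := by decide +kernel

theorem rot4_19 : T.rot 4 [2, 8, 2, 5, 4, 4, 1, 7, 1, 4] (sel (ones 4060) ip4 19) = true := by decide +kernel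

theorem rot4_19r : band (Rule.ok (2 * 2) EX RL ⟨4 :: [2, 8, 2, 5, 4, 4, 1, 7, 1, 4], [7], 24, false⟩) (lall (memL L) [2, 8, 2, 5, 4, 4, 1, 7, 1, 4]) = true := by decide +kernel

theorem rot4_20 : T.rot 4 [4, 1, 7, 1, 4, 4, 2, 8, 2, 5] (sel (ones 4060) ip4 20) = true := by decide +kernel

theorem rot4_20r : band (Rule.ok (2 * 2) EX RL ⟨4 :: [4, 1, 7, 1, 4, 4, 2, 8, 2, 5], [0, 7, 0, 6, 6], 24, false⟩) (lall (memL L) [4, 1, 7, 1, 4, 4, 2, 8, 2, 5]) = true := by decide +kernel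

theorem rot4_21 : T.rot 4 [1, 7, 1, 4, 4, 2, 8, 2, 5, 4] (sel (ones 4060) ip4 21) = true := by decide +kernel

theorem rot4_21r : band (Rule.ok (2 * 2) EX RL ⟨4 :: [1, 7, 1, 4, 4, 2, 8, 2, 5, 4], [0, 7, 0, 6], 24, false⟩) (lall (memL L) [1, 7, 1, 4, 4, 2, 8, 2, 5, 4]) = true := by decide +kernel

theorem rot4_22 : T.rot 4 [5, 2, 3, 2, 4, 4, 2, 6, 2, 8] (sel (ones 4060) ip4 22) = true := by decide +kernel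

theorem rot4_22r : band (Rule.ok (2 * 2) EX RL ⟨4 :: [5, 2, 3, 2, 4, 4, 2, 6, 2, 8], [2, 8], 30, true⟩) (lall (memL L) [5, 2, 3, 2, 4, 4, 2, 6, 2, 8]) = true := by decide +kernel

theorem rot4_23 : T.rot 4 [4, 2, 6, 2, 8, 4, 5, 2, 3, 2] (sel (ones 4060) ip4 23) = true := by decide +kernel

theorem rot4_23r : band (Rule.ok (2 * 2) EX RL ⟨4 :: [4, 2, 6, 2, 8, 4, 5, 2, 3, 2], [5, 2, 6, 6], 30, true⟩) (lall (memL L) [4, 2, 6, 2, 8, 4, 5, 2, 3, 2]) = true := by decide +kernel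

theorem rot4_24 : T.rot 4 [2, 6, 2, 8, 4, 5, 2, 3, 2, 4] (sel (ones 4060) ip4 24) = true := by decide +kernel

theorem rot4_24r : band (Rule.ok (2 * 2) EX RL ⟨4 :: [2, 6, 2, 8, 4, 5, 2, 3, 2, 4], [5, 2, 6], 30, true⟩) (lall (memL L) [2, 6, 2, 8, 4, 5, 2, 3, 2, 4]) = true := by decide +kernel

theorem rot4_25 : T.rot 4 [4, 2, 1, 8, 8, 2, 5, 2, 1, 2, 7, 3] (sel (ones 4060) ip4 25) = true := by decide +kernel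

theorem rot4_25r : band (Rule.ok (2 * 2) EX RL ⟨4 :: [4, 2, 1, 8, 8, 2, 5, 2, 1, 2, 7, 3], [0, 2, 6, 5], 23, true⟩) (lall (memL L) [4, 2, 1, 8, 8, 2, 5, 2, 1, 2, 7, 3]) = true := by decide +kernel

theorem rot4_26 : T.rot 4 [2, 1, 8, 8, 2, 5, 2, 1, 2, 7, 3, 4] (sel (ones 4060) ip4 26) = true := by decide +kernel

theorem rot4_26r : band (Rule.ok (2 * 2) EX RL ⟨4 :: [2, 1, 8, 8, 2, 5, 2, 1, 2, 7, 3, 4], [0, 2, 6, 5, 7], 23, true⟩) (lall (memL L) [2, 1, 8, 8, 2, 5, 2, 1, 2, 7, 3, 4]) = true := by decide +kernel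

theorem rot4_27 : T.rot 4 [2, 1, 2, 8, 2, 5, 5, 1, 2, 7, 7, 6] (sel (ones 4060) ip4 27) = true := by decide +kernel

theorem rot4_27r : band (Rule.ok (2 * 2) EX RL ⟨4 :: [2, 1, 2, 8, 2, 5, 5, 1, 2, 7, 7, 6], [0, 2, 6], 23, false⟩) (lall (memL L) [2, 1, 2, 8, 2, 5, 5, 1, 2, 7, 7, 6]) = true := by decide +kernel

theorem rot4_28 : T.rot 4 [3, 7, 7, 2, 1, 2, 4, 4, 8, 4, 2, 1, 2] (sel (ones 4060) ip4 28) = true := by decide +kernel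

theorem rot4_28r : band (Rule.ok (2 * 2) EX RL ⟨4 :: [3, 7, 7, 2, 1, 2, 4, 4, 8, 4, 2, 1, 2], [0, 2], 22, true⟩) (lall (memL L) [3, 7, 7, 2, 1, 2, 4, 4, 8, 4, 2, 1, 2]) = true := by decide +kernel

theorem rot4_29 : T.rot 4 [4, 8, 4, 2, 1, 2, 4, 3, 7, 7, 2, 1, 2] (sel (ones 4060) ip4 29) = true := by decide +kernel

theorem rot4_29r : band (Rule.ok (2 * 2) EX RL ⟨4 :: [4, 8, 4, 2, 1, 2, 4, 3, 7, 7, 2, 1, 2], [2, 6, 9, 6, 6], 22, true⟩) (lall (memL L) [4, 8, 4, 2, 1, 2, 4, 3, 7, 7, 2, 1, 2]) = true := by decide +kernel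

theorem rot4_30 : T.rot 4 [8, 4, 2, 1, 2, 4, 3, 7, 7, 2, 1, 2, 4] (sel (ones 4060) ip4 30) = true := by decide +kernel

theorem rot4_30r : band (Rule.ok (2 * 2) EX RL ⟨4 :: [8, 4, 2, 1, 2, 4, 3, 7, 7, 2, 1, 2, 4], [2, 6, 9, 6], 22, true⟩) (lall (memL L) [8, 4, 2, 1, 2, 4, 3, 7, 7, 2, 1, 2, 4]) = true := by decide +kernel

theorem rot4_31 : T.rot 4 [2, 1, 2, 4, 3, 7, 7, 2, 1, 2, 4, 4, 8] (sel (ones 4060) ip4 31) = true := by decide +kernel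

theorem rot4_31r : band (Rule.ok (2 * 2) EX RL ⟨4 :: [2, 1, 2, 4, 3, 7, 7, 2, 1, 2, 4, 4, 8], [2, 6], 22, true⟩) (lall (memL L) [2, 1, 2, 4, 3, 7, 7, 2, 1, 2, 4, 4, 8]) = true := by decide +kernel

theorem rot4_32 : T.rot 4 [4, 6, 7, 2, 1, 2, 7, 5, 7, 7, 2, 1, 2] (sel (ones 4060) ip4 32) = true := by decide +kernel

theorem rot4_32r : band (Rule.ok (2 * 2) EX RL ⟨4 :: [4, 6, 7, 2, 1, 2, 7, 5, 7, 7, 2, 1, 2], [0, 2, 7, 5, 6, 6], 22, false⟩) (lall (memL L) [4, 6, 7, 2, 1, 2, 7, 5, 7, 7, 2, 1, 2]) = true := by decide +kernel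

theorem rot4_33 : T.rot 4 [6, 7, 2, 1, 2, 7, 5, 7, 7, 2, 1, 2, 4] (sel (ones 4060) ip4 33) = true := by decide +kernel

theorem rot4_33r : band (Rule.ok (2 * 2) EX RL ⟨4 :: [6, 7, 2, 1, 2, 7, 5, 7, 7, 2, 1, 2, 4], [0, 2, 7, 5, 6], 22, false⟩) (lall (memL L) [6, 7, 2, 1, 2, 7, 5, 7, 7, 2, 1, 2, 4]) = true := by decide +kernel

theorem rot4_34 : T.rot 4 [2, 4, 2, 3, 2, 7, 2, 8, 7, 7, 3, 5, 6] (sel (ones 4060) ip4 34) = true := by decide +kernel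

theorem rot4_34r : band (Rule.ok (2 * 2) EX RL ⟨4 :: [2, 4, 2, 3, 2, 7, 2, 8, 7, 7, 3, 5, 6], [4, 2, 6, 2, 6], 27, true⟩) (lall (memL L) [2, 4, 2, 3, 2, 7, 2, 8, 7, 7, 3, 5, 6]) = true := by decide +kernel

theorem rot4_35 : T.rot 4 [2, 3, 2, 7, 2, 8, 7, 7, 3, 5, 6, 4, 2] (sel (ones 4060) ip4 35) = true := by decide +kernel

theorem rot4_35r : band (Rule.ok (2 * 2) EX RL ⟨4 :: [2, 3, 2, 7, 2, 8, 7, 7, 3, 5, 6, 4, 2], [4, 2, 6], 27, true⟩) (lall (memL L) [2, 3, 2, 7, 2, 8, 7, 7, 3, 5, 6, 4, 2]) = true := by decide +kernel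

theorem rot4_36 : T.rot 4 [4, 5, 2, 4, 2, 6, 2, 7, 2, 7, 3, 8, 6] (sel (ones 4060) ip4 36) = true := by decide +kernel

theorem rot4_36r : band (Rule.ok (2 * 2) EX RL ⟨4 :: [4, 5, 2, 4, 2, 6, 2, 7, 2, 7, 3, 8, 6], [2, 6, 2, 8, 6, 6], 27, false⟩) (lall (memL L) [4, 5, 2, 4, 2, 6, 2, 7, 2, 7, 3, 8, 6]) = true := by decide +kernel

theorem rot4_37 : T.rot 4 [5, 2, 4, 2, 6, 2, 7, 2, 7, 3, 8, 6, 4] (sel (ones 4060) ip4 37) = true := by decide +kernel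

theorem rot4_37r : band (Rule.ok (2 * 2) EX RL ⟨4 :: [5, 2, 4, 2, 6, 2, 7, 2, 7, 3, 8, 6, 4], [2, 6, 2, 8, 6], 27, false⟩) (lall (memL L) [5, 2, 4, 2, 6, 2, 7, 2, 7, 3, 8, 6, 4]) = true := by decide +kernel

theorem rot4_38 : T.rot 4 [2, 6, 2, 7, 2, 7, 3, 8, 6, 4, 4, 5, 2] (sel (ones 4060) ip4 38) = true := by decide +kernel

theorem rot4_38r : band (Rule.ok (2 * 2) EX RL ⟨4 :: [2, 6, 2, 7, 2, 7, 3, 8, 6, 4, 4, 5, 2], [2, 6], 27, false⟩) (lall (memL L) [2, 6, 2, 7, 2, 7, 3, 8, 6, 4, 4, 5, 2]) = true := by decide +kernel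

theorem rot4_39 : T.rot 4 [5, 7, 4, 4, 5, 7, 4, 4, 5, 7, 4, 4, 5, 7, 4] (sel (ones 4060) ip4 39) = true := by decide +kernel

theorem rot4_39r : band (Rule.ok (2 * 2) EX RL ⟨4 :: [5, 7, 4, 4, 5, 7, 4, 4, 5, 7, 4, 4, 5, 7, 4], [7], 5, false⟩) (lall (memL L) [5, 7, 4, 4, 5, 7, 4, 4, 5, 7, 4, 4, 5, 7, 4]) = true := by decide +kernel

theorem rot4_40 : T.rot 4 [2, 1, 8, 8, 2, 8, 4, 5, 4, 4, 2, 1, 2, 1, 7, 8, 6] (sel (ones 4060) ip4 40) = true := by decide +kernel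

theorem rot4_40r : band (Rule.ok (2 * 2) EX RL ⟨4 :: [2, 1, 8, 8, 2, 8, 4, 5, 4, 4, 2, 1, 2, 1, 7, 8, 6], [0, 2, 0, 6, 8, 4], 25, true⟩) (lall (memL L) [2, 1, 8, 8, 2, 8, 4, 5, 4, 4, 2, 1, 2, 1, 7, 8, 6]) = true := by decide +kernel

theorem rot4_41 : T.rot 4 [5, 4, 4, 2, 1, 2, 1, 7, 8, 6, 4, 2, 1, 8, 8, 2, 8] (sel (ones 4060) ip4 41) = true := by decide +kernel

theorem rot4_41r : band (Rule.ok (2 * 2) EX RL ⟨4 :: [5, 4, 4, 2, 1, 2, 1, 7, 8, 6, 4, 2, 1, 8, 8, 2, 8], [2, 6, 6, 8, 6], 25, true⟩) (lall (memL L) [5, 4, 4, 2, 1, 2, 1, 7, 8, 6, 4, 2, 1, 8, 8, 2, 8]) = true := by decide +kernel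

theorem rot4_42 : T.rot 4 [4, 2, 1, 2, 1, 7, 8, 6, 4, 2, 1, 8, 8, 2, 8, 4, 5] (sel (ones 4060) ip4 42) = true := by decide +kernel

theorem rot4_42r : band (Rule.ok (2 * 2) EX RL ⟨4 :: [4, 2, 1, 2, 1, 7, 8, 6, 4, 2, 1, 8, 8, 2, 8, 4, 5], [2, 6, 6], 25, true⟩) (lall (memL L) [4, 2, 1, 2, 1, 7, 8, 6, 4, 2, 1, 8, 8, 2, 8, 4, 5]) = true := by decide +kernel

theorem rot4_43 : T.rot 4 [2, 1, 2, 1, 7, 8, 6, 4, 2, 1, 8, 8, 2, 8, 4, 5, 4] (sel (ones 4060) ip4 43) = true := by decide +kernel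

theorem rot4_43r : band (Rule.ok (2 * 2) EX RL ⟨4 :: [2, 1, 2, 1, 7, 8, 6, 4, 2, 1, 8, 8, 2, 8, 4, 5, 4], [2, 6], 25, true⟩) (lall (memL L) [2, 1, 2, 1, 7, 8, 6, 4, 2, 1, 8, 8, 2, 8, 4, 5, 4]) = true := by decide +kernel

theorem rot4_44 : T.rot 4 [1, 2, 1, 2, 7, 7, 8, 7, 5, 2, 5, 5, 1, 2, 7, 3, 5] (sel (ones 4060) ip4 44) = true := by decide +kernel

theorem rot4_44r : band (Rule.ok (2 * 2) EX RL ⟨4 :: [1, 2, 1, 2, 7, 7, 8, 7, 5, 2, 5, 5, 1, 2, 7, 3, 5], [0, 2, 0, 6], 25, false⟩) (lall (memL L) [1, 2, 1, 2, 7, 7, 8, 7, 5, 2, 5, 5, 1, 2, 7, 3, 5]) = true := by decide +kernel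

theorem rot4_45 : T.rot 4 [2, 1, 2, 7, 2, 1, 4, 8, 7, 7, 8, 2, 4, 4, 2, 5, 1, 2, 1] (sel (ones 4060) ip4 45) = true := by decide +kernel

theorem rot4_45r : band (Rule.ok (2 * 2) EX RL ⟨4 :: [2, 1, 2, 7, 2, 1, 4, 8, 7, 7, 8, 2, 4, 4, 2, 5, 1, 2, 1], [0, 2, 0], 26, true⟩) (lall (memL L) [2, 1, 2, 7, 2, 1, 4, 8, 7, 7, 8, 2, 4, 4, 2, 5, 1, 2, 1]) = true := by decide +kernel

theorem rot4_46 : T.rot 4 [8, 7, 7, 8, 2, 4, 4, 2, 5, 1, 2, 1, 4, 2, 1, 2, 7, 2, 1] (sel (ones 4060) ip4 46) = true := by decide +kernel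

theorem rot4_46r : band (Rule.ok (2 * 2) EX RL ⟨4 :: [8, 7, 7, 8, 2, 4, 4, 2, 5, 1, 2, 1, 4, 2, 1, 2, 7, 2, 1], [8, 2, 6, 6, 2, 9, 7, 7, 9, 6], 26, true⟩) (lall (memL L) [8, 7, 7, 8, 2, 4, 4, 2, 5, 1, 2, 1, 4, 2, 1, 2, 7, 2, 1]) = true := by decide +kernel

end Cfsg.Agent.Spor.Rua
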