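import Cfsg.Agent.Spor.Rua.D0

set_option autoImplicit false
set_option maxRecDepth 100000000
set_option Elab.async false

namespace Cfsg.Agent.Spor.Rua

theorem rot4_47 : T.rot 4 [4, 2, 5, 1, 2, 1, 4, 2, 1, 2, 7, 2, 1, 4, 8, 7, 7, 8, 2] (sel (ones 4060) ip4 47) = true := by decide +kernel

theorem rot4_47r : band (Rule.ok (2 * 2) EX RL ⟨4 :: [4, 2, 5, 1, 2, 1, 4, 2, 1, 2, 7, 2, 1, 4, 8, 7, 7, 8, 2], [8, 2, 6, 6], 26, true⟩) (lall (memL L) [4, 2, 5, 1, 2, 1, 4, 2, 1, 2, 7, 2, 1, 4, 8, 7, 7, 8, 2]) = true := by decide +kernel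

theorem rot4_48 : T.rot 4 [2, 5, 1, 2, 1, 4, 2, 1, 2, 7, 2, 1, 4, 8, 7, 7, 8, 2, 4] (sel (ones 4060) ip4 48) = true := by decide +kernel

theorem rot4_48r : band (Rule.ok (2 * 2) EX RL ⟨4 :: [2, 5, 1, 2, 1, 4, 2, 1, 2, 7, 2, 1, 4, 8, 7, 7, 8, 2, 4], [8, 2, 6], 26, true⟩) (lall (memL L) [2, 5, 1, 2, 1, 4, 2, 1, 2, 7, 2, 1, 4, 8, 7, 7, 8, 2, 4]) = true := by decide +kernel

theorem rot4_49 : T.rot 4 [4, 5, 7, 1, 2, 4, 2, 1, 2, 7, 1, 2, 1, 8, 2, 7, 7, 2, 5] (sel (ones 4060) ip4 49) = true := by decide +kernel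

theorem rot4_49r : band (Rule.ok (2 * 2) EX RL ⟨4 :: [4, 5, 7, 1, 2, 4, 2, 1, 2, 7, 1, 2, 1, 8, 2, 7, 7, 2, 5], [8, 2, 6, 6, 2, 9], 26, false⟩) (lall (memL L) [4, 5, 7, 1, 2, 4, 2, 1, 2, 7, 1, 2, 1, 8, 2, 7, 7, 2, 5]) = true := by decide +kernel

theorem rot4_50 : T.rot 4 [5, 7, 1, 2, 4, 2, 1, 2, 7, 1, 2, 1, 8, 2, 7, 7, 2, 5, 4] (sel (ones 4060) ip4 50) = true := by decide +kernel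

theorem rot4_50r : band (Rule.ok (2 * 2) EX RL ⟨4 :: [5, 7, 1, 2, 4, 2, 1, 2, 7, 1, 2, 1, 8, 2, 7, 7, 2, 5, 4], [8, 2, 6, 6, 2, 9, 7], 26, false⟩) (lall (memL L) [5, 7, 1, 2, 4, 2, 1, 2, 7, 1, 2, 1, 8, 2, 7, 7, 2, 5, 4]) = true := by decide +kernel

theorem rot4_51 : T.rot 4 [2, 1, 2, 7, 1, 2, 1, 8, 2, 7, 7, 2, 5, 4, 4, 5, 7, 1, 2] (sel (ones 4060) ip4 51) = true := by decide +kernel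

theorem rot4_51r : band (Rule.ok (2 * 2) EX RL ⟨4 :: [2, 1, 2, 7, 1, 2, 1, 8, 2, 7, 7, 2, 5, 4, 4, 5, 7, 1, 2], [0, 2, 0, 7, 2, 0, 2, 6], 26, false⟩) (lall (memL L) [2, 1, 2, 7, 1, 2, 1, 8, 2, 7, 7, 2, 5, 4, 4, 5, 7, 1, 2]) = true := by decide +kernel

theorem rot4_52 : T.rot 4 [5, 5, 4, 2, 4, 8, 7, 7, 2, 5, 4, 4, 5, 7, 2, 4, 4, 5, 7, 2] (sel (ones 4060) ip4 52) = true := by decide +kernel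

theorem rot4_52r : band (Rule.ok (2 * 2) EX RL ⟨4 :: [5, 5, 4, 2, 4, 8, 7, 7, 2, 5, 4, 4, 5, 7, 2, 4, 4, 5, 7, 2], [], 13, true⟩) (lall (memL L) [5, 5, 4, 2, 4, 8, 7, 7, 2, 5, 4, 4, 5, 7, 2, 4, 4, 5, 7, 2]) = true := by decide +kernel

theorem rot4_53 : T.rot 4 [2, 4, 8, 7, 7, 2, 5, 4, 4, 5, 7, 2, 4, 4, 5, 7, 2, 4, 5, 5] (sel (ones 4060) ip4 53) = true := by decide +kernel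

theorem rot4_53r : band (Rule.ok (2 * 2) EX RL ⟨4 :: [2, 4, 8, 7, 7, 2, 5, 4, 4, 5, 7, 2, 4, 4, 5, 7, 2, 4, 5, 5], [7, 9, 9], 13, true⟩) (lall (memL L) [2, 4, 8, 7, 7, 2, 5, 4, 4, 5, 7, 2, 4, 4, 5, 7, 2, 4, 5, 5]) = true := by decide +kernel

theorem rot4_54 : T.rot 4 [8, 7, 7, 2, 5, 4, 4, 5, 7, 2, 4, 4, 5, 7, 2, 4, 5, 5, 4, 2] (sel (ones 4060) ip4 54) = true := by decide +kernel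

theorem rot4_54r : band (Rule.ok (2 * 2) EX RL ⟨4 :: [8, 7, 7, 2, 5, 4, 4, 5, 7, 2, 4, 4, 5, 7, 2, 4, 5, 5, 4, 2], [7, 9, 9, 7, 2], 13, true⟩) (lall (memL L) [8, 7, 7, 2, 5, 4, 4, 5, 7, 2, 4, 4, 5, 7, 2, 4, 5, 5, 4, 2]) = true := by decide +kernel

theorem rot4_55 : T.rot 4 [4, 5, 7, 2, 4, 4, 5, 7, 2, 4, 5, 5, 4, 2, 4, 8, 7, 7, 2, 5] (sel (ones 4060) ip4 55) = true := by decide +kernel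

theorem rot4_55r : band (Rule.ok (2 * 2) EX RL ⟨4 :: [4, 5, 7, 2, 4, 4, 5, 7, 2, 4, 5, 5, 4, 2, 4, 8, 7, 7, 2, 5], [2, 7, 8, 6, 6, 2, 7, 8, 6, 6], 13, true⟩) (lall (memL L) [4, 5, 7, 2, 4, 4, 5, 7, 2, 4, 5, 5, 4, 2, 4, 8, 7, 7, 2, 5]) = true := by decide +kernel

theorem rot4_56 : T.rot 4 [5, 7, 2, 4, 4, 5, 7, 2, 4, 5, 5, 4, 2, 4, 8, 7, 7, 2, 5, 4] (sel (ones 4060) ip4 56) = true := by decide +kernel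

theorem rot4_56r : band (Rule.ok (2 * 2) EX RL ⟨4 :: [5, 7, 2, 4, 4, 5, 7, 2, 4, 5, 5, 4, 2, 4, 8, 7, 7, 2, 5, 4], [2, 7, 8, 6, 6, 2, 7, 8, 6], 13, true⟩) (lall (memL L) [5, 7, 2, 4, 4, 5, 7, 2, 4, 5, 5, 4, 2, 4, 8, 7, 7, 2, 5, 4]) = true := by decide +kernel

theorem rot4_57 : T.rot 4 [4, 5, 7, 2, 4, 5, 5, 4, 2, 4, 8, 7, 7, 2, 5, 4, 4, 5, 7, 2] (sel (ones 4060) ip4 57) = true := by decide +kernel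

theorem rot4_57r : band (Rule.ok (2 * 2) EX RL ⟨4 :: [4, 5, 7, 2, 4, 5, 5, 4, 2, 4, 8, 7, 7, 2, 5, 4, 4, 5, 7, 2], [2, 7, 8, 6, 6], 13, true⟩) (lall (memL L) [4, 5, 7, 2, 4, 5, 5, 4, 2, 4, 8, 7, 7, 2, 5, 4, 4, 5, 7, 2]) = true := by decide +kernel

theorem rot4_58 : T.rot 4 [5, 7, 2, 4, 5, 5, 4, 2, 4, 8, 7, 7, 2, 5, 4, 4, 5, 7, 2, 4] (sel (ones 4060) ip4 58) = true := by decide +kernel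

theorem rot4_58r : band (Rule.ok (2 * 2) EX RL ⟨4 :: [5, 7, 2, 4, 5, 5, 4, 2, 4, 8, 7, 7, 2, 5, 4, 4, 5, 7, 2, 4], [2, 7, 8, 6], 13, true⟩) (lall (memL L) [5, 7, 2, 4, 5, 5, 4, 2, 4, 8, 7, 7, 2, 5, 4, 4, 5, 7, 2, 4]) = true := by decide +kernel

theorem rot4_59 : T.rot 4 [8, 7, 7, 2, 4, 8, 7, 7, 8, 2, 4, 4, 5, 7, 2, 7, 8, 8, 7, 2] (sel (ones 4060) ip4 59) = true := by decide +kernel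

theorem rot4_59r : band (Rule.ok (2 * 2) EX RL ⟨4 :: [8, 7, 7, 2, 4, 8, 7, 7, 8, 2, 4, 4, 5, 7, 2, 7, 8, 8, 7, 2], [2], 13, false⟩) (lall (memL L) [8, 7, 7, 2, 4, 8, 7, 7, 8, 2, 4, 4, 5, 7, 2, 7, 8, 8, 7, 2]) = true := by decide +kernel

theorem rot4_60 : T.rot 4 [8, 7, 7, 8, 2, 4, 4, 5, 7, 2, 7, 8, 8, 7, 2, 4, 8, 7, 7, 2] (sel (ones 4060) ip4 60) = true := by decide +kernel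

theorem rot4_60r : band (Rule.ok (2 * 2) EX RL ⟨4 :: [8, 7, 7, 8, 2, 4, 4, 5, 7, 2, 7, 8, 8, 7, 2, 4, 8, 7, 7, 2], [2, 7, 8, 6, 6, 2], 13, false⟩) (lall (memL L) [8, 7, 7, 8, 2, 4, 4, 5, 7, 2, 7, 8, 8, 7, 2, 4, 8, 7, 7, 2]) = true := by decide +kernel

theorem rot4_61 : T.rot 4 [4, 5, 7, 2, 7, 8, 8, 7, 2, 4, 8, 7, 7, 2, 4, 8, 7, 7, 8, 2] (sel (ones 4060) ip4 61) = true := by decide +kernel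

theorem rot4_61r : band (Rule.ok (2 * 2) EX RL ⟨4 :: [4, 5, 7, 2, 7, 8, 8, 7, 2, 4, 8, 7, 7, 2, 4, 8, 7, 7, 8, 2], [7, 9, 9, 7, 2, 7, 8, 6, 6], 13, false⟩) (lall (memL L) [4, 5, 7, 2, 7, 8, 8, 7, 2, 4, 8, 7, 7, 2, 4, 8, 7, 7, 8, 2]) = true := by decide +kernel

theorem rot4_62 : T.rot 4 [5, 7, 2, 7, 8, 8, 7, 2, 4, 8, 7, 7, 2, 4, 8, 7, 7, 8, 2, 4] (sel (ones 4060) ip4 62) = true := by decide +kernel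

theorem rot4_62r : band (Rule.ok (2 * 2) EX RL ⟨4 :: [5, 7, 2, 7, 8, 8, 7, 2, 4, 8, 7, 7, 2, 4, 8, 7, 7, 8, 2, 4], [7, 9, 9, 7, 2, 7, 8, 6], 13, false⟩) (lall (memL L) [5, 7, 2, 7, 8, 8, 7, 2, 4, 8, 7, 7, 2, 4, 8, 7, 7, 8, 2, 4]) = true := by decide +kernel

theorem rot4_63 : T.rot 4 [2, 4, 2, 5, 7, 2, 7, 7, 2, 8, 4, 8, 2, 7, 2, 7, 2, 4, 5, 2] (sel (ones 4060) ip4 63) = true := by decide +kernel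

theorem rot4_63r : band (Rule.ok (2 * 2) EX RL ⟨4 :: [2, 4, 2, 5, 7, 2, 7, 7, 2, 8, 4, 8, 2, 7, 2, 7, 2, 4, 5, 2], [2], 16, true⟩) (lall (memL L) [2, 4, 2, 5, 7, 2, 7, 7, 2, 8, 4, 8, 2, 7, 2, 7, 2, 4, 5, 2]) = true := by decide +kernel

theorem rot4_64 : T.rot 4 [2, 5, 7, 2, 7, 7, 2, 8, 4, 8, 2, 7, 2, 7, 2, 4, 5, 2, 4, 2] (sel (ones 4060) ip4 64) = true := by decide +kernel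

theorem rot4_64r : band (Rule.ok (2 * 2) EX RL ⟨4 :: [2, 5, 7, 2, 7, 7, 2, 8, 4, 8, 2, 7, 2, 7, 2, 4, 5, 2, 4, 2], [2, 7, 2], 16, true⟩) (lall (memL L) [2, 5, 7, 2, 7, 7, 2, 8, 4, 8, 2, 7, 2, 7, 2, 4, 5, 2, 4, 2]) = true := by decide +kernel

theorem rot4_65 : T.rot 4 [8, 2, 7, 2, 7, 2, 4, 5, 2, 4, 2, 4, 2, 5, 7, 2, 7, 7, 2, 8] (sel (ones 4060) ip4 65) = true := by decide +kernel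

theorem rot4_65r : band (Rule.ok (2 * 2) EX RL ⟨4 :: [8, 2, 7, 2, 7, 2, 4, 5, 2, 4, 2, 4, 2, 5, 7, 2, 7, 7, 2, 8], [8, 6, 2, 7, 2, 7, 2, 9, 6], 16, true⟩) (lall (memL L) [8, 2, 7, 2, 7, 2, 4, 5, 2, 4, 2, 4, 2, 5, 7, 2, 7, 7, 2, 8]) = true := by decide +kernel

theorem rot4_66 : T.rot 4 [5, 2, 4, 2, 4, 2, 5, 7, 2, 7, 7, 2, 8, 4, 8, 2, 7, 2, 7, 2] (sel (ones 4060) ip4 66) = true := by decide +kernel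

theorem rot4_66r : band (Rule.ok (2 * 2) EX RL ⟨4 :: [5, 2, 4, 2, 4, 2, 5, 7, 2, 7, 7, 2, 8, 4, 8, 2, 7, 2, 7, 2], [8, 6], 16, true⟩) (lall (memL L) [5, 2, 4, 2, 4, 2, 5, 7, 2, 7, 7, 2, 8, 4, 8, 2, 7, 2, 7, 2]) = true := by decide +kernel

theorem rot4_67 : T.rot 4 [2, 4, 2, 5, 7, 5, 2, 4, 4, 2, 4, 8, 2, 7, 2, 7, 2, 8, 7, 2] (sel (ones 4060) ip4 67) = true := by decide +kernel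

theorem rot4_67r : band (Rule.ok (2 * 2) EX RL ⟨4 :: [2, 4, 2, 5, 7, 5, 2, 4, 4, 2, 4, 8, 2, 7, 2, 7, 2, 8, 7, 2], [8, 6, 2], 16, false⟩) (lall (memL L) [2, 4, 2, 5, 7, 5, 2, 4, 4, 2, 4, 8, 2, 7, 2, 7, 2, 8, 7, 2]) = true := by decide +kernel

theorem rot4_68 : T.rot 4 [2, 5, 7, 5, 2, 4, 4, 2, 4, 8, 2, 7, 2, 7, 2, 8, 7, 2, 4, 2] (sel (ones 4060) ip4 68) = true := by decide +kernel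

theorem rot4_68r : band (Rule.ok (2 * 2) EX RL ⟨4 :: [2, 5, 7, 5, 2, 4, 4, 2, 4, 8, 2, 7, 2, 7, 2, 8, 7, 2, 4, 2], [8, 6, 2, 7, 2], 16, false⟩) (lall (memL L) [2, 5, 7, 5, 2, 4, 4, 2, 4, 8, 2, 7, 2, 7, 2, 8, 7, 2, 4, 2]) = true := by decide +kernel

theorem rot4_69 : T.rot 4 [4, 2, 4, 8, 2, 7, 2, 7, 2, 8, 7, 2, 4, 2, 4, 2, 5, 7, 5, 2] (sel (ones 4060) ip4 69) = true := by decide +kernel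

theorem rot4_69r : band (Rule.ok (2 * 2) EX RL ⟨4 :: [4, 2, 4, 8, 2, 7, 2, 7, 2, 8, 7, 2, 4, 2, 4, 2, 5, 7, 5, 2], [2, 7, 2, 7, 2, 9, 6, 2, 6, 6], 16, false⟩) (lall (memL L) [4, 2, 4, 8, 2, 7, 2, 7, 2, 8, 7, 2, 4, 2, 4, 2, 5, 7, 5, 2]) = true := by decide +kernel

theorem rot4_70 : T.rot 4 [2, 4, 8, 2, 7, 2, 7, 2, 8, 7, 2, 4, 2, 4, 2, 5, 7, 5, 2, 4] (sel (ones 4060) ip4 70) = true := by decide +kernel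

theorem rot4_70r : band (Rule.ok (2 * 2) EX RL ⟨4 :: [2, 4, 8, 2, 7, 2, 7, 2, 8, 7, 2, 4, 2, 4, 2, 5, 7, 5, 2, 4], [2, 7, 2, 7, 2, 9, 6, 2, 6], 16, false⟩) (lall (memL L) [2, 4, 8, 2, 7, 2, 7, 2, 8, 7, 2, 4, 2, 4, 2, 5, 7, 5, 2, 4]) = true := by decide +kernel

theorem rot4_71 : T.rot 4 [8, 2, 7, 2, 7, 2, 8, 7, 2, 4, 2, 4, 2, 5, 7, 5, 2, 4, 4, 2] (sel (ones 4060) ip4 71) = true := by decide +kernel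

theorem rot4_71r : band (Rule.ok (2 * 2) EX RL ⟨4 :: [8, 2, 7, 2, 7, 2, 8, 7, 2, 4, 2, 4, 2, 5, 7, 5, 2, 4, 4, 2], [2, 7, 2, 7, 2, 9, 6], 16, false⟩) (lall (memL L) [8, 2, 7, 2, 7, 2, 8, 7, 2, 4, 2, 4, 2, 5, 7, 5, 2, 4, 4, 2]) = true := by decide +kernel

theorem rot4_72 : T.rot 4 [2, 7, 2, 1, 5, 7, 1, 7, 2, 4, 4, 2, 4, 2, 1, 7, 5, 7, 7, 5, 1, 2] (sel (ones 4060) ip4 72) = true := by decide +kernel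

theorem rot4_72r : band (Rule.ok (2 * 2) EX RL ⟨4 :: [2, 7, 2, 1, 5, 7, 1, 7, 2, 4, 4, 2, 4, 2, 1, 7, 5, 7, 7, 5, 1, 2], [0, 2], 31, true⟩) (lall (memL L) [2, 7, 2, 1, 5, 7, 1, 7, 2, 4, 4, 2, 4, 2, 1, 7, 5, 7, 7, 5, 1, 2]) = true := by decide +kernel

theorem rot4_73 : T.rot 4 [4, 2, 4, 2, 1, 7, 5, 7, 7, 5, 1, 2, 4, 2, 7, 2, 1, 5, 7, 1, 7, 2] (sel (ones 4060) ip4 73) = true := by decide +kernel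

theorem rot4_73r : band (Rule.ok (2 * 2) EX RL ⟨4 :: [4, 2, 4, 2, 1, 7, 5, 7, 7, 5, 1, 2, 4, 2, 7, 2, 1, 5, 7, 1, 7, 2], [8, 7, 7, 8, 7, 0, 2, 6, 2, 6, 6], 31, true⟩) (lall (memL L) [4, 2, 4, 2, 1, 7, 5, 7, 7, 5, 1, 2, 4, 2, 7, 2, 1, 5, 7, 1, 7, 2]) = true := by decide +kernel

theorem rot4_74 : T.rot 4 [2, 4, 2, 1, 7, 5, 7, 7, 5, 1, 2, 4, 2, 7, 2, 1, 5, 7, 1, 7, 2, 4] (sel (ones 4060) ip4 74) = true := by decide +kernel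

theorem rot4_74r : band (Rule.ok (2 * 2) EX RL ⟨4 :: [2, 4, 2, 1, 7, 5, 7, 7, 5, 1, 2, 4, 2, 7, 2, 1, 5, 7, 1, 7, 2, 4], [8, 7, 7, 8, 7, 0, 2, 6, 2, 6], 31, true⟩) (lall (memL L) [2, 4, 2, 1, 7, 5, 7, 7, 5, 1, 2, 4, 2, 7, 2, 1, 5, 7, 1, 7, 2, 4]) = true := by decide +kernel

theorem rot4_75 : T.rot 4 [2, 1, 7, 5, 7, 7, 5, 1, 2, 4, 2, 7, 2, 1, 5, 7, 1, 7, 2, 4, 4, 2] (sel (ones 4060) ip4 75) = true := by decide +kernel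

theorem rot4_75r : band (Rule.ok (2 * 2) EX RL ⟨4 :: [2, 1, 7, 5, 7, 7, 5, 1, 2, 4, 2, 7, 2, 1, 5, 7, 1, 7, 2, 4, 4, 2], [8, 7, 7, 8, 7, 0, 2, 6], 31, true⟩) (lall (memL L) [2, 1, 7, 5, 7, 7, 5, 1, 2, 4, 2, 7, 2, 1, 5, 7, 1, 7, 2, 4, 4, 2]) = true := by decide +kernel

theorem rot4_76 : T.rot 4 [4, 8, 4, 1, 2, 7, 2, 7, 7, 2, 4, 1, 4, 8, 1, 2, 4, 2, 7, 2, 1, 8] (sel (ones 4060) ip4 76) = true := by decide +kernel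

theorem rot4_76r : band (Rule.ok (2 * 2) EX RL ⟨4 :: [4, 8, 4, 1, 2, 7, 2, 7, 7, 2, 4, 1, 4, 8, 1, 2, 4, 2, 7, 2, 1, 8], [8], 31, false⟩) (lall (memL L) [4, 8, 4, 1, 2, 7, 2, 7, 7, 2, 4, 1, 4, 8, 1, 2, 4, 2, 7, 2, 1, 8]) = true := by decide +kernel

theorem rot4_77 : T.rot 4 [8, 4, 1, 2, 7, 2, 7, 7, 2, 4, 1, 4, 8, 1, 2, 4, 2, 7, 2, 1, 8, 4] (sel (ones 4060) ip4 77) = true := by decide +kernel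

theorem rot4_77r : band (Rule.ok (2 * 2) EX RL ⟨4 :: [8, 4, 1, 2, 7, 2, 7, 7, 2, 4, 1, 4, 8, 1, 2, 4, 2, 7, 2, 1, 8, 4], [8, 7], 31, false⟩) (lall (memL L) [8, 4, 1, 2, 7, 2, 7, 7, 2, 4, 1, 4, 8, 1, 2, 4, 2, 7, 2, 1, 8, 4]) = true := by decide +kernel

theorem rot4_78 : T.rot 4 [1, 2, 7, 2, 7, 7, 2, 4, 1, 4, 8, 1, 2, 4, 2, 7, 2, 1, 8, 4, 4, 8] (sel (ones 4060) ip4 78) = true := by decide +kernel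

theorem rot4_78r : band (Rule.ok (2 * 2) EX RL ⟨4 :: [1, 2, 7, 2, 7, 7, 2, 4, 1, 4, 8, 1, 2, 4, 2, 7, 2, 1, 8, 4, 4, 8], [8, 7, 7, 8], 31, false⟩) (lall (memL L) [1, 2, 7, 2, 7, 7, 2, 4, 1, 4, 8, 1, 2, 4, 2, 7, 2, 1, 8, 4, 4, 8]) = true := by decide +kernel

theorem rot4_79 : T.rot 4 [1, 4, 8, 1, 2, 4, 2, 7, 2, 1, 8, 4, 4, 8, 4, 1, 2, 7, 2, 7, 7, 2] (sel (ones 4060) ip4 79) = true := by decide +kernel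

theorem rot4_79r : band (Rule.ok (2 * 2) EX RL ⟨4 :: [1, 4, 8, 1, 2, 4, 2, 7, 2, 1, 8, 4, 4, 8, 4, 1, 2, 7, 2, 7, 7, 2], [0, 2, 7, 2, 6, 2, 0, 9, 6, 0, 6], 31, false⟩) (lall (memL L) [1, 4, 8, 1, 2, 4, 2, 7, 2, 1, 8, 4, 4, 8, 4, 1, 2, 7, 2, 7, 7, 2]) = true := by decide +kernel

theorem rot4_80 : T.rot 4 [8, 1, 2, 4, 2, 7, 2, 1, 8, 4, 4, 8, 4, 1, 2, 7, 2, 7, 7, 2, 4, 1] (sel (ones 4060) ip4 80) = true := by decide +kernel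

theorem rot4_80r : band (Rule.ok (2 * 2) EX RL ⟨4 :: [8, 1, 2, 4, 2, 7, 2, 1, 8, 4, 4, 8, 4, 1, 2, 7, 2, 7, 7, 2, 4, 1], [0, 2, 7, 2, 6, 2, 0, 9, 6], 31, false⟩) (lall (memL L) [8, 1, 2, 4, 2, 7, 2, 1, 8, 4, 4, 8, 4, 1, 2, 7, 2, 7, 7, 2, 4, 1]) = true := by decide +kernel

theorem rot4_81 : T.rot 4 [2, 7, 2, 1, 8, 4, 4, 8, 4, 1, 2, 7, 2, 7, 7, 2, 4, 1, 4, 8, 1, 2] (sel (ones 4060) ip4 81) = true := by decide +kernel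

theorem rot4_81r : band (Rule.ok (2 * 2) EX RL ⟨4 :: [2, 7, 2, 1, 8, 4, 4, 8, 4, 1, 2, 7, 2, 7, 7, 2, 4, 1, 4, 8, 1, 2], [0, 2, 7, 2, 6], 31, false⟩) (lall (memL L) [2, 7, 2, 1, 8, 4, 4, 8, 4, 1, 2, 7, 2, 7, 7, 2, 4, 1, 4, 8, 1, 2]) = true := by decide +kernel

theorem rot4_82 : T.rot 4 [8, 7, 7, 8, 8, 2, 4, 4, 5, 7, 2, 4, 4, 5, 7, 5, 2, 4, 8, 7, 7, 2, 5] (sel (ones 4060) ip4 82) = true := by decide +kernel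

theorem rot4_82r : band (Rule.ok (2 * 2) EX RL ⟨4 :: [8, 7, 7, 8, 8, 2, 4, 4, 5, 7, 2, 4, 4, 5, 7, 5, 2, 4, 8, 7, 7, 2, 5], [9], 9, true⟩) (lall (memL L) [8, 7, 7, 8, 8, 2, 4, 4, 5, 7, 2, 4, 4, 5, 7, 5, 2, 4, 8, 7, 7, 2, 5]) = true := by decide +kernel

theorem rot4_83 : T.rot 4 [4, 5, 7, 2, 4, 4, 5, 7, 5, 2, 4, 8, 7, 7, 2, 5, 4, 8, 7, 7, 8, 8, 2] (sel (ones 4060) ip4 83) = true := by decide +kernel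

theorem rot4_83r : band (Rule.ok (2 * 2) EX RL ⟨4 :: [4, 5, 7, 2, 4, 4, 5, 7, 5, 2, 4, 8, 7, 7, 2, 5, 4, 8, 7, 7, 8, 8, 2], [9, 7, 8, 6, 6, 8, 8, 2], 9, true⟩) (lall (memL L) [4, 5, 7, 2, 4, 4, 5, 7, 5, 2, 4, 8, 7, 7, 2, 5, 4, 8, 7, 7, 8, 8, 2]) = true := by decide +kernel

theorem rot4_84 : T.rot 4 [5, 7, 2, 4, 4, 5, 7, 5, 2, 4, 8, 7, 7, 2, 5, 4, 8, 7, 7, 8, 8, 2, 4] (sel (ones 4060) ip4 84) = true := by decide +kernel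

theorem rot4_84r : band (Rule.ok (2 * 2) EX RL ⟨4 :: [5, 7, 2, 4, 4, 5, 7, 5, 2, 4, 8, 7, 7, 2, 5, 4, 8, 7, 7, 8, 8, 2, 4], [9, 7, 8, 6, 6, 8, 8, 2, 7], 9, true⟩) (lall (memL L) [5, 7, 2, 4, 4, 5, 7, 5, 2, 4, 8, 7, 7, 2, 5, 4, 8, 7, 7, 8, 8, 2, 4]) = true := by decide +kernel

theorem rot4_85 : T.rot 4 [4, 5, 7, 5, 2, 4, 8, 7, 7, 2, 5, 4, 8, 7, 7, 8, 8, 2, 4, 4, 5, 7, 2] (sel (ones 4060) ip4 85) = true := by decide +kernel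

theorem rot4_85r : band (Rule.ok (2 * 2) EX RL ⟨4 :: [4, 5, 7, 5, 2, 4, 8, 7, 7, 2, 5, 4, 8, 7, 7, 8, 8, 2, 4, 4, 5, 7, 2], [2, 7, 7, 9, 6, 2, 8, 7, 8, 6, 6], 9, true⟩) (lall (memL L) [4, 5, 7, 5, 2, 4, 8, 7, 7, 2, 5, 4, 8, 7, 7, 8, 8, 2, 4, 4, 5, 7, 2]) = true := by decide +kernel

theorem rot4_86 : T.rot 4 [5, 7, 5, 2, 4, 8, 7, 7, 2, 5, 4, 8, 7, 7, 8, 8, 2, 4, 4, 5, 7, 2, 4] (sel (ones 4060) ip4 86) = true := by decide +kernel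

theorem rot4_86r : band (Rule.ok (2 * 2) EX RL ⟨4 :: [5, 7, 5, 2, 4, 8, 7, 7, 2, 5, 4, 8, 7, 7, 8, 8, 2, 4, 4, 5, 7, 2, 4], [2, 7, 7, 9, 6, 2, 8, 7, 8, 6], 9, true⟩) (lall (memL L) [5, 7, 5, 2, 4, 8, 7, 7, 2, 5, 4, 8, 7, 7, 8, 8, 2, 4, 4, 5, 7, 2, 4]) = true := by decide +kernel

theorem rot4_87 : T.rot 4 [8, 7, 7, 2, 5, 4, 8, 7, 7, 8, 8, 2, 4, 4, 5, 7, 2, 4, 4, 5, 7, 5, 2] (sel (ones 4060) ip4 87) = true := by decide +kernel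

theorem rot4_87r : band (Rule.ok (2 * 2) EX RL ⟨4 :: [8, 7, 7, 2, 5, 4, 8, 7, 7, 8, 8, 2, 4, 4, 5, 7, 2, 4, 4, 5, 7, 5, 2], [2, 7, 7, 9, 6], 9, true⟩) (lall (memL L) [8, 7, 7, 2, 5, 4, 8, 7, 7, 8, 8, 2, 4, 4, 5, 7, 2, 4, 4, 5, 7, 5, 2]) = true := by decide +kernel

theorem rot4_88 : T.rot 4 [4, 5, 7, 2, 8, 4, 8, 7, 7, 2, 4, 8, 7, 7, 2, 5, 5, 4, 4, 5, 7, 8, 2] (sel (ones 4060) ip4 88) = true := by decide +kernel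

theorem rot4_88r : band (Rule.ok (2 * 2) EX RL ⟨4 :: [4, 5, 7, 2, 8, 4, 8, 7, 7, 2, 4, 8, 7, 7, 2, 5, 5, 4, 4, 5, 7, 8, 2], [2], 9, false⟩) (lall (memL L) [4, 5, 7, 2, 8, 4, 8, 7, 7, 2, 4, 8, 7, 7, 2, 5, 5, 4, 4, 5, 7, 8, 2]) = true := by decide +kernel

theorem rot4_89 : T.rot 4 [5, 7, 2, 8, 4, 8, 7, 7, 2, 4, 8, 7, 7, 2, 5, 5, 4, 4, 5, 7, 8, 2, 4] (sel (ones 4060) ip4 89) = true := by decide +kernel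

theorem rot4_89r : band (Rule.ok (2 * 2) EX RL ⟨4 :: [5, 7, 2, 8, 4, 8, 7, 7, 2, 4, 8, 7, 7, 2, 5, 5, 4, 4, 5, 7, 8, 2, 4], [2, 7], 9, false⟩) (lall (memL L) [5, 7, 2, 8, 4, 8, 7, 7, 2, 4, 8, 7, 7, 2, 5, 5, 4, 4, 5, 7, 8, 2, 4]) = true := by decide +kernel

theorem rot4_90 : T.rot 4 [8, 7, 7, 2, 4, 8, 7, 7, 2, 5, 5, 4, 4, 5, 7, 8, 2, 4, 4, 5, 7, 2, 8] (sel (ones 4060) ip4 90) = true := by decide +kernel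

theorem rot4_90r : band (Rule.ok (2 * 2) EX RL ⟨4 :: [8, 7, 7, 2, 4, 8, 7, 7, 2, 5, 5, 4, 4, 5, 7, 8, 2, 4, 4, 5, 7, 2, 8], [2, 7, 7, 9, 6, 2, 8], 9, false⟩) (lall (memL L) [8, 7, 7, 2, 4, 8, 7, 7, 2, 5, 5, 4, 4, 5, 7, 8, 2, 4, 4, 5, 7, 2, 8]) = true := by decide +kernel

theorem rot4_91 : T.rot 4 [8, 7, 7, 2, 5, 5, 4, 4, 5, 7, 8, 2, 4, 4, 5, 7, 2, 8, 4, 8, 7, 7, 2] (sel (ones 4060) ip4 91) = true := by decide +kernel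

theorem rot4_91r : band (Rule.ok (2 * 2) EX RL ⟨4 :: [8, 7, 7, 2, 5, 5, 4, 4, 5, 7, 8, 2, 4, 4, 5, 7, 2, 8, 4, 8, 7, 7, 2], [9, 7, 8, 6, 6, 8, 8, 2, 7, 7, 9, 6], 9, false⟩) (lall (memL L) [8, 7, 7, 2, 5, 5, 4, 4, 5, 7, 8, 2, 4, 4, 5, 7, 2, 8, 4, 8, 7, 7, 2]) = true := by decide +kernel

theorem rot4_92 : T.rot 4 [4, 5, 7, 8, 2, 4, 4, 5, 7, 2, 8, 4, 8, 7, 7, 2, 4, 8, 7, 7, 2, 5, 5] (sel (ones 4060) ip4 92) = true := by decide +kernel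

theorem rot4_92r : band (Rule.ok (2 * 2) EX RL ⟨4 :: [4, 5, 7, 8, 2, 4, 4, 5, 7, 2, 8, 4, 8, 7, 7, 2, 4, 8, 7, 7, 2, 5, 5], [9, 7, 8, 6, 6], 9, false⟩) (lall (memL L) [4, 5, 7, 8, 2, 4, 4, 5, 7, 2, 8, 4, 8, 7, 7, 2, 4, 8, 7, 7, 2, 5, 5]) = true := by decide +kernel

theorem rot4_93 : T.rot 4 [5, 7, 8, 2, 4, 4, 5, 7, 2, 8, 4, 8, 7, 7, 2, 4, 8, 7, 7, 2, 5, 5, 4] (sel (ones 4060) ip4 93) = true := by decide +kernel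

theorem rot4_93r : band (Rule.ok (2 * 2) EX RL ⟨4 :: [5, 7, 8, 2, 4, 4, 5, 7, 2, 8, 4, 8, 7, 7, 2, 4, 8, 7, 7, 2, 5, 5, 4], [9, 7, 8, 6], 9, false⟩) (lall (memL L) [5, 7, 8, 2, 4, 4, 5, 7, 2, 8, 4, 8, 7, 7, 2, 4, 8, 7, 7, 2, 5, 5, 4]) = true := by decide +kernel

theorem rot4_94 : T.rot 4 [8, 7, 7, 2, 7, 4, 8, 7, 7, 8, 2, 4, 4, 5, 7, 2, 5, 4, 4, 5, 7, 4, 2] (sel (ones 4060) ip4 94) = true := by decide +kernel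

theorem rot4_94r : band (Rule.ok (2 * 2) EX RL ⟨4 :: [8, 7, 7, 2, 7, 4, 8, 7, 7, 8, 2, 4, 4, 5, 7, 2, 5, 4, 4, 5, 7, 4, 2], [7, 2], 12, true⟩) (lall (memL L) [8, 7, 7, 2, 7, 4, 8, 7, 7, 8, 2, 4, 4, 5, 7, 2, 5, 4, 4, 5, 7, 4, 2]) = true := by decide +kernel

theorem rot4_95 : T.rot 4 [4, 5, 7, 2, 5, 4, 4, 5, 7, 4, 2, 4, 8, 7, 7, 2, 7, 4, 8, 7, 7, 8, 2] (sel (ones 4060) ip4 95) = true := by decide +kernel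

theorem rot4_95r : band (Rule.ok (2 * 2) EX RL ⟨4 :: [4, 5, 7, 2, 5, 4, 4, 5, 7, 4, 2, 4, 8, 7, 7, 2, 7, 4, 8, 7, 7, 8, 2], [7, 8, 6, 6, 8, 2, 7, 8, 6, 6], 12, true⟩) (lall (memL L) [4, 5, 7, 2, 5, 4, 4, 5, 7, 4, 2, 4, 8, 7, 7, 2, 7, 4, 8, 7, 7, 8, 2]) = true := by decide +kernel

theorem rot4_96 : T.rot 4 [5, 7, 2, 5, 4, 4, 5, 7, 4, 2, 4, 8, 7, 7, 2, 7, 4, 8, 7, 7, 8, 2, 4] (sel (ones 4060) ip4 96) = true := by decide +kernel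

theorem rot4_96r : band (Rule.ok (2 * 2) EX RL ⟨4 :: [5, 7, 2, 5, 4, 4, 5, 7, 4, 2, 4, 8, 7, 7, 2, 7, 4, 8, 7, 7, 8, 2, 4], [7, 8, 6, 6, 8, 2, 7, 8, 6], 12, true⟩) (lall (memL L) [5, 7, 2, 5, 4, 4, 5, 7, 4, 2, 4, 8, 7, 7, 2, 7, 4, 8, 7, 7, 8, 2, 4]) = true := by decide +kernel

theorem rot4_97 : T.rot 4 [4, 5, 7, 4, 2, 4, 8, 7, 7, 2, 7, 4, 8, 7, 7, 8, 2, 4, 4, 5, 7, 2, 5] (sel (ones 4060) ip4 97) = true := by decide +kernel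

theorem rot4_97r : band (Rule.ok (2 * 2) EX RL ⟨4 :: [4, 5, 7, 4, 2, 4, 8, 7, 7, 2, 7, 4, 8, 7, 7, 8, 2, 4, 4, 5, 7, 2, 5], [7, 8, 6, 6], 12, true⟩) (lall (memL L) [4, 5, 7, 4, 2, 4, 8, 7, 7, 2, 7, 4, 8, 7, 7, 8, 2, 4, 4, 5, 7, 2, 5]) = true := by decide +kernel

theorem rot4_98 : T.rot 4 [5, 7, 4, 2, 4, 8, 7, 7, 2, 7, 4, 8, 7, 7, 8, 2, 4, 4, 5, 7, 2, 5, 4] (sel (ones 4060) ip4 98) = true := by decide +kernel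

theorem rot4_98r : band (Rule.ok (2 * 2) EX RL ⟨4 :: [5, 7, 4, 2, 4, 8, 7, 7, 2, 7, 4, 8, 7, 7, 8, 2, 4, 4, 5, 7, 2, 5, 4], [7, 8, 6], 12, true⟩) (lall (memL L) [5, 7, 4, 2, 4, 8, 7, 7, 2, 7, 4, 8, 7, 7, 8, 2, 4, 4, 5, 7, 2, 5, 4]) = true := by decide +kernel

theorem rot4_99 : T.rot 4 [8, 7, 7, 2, 5, 4, 4, 5, 7, 4, 2, 4, 4, 5, 7, 2, 7, 4, 8, 7, 7, 8, 2] (sel (ones 4060) ip4 99) = true := by decide +kernel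

theorem rot4_99r : band (Rule.ok (2 * 2) EX RL ⟨4 :: [8, 7, 7, 2, 5, 4, 4, 5, 7, 4, 2, 4, 4, 5, 7, 2, 7, 4, 8, 7, 7, 8, 2], [7, 8, 6, 6, 8, 2], 12, false⟩) (lall (memL L) [8, 7, 7, 2, 5, 4, 4, 5, 7, 4, 2, 4, 4, 5, 7, 2, 7, 4, 8, 7, 7, 8, 2]) = true := by decide +kernel

theorem rot4_100 : T.rot 4 [4, 5, 7, 4, 2, 4, 4, 5, 7, 2, 7, 4, 8, 7, 7, 8, 2, 4, 8, 7, 7, 2, 5] (sel (ones 4060) ip4 100) = true := by decide +kernel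

theorem rot4_100r : band (Rule.ok (2 * 2) EX RL ⟨4 :: [4, 5, 7, 4, 2, 4, 4, 5, 7, 2, 7, 4, 8, 7, 7, 8, 2, 4, 8, 7, 7, 2, 5], [7, 2, 7, 8, 6, 6, 2, 8, 6, 6], 12, false⟩) (lall (memL L) [4, 5, 7, 4, 2, 4, 4, 5, 7, 2, 7, 4, 8, 7, 7, 8, 2, 4, 8, 7, 7, 2, 5]) = true := by decide +kernel

theorem rot4_101 : T.rot 4 [5, 7, 4, 2, 4, 4, 5, 7, 2, 7, 4, 8, 7, 7, 8, 2, 4, 8, 7, 7, 2, 5, 4] (sel (ones 4060) ip4 101) = true := by decide +kernel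

theorem rot4_101r : band (Rule.ok (2 * 2) EX RL ⟨4 :: [5, 7, 4, 2, 4, 4, 5, 7, 2, 7, 4, 8, 7, 7, 8, 2, 4, 8, 7, 7, 2, 5, 4], [7, 2, 7, 8, 6, 6, 2, 8, 6], 12, false⟩) (lall (memL L) [5, 7, 4, 2, 4, 4, 5, 7, 2, 7, 4, 8, 7, 7, 8, 2, 4, 8, 7, 7, 2, 5, 4]) = true := by decide +kernel

theorem rot4_102 : T.rot 4 [4, 5, 7, 2, 7, 4, 8, 7, 7, 8, 2, 4, 8, 7, 7, 2, 5, 4, 4, 5, 7, 4, 2] (sel (ones 4060) ip4 102) = true := by decide +kernel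

theorem rot4_102r : band (Rule.ok (2 * 2) EX RL ⟨4 :: [4, 5, 7, 2, 7, 4, 8, 7, 7, 8, 2, 4, 8, 7, 7, 2, 5, 4, 4, 5, 7, 4, 2], [7, 2, 7, 8, 6, 6], 12, false⟩) (lall (memL L) [4, 5, 7, 2, 7, 4, 8, 7, 7, 8, 2, 4, 8, 7, 7, 2, 5, 4, 4, 5, 7, 4, 2]) = true := by decide +kernel

theorem rot4_103 : T.rot 4 [5, 7, 2, 7, 4, 8, 7, 7, 8, 2, 4, 8, 7, 7, 2, 5, 4, 4, 5, 7, 4, 2, 4] (sel (ones 4060) ip4 103) = true := by decide +kernel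

theorem rot4_103r : band (Rule.ok (2 * 2) EX RL ⟨4 :: [5, 7, 2, 7, 4, 8, 7, 7, 8, 2, 4, 8, 7, 7, 2, 5, 4, 4, 5, 7, 4, 2, 4], [7, 2, 7, 8, 6], 12, false⟩) (lall (memL L) [5, 7, 2, 7, 4, 8, 7, 7, 8, 2, 4, 8, 7, 7, 2, 5, 4, 4, 5, 7, 4, 2, 4]) = true := by decide +kernel

theorem rot4_104 : T.rot 4 [2, 7, 6, 2, 1, 2, 4, 2, 4, 2, 1, 2, 8, 7, 2, 8, 7, 5, 7, 5, 2, 1, 2, 1] (sel (ones 4060) ip4 104) = true := by decide +kernel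

theorem rot4_104r : band (Rule.ok (2 * 2) EX RL ⟨4 :: [2, 7, 6, 2, 1, 2, 4, 2, 4, 2, 1, 2, 8, 7, 2, 8, 7, 5, 7, 5, 2, 1, 2, 1], [0, 2, 0], 29, true⟩) (lall (memL L) [2, 7, 6, 2, 1, 2, 4, 2, 4, 2, 1, 2, 8, 7, 2, 8, 7, 5, 7, 5, 2, 1, 2, 1]) = true := by decide +kernel

theorem rot4_105 : T.rot 4 [2, 4, 2, 1, 2, 8, 7, 2, 8, 7, 5, 7, 5, 2, 1, 2, 1, 4, 2, 7, 6, 2, 1, 2] (sel (ones 4060) ip4 105) = true := by decide +kernel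

theorem rot4_105r : band (Rule.ok (2 * 2) EX RL ⟨4 :: [2, 4, 2, 1, 2, 8, 7, 2, 8, 7, 5, 7, 5, 2, 1, 2, 1, 4, 2, 7, 6, 2, 1, 2], [0, 2, 0, 7, 2, 6, 4, 2, 0, 2], 29, true⟩) (lall (memL L) [2, 4, 2, 1, 2, 8, 7, 2, 8, 7, 5, 7, 5, 2, 1, 2, 1, 4, 2, 7, 6, 2, 1, 2]) = true := by decide +kernel

theorem rot4_106 : T.rot 4 [2, 1, 2, 8, 7, 2, 8, 7, 5, 7, 5, 2, 1, 2, 1, 4, 2, 7, 6, 2, 1, 2, 4, 2] (sel (ones 4060) ip4 106) = true := by decide +kernel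

theorem rot4_106r : band (Rule.ok (2 * 2) EX RL ⟨4 :: [2, 1, 2, 8, 7, 2, 8, 7, 5, 7, 5, 2, 1, 2, 1, 4, 2, 7, 6, 2, 1, 2, 4, 2], [0, 2, 0, 7, 2, 6, 4, 2, 0, 2, 7, 2], 29, true⟩) (lall (memL L) [2, 1, 2, 8, 7, 2, 8, 7, 5, 7, 5, 2, 1, 2, 1, 4, 2, 7, 6, 2, 1, 2, 4, 2]) = true := by decide +kernel

theorem rot4_107 : T.rot 4 [8, 4, 5, 2, 4, 5, 2, 1, 2, 7, 2, 7, 2, 1, 2, 3, 4, 2, 7, 1, 2, 1, 2, 8] (sel (ones 4060) ip4 107) = true := by decide +kernel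

theorem rot4_107r : band (Rule.ok (2 * 2) EX RL ⟨4 :: [8, 4, 5, 2, 4, 5, 2, 1, 2, 7, 2, 7, 2, 1, 2, 3, 4, 2, 7, 1, 2, 1, 2, 8], [2, 8], 29, false⟩) (lall (memL L) [8, 4, 5, 2, 4, 5, 2, 1, 2, 7, 2, 7, 2, 1, 2, 3, 4, 2, 7, 1, 2, 1, 2, 8]) = true := by decide +kernel

theorem rot4_108 : T.rot 4 [5, 2, 4, 5, 2, 1, 2, 7, 2, 7, 2, 1, 2, 3, 4, 2, 7, 1, 2, 1, 2, 8, 4, 8] (sel (ones 4060) ip4 108) = true := by decide +kernel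

theorem rot4_108r : band (Rule.ok (2 * 2) EX RL ⟨4 :: [5, 2, 4, 5, 2, 1, 2, 7, 2, 7, 2, 1, 2, 3, 4, 2, 7, 1, 2, 1, 2, 8, 4, 8], [2, 8, 7, 8], 29, false⟩) (lall (memL L) [5, 2, 4, 5, 2, 1, 2, 7, 2, 7, 2, 1, 2, 3, 4, 2, 7, 1, 2, 1, 2, 8, 4, 8]) = true := by decide +kernel

theorem rot4_109 : T.rot 4 [5, 2, 1, 2, 7, 2, 7, 2, 1, 2, 3, 4, 2, 7, 1, 2, 1, 2, 8, 4, 8, 4, 5, 2] (sel (ones 4060) ip4 109) = true := by decide +kernel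

theorem rot4_109r : band (Rule.ok (2 * 2) EX RL ⟨4 :: [5, 2, 1, 2, 7, 2, 7, 2, 1, 2, 3, 4, 2, 7, 1, 2, 1, 2, 8, 4, 8, 4, 5, 2], [2, 8, 7, 8, 7, 9, 2], 29, false⟩) (lall (memL L) [5, 2, 1, 2, 7, 2, 7, 2, 1, 2, 3, 4, 2, 7, 1, 2, 1, 2, 8, 4, 8, 4, 5, 2]) = true := by decide +kernel

theorem rot4_110 : T.rot 4 [2, 7, 1, 2, 1, 2, 8, 4, 8, 4, 5, 2, 4, 5, 2, 1, 2, 7, 2, 7, 2, 1, 2, 3] (sel (ones 4060) ip4 110) = true := by decide +kernel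

theorem rot4_110r : band (Rule.ok (2 * 2) EX RL ⟨4 :: [2, 7, 1, 2, 1, 2, 8, 4, 8, 4, 5, 2, 4, 5, 2, 1, 2, 7, 2, 7, 2, 1, 2, 3], [0, 2, 0, 7, 2, 6], 29, false⟩) (lall (memL L) [2, 7, 1, 2, 1, 2, 8, 4, 8, 4, 5, 2, 4, 5, 2, 1, 2, 7, 2, 7, 2, 1, 2, 3]) = true := by decide +kernel

theorem rot4_111 : T.rot 4 [5, 7, 2, 2, 4, 4, 5, 7, 2, 2, 4, 4, 5, 7, 2, 2, 4, 4, 5, 7, 2, 8, 5, 2, 4] (sel (ones 4060) ip4 111) = true := by decide +kernel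

theorem rot4_111r : band (Rule.ok (2 * 2) EX RL ⟨4 :: [5, 7, 2, 2, 4, 4, 5, 7, 2, 2, 4, 4, 5, 7, 2, 2, 4, 4, 5, 7, 2, 8, 5, 2, 4], [7], 5, false⟩) (lall (memL L) [5, 7, 2, 2, 4, 4, 5, 7, 2, 2, 4, 4, 5, 7, 2, 2, 4, 4, 5, 7, 2, 8, 5, 2, 4]) = true := by decide +kernel

theorem rot4_112 : T.rot 4 [5, 7, 2, 2, 4, 4, 5, 7, 2, 2, 4, 4, 5, 7, 2, 8, 5, 2, 4, 4, 5, 7, 2, 2, 4] (sel (ones 4060) ip4 112) = true := by decide +kernel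

theorem rot4_112r : band (Rule.ok (2 * 2) EX RL ⟨4 :: [5, 7, 2, 2, 4, 4, 5, 7, 2, 2, 4, 4, 5, 7, 2, 8, 5, 2, 4, 4, 5, 7, 2, 2, 4], [7], 5, false⟩) (lall (memL L) [5, 7, 2, 2, 4, 4, 5, 7, 2, 2, 4, 4, 5, 7, 2, 8, 5, 2, 4, 4, 5, 7, 2, 2, 4]) = true := by decide +kernel

theorem rot4_113 : T.rot 4 [5, 7, 2, 2, 4, 4, 5, 7, 2, 8, 5, 2, 4, 4, 5, 7, 2, 2, 4, 4, 5, 7, 2, 2, 4] (sel (ones 4060) ip4 113) = true := by decide +kernel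

theorem rot4_113r : band (Rule.ok (2 * 2) EX RL ⟨4 :: [5, 7, 2, 2, 4, 4, 5, 7, 2, 8, 5, 2, 4, 4, 5, 7, 2, 2, 4, 4, 5, 7, 2, 2, 4], [7], 5, false⟩) (lall (memL L) [5, 7, 2, 2, 4, 4, 5, 7, 2, 8, 5, 2, 4, 4, 5, 7, 2, 2, 4, 4, 5, 7, 2, 2, 4]) = true := by decide +kernel

theorem rot4_114 : T.rot 4 [5, 7, 2, 8, 5, 2, 4, 4, 5, 7, 2, 2, 4, 4, 5, 7, 2, 2, 4, 4, 5, 7, 2, 2, 4] (sel (ones 4060) ip4 114) = true := by decide +kernel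

theorem rot4_114r : band (Rule.ok (2 * 2) EX RL ⟨4 :: [5, 7, 2, 8, 5, 2, 4, 4, 5, 7, 2, 2, 4, 4, 5, 7, 2, 2, 4, 4, 5, 7, 2, 2, 4], [7], 5, false⟩) (lall (memL L) [5, 7, 2, 8, 5, 2, 4, 4, 5, 7, 2, 2, 4, 4, 5, 7, 2, 2, 4, 4, 5, 7, 2, 2, 4]) = true := by decide +kernel

theorem rot4_115 : T.rot 4 [5, 7, 2, 8, 2, 4, 4, 5, 7, 2, 8, 2, 4, 4, 5, 7, 2, 8, 2, 4, 4, 5, 7, 2, 8, 2, 4] (sel (ones 4060) ip4 115) = true := by decide +kernel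

theorem rot4_115r : band (Rule.ok (2 * 2) EX RL ⟨4 :: [5, 7, 2, 8, 2, 4, 4, 5, 7, 2, 8, 2, 4, 4, 5, 7, 2, 8, 2, 4, 4, 5, 7, 2, 8, 2, 4], [2, 7], 0, true⟩) (lall (memL L) [5, 7, 2, 8, 2, 4, 4, 5, 7, 2, 8, 2, 4, 4, 5, 7, 2, 8, 2, 4, 4, 5, 7, 2, 8, 2, 4]) = true := by decide +kernel

theorem rot4_116 : T.rot 4 [8, 7, 7, 2, 5, 2, 4, 8, 7, 7, 2, 5, 2, 4, 8, 7, 7, 2, 5, 2, 4, 8, 7, 7, 2, 5, 2] (sel (ones 4060) ip4 116) = true := by decide +kernel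

theorem rot4_116r : band (Rule.ok (2 * 2) EX RL ⟨4 :: [8, 7, 7, 2, 5, 2, 4, 8, 7, 7, 2, 5, 2, 4, 8, 7, 7, 2, 5, 2, 4, 8, 7, 7, 2, 5, 2], [9, 2], 0, false⟩) (lall (memL L) [8, 7, 7, 2, 5, 2, 4, 8, 7, 7, 2, 5, 2, 4, 8, 7, 7, 2, 5, 2, 4, 8, 7, 7, 2, 5, 2]) = true := by decide +kernel

theorem rot4_117 : T.rot 4 [5, 4, 4, 2, 7, 7, 8, 7, 2, 4, 5, 2, 4, 4, 5, 7, 2, 7, 2, 4, 8, 7, 7, 2, 4, 8, 7, 2] (sel (ones 4060) ip4 117) = true := by decide +kernel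

theorem rot4_117r : band (Rule.ok (2 * 2) EX RL ⟨4 :: [5, 4, 4, 2, 7, 7, 8, 7, 2, 4, 5, 2, 4, 4, 5, 7, 2, 7, 2, 4, 8, 7, 7, 2, 4, 8, 7, 2], [2], 17, true⟩) (lall (memL L) [5, 4, 4, 2, 7, 7, 8, 7, 2, 4, 5, 2, 4, 4, 5, 7, 2, 7, 2, 4, 8, 7, 7, 2, 4, 8, 7, 2]) = true := by decide +kernel

theorem rot4_118 : T.rot 4 [4, 2, 7, 7, 8, 7, 2, 4, 5, 2, 4, 4, 5, 7, 2, 7, 2, 4, 8, 7, 7, 2, 4, 8, 7, 2, 4, 5] (sel (ones 4060) ip4 118) = true := by decide +kernel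

theorem rot4_118r : band (Rule.ok (2 * 2) EX RL ⟨4 :: [4, 2, 7, 7, 8, 7, 2, 4, 5, 2, 4, 4, 5, 7, 2, 7, 2, 4, 8, 7, 7, 2, 4, 8, 7, 2, 4, 5], [2, 7, 9], 17, true⟩) (lall (memL L) [4, 2, 7, 7, 8, 7, 2, 4, 5, 2, 4, 4, 5, 7, 2, 7, 2, 4, 8, 7, 7, 2, 4, 8, 7, 2, 4, 5]) = true := by decide +kernel

theorem rot4_119 : T.rot 4 [2, 7, 7, 8, 7, 2, 4, 5, 2, 4, 4, 5, 7, 2, 7, 2, 4, 8, 7, 7, 2, 4, 8, 7, 2, 4, 5, 4] (sel (ones 4060) ip4 119) = true := by decide +kernel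

theorem rot4_119r : band (Rule.ok (2 * 2) EX RL ⟨4 :: [2, 7, 7, 8, 7, 2, 4, 5, 2, 4, 4, 5, 7, 2, 7, 2, 4, 8, 7, 7, 2, 4, 8, 7, 2, 4, 5, 4], [2, 7, 9, 7], 17, true⟩) (lall (memL L) [2, 7, 7, 8, 7, 2, 4, 5, 2, 4, 4, 5, 7, 2, 7, 2, 4, 8, 7, 7, 2, 4, 8, 7, 2, 4, 5, 4]) = true := by decide +kernel

theorem rot4_120 : T.rot 4 [5, 2, 4, 4, 5, 7, 2, 7, 2, 4, 8, 7, 7, 2, 4, 8, 7, 2, 4, 5, 4, 4, 2, 7, 7, 8, 7, 2] (sel (ones 4060) ip4 120) = true := by decide +kernel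

theorem rot4_120r : band (Rule.ok (2 * 2) EX RL ⟨4 :: [5, 2, 4, 4, 5, 7, 2, 7, 2, 4, 8, 7, 7, 2, 4, 8, 7, 2, 4, 5, 4, 4, 2, 7, 7, 8, 7, 2], [2, 7, 9, 7, 7, 2, 6, 6, 8, 6, 2], 17, true⟩) (lall (memL L) [5, 2, 4, 4, 5, 7, 2, 7, 2, 4, 8, 7, 7, 2, 4, 8, 7, 2, 4, 5, 4, 4, 2, 7, 7, 8, 7, 2]) = true := by decide +kernel

theorem rot4_121 : T.rot 4 [5, 7, 2, 7, 2, 4, 8, 7, 7, 2, 4, 8, 7, 2, 4, 5, 4, 4, 2, 7, 7, 8, 7, 2, 4, 5, 2, 4] (sel (ones 4060) ip4 121) = true := by decide +kernel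

theorem rot4_121r : band (Rule.ok (2 * 2) EX RL ⟨4 :: [5, 7, 2, 7, 2, 4, 8, 7, 7, 2, 4, 8, 7, 2, 4, 5, 4, 4, 2, 7, 7, 8, 7, 2, 4, 5, 2, 4], [7, 9, 6, 2, 7, 7, 9, 6, 2, 7, 2, 7, 8, 6], 17, true⟩) (lall (memL L) [5, 7, 2, 7, 2, 4, 8, 7, 7, 2, 4, 8, 7, 2, 4, 5, 4, 4, 2, 7, 7, 8, 7, 2, 4, 5, 2, 4]) = true := by decide +kernel

theorem rot4_122 : T.rot 4 [8, 7, 7, 2, 4, 8, 7, 2, 4, 5, 4, 4, 2, 7, 7, 8, 7, 2, 4, 5, 2, 4, 4, 5, 7, 2, 7, 2] (sel (ones 4060) ip4 122) = true := by decide +kernel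

theorem rot4_122r : band (Rule.ok (2 * 2) EX RL ⟨4 :: [8, 7, 7, 2, 4, 8, 7, 2, 4, 5, 4, 4, 2, 7, 7, 8, 7, 2, 4, 5, 2, 4, 4, 5, 7, 2, 7, 2], [7, 9, 6, 2, 7, 7, 9, 6], 17, true⟩) (lall (memL L) [8, 7, 7, 2, 4, 8, 7, 2, 4, 5, 4, 4, 2, 7, 7, 8, 7, 2, 4, 5, 2, 4, 4, 5, 7, 2, 7, 2]) = true := by decide +kernel

theorem rot4_123 : T.rot 4 [8, 7, 2, 4, 5, 4, 4, 2, 7, 7, 8, 7, 2, 4, 5, 2, 4, 4, 5, 7, 2, 7, 2, 4, 8, 7, 7, 2] (sel (ones 4060) ip4 123) = true := by decide +kernel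

theorem rot4_123r : band (Rule.ok (2 * 2) EX RL ⟨4 :: [8, 7, 2, 4, 5, 4, 4, 2, 7, 7, 8, 7, 2, 4, 5, 2, 4, 4, 5, 7, 2, 7, 2, 4, 8, 7, 7, 2], [7, 9, 6], 17, true⟩) (lall (memL L) [8, 7, 2, 4, 5, 4, 4, 2, 7, 7, 8, 7, 2, 4, 5, 2, 4, 4, 5, 7, 2, 7, 2, 4, 8, 7, 7, 2]) = true := by decide +kernel

theorem rot4_124 : T.rot 4 [5, 7, 2, 4, 4, 5, 7, 2, 4, 2, 4, 8, 7, 7, 2, 8, 7, 2, 4, 5, 4, 4, 2, 7, 7, 8, 7, 2] (sel (ones 4060) ip4 124) = true := by decide +kernel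

theorem rot4_124r : band (Rule.ok (2 * 2) EX RL ⟨4 :: [5, 7, 2, 4, 4, 5, 7, 2, 4, 2, 4, 8, 7, 7, 2, 8, 7, 2, 4, 5, 4, 4, 2, 7, 7, 8, 7, 2], [], 17, false⟩) (lall (memL L) [5, 7, 2, 4, 4, 5, 7, 2, 4, 2, 4, 8, 7, 7, 2, 8, 7, 2, 4, 5, 4, 4, 2, 7, 7, 8, 7, 2]) = true := by decide +kernel

theorem rot4_125 : T.rot 4 [4, 5, 7, 2, 4, 2, 4, 8, 7, 7, 2, 8, 7, 2, 4, 5, 4, 4, 2, 7, 7, 8, 7, 2, 4, 5, 7, 2] (sel (ones 4060) ip4 125) = true := by decide +kernel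

theorem rot4_125r : band (Rule.ok (2 * 2) EX RL ⟨4 :: [4, 5, 7, 2, 4, 2, 4, 8, 7, 7, 2, 8, 7, 2, 4, 5, 4, 4, 2, 7, 7, 8, 7, 2, 4, 5, 7, 2], [7, 9, 6, 2], 17, false⟩) (lall (memL L) [4, 5, 7, 2, 4, 2, 4, 8, 7, 7, 2, 8, 7, 2, 4, 5, 4, 4, 2, 7, 7, 8, 7, 2, 4, 5, 7, 2]) = true := by decide +kernel

theorem rot4_126 : T.rot 4 [5, 7, 2, 4, 2, 4, 8, 7, 7, 2, 8, 7, 2, 4, 5, 4, 4, 2, 7, 7, 8, 7, 2, 4, 5, 7, 2, 4] (sel (ones 4060) ip4 126) = true := by decide +kernel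

theorem rot4_126r : band (Rule.ok (2 * 2) EX RL ⟨4 :: [5, 7, 2, 4, 2, 4, 8, 7, 7, 2, 8, 7, 2, 4, 5, 4, 4, 2, 7, 7, 8, 7, 2, 4, 5, 7, 2, 4], [7, 9, 6, 2, 7], 17, false⟩) (lall (memL L) [5, 7, 2, 4, 2, 4, 8, 7, 7, 2, 8, 7, 2, 4, 5, 4, 4, 2, 7, 7, 8, 7, 2, 4, 5, 7, 2, 4]) = true := by decide +kernel

theorem rot4_127 : T.rot 4 [2, 4, 8, 7, 7, 2, 8, 7, 2, 4, 5, 4, 4, 2, 7, 7, 8, 7, 2, 4, 5, 7, 2, 4, 4, 5, 7, 2] (sel (ones 4060) ip4 127) = true := by decide +kernel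

theorem rot4_127r : band (Rule.ok (2 * 2) EX RL ⟨4 :: [2, 4, 8, 7, 7, 2, 8, 7, 2, 4, 5, 4, 4, 2, 7, 7, 8, 7, 2, 4, 5, 7, 2, 4, 4, 5, 7, 2], [7, 9, 6, 2, 7, 7, 9, 6, 2], 17, false⟩) (lall (memL L) [2, 4, 8, 7, 7, 2, 8, 7, 2, 4, 5, 4, 4, 2, 7, 7, 8, 7, 2, 4, 5, 7, 2, 4, 4, 5, 7, 2]) = true := by decide +kernel

theorem rot4_128 : T.rot 4 [8, 7, 7, 2, 8, 7, 2, 4, 5, 4, 4, 2, 7, 7, 8, 7, 2, 4, 5, 7, 2, 4, 4, 5, 7, 2, 4, 2] (sel (ones 4060) ip4 128) = true := by decide +kernel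

theorem rot4_128r : band (Rule.ok (2 * 2) EX RL ⟨4 :: [8, 7, 7, 2, 8, 7, 2, 4, 5, 4, 4, 2, 7, 7, 8, 7, 2, 4, 5, 7, 2, 4, 4, 5, 7, 2, 4, 2], [7, 9, 6, 2, 7, 7, 9, 6, 2, 7, 2], 17, false⟩) (lall (memL L) [8, 7, 7, 2, 8, 7, 2, 4, 5, 4, 4, 2, 7, 7, 8, 7, 2, 4, 5, 7, 2, 4, 4, 5, 7, 2, 4, 2]) = true := by decide +kernel

theorem rot4_129 : T.rot 4 [5, 4, 4, 2, 7, 7, 8, 7, 2, 4, 5, 7, 2, 4, 4, 5, 7, 2, 4, 2, 4, 8, 7, 7, 2, 8, 7, 2] (sel (ones 4060) ip4 129) = true := by decide +kernel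

theorem rot4_129r : band (Rule.ok (2 * 2) EX RL ⟨4 :: [5, 4, 4, 2, 7, 7, 8, 7, 2, 4, 5, 7, 2, 4, 4, 5, 7, 2, 4, 2, 4, 8, 7, 7, 2, 8, 7, 2], [2, 7, 9, 7, 7, 2, 6, 6, 8, 6], 17, false⟩) (lall (memL L) [5, 4, 4, 2, 7, 7, 8, 7, 2, 4, 5, 7, 2, 4, 4, 5, 7, 2, 4, 2, 4, 8, 7, 7, 2, 8, 7, 2]) = true := by decide +kernel

theorem rot4_130 : T.rot 4 [4, 2, 7, 7, 8, 7, 2, 4, 5, 7, 2, 4, 4, 5, 7, 2, 4, 2, 4, 8, 7, 7, 2, 8, 7, 2, 4, 5] (sel (ones 4060) ip4 130) = true := by decide +kernel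

theorem rot4_130r : band (Rule.ok (2 * 2) EX RL ⟨4 :: [4, 2, 7, 7, 8, 7, 2, 4, 5, 7, 2, 4, 4, 5, 7, 2, 4, 2, 4, 8, 7, 7, 2, 8, 7, 2, 4, 5], [2, 7, 9, 7, 7, 2, 6, 6], 17, false⟩) (lall (memL L) [4, 2, 7, 7, 8, 7, 2, 4, 5, 7, 2, 4, 4, 5, 7, 2, 4, 2, 4, 8, 7, 7, 2, 8, 7, 2, 4, 5]) = true := by decide +kernel

theorem rot4_131 : T.rot 4 [2, 7, 7, 8, 7, 2, 4, 5, 7, 2, 4, 4, 5, 7, 2, 4, 2, 4, 8, 7, 7, 2, 8, 7, 2, 4, 5, 4] (sel (ones 4060) ip4 131) = true := by decide +kernel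

theorem rot4_131r : band (Rule.ok (2 * 2) EX RL ⟨4 :: [2, 7, 7, 8, 7, 2, 4, 5, 7, 2, 4, 4, 5, 7, 2, 4, 2, 4, 8, 7, 7, 2, 8, 7, 2, 4, 5, 4], [2, 7, 9, 7, 7, 2, 6], 17, false⟩) (lall (memL L) [2, 7, 7, 8, 7, 2, 4, 5, 7, 2, 4, 4, 5, 7, 2, 4, 2, 4, 8, 7, 7, 2, 8, 7, 2, 4, 5, 4]) = true := by decide +kernel

theorem rot4_132 : T.rot 4 [5, 2, 4, 8, 7, 7, 2, 8, 7, 2, 4, 4, 5, 7, 2, 4, 4, 5, 7, 8, 2, 4, 4, 5, 7, 2, 2, 4, 4, 5, 7, 2] (sel (ones 4060) ip4 132) = true := by decide +kernel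

theorem rot4_132r : band (Rule.ok (2 * 2) EX RL ⟨4 :: [5, 2, 4, 8, 7, 7, 2, 8, 7, 2, 4, 4, 5, 7, 2, 4, 4, 5, 7, 8, 2, 4, 4, 5, 7, 2, 2, 4, 4, 5, 7, 2], [], 14, true⟩) (lall (memL L) [5, 2, 4, 8, 7, 7, 2, 8, 7, 2, 4, 4, 5, 7, 2, 4, 4, 5, 7, 8, 2, 4, 4, 5, 7, 2, 2, 4, 4, 5, 7, 2]) = true := by decide +kernel

theorem rot4_133 : T.rot 4 [8, 7, 7, 2, 8, 7, 2, 4, 4, 5, 7, 2, 4, 4, 5, 7, 8, 2, 4, 4, 5, 7, 2, 2, 4, 4, 5, 7, 2, 4, 5, 2] (sel (ones 4060) ip4 133) = true := by decide +kernel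

theorem rot4_133r : band (Rule.ok (2 * 2) EX RL ⟨4 :: [8, 7, 7, 2, 8, 7, 2, 4, 4, 5, 7, 2, 4, 4, 5, 7, 8, 2, 4, 4, 5, 7, 2, 2, 4, 4, 5, 7, 2, 4, 5, 2], [7, 9, 2], 14, true⟩) (lall (memL L) [8, 7, 7, 2, 8, 7, 2, 4, 4, 5, 7, 2, 4, 4, 5, 7, 8, 2, 4, 4, 5, 7, 2, 2, 4, 4, 5, 7, 2, 4, 5, 2]) = true := by decide +kernel

theorem rot4_134 : T.rot 4 [5, 7, 2, 4, 4, 5, 7, 8, 2, 4, 4, 5, 7, 2, 2, 4, 4, 5, 7, 2, 4, 5, 2, 4, 8, 7, 7, 2, 8, 7, 2, 4] (sel (ones 4060) ip4 134) = true := by decide +kernel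

theorem rot4_134r : band (Rule.ok (2 * 2) EX RL ⟨4 :: [5, 7, 2, 4, 4, 5, 7, 8, 2, 4, 4, 5, 7, 2, 2, 4, 4, 5, 7, 2, 4, 5, 2, 4, 8, 7, 7, 2, 8, 7, 2, 4], [7, 9, 2, 7, 8, 6, 6, 2, 8, 6, 2, 7], 14, true⟩) (lall (memL L) [5, 7, 2, 4, 4, 5, 7, 8, 2, 4, 4, 5, 7, 2, 2, 4, 4, 5, 7, 2, 4, 5, 2, 4, 8, 7, 7, 2, 8, 7, 2, 4]) = true := by decide +kernel

theorem rot4_135 : T.rot 4 [4, 5, 7, 8, 2, 4, 4, 5, 7, 2, 2, 4, 4, 5, 7, 2, 4, 5, 2, 4, 8, 7, 7, 2, 8, 7, 2, 4, 4, 5, 7, 2] (sel (ones 4060) ip4 135) = true := by decide +kernel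

theorem rot4_135r : band (Rule.ok (2 * 2) EX RL ⟨4 :: [4, 5, 7, 8, 2, 4, 4, 5, 7, 2, 2, 4, 4, 5, 7, 2, 4, 5, 2, 4, 8, 7, 7, 2, 8, 7, 2, 4, 4, 5, 7, 2], [2, 7, 8, 6, 8, 6, 6, 2, 9, 7, 8, 6, 6], 14, true⟩) (lall (memL L) [4, 5, 7, 8, 2, 4, 4, 5, 7, 2, 2, 4, 4, 5, 7, 2, 4, 5, 2, 4, 8, 7, 7, 2, 8, 7, 2, 4, 4, 5, 7, 2]) = true := by decide +kernel

theorem rot4_136 : T.rot 4 [5, 7, 8, 2, 4, 4, 5, 7, 2, 2, 4, 4, 5, 7, 2, 4, 5, 2, 4, 8, 7, 7, 2, 8, 7, 2, 4, 4, 5, 7, 2, 4] (sel (ones 4060) ip4 136) = true := by decide +kernel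

theorem rot4_136r : band (Rule.ok (2 * 2) EX RL ⟨4 :: [5, 7, 8, 2, 4, 4, 5, 7, 2, 2, 4, 4, 5, 7, 2, 4, 5, 2, 4, 8, 7, 7, 2, 8, 7, 2, 4, 4, 5, 7, 2, 4], [2, 7, 8, 6, 8, 6, 6, 2, 9, 7, 8, 6], 14, true⟩) (lall (memL L) [5, 7, 8, 2, 4, 4, 5, 7, 2, 2, 4, 4, 5, 7, 2, 4, 5, 2, 4, 8, 7, 7, 2, 8, 7, 2, 4, 4, 5, 7, 2, 4]) = true := by decide +kernel

theorem rot4_137 : T.rot 4 [4, 5, 7, 2, 2, 4, 4, 5, 7, 2, 4, 5, 2, 4, 8, 7, 7, 2, 8, 7, 2, 4, 4, 5, 7, 2, 4, 4, 5, 7, 8, 2] (sel (ones 4060) ip4 137) = true := by decide +kernel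

theorem rot4_137r : band (Rule.ok (2 * 2) EX RL ⟨4 :: [4, 5, 7, 2, 2, 4, 4, 5, 7, 2, 4, 5, 2, 4, 8, 7, 7, 2, 8, 7, 2, 4, 4, 5, 7, 2, 4, 4, 5, 7, 8, 2], [2, 7, 8, 6, 8, 6, 6], 14, true⟩) (lall (memL L) [4, 5, 7, 2, 2, 4, 4, 5, 7, 2, 4, 5, 2, 4, 8, 7, 7, 2, 8, 7, 2, 4, 4, 5, 7, 2, 4, 4, 5, 7, 8, 2]) = true := by decide +kernel

theorem rot4_138 : T.rot 4 [5, 7, 2, 2, 4, 4, 5, 7, 2, 4, 5, 2, 4, 8, 7, 7, 2, 8, 7, 2, 4, 4, 5, 7, 2, 4, 4, 5, 7, 8, 2, 4] (sel (ones 4060) ip4 138) = true := by decide +kernel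

theorem rot4_138r : band (Rule.ok (2 * 2) EX RL ⟨4 :: [5, 7, 2, 2, 4, 4, 5, 7, 2, 4, 5, 2, 4, 8, 7, 7, 2, 8, 7, 2, 4, 4, 5, 7, 2, 4, 4, 5, 7, 8, 2, 4], [2, 7, 8, 6, 8, 6], 14, true⟩) (lall (memL L) [5, 7, 2, 2, 4, 4, 5, 7, 2, 4, 5, 2, 4, 8, 7, 7, 2, 8, 7, 2, 4, 4, 5, 7, 2, 4, 4, 5, 7, 8, 2, 4]) = true := by decide +kernel

theorem rot4_139 : T.rot 4 [5, 7, 2, 4, 5, 2, 4, 8, 7, 7, 2, 8, 7, 2, 4, 4, 5, 7, 2, 4, 4, 5, 7, 8, 2, 4, 4, 5, 7, 2, 2, 4] (sel (ones 4060) ip4 139) = true := by decide +kernel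

theorem rot4_139r : band (Rule.ok (2 * 2) EX RL ⟨4 :: [5, 7, 2, 4, 5, 2, 4, 8, 7, 7, 2, 8, 7, 2, 4, 4, 5, 7, 2, 4, 4, 5, 7, 8, 2, 4, 4, 5, 7, 2, 2, 4], [2, 7, 8, 6], 14, true⟩) (lall (memL L) [5, 7, 2, 4, 5, 2, 4, 8, 7, 7, 2, 8, 7, 2, 4, 4, 5, 7, 2, 4, 4, 5, 7, 8, 2, 4, 4, 5, 7, 2, 2, 4]) = true := by decide +kernel

theorem rot4_140 : T.rot 4 [8, 7, 7, 2, 2, 4, 8, 7, 7, 2, 5, 4, 8, 7, 7, 2, 4, 8, 7, 7, 2, 4, 5, 2, 4, 4, 5, 7, 2, 8, 7, 2] (sel (ones 4060) ip4 140) = true := by decide +kernel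

theorem rot4_140r : band (Rule.ok (2 * 2) EX RL ⟨4 :: [8, 7, 7, 2, 2, 4, 8, 7, 7, 2, 5, 4, 8, 7, 7, 2, 4, 8, 7, 7, 2, 4, 5, 2, 4, 4, 5, 7, 2, 8, 7, 2], [2], 14, false⟩) (lall (memL L) [8, 7, 7, 2, 2, 4, 8, 7, 7, 2, 5, 4, 8, 7, 7, 2, 4, 8, 7, 7, 2, 4, 5, 2, 4, 4, 5, 7, 2, 8, 7, 2]) = true := by decide +kernel

theorem rot4_141 : T.rot 4 [8, 7, 7, 2, 4, 8, 7, 7, 2, 4, 5, 2, 4, 4, 5, 7, 2, 8, 7, 2, 4, 8, 7, 7, 2, 2, 4, 8, 7, 7, 2, 5] (sel (ones 4060) ip4 141) = true := by decide +kernel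

theorem rot4_141r : band (Rule.ok (2 * 2) EX RL ⟨4 :: [8, 7, 7, 2, 4, 8, 7, 7, 2, 4, 5, 2, 4, 4, 5, 7, 2, 8, 7, 2, 4, 8, 7, 7, 2, 2, 4, 8, 7, 7, 2, 5], [2, 7, 8, 6, 8, 6, 6, 2, 9], 14, false⟩) (lall (memL L) [8, 7, 7, 2, 4, 8, 7, 7, 2, 4, 5, 2, 4, 4, 5, 7, 2, 8, 7, 2, 4, 8, 7, 7, 2, 2, 4, 8, 7, 7, 2, 5]) = true := by decide +kernel

theorem rot4_142 : T.rot 4 [8, 7, 7, 2, 4, 5, 2, 4, 4, 5, 7, 2, 8, 7, 2, 4, 8, 7, 7, 2, 2, 4, 8, 7, 7, 2, 5, 4, 8, 7, 7, 2] (sel (ones 4060) ip4 142) = true := by decide +kernel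

theorem rot4_142r : band (Rule.ok (2 * 2) EX RL ⟨4 :: [8, 7, 7, 2, 4, 5, 2, 4, 4, 5, 7, 2, 8, 7, 2, 4, 8, 7, 7, 2, 2, 4, 8, 7, 7, 2, 5, 4, 8, 7, 7, 2], [2, 7, 8, 6, 8, 6, 6, 2, 9, 7, 8, 6, 6, 2], 14, false⟩) (lall (memL L) [8, 7, 7, 2, 4, 5, 2, 4, 4, 5, 7, 2, 8, 7, 2, 4, 8, 7, 7, 2, 2, 4, 8, 7, 7, 2, 5, 4, 8, 7, 7, 2]) = true := by decide +kernel

theorem rot4_143 : T.rot 4 [5, 2, 4, 4, 5, 7, 2, 8, 7, 2, 4, 8, 7, 7, 2, 2, 4, 8, 7, 7, 2, 5, 4, 8, 7, 7, 2, 4, 8, 7, 7, 2] (sel (ones 4060) ip4 143) = true := by decide +kernel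

theorem rot4_143r : band (Rule.ok (2 * 2) EX RL ⟨4 :: [5, 2, 4, 4, 5, 7, 2, 8, 7, 2, 4, 8, 7, 7, 2, 2, 4, 8, 7, 7, 2, 5, 4, 8, 7, 7, 2, 4, 8, 7, 7, 2], [7, 9, 2, 7, 8, 6, 6, 2, 8, 6], 14, false⟩) (lall (memL L) [5, 2, 4, 4, 5, 7, 2, 8, 7, 2, 4, 8, 7, 7, 2, 2, 4, 8, 7, 7, 2, 5, 4, 8, 7, 7, 2, 4, 8, 7, 7, 2]) = true := by decide +kernel

theorem rot4_144 : T.rot 4 [4, 5, 7, 2, 8, 7, 2, 4, 8, 7, 7, 2, 2, 4, 8, 7, 7, 2, 5, 4, 8, 7, 7, 2, 4, 8, 7, 7, 2, 4, 5, 2] (sel (ones 4060) ip4 144) = true := by decide +kernel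

theorem rot4_144r : band (Rule.ok (2 * 2) EX RL ⟨4 :: [4, 5, 7, 2, 8, 7, 2, 4, 8, 7, 7, 2, 2, 4, 8, 7, 7, 2, 5, 4, 8, 7, 7, 2, 4, 8, 7, 7, 2, 4, 5, 2], [7, 9, 2, 7, 8, 6, 6], 14, false⟩) (lall (memL L) [4, 5, 7, 2, 8, 7, 2, 4, 8, 7, 7, 2, 2, 4, 8, 7, 7, 2, 5, 4, 8, 7, 7, 2, 4, 8, 7, 7, 2, 4, 5, 2]) = true := by decide +kernel

theorem rot4_145 : T.rot 4 [5, 7, 2, 8, 7, 2, 4, 8, 7, 7, 2, 2, 4, 8, 7, 7, 2, 5, 4, 8, 7, 7, 2, 4, 8, 7, 7, 2, 4, 5, 2, 4] (sel (ones 4060) ip4 145) = true := by decide +kernel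

theorem rot4_145r : band (Rule.ok (2 * 2) EX RL ⟨4 :: [5, 7, 2, 8, 7, 2, 4, 8, 7, 7, 2, 2, 4, 8, 7, 7, 2, 5, 4, 8, 7, 7, 2, 4, 8, 7, 7, 2, 4, 5, 2, 4], [7, 9, 2, 7, 8, 6], 14, false⟩) (lall (memL L) [5, 7, 2, 8, 7, 2, 4, 8, 7, 7, 2, 2, 4, 8, 7, 7, 2, 5, 4, 8, 7, 7, 2, 4, 8, 7, 7, 2, 4, 5, 2, 4]) = true := by decide +kernel

theorem rot4_146 : T.rot 4 [4, 5, 7, 2, 4, 4, 5, 7, 2, 4, 4, 5, 7, 2, 8, 2, 4, 8, 7, 7, 2, 5, 5, 2, 4, 8, 7, 7, 2, 4, 8, 7, 7, 8, 2] (sel (ones 4060) ip4 146) = true := by decide +kernel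

theorem rot4_146r : band (Rule.ok (2 * 2) EX RL ⟨4 :: [4, 5, 7, 2, 4, 4, 5, 7, 2, 4, 4, 5, 7, 2, 8, 2, 4, 8, 7, 7, 2, 5, 5, 2, 4, 8, 7, 7, 2, 4, 8, 7, 7, 8, 2], [7, 8, 6, 6, 8, 2], 1, true⟩) (lall (memL L) [4, 5, 7, 2, 4, 4, 5, 7, 2, 4, 4, 5, 7, 2, 8, 2, 4, 8, 7, 7, 2, 5, 5, 2, 4, 8, 7, 7, 2, 4, 8, 7, 7, 8, 2]) = true := by decide +kernel

theorem rot4_147 : T.rot 4 [5, 7, 2, 4, 4, 5, 7, 2, 4, 4, 5, 7, 2, 8, 2, 4, 8, 7, 7, 2, 5, 5, 2, 4, 8, 7, 7, 2, 4, 8, 7, 7, 8, 2, 4] (sel (ones 4060) ip4 147) = true := by decide +kernel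

theorem rot4_147r : band (Rule.ok (2 * 2) EX RL ⟨4 :: [5, 7, 2, 4, 4, 5, 7, 2, 4, 4, 5, 7, 2, 8, 2, 4, 8, 7, 7, 2, 5, 5, 2, 4, 8, 7, 7, 2, 4, 8, 7, 7, 8, 2, 4], [7, 8, 6, 6, 8, 2, 7], 1, true⟩) (lall (memL L) [5, 7, 2, 4, 4, 5, 7, 2, 4, 4, 5, 7, 2, 8, 2, 4, 8, 7, 7, 2, 5, 5, 2, 4, 8, 7, 7, 2, 4, 8, 7, 7, 8, 2, 4]) = true := by decide +kernel

theorem rot4_148 : T.rot 4 [5, 7, 2, 8, 2, 4, 8, 7, 7, 2, 5, 5, 2, 4, 8, 7, 7, 2, 4, 8, 7, 7, 8, 2, 4, 4, 5, 7, 2, 4, 4, 5, 7, 2, 4] (sel (ones 4060) ip4 148) = true := by decide +kernel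

theorem rot4_148r : band (Rule.ok (2 * 2) EX RL ⟨4 :: [5, 7, 2, 8, 2, 4, 8, 7, 7, 2, 5, 5, 2, 4, 8, 7, 7, 2, 4, 8, 7, 7, 8, 2, 4, 4, 5, 7, 2, 4, 4, 5, 7, 2, 4], [7, 8, 6, 6, 8, 2, 7, 7, 9, 6, 2, 7, 7, 9, 6, 2, 7], 1, true⟩) (lall (memL L) [5, 7, 2, 8, 2, 4, 8, 7, 7, 2, 5, 5, 2, 4, 8, 7, 7, 2, 4, 8, 7, 7, 8, 2, 4, 4, 5, 7, 2, 4, 4, 5, 7, 2, 4]) = true := by decide +kernel

theorem rot4_149 : T.rot 4 [8, 7, 7, 2, 5, 5, 2, 4, 8, 7, 7, 2, 4, 8, 7, 7, 8, 2, 4, 4, 5, 7, 2, 4, 4, 5, 7, 2, 4, 4, 5, 7, 2, 8, 2] (sel (ones 4060) ip4 149) = true := by decide +kernel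

theorem rot4_149r : band (Rule.ok (2 * 2) EX RL ⟨4 :: [8, 7, 7, 2, 5, 5, 2, 4, 8, 7, 7, 2, 4, 8, 7, 7, 8, 2, 4, 4, 5, 7, 2, 4, 4, 5, 7, 2, 4, 4, 5, 7, 2, 8, 2], [2, 7, 7, 9, 6, 2, 8, 8, 2, 7, 7, 9, 6], 1, true⟩) (lall (memL L) [8, 7, 7, 2, 5, 5, 2, 4, 8, 7, 7, 2, 4, 8, 7, 7, 8, 2, 4, 4, 5, 7, 2, 4, 4, 5, 7, 2, 4, 4, 5, 7, 2, 8, 2]) = true := by decide +kernel

theorem rot4_150 : T.rot 4 [8, 7, 7, 2, 4, 8, 7, 7, 8, 2, 4, 4, 5, 7, 2, 4, 4, 5, 7, 2, 4, 4, 5, 7, 2, 8, 2, 4, 8, 7, 7, 2, 5, 5, 2] (sel (ones 4060) ip4 150) = true := by decide +kernel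

theorem rot4_150r : band (Rule.ok (2 * 2) EX RL ⟨4 :: [8, 7, 7, 2, 4, 8, 7, 7, 8, 2, 4, 4, 5, 7, 2, 4, 4, 5, 7, 2, 4, 4, 5, 7, 2, 8, 2, 4, 8, 7, 7, 2, 5, 5, 2], [2, 7, 7, 9, 6], 1, true⟩) (lall (memL L) [8, 7, 7, 2, 4, 8, 7, 7, 8, 2, 4, 4, 5, 7, 2, 4, 4, 5, 7, 2, 4, 4, 5, 7, 2, 8, 2, 4, 8, 7, 7, 2, 5, 5, 2]) = true := by decide +kernel

theorem rot4_151 : T.rot 4 [4, 5, 7, 2, 8, 8, 2, 4, 4, 5, 7, 2, 5, 2, 4, 8, 7, 7, 2, 4, 8, 7, 7, 2, 4, 8, 7, 7, 2, 5, 4, 4, 5, 7, 2] (sel (ones 4060) ip4 151) = true := by decide +kernel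

theorem rot4_151r : band (Rule.ok (2 * 2) EX RL ⟨4 :: [4, 5, 7, 2, 8, 8, 2, 4, 4, 5, 7, 2, 5, 2, 4, 8, 7, 7, 2, 4, 8, 7, 7, 2, 4, 8, 7, 7, 2, 5, 4, 4, 5, 7, 2], [2], 1, false⟩) (lall (memL L) [4, 5, 7, 2, 8, 8, 2, 4, 4, 5, 7, 2, 5, 2, 4, 8, 7, 7, 2, 4, 8, 7, 7, 2, 4, 8, 7, 7, 2, 5, 4, 4, 5, 7, 2]) = true := by decide +kernel

theorem rot4_152 : T.rot 4 [4, 5, 7, 2, 5, 2, 4, 8, 7, 7, 2, 4, 8, 7, 7, 2, 4, 8, 7, 7, 2, 5, 4, 4, 5, 7, 2, 4, 4, 5, 7, 2, 8, 8, 2] (sel (ones 4060) ip4 152) = true := by decide +kernel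

theorem rot4_152r : band (Rule.ok (2 * 2) EX RL ⟨4 :: [4, 5, 7, 2, 5, 2, 4, 8, 7, 7, 2, 4, 8, 7, 7, 2, 4, 8, 7, 7, 2, 5, 4, 4, 5, 7, 2, 4, 4, 5, 7, 2, 8, 8, 2], [2, 7, 7, 9, 6, 2, 8, 8, 2], 1, false⟩) (lall (memL L) [4, 5, 7, 2, 5, 2, 4, 8, 7, 7, 2, 4, 8, 7, 7, 2, 4, 8, 7, 7, 2, 5, 4, 4, 5, 7, 2, 4, 4, 5, 7, 2, 8, 8, 2]) = true := by decide +kernel

theorem rot4_153 : T.rot 4 [5, 7, 2, 5, 2, 4, 8, 7, 7, 2, 4, 8, 7, 7, 2, 4, 8, 7, 7, 2, 5, 4, 4, 5, 7, 2, 4, 4, 5, 7, 2, 8, 8, 2, 4] (sel (ones 4060) ip4 153) = true := by decide +kernel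

theorem rot4_153r : band (Rule.ok (2 * 2) EX RL ⟨4 :: [5, 7, 2, 5, 2, 4, 8, 7, 7, 2, 4, 8, 7, 7, 2, 4, 8, 7, 7, 2, 5, 4, 4, 5, 7, 2, 4, 4, 5, 7, 2, 8, 8, 2, 4], [2, 7, 7, 9, 6, 2, 8, 8, 2, 7], 1, false⟩) (lall (memL L) [5, 7, 2, 5, 2, 4, 8, 7, 7, 2, 4, 8, 7, 7, 2, 4, 8, 7, 7, 2, 5, 4, 4, 5, 7, 2, 4, 4, 5, 7, 2, 8, 8, 2, 4]) = true := by decide +kernel

theorem rot4_154 : T.rot 4 [4, 5, 7, 2, 4, 4, 5, 7, 2, 8, 8, 2, 4, 4, 5, 7, 2, 5, 2, 4, 8, 7, 7, 2, 4, 8, 7, 7, 2, 4, 8, 7, 7, 2, 5] (sel (ones 4060) ip4 154) = true := by decide +kernel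

theorem rot4_154r : band (Rule.ok (2 * 2) EX RL ⟨4 :: [4, 5, 7, 2, 4, 4, 5, 7, 2, 8, 8, 2, 4, 4, 5, 7, 2, 5, 2, 4, 8, 7, 7, 2, 4, 8, 7, 7, 2, 4, 8, 7, 7, 2, 5], [7, 8, 6, 6], 1, false⟩) (lall (memL L) [4, 5, 7, 2, 4, 4, 5, 7, 2, 8, 8, 2, 4, 4, 5, 7, 2, 5, 2, 4, 8, 7, 7, 2, 4, 8, 7, 7, 2, 4, 8, 7, 7, 2, 5]) = true := by decide +kernel

theorem rot4_155 : T.rot 4 [5, 7, 2, 4, 4, 5, 7, 2, 8, 8, 2, 4, 4, 5, 7, 2, 5, 2, 4, 8, 7, 7, 2, 4, 8, 7, 7, 2, 4, 8, 7, 7, 2, 5, 4] (sel (ones 4060) ip4 155) = true := by decide +kernel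

theorem rot4_155r : band (Rule.ok (2 * 2) EX RL ⟨4 :: [5, 7, 2, 4, 4, 5, 7, 2, 8, 8, 2, 4, 4, 5, 7, 2, 5, 2, 4, 8, 7, 7, 2, 4, 8, 7, 7, 2, 4, 8, 7, 7, 2, 5, 4], [7, 8, 6], 1, false⟩) (lall (memL L) [5, 7, 2, 4, 4, 5, 7, 2, 8, 8, 2, 4, 4, 5, 7, 2, 5, 2, 4, 8, 7, 7, 2, 4, 8, 7, 7, 2, 4, 8, 7, 7, 2, 5, 4]) = true := by decide +kernel

theorem rot4_156 : T.rot 4 [5, 7, 2, 4, 8, 7, 7, 8, 2, 4, 4, 5, 7, 2, 8, 2, 4, 4, 5, 7, 2, 4, 4, 5, 7, 8, 2, 4, 4, 5, 7, 2, 8, 2, 4] (sel (ones 4060) ip4 156) = true := by decide +kernel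

theorem rot4_156r : band (Rule.ok (2 * 2) EX RL ⟨4 :: [5, 7, 2, 4, 8, 7, 7, 8, 2, 4, 4, 5, 7, 2, 8, 2, 4, 4, 5, 7, 2, 4, 4, 5, 7, 8, 2, 4, 4, 5, 7, 2, 8, 2, 4], [8, 2, 7], 3, true⟩) (lall (memL L) [5, 7, 2, 4, 8, 7, 7, 8, 2, 4, 4, 5, 7, 2, 8, 2, 4, 4, 5, 7, 2, 4, 4, 5, 7, 8, 2, 4, 4, 5, 7, 2, 8, 2, 4]) = true := by decide +kernel

theorem rot4_157 : T.rot 4 [8, 7, 7, 8, 2, 4, 4, 5, 7, 2, 8, 2, 4, 4, 5, 7, 2, 4, 4, 5, 7, 8, 2, 4, 4, 5, 7, 2, 8, 2, 4, 4, 5, 7, 2] (sel (ones 4060) ip4 157) = true := by decide +kernel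

theorem rot4_157r : band (Rule.ok (2 * 2) EX RL ⟨4 :: [8, 7, 7, 8, 2, 4, 4, 5, 7, 2, 8, 2, 4, 4, 5, 7, 2, 4, 4, 5, 7, 8, 2, 4, 4, 5, 7, 2, 8, 2, 4, 4, 5, 7, 2], [8, 2, 7, 7, 9, 6, 2], 3, true⟩) (lall (memL L) [8, 7, 7, 8, 2, 4, 4, 5, 7, 2, 8, 2, 4, 4, 5, 7, 2, 4, 4, 5, 7, 8, 2, 4, 4, 5, 7, 2, 8, 2, 4, 4, 5, 7, 2]) = true := by decide +kernel

theorem rot4_158 : T.rot 4 [4, 5, 7, 2, 8, 2, 4, 4, 5, 7, 2, 4, 4, 5, 7, 8, 2, 4, 4, 5, 7, 2, 8, 2, 4, 4, 5, 7, 2, 4, 8, 7, 7, 8, 2] (sel (ones 4060) ip4 158) = true := by decide +kernel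

theorem rot4_158r : band (Rule.ok (2 * 2) EX RL ⟨4 :: [4, 5, 7, 2, 8, 2, 4, 4, 5, 7, 2, 4, 4, 5, 7, 8, 2, 4, 4, 5, 7, 2, 8, 2, 4, 4, 5, 7, 2, 4, 8, 7, 7, 8, 2], [8, 2, 7, 7, 9, 6, 2, 7, 8, 6, 6, 8, 2], 3, true⟩) (lall (memL L) [4, 5, 7, 2, 8, 2, 4, 4, 5, 7, 2, 4, 4, 5, 7, 8, 2, 4, 4, 5, 7, 2, 8, 2, 4, 4, 5, 7, 2, 4, 8, 7, 7, 8, 2]) = true := by decide +kernel

theorem rot4_159 : T.rot 4 [4, 5, 7, 2, 4, 4, 5, 7, 8, 2, 4, 4, 5, 7, 2, 8, 2, 4, 4, 5, 7, 2, 4, 8, 7, 7, 8, 2, 4, 4, 5, 7, 2, 8, 2] (sel (ones 4060) ip4 159) = true := by decide +kernel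

theorem rot4_159r : band (Rule.ok (2 * 2) EX RL ⟨4 :: [4, 5, 7, 2, 4, 4, 5, 7, 8, 2, 4, 4, 5, 7, 2, 8, 2, 4, 4, 5, 7, 2, 4, 8, 7, 7, 8, 2, 4, 4, 5, 7, 2, 8, 2], [2, 7, 8, 6, 6, 2, 9, 7, 8, 6, 6, 2, 7, 8, 6, 6], 3, true⟩) (lall (memL L) [4, 5, 7, 2, 4, 4, 5, 7, 8, 2, 4, 4, 5, 7, 2, 8, 2, 4, 4, 5, 7, 2, 4, 8, 7, 7, 8, 2, 4, 4, 5, 7, 2, 8, 2]) = true := by decide +kernel

theorem rot4_160 : T.rot 4 [5, 7, 2, 4, 4, 5, 7, 8, 2, 4, 4, 5, 7, 2, 8, 2, 4, 4, 5, 7, 2, 4, 8, 7, 7, 8, 2, 4, 4, 5, 7, 2, 8, 2, 4] (sel (ones 4060) ip4 160) = true := by decide +kernel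

theorem rot4_160r : band (Rule.ok (2 * 2) EX RL ⟨4 :: [5, 7, 2, 4, 4, 5, 7, 8, 2, 4, 4, 5, 7, 2, 8, 2, 4, 4, 5, 7, 2, 4, 8, 7, 7, 8, 2, 4, 4, 5, 7, 2, 8, 2, 4], [2, 7, 8, 6, 6, 2, 9, 7, 8, 6, 6, 2, 7, 8, 6], 3, true⟩) (lall (memL L) [5, 7, 2, 4, 4, 5, 7, 8, 2, 4, 4, 5, 7, 2, 8, 2, 4, 4, 5, 7, 2, 4, 8, 7, 7, 8, 2, 4, 4, 5, 7, 2, 8, 2, 4]) = true := by decide +kernel

theorem rot4_161 : T.rot 4 [4, 5, 7, 8, 2, 4, 4, 5, 7, 2, 8, 2, 4, 4, 5, 7, 2, 4, 8, 7, 7, 8, 2, 4, 4, 5, 7, 2, 8, 2, 4, 4, 5, 7, 2] (sel (ones 4060) ip4 161) = true := by decide +kernel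

theorem rot4_161r : band (Rule.ok (2 * 2) EX RL ⟨4 :: [4, 5, 7, 8, 2, 4, 4, 5, 7, 2, 8, 2, 4, 4, 5, 7, 2, 4, 8, 7, 7, 8, 2, 4, 4, 5, 7, 2, 8, 2, 4, 4, 5, 7, 2], [2, 7, 8, 6, 6, 2, 9, 7, 8, 6, 6], 3, true⟩) (lall (memL L) [4, 5, 7, 8, 2, 4, 4, 5, 7, 2, 8, 2, 4, 4, 5, 7, 2, 4, 8, 7, 7, 8, 2, 4, 4, 5, 7, 2, 8, 2, 4, 4, 5, 7, 2]) = true := by decide +kernel

theorem rot4_162 : T.rot 4 [5, 7, 8, 2, 4, 4, 5, 7, 2, 8, 2, 4, 4, 5, 7, 2, 4, 8, 7, 7, 8, 2, 4, 4, 5, 7, 2, 8, 2, 4, 4, 5, 7, 2, 4] (sel (ones 4060) ip4 162) = true := by decide +kernel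

theorem rot4_162r : band (Rule.ok (2 * 2) EX RL ⟨4 :: [5, 7, 8, 2, 4, 4, 5, 7, 2, 8, 2, 4, 4, 5, 7, 2, 4, 8, 7, 7, 8, 2, 4, 4, 5, 7, 2, 8, 2, 4, 4, 5, 7, 2, 4], [2, 7, 8, 6, 6, 2, 9, 7, 8, 6], 3, true⟩) (lall (memL L) [5, 7, 8, 2, 4, 4, 5, 7, 2, 8, 2, 4, 4, 5, 7, 2, 4, 8, 7, 7, 8, 2, 4, 4, 5, 7, 2, 8, 2, 4, 4, 5, 7, 2, 4]) = true := by decide +kernel

theorem rot4_163 : T.rot 4 [4, 5, 7, 2, 8, 2, 4, 4, 5, 7, 2, 4, 8, 7, 7, 8, 2, 4, 4, 5, 7, 2, 8, 2, 4, 4, 5, 7, 2, 4, 4, 5, 7, 8, 2] (sel (ones 4060) ip4 163) = true := by decide +kernel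

theorem rot4_163r : band (Rule.ok (2 * 2) EX RL ⟨4 :: [4, 5, 7, 2, 8, 2, 4, 4, 5, 7, 2, 4, 8, 7, 7, 8, 2, 4, 4, 5, 7, 2, 8, 2, 4, 4, 5, 7, 2, 4, 4, 5, 7, 8, 2], [2, 7, 8, 6, 6], 3, true⟩) (lall (memL L) [4, 5, 7, 2, 8, 2, 4, 4, 5, 7, 2, 4, 8, 7, 7, 8, 2, 4, 4, 5, 7, 2, 8, 2, 4, 4, 5, 7, 2, 4, 4, 5, 7, 8, 2]) = true := by decide +kernel

theorem rot4_164 : T.rot 4 [8, 7, 7, 2, 5, 4, 8, 7, 7, 2, 4, 8, 7, 7, 2, 5, 2, 4, 8, 7, 7, 2, 5, 4, 4, 5, 7, 2, 4, 8, 7, 7, 2, 5, 2] (sel (ones 4060) ip4 164) = true := by decide +kernel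

theorem rot4_164r : band (Rule.ok (2 * 2) EX RL ⟨4 :: [8, 7, 7, 2, 5, 4, 8, 7, 7, 2, 4, 8, 7, 7, 2, 5, 2, 4, 8, 7, 7, 2, 5, 4, 4, 5, 7, 2, 4, 8, 7, 7, 2, 5, 2], [2], 3, false⟩) (lall (memL L) [8, 7, 7, 2, 5, 4, 8, 7, 7, 2, 4, 8, 7, 7, 2, 5, 2, 4, 8, 7, 7, 2, 5, 4, 4, 5, 7, 2, 4, 8, 7, 7, 2, 5, 2]) = true := by decide +kernel

theorem rot4_165 : T.rot 4 [8, 7, 7, 2, 4, 8, 7, 7, 2, 5, 2, 4, 8, 7, 7, 2, 5, 4, 4, 5, 7, 2, 4, 8, 7, 7, 2, 5, 2, 4, 8, 7, 7, 2, 5] (sel (ones 4060) ip4 165) = true := by decide +kernel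

theorem rot4_165r : band (Rule.ok (2 * 2) EX RL ⟨4 :: [8, 7, 7, 2, 4, 8, 7, 7, 2, 5, 2, 4, 8, 7, 7, 2, 5, 4, 4, 5, 7, 2, 4, 8, 7, 7, 2, 5, 2, 4, 8, 7, 7, 2, 5], [2, 7, 8, 6, 6, 2, 9], 3, false⟩) (lall (memL L) [8, 7, 7, 2, 4, 8, 7, 7, 2, 5, 2, 4, 8, 7, 7, 2, 5, 4, 4, 5, 7, 2, 4, 8, 7, 7, 2, 5, 2, 4, 8, 7, 7, 2, 5]) = true := by decide +kernel

theorem rot4_166 : T.rot 4 [8, 7, 7, 2, 5, 4, 4, 5, 7, 2, 4, 8, 7, 7, 2, 5, 2, 4, 8, 7, 7, 2, 5, 4, 8, 7, 7, 2, 4, 8, 7, 7, 2, 5, 2] (sel (ones 4060) ip4 166) = true := by decide +kernel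

theorem rot4_166r : band (Rule.ok (2 * 2) EX RL ⟨4 :: [8, 7, 7, 2, 5, 4, 4, 5, 7, 2, 4, 8, 7, 7, 2, 5, 2, 4, 8, 7, 7, 2, 5, 4, 8, 7, 7, 2, 4, 8, 7, 7, 2, 5, 2], [8, 2, 7, 7, 9, 6, 2, 7, 8, 6, 6, 8, 2, 7, 7, 9, 6], 3, false⟩) (lall (memL L) [8, 7, 7, 2, 5, 4, 4, 5, 7, 2, 4, 8, 7, 7, 2, 5, 2, 4, 8, 7, 7, 2, 5, 4, 8, 7, 7, 2, 4, 8, 7, 7, 2, 5, 2]) = true := by decide +kernel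

theorem rot4_167 : T.rot 4 [4, 5, 7, 2, 4, 8, 7, 7, 2, 5, 2, 4, 8, 7, 7, 2, 5, 4, 8, 7, 7, 2, 4, 8, 7, 7, 2, 5, 2, 4, 8, 7, 7, 2, 5] (sel (ones 4060) ip4 167) = true := by decide +kernel

theorem rot4_167r : band (Rule.ok (2 * 2) EX RL ⟨4 :: [4, 5, 7, 2, 4, 8, 7, 7, 2, 5, 2, 4, 8, 7, 7, 2, 5, 4, 8, 7, 7, 2, 4, 8, 7, 7, 2, 5, 2, 4, 8, 7, 7, 2, 5], [8, 2, 7, 7, 9, 6, 2, 7, 8, 6, 6], 3, false⟩) (lall (memL L) [4, 5, 7, 2, 4, 8, 7, 7, 2, 5, 2, 4, 8, 7, 7, 2, 5, 4, 8, 7, 7, 2, 4, 8, 7, 7, 2, 5, 2, 4, 8, 7, 7, 2, 5]) = true := by decide +kernel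

theorem rot4_168 : T.rot 4 [5, 7, 2, 4, 8, 7, 7, 2, 5, 2, 4, 8, 7, 7, 2, 5, 4, 8, 7, 7, 2, 4, 8, 7, 7, 2, 5, 2, 4, 8, 7, 7, 2, 5, 4] (sel (ones 4060) ip4 168) = true := by decide +kernel

theorem rot4_168r : band (Rule.ok (2 * 2) EX RL ⟨4 :: [5, 7, 2, 4, 8, 7, 7, 2, 5, 2, 4, 8, 7, 7, 2, 5, 4, 8, 7, 7, 2, 4, 8, 7, 7, 2, 5, 2, 4, 8, 7, 7, 2, 5, 4], [8, 2, 7, 7, 9, 6, 2, 7, 8, 6], 3, false⟩) (lall (memL L) [5, 7, 2, 4, 8, 7, 7, 2, 5, 2, 4, 8, 7, 7, 2, 5, 4, 8, 7, 7, 2, 4, 8, 7, 7, 2, 5, 2, 4, 8, 7, 7, 2, 5, 4]) = true := by decide +kernel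

theorem rot4_169 : T.rot 4 [8, 7, 7, 4, 8, 7, 7, 8, 2, 4, 4, 5, 7, 2, 5, 2, 4, 8, 7, 7, 2, 8, 2, 4, 4, 5, 7, 2, 2, 4, 4, 5, 7, 2, 8] (sel (ones 4060) ip4 169) = true := by decide +kernel

theorem rot4_169r : band (Rule.ok (2 * 2) EX RL ⟨4 :: [8, 7, 7, 4, 8, 7, 7, 8, 2, 4, 4, 5, 7, 2, 5, 2, 4, 8, 7, 7, 2, 8, 2, 4, 4, 5, 7, 2, 2, 4, 4, 5, 7, 2, 8], [], 4, true⟩) (lall (memL L) [8, 7, 7, 4, 8, 7, 7, 8, 2, 4, 4, 5, 7, 2, 5, 2, 4, 8, 7, 7, 2, 8, 2, 4, 4, 5, 7, 2, 2, 4, 4, 5, 7, 2, 8]) = true := by decide +kernel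

theorem rot4_170 : T.rot 4 [4, 5, 7, 2, 5, 2, 4, 8, 7, 7, 2, 8, 2, 4, 4, 5, 7, 2, 2, 4, 4, 5, 7, 2, 8, 4, 8, 7, 7, 4, 8, 7, 7, 8, 2] (sel (ones 4060) ip4 170) = true := by decide +kernel

theorem rot4_170r : band (Rule.ok (2 * 2) EX RL ⟨4 :: [4, 5, 7, 2, 5, 2, 4, 8, 7, 7, 2, 8, 2, 4, 4, 5, 7, 2, 2, 4, 4, 5, 7, 2, 8, 4, 8, 7, 7, 4, 8, 7, 7, 8, 2], [7, 8, 6, 8, 6, 6, 8, 2], 4, true⟩) (lall (memL L) [4, 5, 7, 2, 5, 2, 4, 8, 7, 7, 2, 8, 2, 4, 4, 5, 7, 2, 2, 4, 4, 5, 7, 2, 8, 4, 8, 7, 7, 4, 8, 7, 7, 8, 2]) = true := by decide +kernel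

theorem rot4_171 : T.rot 4 [5, 7, 2, 5, 2, 4, 8, 7, 7, 2, 8, 2, 4, 4, 5, 7, 2, 2, 4, 4, 5, 7, 2, 8, 4, 8, 7, 7, 4, 8, 7, 7, 8, 2, 4] (sel (ones 4060) ip4 171) = true := by decide +kernel

theorem rot4_171r : band (Rule.ok (2 * 2) EX RL ⟨4 :: [5, 7, 2, 5, 2, 4, 8, 7, 7, 2, 8, 2, 4, 4, 5, 7, 2, 2, 4, 4, 5, 7, 2, 8, 4, 8, 7, 7, 4, 8, 7, 7, 8, 2, 4], [7, 8, 6, 8, 6, 6, 8, 2, 7], 4, true⟩) (lall (memL L) [5, 7, 2, 5, 2, 4, 8, 7, 7, 2, 8, 2, 4, 4, 5, 7, 2, 2, 4, 4, 5, 7, 2, 8, 4, 8, 7, 7, 4, 8, 7, 7, 8, 2, 4]) = true := by decide +kernel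

theorem rot4_172 : T.rot 4 [8, 7, 7, 2, 8, 2, 4, 4, 5, 7, 2, 2, 4, 4, 5, 7, 2, 8, 4, 8, 7, 7, 4, 8, 7, 7, 8, 2, 4, 4, 5, 7, 2, 5, 2] (sel (ones 4060) ip4 172) = true := by decide +kernel

theorem rot4_172r : band (Rule.ok (2 * 2) EX RL ⟨4 :: [8, 7, 7, 2, 8, 2, 4, 4, 5, 7, 2, 2, 4, 4, 5, 7, 2, 8, 4, 8, 7, 7, 4, 8, 7, 7, 8, 2, 4, 4, 5, 7, 2, 5, 2], [9, 2, 7, 8, 6, 8, 6, 6, 2, 9, 2, 7, 7, 9, 6], 4, true⟩) (lall (memL L) [8, 7, 7, 2, 8, 2, 4, 4, 5, 7, 2, 2, 4, 4, 5, 7, 2, 8, 4, 8, 7, 7, 4, 8, 7, 7, 8, 2, 4, 4, 5, 7, 2, 5, 2]) = true := by decide +kernel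

theorem rot4_173 : T.rot 4 [4, 5, 7, 2, 2, 4, 4, 5, 7, 2, 8, 4, 8, 7, 7, 4, 8, 7, 7, 8, 2, 4, 4, 5, 7, 2, 5, 2, 4, 8, 7, 7, 2, 8, 2] (sel (ones 4060) ip4 173) = true := by decide +kernel

theorem rot4_173r : band (Rule.ok (2 * 2) EX RL ⟨4 :: [4, 5, 7, 2, 2, 4, 4, 5, 7, 2, 8, 4, 8, 7, 7, 4, 8, 7, 7, 8, 2, 4, 4, 5, 7, 2, 5, 2, 4, 8, 7, 7, 2, 8, 2], [9, 2, 7, 8, 6, 8, 6, 6], 4, true⟩) (lall (memL L) [4, 5, 7, 2, 2, 4, 4, 5, 7, 2, 8, 4, 8, 7, 7, 4, 8, 7, 7, 8, 2, 4, 4, 5, 7, 2, 5, 2, 4, 8, 7, 7, 2, 8, 2]) = true := by decide +kernel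

theorem rot4_174 : T.rot 4 [5, 7, 2, 2, 4, 4, 5, 7, 2, 8, 4, 8, 7, 7, 4, 8, 7, 7, 8, 2, 4, 4, 5, 7, 2, 5, 2, 4, 8, 7, 7, 2, 8, 2, 4] (sel (ones 4060) ip4 174) = true := by decide +kernel

theorem rot4_174r : band (Rule.ok (2 * 2) EX RL ⟨4 :: [5, 7, 2, 2, 4, 4, 5, 7, 2, 8, 4, 8, 7, 7, 4, 8, 7, 7, 8, 2, 4, 4, 5, 7, 2, 5, 2, 4, 8, 7, 7, 2, 8, 2, 4], [9, 2, 7, 8, 6, 8, 6], 4, true⟩) (lall (memL L) [5, 7, 2, 2, 4, 4, 5, 7, 2, 8, 4, 8, 7, 7, 4, 8, 7, 7, 8, 2, 4, 4, 5, 7, 2, 5, 2, 4, 8, 7, 7, 2, 8, 2, 4]) = true := by decide +kernel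

theorem rot4_175 : T.rot 4 [5, 7, 2, 8, 4, 8, 7, 7, 4, 8, 7, 7, 8, 2, 4, 4, 5, 7, 2, 5, 2, 4, 8, 7, 7, 2, 8, 2, 4, 4, 5, 7, 2, 2, 4] (sel (ones 4060) ip4 175) = true := by decide +kernel

theorem rot4_175r : band (Rule.ok (2 * 2) EX RL ⟨4 :: [5, 7, 2, 8, 4, 8, 7, 7, 4, 8, 7, 7, 8, 2, 4, 4, 5, 7, 2, 5, 2, 4, 8, 7, 7, 2, 8, 2, 4, 4, 5, 7, 2, 2, 4], [9, 2, 7, 8, 6], 4, true⟩) (lall (memL L) [5, 7, 2, 8, 4, 8, 7, 7, 4, 8, 7, 7, 8, 2, 4, 4, 5, 7, 2, 5, 2, 4, 8, 7, 7, 2, 8, 2, 4, 4, 5, 7, 2, 2, 4]) = true := by decide +kernel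

theorem rot4_176 : T.rot 4 [8, 7, 7, 2, 2, 4, 8, 7, 7, 2, 5, 2, 4, 4, 5, 7, 2, 8, 2, 4, 8, 7, 7, 2, 5, 4, 4, 5, 7, 4, 4, 5, 7, 5, 2] (sel (ones 4060) ip4 176) = true := by decide +kernel

theorem rot4_176r : band (Rule.ok (2 * 2) EX RL ⟨4 :: [8, 7, 7, 2, 2, 4, 8, 7, 7, 2, 5, 2, 4, 4, 5, 7, 2, 8, 2, 4, 8, 7, 7, 2, 5, 4, 4, 5, 7, 4, 4, 5, 7, 5, 2], [9, 2], 4, false⟩) (lall (memL L) [8, 7, 7, 2, 2, 4, 8, 7, 7, 2, 5, 2, 4, 4, 5, 7, 2, 8, 2, 4, 8, 7, 7, 2, 5, 4, 4, 5, 7, 4, 4, 5, 7, 5, 2]) = true := by decide +kernel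

theorem rot4_177 : T.rot 4 [4, 5, 7, 2, 8, 2, 4, 8, 7, 7, 2, 5, 4, 4, 5, 7, 4, 4, 5, 7, 5, 2, 4, 8, 7, 7, 2, 2, 4, 8, 7, 7, 2, 5, 2] (sel (ones 4060) ip4 177) = true := by decide +kernel

theorem rot4_177r : band (Rule.ok (2 * 2) EX RL ⟨4 :: [4, 5, 7, 2, 8, 2, 4, 8, 7, 7, 2, 5, 4, 4, 5, 7, 4, 4, 5, 7, 5, 2, 4, 8, 7, 7, 2, 2, 4, 8, 7, 7, 2, 5, 2], [9, 2, 7, 8, 6, 8, 6, 6, 2, 9, 2], 4, false⟩) (lall (memL L) [4, 5, 7, 2, 8, 2, 4, 8, 7, 7, 2, 5, 4, 4, 5, 7, 4, 4, 5, 7, 5, 2, 4, 8, 7, 7, 2, 2, 4, 8, 7, 7, 2, 5, 2]) = true := by decide +kernel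

theorem rot4_178 : T.rot 4 [5, 7, 2, 8, 2, 4, 8, 7, 7, 2, 5, 4, 4, 5, 7, 4, 4, 5, 7, 5, 2, 4, 8, 7, 7, 2, 2, 4, 8, 7, 7, 2, 5, 2, 4] (sel (ones 4060) ip4 178) = true := by decide +kernel

theorem rot4_178r : band (Rule.ok (2 * 2) EX RL ⟨4 :: [5, 7, 2, 8, 2, 4, 8, 7, 7, 2, 5, 4, 4, 5, 7, 4, 4, 5, 7, 5, 2, 4, 8, 7, 7, 2, 2, 4, 8, 7, 7, 2, 5, 2, 4], [9, 2, 7, 8, 6, 8, 6, 6, 2, 9, 2, 7], 4, false⟩) (lall (memL L) [5, 7, 2, 8, 2, 4, 8, 7, 7, 2, 5, 4, 4, 5, 7, 4, 4, 5, 7, 5, 2, 4, 8, 7, 7, 2, 2, 4, 8, 7, 7, 2, 5, 2, 4]) = true := by decide +kernel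

theorem rot4_179 : T.rot 4 [5, 7, 4, 4, 5, 7, 5, 2, 4, 8, 7, 7, 2, 2, 4, 8, 7, 7, 2, 5, 2, 4, 4, 5, 7, 2, 8, 2, 4, 8, 7, 7, 2, 5, 4] (sel (ones 4060) ip4 179) = true := by decide +kernel

theorem rot4_179r : band (Rule.ok (2 * 2) EX RL ⟨4 :: [5, 7, 4, 4, 5, 7, 5, 2, 4, 8, 7, 7, 2, 2, 4, 8, 7, 7, 2, 5, 2, 4, 4, 5, 7, 2, 8, 2, 4, 8, 7, 7, 2, 5, 4], [7, 8, 6, 8, 6], 4, false⟩) (lall (memL L) [5, 7, 4, 4, 5, 7, 5, 2, 4, 8, 7, 7, 2, 2, 4, 8, 7, 7, 2, 5, 2, 4, 4, 5, 7, 2, 8, 2, 4, 8, 7, 7, 2, 5, 4]) = true := by decide +kernel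

theorem rot4_180 : T.rot 4 [5, 7, 5, 2, 4, 8, 7, 7, 2, 2, 4, 8, 7, 7, 2, 5, 2, 4, 4, 5, 7, 2, 8, 2, 4, 8, 7, 7, 2, 5, 4, 4, 5, 7, 4] (sel (ones 4060) ip4 180) = true := by decide +kernel

theorem rot4_180r : band (Rule.ok (2 * 2) EX RL ⟨4 :: [5, 7, 5, 2, 4, 8, 7, 7, 2, 2, 4, 8, 7, 7, 2, 5, 2, 4, 4, 5, 7, 2, 8, 2, 4, 8, 7, 7, 2, 5, 4, 4, 5, 7, 4], [7, 8, 6], 4, false⟩) (lall (memL L) [5, 7, 5, 2, 4, 8, 7, 7, 2, 2, 4, 8, 7, 7, 2, 5, 2, 4, 4, 5, 7, 2, 8, 2, 4, 8, 7, 7, 2, 5, 4, 4, 5, 7, 4]) = true := by decide +kernel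

theorem rot4_181 : T.rot 4 [8, 7, 7, 2, 4, 8, 7, 7, 2, 8, 5, 2, 4, 8, 7, 7, 2, 2, 4, 8, 7, 7, 2, 5, 5, 2, 4, 8, 7, 7, 2, 4, 4, 5, 7, 5, 5] (sel (ones 4060) ip4 181) = true := by decide +kernel

theorem rot4_181r : band (Rule.ok (2 * 2) EX RL ⟨4 :: [8, 7, 7, 2, 4, 8, 7, 7, 2, 8, 5, 2, 4, 8, 7, 7, 2, 2, 4, 8, 7, 7, 2, 5, 5, 2, 4, 8, 7, 7, 2, 4, 4, 5, 7, 5, 5], [9, 9], 10, true⟩) (lall (memL L) [8, 7, 7, 2, 4, 8, 7, 7, 2, 8, 5, 2, 4, 8, 7, 7, 2, 2, 4, 8, 7, 7, 2, 5, 5, 2, 4, 8, 7, 7, 2, 4, 4, 5, 7, 5, 5]) = true := by decide +kernel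

theorem rot4_182 : T.rot 4 [8, 7, 7, 2, 8, 5, 2, 4, 8, 7, 7, 2, 2, 4, 8, 7, 7, 2, 5, 5, 2, 4, 8, 7, 7, 2, 4, 4, 5, 7, 5, 5, 4, 8, 7, 7, 2] (sel (ones 4060) ip4 182) = true := by decide +kernel

theorem rot4_182r : band (Rule.ok (2 * 2) EX RL ⟨4 :: [8, 7, 7, 2, 8, 5, 2, 4, 8, 7, 7, 2, 2, 4, 8, 7, 7, 2, 5, 5, 2, 4, 8, 7, 7, 2, 4, 4, 5, 7, 5, 5, 4, 8, 7, 7, 2], [9, 9, 7, 8, 6, 6, 2], 10, true⟩) (lall (memL L) [8, 7, 7, 2, 8, 5, 2, 4, 8, 7, 7, 2, 2, 4, 8, 7, 7, 2, 5, 5, 2, 4, 8, 7, 7, 2, 4, 4, 5, 7, 5, 5, 4, 8, 7, 7, 2]) = true := by decide +kernel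

theorem rot4_183 : T.rot 4 [4, 5, 7, 5, 5, 4, 8, 7, 7, 2, 4, 8, 7, 7, 2, 8, 5, 2, 4, 8, 7, 7, 2, 2, 4, 8, 7, 7, 2, 5, 5, 2, 4, 8, 7, 7, 2] (sel (ones 4060) ip4 183) = true := by decide +kernel

theorem rot4_183r : band (Rule.ok (2 * 2) EX RL ⟨4 :: [4, 5, 7, 5, 5, 4, 8, 7, 7, 2, 4, 8, 7, 7, 2, 8, 5, 2, 4, 8, 7, 7, 2, 2, 4, 8, 7, 7, 2, 5, 5, 2, 4, 8, 7, 7, 2], [7, 8, 6, 6], 10, true⟩) (lall (memL L) [4, 5, 7, 5, 5, 4, 8, 7, 7, 2, 4, 8, 7, 7, 2, 8, 5, 2, 4, 8, 7, 7, 2, 2, 4, 8, 7, 7, 2, 5, 5, 2, 4, 8, 7, 7, 2]) = true := by decide +kernel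

theorem rot4_184 : T.rot 4 [5, 7, 5, 5, 4, 8, 7, 7, 2, 4, 8, 7, 7, 2, 8, 5, 2, 4, 8, 7, 7, 2, 2, 4, 8, 7, 7, 2, 5, 5, 2, 4, 8, 7, 7, 2, 4] (sel (ones 4060) ip4 184) = true := by decide +kernel

theorem rot4_184r : band (Rule.ok (2 * 2) EX RL ⟨4 :: [5, 7, 5, 5, 4, 8, 7, 7, 2, 4, 8, 7, 7, 2, 8, 5, 2, 4, 8, 7, 7, 2, 2, 4, 8, 7, 7, 2, 5, 5, 2, 4, 8, 7, 7, 2, 4], [7, 8, 6], 10, true⟩) (lall (memL L) [5, 7, 5, 5, 4, 8, 7, 7, 2, 4, 8, 7, 7, 2, 8, 5, 2, 4, 8, 7, 7, 2, 2, 4, 8, 7, 7, 2, 5, 5, 2, 4, 8, 7, 7, 2, 4]) = true := by decide +kernel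

theorem rot4_185 : T.rot 4 [8, 7, 7, 2, 4, 4, 5, 7, 2, 8, 8, 2, 4, 4, 5, 7, 2, 2, 4, 4, 5, 7, 2, 8, 5, 2, 4, 4, 5, 7, 2, 4, 4, 5, 7, 8, 8] (sel (ones 4060) ip4 185) = true := by decide +kernel

theorem rot4_185r : band (Rule.ok (2 * 2) EX RL ⟨4 :: [8, 7, 7, 2, 4, 4, 5, 7, 2, 8, 8, 2, 4, 4, 5, 7, 2, 2, 4, 4, 5, 7, 2, 8, 5, 2, 4, 4, 5, 7, 2, 4, 4, 5, 7, 8, 8], [], 10, false⟩) (lall (memL L) [8, 7, 7, 2, 4, 4, 5, 7, 2, 8, 8, 2, 4, 4, 5, 7, 2, 2, 4, 4, 5, 7, 2, 8, 5, 2, 4, 4, 5, 7, 2, 4, 4, 5, 7, 8, 8]) = true := by decide +kernel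

theorem rot4_186 : T.rot 4 [4, 5, 7, 2, 8, 8, 2, 4, 4, 5, 7, 2, 2, 4, 4, 5, 7, 2, 8, 5, 2, 4, 4, 5, 7, 2, 4, 4, 5, 7, 8, 8, 4, 8, 7, 7, 2] (sel (ones 4060) ip4 186) = true := by decide +kernel

theorem rot4_186r : band (Rule.ok (2 * 2) EX RL ⟨4 :: [4, 5, 7, 2, 8, 8, 2, 4, 4, 5, 7, 2, 2, 4, 4, 5, 7, 2, 8, 5, 2, 4, 4, 5, 7, 2, 4, 4, 5, 7, 8, 8, 4, 8, 7, 7, 2], [7, 8, 6, 6, 2], 10, false⟩) (lall (memL L) [4, 5, 7, 2, 8, 8, 2, 4, 4, 5, 7, 2, 2, 4, 4, 5, 7, 2, 8, 5, 2, 4, 4, 5, 7, 2, 4, 4, 5, 7, 8, 8, 4, 8, 7, 7, 2]) = true := by decide +kernel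

theorem rot4_187 : T.rot 4 [5, 7, 2, 8, 8, 2, 4, 4, 5, 7, 2, 2, 4, 4, 5, 7, 2, 8, 5, 2, 4, 4, 5, 7, 2, 4, 4, 5, 7, 8, 8, 4, 8, 7, 7, 2, 4] (sel (ones 4060) ip4 187) = true := by decide +kernel

theorem rot4_187r : band (Rule.ok (2 * 2) EX RL ⟨4 :: [5, 7, 2, 8, 8, 2, 4, 4, 5, 7, 2, 2, 4, 4, 5, 7, 2, 8, 5, 2, 4, 4, 5, 7, 2, 4, 4, 5, 7, 8, 8, 4, 8, 7, 7, 2, 4], [7, 8, 6, 6, 2, 7], 10, false⟩) (lall (memL L) [5, 7, 2, 8, 8, 2, 4, 4, 5, 7, 2, 2, 4, 4, 5, 7, 2, 8, 5, 2, 4, 4, 5, 7, 2, 4, 4, 5, 7, 8, 8, 4, 8, 7, 7, 2, 4]) = true := by decide +kernel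

theorem rot4_188 : T.rot 4 [5, 7, 2, 8, 5, 2, 4, 4, 5, 7, 2, 4, 4, 5, 7, 8, 8, 4, 8, 7, 7, 2, 4, 4, 5, 7, 2, 8, 8, 2, 4, 4, 5, 7, 2, 2, 4] (sel (ones 4060) ip4 188) = true := by decide +kernel

theorem rot4_188r : band (Rule.ok (2 * 2) EX RL ⟨4 :: [5, 7, 2, 8, 5, 2, 4, 4, 5, 7, 2, 4, 4, 5, 7, 8, 8, 4, 8, 7, 7, 2, 4, 4, 5, 7, 2, 8, 8, 2, 4, 4, 5, 7, 2, 2, 4], [9, 9, 7, 8, 6, 6, 2, 7, 8, 6, 8, 6], 10, false⟩) (lall (memL L) [5, 7, 2, 8, 5, 2, 4, 4, 5, 7, 2, 4, 4, 5, 7, 8, 8, 4, 8, 7, 7, 2, 4, 4, 5, 7, 2, 8, 8, 2, 4, 4, 5, 7, 2, 2, 4]) = true := by decide +kernel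

theorem rot4_189 : T.rot 4 [5, 7, 2, 4, 4, 5, 7, 8, 8, 4, 8, 7, 7, 2, 4, 4, 5, 7, 2, 8, 8, 2, 4, 4, 5, 7, 2, 2, 4, 4, 5, 7, 2, 8, 5, 2, 4] (sel (ones 4060) ip4 189) = true := by decide +kernel

theorem rot4_189r : band (Rule.ok (2 * 2) EX RL ⟨4 :: [5, 7, 2, 4, 4, 5, 7, 8, 8, 4, 8, 7, 7, 2, 4, 4, 5, 7, 2, 8, 8, 2, 4, 4, 5, 7, 2, 2, 4, 4, 5, 7, 2, 8, 5, 2, 4], [9, 9, 7, 8, 6, 6, 2, 7, 8, 6], 10, false⟩) (lall (memL L) [5, 7, 2, 4, 4, 5, 7, 8, 8, 4, 8, 7, 7, 2, 4, 4, 5, 7, 2, 8, 8, 2, 4, 4, 5, 7, 2, 2, 4, 4, 5, 7, 2, 8, 5, 2, 4]) = true := by decide +kernel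

theorem rot4_190 : T.rot 4 [4, 5, 7, 8, 8, 4, 8, 7, 7, 2, 4, 4, 5, 7, 2, 8, 8, 2, 4, 4, 5, 7, 2, 2, 4, 4, 5, 7, 2, 8, 5, 2, 4, 4, 5, 7, 2] (sel (ones 4060) ip4 190) = true := by decide +kernel

theorem rot4_190r : band (Rule.ok (2 * 2) EX RL ⟨4 :: [4, 5, 7, 8, 8, 4, 8, 7, 7, 2, 4, 4, 5, 7, 2, 8, 8, 2, 4, 4, 5, 7, 2, 2, 4, 4, 5, 7, 2, 8, 5, 2, 4, 4, 5, 7, 2], [9, 9, 7, 8, 6, 6], 10, false⟩) (lall (memL L) [4, 5, 7, 8, 8, 4, 8, 7, 7, 2, 4, 4, 5, 7, 2, 8, 8, 2, 4, 4, 5, 7, 2, 2, 4, 4, 5, 7, 2, 8, 5, 2, 4, 4, 5, 7, 2]) = true := by decide +kernel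

theorem rot4_191 : T.rot 4 [5, 7, 2, 8, 2, 4, 4, 5, 7, 2, 2, 4, 4, 5, 7, 2, 8, 2, 4, 8, 7, 7, 2, 5, 2, 4, 8, 7, 7, 2, 5, 5, 2, 4, 8, 7, 7, 2, 8, 2, 4] (sel (ones 4060) ip4 191) = true := by decide +kernel

theorem rot4_191r : band (Rule.ok (2 * 2) EX RL ⟨4 :: [5, 7, 2, 8, 2, 4, 4, 5, 7, 2, 2, 4, 4, 5, 7, 2, 8, 2, 4, 8, 7, 7, 2, 5, 2, 4, 8, 7, 7, 2, 5, 5, 2, 4, 8, 7, 7, 2, 8, 2, 4], [8, 2, 7], 2, true⟩) (lall (memL L) [5, 7, 2, 8, 2, 4, 4, 5, 7, 2, 2, 4, 4, 5, 7, 2, 8, 2, 4, 8, 7, 7, 2, 5, 2, 4, 8, 7, 7, 2, 5, 5, 2, 4, 8, 7, 7, 2, 8, 2, 4]) = true := by decide +kernel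

theorem rot4_192 : T.rot 4 [8, 7, 7, 2, 5, 2, 4, 8, 7, 7, 2, 5, 5, 2, 4, 8, 7, 7, 2, 8, 2, 4, 4, 5, 7, 2, 8, 2, 4, 4, 5, 7, 2, 2, 4, 4, 5, 7, 2, 8, 2] (sel (ones 4060) ip4 192) = true := by decide +kernel

theorem rot4_192r : band (Rule.ok (2 * 2) EX RL ⟨4 :: [8, 7, 7, 2, 5, 2, 4, 8, 7, 7, 2, 5, 5, 2, 4, 8, 7, 7, 2, 8, 2, 4, 4, 5, 7, 2, 8, 2, 4, 4, 5, 7, 2, 2, 4, 4, 5, 7, 2, 8, 2], [8, 2, 7, 7, 9, 6, 2, 8, 2, 7, 7, 9, 7, 9, 6, 2, 8, 2], 2, true⟩) (lall (memL L) [8, 7, 7, 2, 5, 2, 4, 8, 7, 7, 2, 5, 5, 2, 4, 8, 7, 7, 2, 8, 2, 4, 4, 5, 7, 2, 8, 2, 4, 4, 5, 7, 2, 2, 4, 4, 5, 7, 2, 8, 2]) = true := by decide +kernel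

theorem rot4_193 : T.rot 4 [8, 7, 7, 2, 8, 2, 4, 4, 5, 7, 2, 8, 2, 4, 4, 5, 7, 2, 2, 4, 4, 5, 7, 2, 8, 2, 4, 8, 7, 7, 2, 5, 2, 4, 8, 7, 7, 2, 5, 5, 2] (sel (ones 4060) ip4 193) = true := by decide +kernel

theorem rot4_193r : band (Rule.ok (2 * 2) EX RL ⟨4 :: [8, 7, 7, 2, 8, 2, 4, 4, 5, 7, 2, 8, 2, 4, 4, 5, 7, 2, 2, 4, 4, 5, 7, 2, 8, 2, 4, 8, 7, 7, 2, 5, 2, 4, 8, 7, 7, 2, 5, 5, 2], [2, 7, 7, 9, 6], 2, true⟩) (lall (memL L) [8, 7, 7, 2, 8, 2, 4, 4, 5, 7, 2, 8, 2, 4, 4, 5, 7, 2, 2, 4, 4, 5, 7, 2, 8, 2, 4, 8, 7, 7, 2, 5, 2, 4, 8, 7, 7, 2, 5, 5, 2]) = true := by decide +kernel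

theorem rot4_194 : T.rot 4 [5, 7, 2, 8, 8, 2, 4, 4, 5, 7, 2, 8, 2, 4, 4, 5, 7, 2, 5, 2, 4, 8, 7, 7, 2, 2, 4, 8, 7, 7, 2, 5, 2, 4, 8, 7, 7, 2, 5, 2, 4] (sel (ones 4060) ip4 194) = true := by decide +kernel

theorem rot4_194r : band (Rule.ok (2 * 2) EX RL ⟨4 :: [5, 7, 2, 8, 8, 2, 4, 4, 5, 7, 2, 8, 2, 4, 4, 5, 7, 2, 5, 2, 4, 8, 7, 7, 2, 2, 4, 8, 7, 7, 2, 5, 2, 4, 8, 7, 7, 2, 5, 2, 4], [2, 7], 2, false⟩) (lall (memL L) [5, 7, 2, 8, 8, 2, 4, 4, 5, 7, 2, 8, 2, 4, 4, 5, 7, 2, 5, 2, 4, 8, 7, 7, 2, 2, 4, 8, 7, 7, 2, 5, 2, 4, 8, 7, 7, 2, 5, 2, 4]) = true := by decide +kernel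

theorem rot4_195 : T.rot 4 [5, 7, 2, 8, 2, 4, 4, 5, 7, 2, 5, 2, 4, 8, 7, 7, 2, 2, 4, 8, 7, 7, 2, 5, 2, 4, 8, 7, 7, 2, 5, 2, 4, 4, 5, 7, 2, 8, 8, 2, 4] (sel (ones 4060) ip4 195) = true := by decide +kernel

theorem rot4_195r : band (Rule.ok (2 * 2) EX RL ⟨4 :: [5, 7, 2, 8, 2, 4, 4, 5, 7, 2, 5, 2, 4, 8, 7, 7, 2, 2, 4, 8, 7, 7, 2, 5, 2, 4, 8, 7, 7, 2, 5, 2, 4, 4, 5, 7, 2, 8, 8, 2, 4], [2, 7, 7, 9, 6, 2, 8, 8, 2, 7], 2, false⟩) (lall (memL L) [5, 7, 2, 8, 2, 4, 4, 5, 7, 2, 5, 2, 4, 8, 7, 7, 2, 2, 4, 8, 7, 7, 2, 5, 2, 4, 8, 7, 7, 2, 5, 2, 4, 4, 5, 7, 2, 8, 8, 2, 4]) = true := by decide +kernel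

theorem rot4_196 : T.rot 4 [4, 5, 7, 2, 5, 2, 4, 8, 7, 7, 2, 2, 4, 8, 7, 7, 2, 5, 2, 4, 8, 7, 7, 2, 5, 2, 4, 4, 5, 7, 2, 8, 8, 2, 4, 4, 5, 7, 2, 8, 2] (sel (ones 4060) ip4 196) = true := by decide +kernel

theorem rot4_196r : band (Rule.ok (2 * 2) EX RL ⟨4 :: [4, 5, 7, 2, 5, 2, 4, 8, 7, 7, 2, 2, 4, 8, 7, 7, 2, 5, 2, 4, 8, 7, 7, 2, 5, 2, 4, 4, 5, 7, 2, 8, 8, 2, 4, 4, 5, 7, 2, 8, 2], [2, 7, 7, 9, 6, 2, 8, 8, 2, 7, 7, 9, 6, 2, 8, 2], 2, false⟩) (lall (memL L) [4, 5, 7, 2, 5, 2, 4, 8, 7, 7, 2, 2, 4, 8, 7, 7, 2, 5, 2, 4, 8, 7, 7, 2, 5, 2, 4, 4, 5, 7, 2, 8, 8, 2, 4, 4, 5, 7, 2, 8, 2]) = true := by decide +kernel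

theorem rot4_197 : T.rot 4 [5, 7, 2, 5, 2, 4, 8, 7, 7, 2, 2, 4, 8, 7, 7, 2, 5, 2, 4, 8, 7, 7, 2, 5, 2, 4, 4, 5, 7, 2, 8, 8, 2, 4, 4, 5, 7, 2, 8, 2, 4] (sel (ones 4060) ip4 197) = true := by decide +kernel

theorem rot4_197r : band (Rule.ok (2 * 2) EX RL ⟨4 :: [5, 7, 2, 5, 2, 4, 8, 7, 7, 2, 2, 4, 8, 7, 7, 2, 5, 2, 4, 8, 7, 7, 2, 5, 2, 4, 4, 5, 7, 2, 8, 8, 2, 4, 4, 5, 7, 2, 8, 2, 4], [2, 7, 7, 9, 6, 2, 8, 8, 2, 7, 7, 9, 6, 2, 8, 2, 7], 2, false⟩) (lall (memL L) [5, 7, 2, 5, 2, 4, 8, 7, 7, 2, 2, 4, 8, 7, 7, 2, 5, 2, 4, 8, 7, 7, 2, 5, 2, 4, 4, 5, 7, 2, 8, 8, 2, 4, 4, 5, 7, 2, 8, 2, 4]) = true := by decide +kernel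

theorem rot4_198 : T.rot 4 [8, 7, 7, 2, 2, 4, 8, 7, 7, 2, 5, 2, 4, 8, 7, 7, 2, 5, 2, 4, 4, 5, 7, 2, 8, 8, 2, 4, 4, 5, 7, 2, 8, 2, 4, 4, 5, 7, 2, 5, 2] (sel (ones 4060) ip4 198) = true := by decide +kernel

theorem rot4_198r : band (Rule.ok (2 * 2) EX RL ⟨4 :: [8, 7, 7, 2, 2, 4, 8, 7, 7, 2, 5, 2, 4, 8, 7, 7, 2, 5, 2, 4, 4, 5, 7, 2, 8, 8, 2, 4, 4, 5, 7, 2, 8, 2, 4, 4, 5, 7, 2, 5, 2], [8, 2, 7, 7, 9, 6, 2, 8, 2, 7, 7, 9, 7, 9, 6], 2, false⟩) (lall (memL L) [8, 7, 7, 2, 2, 4, 8, 7, 7, 2, 5, 2, 4, 8, 7, 7, 2, 5, 2, 4, 4, 5, 7, 2, 8, 8, 2, 4, 4, 5, 7, 2, 8, 2, 4, 4, 5, 7, 2, 5, 2]) = true := by decide +kernel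

theorem rot4_199 : T.rot 4 [8, 7, 7, 2, 5, 2, 4, 4, 5, 7, 2, 8, 8, 2, 4, 4, 5, 7, 2, 8, 2, 4, 4, 5, 7, 2, 5, 2, 4, 8, 7, 7, 2, 2, 4, 8, 7, 7, 2, 5, 2] (sel (ones 4060) ip4 199) = true := by decide +kernel

theorem rot4_199r : band (Rule.ok (2 * 2) EX RL ⟨4 :: [8, 7, 7, 2, 5, 2, 4, 4, 5, 7, 2, 8, 8, 2, 4, 4, 5, 7, 2, 8, 2, 4, 4, 5, 7, 2, 5, 2, 4, 8, 7, 7, 2, 2, 4, 8, 7, 7, 2, 5, 2], [8, 2, 7, 7, 9, 6], 2, false⟩) (lall (memL L) [8, 7, 7, 2, 5, 2, 4, 4, 5, 7, 2, 8, 8, 2, 4, 4, 5, 7, 2, 8, 2, 4, 4, 5, 7, 2, 5, 2, 4, 8, 7, 7, 2, 2, 4, 8, 7, 7, 2, 5, 2]) = true := by decide +kernel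

theorem rot4_200 : T.rot 4 [5, 7, 2, 8, 4, 8, 7, 7, 2, 4, 4, 5, 7, 2, 8, 2, 4, 4, 5, 7, 2, 8, 4, 8, 7, 7, 2, 4, 4, 5, 7, 2, 8, 4, 8, 7, 7, 4, 8, 7, 7, 2, 4] (sel (ones 4060) ip4 200) = true := by decide +kernel

theorem rot4_200r : band (Rule.ok (2 * 2) EX RL ⟨4 :: [5, 7, 2, 8, 4, 8, 7, 7, 2, 4, 4, 5, 7, 2, 8, 2, 4, 4, 5, 7, 2, 8, 4, 8, 7, 7, 2, 4, 4, 5, 7, 2, 8, 4, 8, 7, 7, 4, 8, 7, 7, 2, 4], [7, 8, 6, 8, 6, 6, 2, 7], 6, true⟩) (lall (memL L) [5, 7, 2, 8, 4, 8, 7, 7, 2, 4, 4, 5, 7, 2, 8, 2, 4, 4, 5, 7, 2, 8, 4, 8, 7, 7, 2, 4, 4, 5, 7, 2, 8, 4, 8, 7, 7, 4, 8, 7, 7, 2, 4]) = true := by decide +kernel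

theorem rot4_201 : T.rot 4 [4, 5, 7, 2, 8, 2, 4, 4, 5, 7, 2, 8, 4, 8, 7, 7, 2, 4, 4, 5, 7, 2, 8, 4, 8, 7, 7, 4, 8, 7, 7, 2, 4, 4, 5, 7, 2, 8, 4, 8, 7, 7, 2] (sel (ones 4060) ip4 201) = true := by decide +kernel

theorem rot4_201r : band (Rule.ok (2 * 2) EX RL ⟨4 :: [4, 5, 7, 2, 8, 2, 4, 4, 5, 7, 2, 8, 4, 8, 7, 7, 2, 4, 4, 5, 7, 2, 8, 4, 8, 7, 7, 4, 8, 7, 7, 2, 4, 4, 5, 7, 2, 8, 4, 8, 7, 7, 2], [7, 8, 6, 8, 6, 6, 2, 7, 7, 9, 6, 2, 8, 7, 8, 6, 6, 2], 6, true⟩) (lall (memL L) [4, 5, 7, 2, 8, 2, 4, 4, 5, 7, 2, 8, 4, 8, 7, 7, 2, 4, 4, 5, 7, 2, 8, 4, 8, 7, 7, 4, 8, 7, 7, 2, 4, 4, 5, 7, 2, 8, 4, 8, 7, 7, 2]) = true := by decide +kernel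

theorem rot4_202 : T.rot 4 [5, 7, 2, 8, 4, 8, 7, 7, 2, 4, 4, 5, 7, 2, 8, 4, 8, 7, 7, 4, 8, 7, 7, 2, 4, 4, 5, 7, 2, 8, 4, 8, 7, 7, 2, 4, 4, 5, 7, 2, 8, 2, 4] (sel (ones 4060) ip4 202) = true := by decide +kernel

theorem rot4_202r : band (Rule.ok (2 * 2) EX RL ⟨4 :: [5, 7, 2, 8, 4, 8, 7, 7, 2, 4, 4, 5, 7, 2, 8, 4, 8, 7, 7, 4, 8, 7, 7, 2, 4, 4, 5, 7, 2, 8, 4, 8, 7, 7, 2, 4, 4, 5, 7, 2, 8, 2, 4], [9, 2, 7, 8, 6, 6, 2, 7, 7, 9, 6, 9, 2, 7, 8, 6], 6, true⟩) (lall (memL L) [5, 7, 2, 8, 4, 8, 7, 7, 2, 4, 4, 5, 7, 2, 8, 4, 8, 7, 7, 4, 8, 7, 7, 2, 4, 4, 5, 7, 2, 8, 4, 8, 7, 7, 2, 4, 4, 5, 7, 2, 8, 2, 4]) = true := by decide +kernel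

theorem rot4_203 : T.rot 4 [8, 7, 7, 2, 4, 4, 5, 7, 2, 8, 4, 8, 7, 7, 4, 8, 7, 7, 2, 4, 4, 5, 7, 2, 8, 4, 8, 7, 7, 2, 4, 4, 5, 7, 2, 8, 2, 4, 4, 5, 7, 2, 8] (sel (ones 4060) ip4 203) = true := by decide +kernel

theorem rot4_203r : band (Rule.ok (2 * 2) EX RL ⟨4 :: [8, 7, 7, 2, 4, 4, 5, 7, 2, 8, 4, 8, 7, 7, 4, 8, 7, 7, 2, 4, 4, 5, 7, 2, 8, 4, 8, 7, 7, 2, 4, 4, 5, 7, 2, 8, 2, 4, 4, 5, 7, 2, 8], [9, 2, 7, 8, 6, 6, 2, 7, 7, 9, 6], 6, true⟩) (lall (memL L) [8, 7, 7, 2, 4, 4, 5, 7, 2, 8, 4, 8, 7, 7, 4, 8, 7, 7, 2, 4, 4, 5, 7, 2, 8, 4, 8, 7, 7, 2, 4, 4, 5, 7, 2, 8, 2, 4, 4, 5, 7, 2, 8]) = true := by decide +kernel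

theorem rot4_204 : T.rot 4 [5, 7, 2, 8, 4, 8, 7, 7, 4, 8, 7, 7, 2, 4, 4, 5, 7, 2, 8, 4, 8, 7, 7, 2, 4, 4, 5, 7, 2, 8, 2, 4, 4, 5, 7, 2, 8, 4, 8, 7, 7, 2, 4] (sel (ones 4060) ip4 204) = true := by decide +kernel

theorem rot4_204r : band (Rule.ok (2 * 2) EX RL ⟨4 :: [5, 7, 2, 8, 4, 8, 7, 7, 4, 8, 7, 7, 2, 4, 4, 5, 7, 2, 8, 4, 8, 7, 7, 2, 4, 4, 5, 7, 2, 8, 2, 4, 4, 5, 7, 2, 8, 4, 8, 7, 7, 2, 4], [9, 2, 7, 8, 6], 6, true⟩) (lall (memL L) [5, 7, 2, 8, 4, 8, 7, 7, 4, 8, 7, 7, 2, 4, 4, 5, 7, 2, 8, 4, 8, 7, 7, 2, 4, 4, 5, 7, 2, 8, 2, 4, 4, 5, 7, 2, 8, 4, 8, 7, 7, 2, 4]) = true := by decide +kernel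

theorem rot4_205 : T.rot 4 [8, 7, 7, 2, 4, 4, 5, 7, 5, 2, 4, 8, 7, 7, 2, 5, 2, 4, 8, 7, 7, 2, 4, 4, 5, 7, 5, 2, 4, 8, 7, 7, 2, 4, 4, 5, 7, 4, 4, 5, 7, 5, 2] (sel (ones 4060) ip4 205) = true := by decide +kernel

theorem rot4_205r : band (Rule.ok (2 * 2) EX RL ⟨4 :: [8, 7, 7, 2, 4, 4, 5, 7, 5, 2, 4, 8, 7, 7, 2, 5, 2, 4, 8, 7, 7, 2, 4, 4, 5, 7, 5, 2, 4, 8, 7, 7, 2, 4, 4, 5, 7, 4, 4, 5, 7, 5, 2], [9, 2], 6, false⟩) (lall (memL L) [8, 7, 7, 2, 4, 4, 5, 7, 5, 2, 4, 8, 7, 7, 2, 5, 2, 4, 8, 7, 7, 2, 4, 4, 5, 7, 5, 2, 4, 8, 7, 7, 2, 4, 4, 5, 7, 4, 4, 5, 7, 5, 2]) = true := by decide +kernel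

theorem rot4_206 : T.rot 4 [4, 5, 7, 5, 2, 4, 8, 7, 7, 2, 5, 2, 4, 8, 7, 7, 2, 4, 4, 5, 7, 5, 2, 4, 8, 7, 7, 2, 4, 4, 5, 7, 4, 4, 5, 7, 5, 2, 4, 8, 7, 7, 2] (sel (ones 4060) ip4 206) = true := by decide +kernel

theorem rot4_206r : band (Rule.ok (2 * 2) EX RL ⟨4 :: [4, 5, 7, 5, 2, 4, 8, 7, 7, 2, 5, 2, 4, 8, 7, 7, 2, 4, 4, 5, 7, 5, 2, 4, 8, 7, 7, 2, 4, 4, 5, 7, 4, 4, 5, 7, 5, 2, 4, 8, 7, 7, 2], [9, 2, 7, 8, 6, 6, 2], 6, false⟩) (lall (memL L) [4, 5, 7, 5, 2, 4, 8, 7, 7, 2, 5, 2, 4, 8, 7, 7, 2, 4, 4, 5, 7, 5, 2, 4, 8, 7, 7, 2, 4, 4, 5, 7, 4, 4, 5, 7, 5, 2, 4, 8, 7, 7, 2]) = true := by decide +kernel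

theorem rot4_207 : T.rot 4 [5, 7, 5, 2, 4, 8, 7, 7, 2, 5, 2, 4, 8, 7, 7, 2, 4, 4, 5, 7, 5, 2, 4, 8, 7, 7, 2, 4, 4, 5, 7, 4, 4, 5, 7, 5, 2, 4, 8, 7, 7, 2, 4] (sel (ones 4060) ip4 207) = true := by decide +kernel

theorem rot4_207r : band (Rule.ok (2 * 2) EX RL ⟨4 :: [5, 7, 5, 2, 4, 8, 7, 7, 2, 5, 2, 4, 8, 7, 7, 2, 4, 4, 5, 7, 5, 2, 4, 8, 7, 7, 2, 4, 4, 5, 7, 4, 4, 5, 7, 5, 2, 4, 8, 7, 7, 2, 4], [9, 2, 7, 8, 6, 6, 2, 7], 6, false⟩) (lall (memL L) [5, 7, 5, 2, 4, 8, 7, 7, 2, 5, 2, 4, 8, 7, 7, 2, 4, 4, 5, 7, 5, 2, 4, 8, 7, 7, 2, 4, 4, 5, 7, 4, 4, 5, 7, 5, 2, 4, 8, 7, 7, 2, 4]) = true := by decide +kernel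

theorem rot4_208 : T.rot 4 [5, 7, 5, 2, 4, 8, 7, 7, 2, 4, 4, 5, 7, 4, 4, 5, 7, 5, 2, 4, 8, 7, 7, 2, 4, 4, 5, 7, 5, 2, 4, 8, 7, 7, 2, 5, 2, 4, 8, 7, 7, 2, 4] (sel (ones 4060) ip4 208) = true := by decide +kernel

theorem rot4_208r : band (Rule.ok (2 * 2) EX RL ⟨4 :: [5, 7, 5, 2, 4, 8, 7, 7, 2, 4, 4, 5, 7, 4, 4, 5, 7, 5, 2, 4, 8, 7, 7, 2, 4, 4, 5, 7, 5, 2, 4, 8, 7, 7, 2, 5, 2, 4, 8, 7, 7, 2, 4], [7, 8, 6, 8, 6, 6, 2, 7, 7, 9, 6, 2, 8, 7, 8, 6], 6, false⟩) (lall (memL L) [5, 7, 5, 2, 4, 8, 7, 7, 2, 4, 4, 5, 7, 4, 4, 5, 7, 5, 2, 4, 8, 7, 7, 2, 4, 4, 5, 7, 5, 2, 4, 8, 7, 7, 2, 5, 2, 4, 8, 7, 7, 2, 4]) = true := by decide +kernel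

theorem rot4_209 : T.rot 4 [8, 7, 7, 2, 4, 4, 5, 7, 4, 4, 5, 7, 5, 2, 4, 8, 7, 7, 2, 4, 4, 5, 7, 5, 2, 4, 8, 7, 7, 2, 5, 2, 4, 8, 7, 7, 2, 4, 4, 5, 7, 5, 2] (sel (ones 4060) ip4 209) = true := by decide +kernel

theorem rot4_209r : band (Rule.ok (2 * 2) EX RL ⟨4 :: [8, 7, 7, 2, 4, 4, 5, 7, 4, 4, 5, 7, 5, 2, 4, 8, 7, 7, 2, 4, 4, 5, 7, 5, 2, 4, 8, 7, 7, 2, 5, 2, 4, 8, 7, 7, 2, 4, 4, 5, 7, 5, 2], [7, 8, 6, 8, 6, 6, 2, 7, 7, 9, 6], 6, false⟩) (lall (memL L) [8, 7, 7, 2, 4, 4, 5, 7, 4, 4, 5, 7, 5, 2, 4, 8, 7, 7, 2, 4, 4, 5, 7, 5, 2, 4, 8, 7, 7, 2, 5, 2, 4, 8, 7, 7, 2, 4, 4, 5, 7, 5, 2]) = true := by decide +kernel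

theorem rot4_210 : T.rot 4 [5, 7, 4, 4, 5, 7, 5, 2, 4, 8, 7, 7, 2, 4, 4, 5, 7, 5, 2, 4, 8, 7, 7, 2, 5, 2, 4, 8, 7, 7, 2, 4, 4, 5, 7, 5, 2, 4, 8, 7, 7, 2, 4] (sel (ones 4060) ip4 210) = true := by decide +kernel

theorem rot4_210r : band (Rule.ok (2 * 2) EX RL ⟨4 :: [5, 7, 4, 4, 5, 7, 5, 2, 4, 8, 7, 7, 2, 4, 4, 5, 7, 5, 2, 4, 8, 7, 7, 2, 5, 2, 4, 8, 7, 7, 2, 4, 4, 5, 7, 5, 2, 4, 8, 7, 7, 2, 4], [7, 8, 6, 8, 6], 6, false⟩) (lall (memL L) [5, 7, 4, 4, 5, 7, 5, 2, 4, 8, 7, 7, 2, 4, 4, 5, 7, 5, 2, 4, 8, 7, 7, 2, 5, 2, 4, 8, 7, 7, 2, 4, 4, 5, 7, 5, 2, 4, 8, 7, 7, 2, 4]) = true := by decide +kernel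

theorem rot4_211 : T.rot 4 [5, 7, 5, 2, 4, 8, 7, 7, 2, 4, 4, 5, 7, 5, 2, 4, 8, 7, 7, 2, 5, 2, 4, 8, 7, 7, 2, 4, 4, 5, 7, 5, 2, 4, 8, 7, 7, 2, 4, 4, 5, 7, 4] (sel (ones 4060) ip4 211) = true := by decide +kernel

theorem rot4_211r : band (Rule.ok (2 * 2) EX RL ⟨4 :: [5, 7, 5, 2, 4, 8, 7, 7, 2, 4, 4, 5, 7, 5, 2, 4, 8, 7, 7, 2, 5, 2, 4, 8, 7, 7, 2, 4, 4, 5, 7, 5, 2, 4, 8, 7, 7, 2, 4, 4, 5, 7, 4], [7, 8, 6], 6, false⟩) (lall (memL L) [5, 7, 5, 2, 4, 8, 7, 7, 2, 4, 4, 5, 7, 5, 2, 4, 8, 7, 7, 2, 5, 2, 4, 8, 7, 7, 2, 4, 4, 5, 7, 5, 2, 4, 8, 7, 7, 2, 4, 4, 5, 7, 4]) = true := by decide +kernel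

theorem rot4_212 : T.rot 4 [4, 5, 7, 2, 8, 4, 8, 7, 7, 2, 4, 4, 5, 7, 2, 8, 4, 8, 7, 7, 2, 4, 4, 5, 7, 2, 8, 4, 8, 7, 7, 2, 4, 4, 5, 7, 2, 8, 4, 8, 7, 7, 2] (sel (ones 4060) ip4 212) = true := by decide +kernel

theorem rot4_212r : band (Rule.ok (2 * 2) EX RL ⟨4 :: [4, 5, 7, 2, 8, 4, 8, 7, 7, 2, 4, 4, 5, 7, 2, 8, 4, 8, 7, 7, 2, 4, 4, 5, 7, 2, 8, 4, 8, 7, 7, 2, 4, 4, 5, 7, 2, 8, 4, 8, 7, 7, 2], [7, 8, 6, 6, 2], 7, true⟩) (lall (memL L) [4, 5, 7, 2, 8, 4, 8, 7, 7, 2, 4, 4, 5, 7, 2, 8, 4, 8, 7, 7, 2, 4, 4, 5, 7, 2, 8, 4, 8, 7, 7, 2, 4, 4, 5, 7, 2, 8, 4, 8, 7, 7, 2]) = true := by decide +kernel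

theorem rot4_213 : T.rot 4 [4, 5, 7, 5, 2, 4, 8, 7, 7, 2, 4, 4, 5, 7, 5, 2, 4, 8, 7, 7, 2, 4, 4, 5, 7, 5, 2, 4, 8, 7, 7, 2, 4, 4, 5, 7, 5, 2, 4, 8, 7, 7, 2] (sel (ones 4060) ip4 213) = true := by decide +kernel

theorem rot4_213r : band (Rule.ok (2 * 2) EX RL ⟨4 :: [4, 5, 7, 5, 2, 4, 8, 7, 7, 2, 4, 4, 5, 7, 5, 2, 4, 8, 7, 7, 2, 4, 4, 5, 7, 5, 2, 4, 8, 7, 7, 2, 4, 4, 5, 7, 5, 2, 4, 8, 7, 7, 2], [7, 8, 6, 6], 7, false⟩) (lall (memL L) [4, 5, 7, 5, 2, 4, 8, 7, 7, 2, 4, 4, 5, 7, 5, 2, 4, 8, 7, 7, 2, 4, 4, 5, 7, 5, 2, 4, 8, 7, 7, 2, 4, 4, 5, 7, 5, 2, 4, 8, 7, 7, 2]) = true := by decide +kernel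

theorem rot4_214 : T.rot 4 [5, 7, 5, 2, 4, 8, 7, 7, 2, 4, 4, 5, 7, 5, 2, 4, 8, 7, 7, 2, 4, 4, 5, 7, 5, 2, 4, 8, 7, 7, 2, 4, 4, 5, 7, 5, 2, 4, 8, 7, 7, 2, 4] (sel (ones 4060) ip4 214) = true := by decide +kernel

theorem rot4_214r : band (Rule.ok (2 * 2) EX RL ⟨4 :: [5, 7, 5, 2, 4, 8, 7, 7, 2, 4, 4, 5, 7, 5, 2, 4, 8, 7, 7, 2, 4, 4, 5, 7, 5, 2, 4, 8, 7, 7, 2, 4, 4, 5, 7, 5, 2, 4, 8, 7, 7, 2, 4], [7, 8, 6], 7, false⟩) (lall (memL L) [5, 7, 5, 2, 4, 8, 7, 7, 2, 4, 4, 5, 7, 5, 2, 4, 8, 7, 7, 2, 4, 4, 5, 7, 5, 2, 4, 8, 7, 7, 2, 4, 4, 5, 7, 5, 2, 4, 8, 7, 7, 2, 4]) = true := by decide +kernel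

theorem cov4 : T.cover 4 [(sel (ones 4060) ip4 1), (sel (ones 4060) ip4 2), (sel (ones 4060) ip4 3), (sel (ones 4060) ip4 4), (sel (ones 4060) ip4 5), (sel (ones 4060) ip4 6), (sel (ones 4060) ip4 7), (sel (ones 4060) ip4 8), (sel (ones 4060) ip4 9), (sel (ones 4060) ip4 10), (sel (ones 4060) ip4 11), (sel (ones 4060) ip4 12), (sel (ones 4060) ip4 13), (sel (ones 4060) ip4 14), (sel (ones 4060) ip4 15), (sel (ones 4060) ip4 16), (sel (ones 4060) ip4 17), (sel (ones 4060) ip4 18), (sel (ones 4060) ip4 19), (sel (ones 4060) ip4 20), (sel (ones 4060) ip4 21), (sel (ones 4060) ip4 22), (sel (ones 4060) ip4 23), (sel (ones 4060) ip4 24), (sel (ones 4060) ip4 25), (sel (ones 4060) ip4 26), (sel (ones 4060) ip4 27), (sel (ones 4060) ip4 28), (sel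 (ones 4060) ip4 29), (sel (ones 4060) ip4 30), (sel (ones 4060) ip4 31), (sel (ones 4060) ip4 32), (sel (ones 4060) ip4 33), (sel (ones 4060) ip4 34), (sel (ones 4060) ip4 35), (sel (ones 4060) ip4 36), (sel (ones 4060) ip4 37), (sel (ones 4060) ip4 38), (sel (ones 4060) ip4 39), (sel (ones 4060) ip4 40), (sel (ones 4060) ip4 41), (sel (ones 4060) ip4 42), (sel (ones 4060) ip4 43), (sel (ones 4060) ip4 44), (sel (ones 4060) ip4 45), (sel (ones 4060) ip4 46), (sel (ones 4060) ip4 47), (sel (ones 4060) ip4 48), (sel (ones 4060) ip4 49), (sel (ones 4060) ip4 50), (sel (ones 4060) ip4 51), (sel (ones 4060) ip4 52), (sel (ones 4060) ip4 53), (sel (ones 4060) ip4 54), (sel (ones 4060) ip4 55), (sel (ones 4060) ip4 56), (sel (ones 4060) ip4 57), (sel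 (ones 4060) ip4 58), (sel (ones 4060) ip4 59), (sel (ones 4060) ip4 60), (sel (ones 4060) ip4 61), (sel (ones 4060) ip4 62), (sel (ones 4060) ip4 63), (sel (ones 4060) ip4 64), (sel (ones 4060) ip4 65), (sel (ones 4060) ip4 66), (sel (ones 4060) ip4 67), (sel (ones 4060) ip4 68), (sel (ones 4060) ip4 69), (sel (ones 4060) ip4 70), (sel (ones 4060) ip4 71), (sel (ones 4060) ip4 72), (sel (ones 4060) ip4 73), (sel (ones 4060) ip4 74), (sel (ones 4060) ip4 75), (sel (ones 4060) ip4 76), (sel (ones 4060) ip4 77), (sel (ones 4060) ip4 78), (sel (ones 4060) ip4 79), (sel (ones 4060) ip4 80), (sel (ones 4060) ip4 81), (sel (ones 4060) ip4 82), (sel (ones 4060) ip4 83), (sel (ones 4060) ip4 84), (sel (ones 4060) ip4 85), (sel (ones 4060) ip4 86), (sel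 (ones 4060) ip4 87), (sel (ones 4060) ip4 88), (sel (ones 4060) ip4 89), (sel (ones 4060) ip4 90), (sel (ones 4060) ip4 91), (sel (ones 4060) ip4 92), (sel (ones 4060) ip4 93), (sel (ones 4060) ip4 94), (sel (ones 4060) ip4 95), (sel (ones 4060) ip4 96), (sel (ones 4060) ip4 97), (sel (ones 4060) ip4 98), (sel (ones 4060) ip4 99), (sel (ones 4060) ip4 100), (sel (ones 4060) ip4 101), (sel (ones 4060) ip4 102), (sel (ones 4060) ip4 103), (sel (ones 4060) ip4 104), (sel (ones 4060) ip4 105), (sel (ones 4060) ip4 106), (sel (ones 4060) ip4 107), (sel (ones 4060) ip4 108), (sel (ones 4060) ip4 109), (sel (ones 4060) ip4 110), (sel (ones 4060) ip4 111), (sel (ones 4060) ip4 112), (sel (ones 4060) ip4 113), (sel (ones 4060) ip4 114), (sel (ones 4060)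 ip4 115), (sel (ones 4060) ip4 116), (sel (ones 4060) ip4 117), (sel (ones 4060) ip4 118), (sel (ones 4060) ip4 119), (sel (ones 4060) ip4 120), (sel (ones 4060) ip4 121), (sel (ones 4060) ip4 122), (sel (ones 4060) ip4 123), (sel (ones 4060) ip4 124), (sel (ones 4060) ip4 125), (sel (ones 4060) ip4 126), (sel (ones 4060) ip4 127), (sel (ones 4060) ip4 128), (sel (ones 4060) ip4 129), (sel (ones 4060) ip4 130), (sel (ones 4060) ip4 131), (sel (ones 4060) ip4 132), (sel (ones 4060) ip4 133), (sel (ones 4060) ip4 134), (sel (ones 4060) ip4 135), (sel (ones 4060) ip4 136), (sel (ones 4060) ip4 137), (sel (ones 4060) ip4 138), (sel (ones 4060) ip4 139), (sel (ones 4060) ip4 140), (sel (ones 4060) ip4 141), (sel (ones 4060) ip4 142), (sel (ones 4060)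 ip4 143), (sel (ones 4060) ip4 144), (sel (ones 4060) ip4 145), (sel (ones 4060) ip4 146), (sel (ones 4060) ip4 147), (sel (ones 4060) ip4 148), (sel (ones 4060) ip4 149), (sel (ones 4060) ip4 150), (sel (ones 4060) ip4 151), (sel (ones 4060) ip4 152), (sel (ones 4060) ip4 153), (sel (ones 4060) ip4 154), (sel (ones 4060) ip4 155), (sel (ones 4060) ip4 156), (sel (ones 4060) ip4 157), (sel (ones 4060) ip4 158), (sel (ones 4060) ip4 159), (sel (ones 4060) ip4 160), (sel (ones 4060) ip4 161), (sel (ones 4060) ip4 162), (sel (ones 4060) ip4 163), (sel (ones 4060) ip4 164), (sel (ones 4060) ip4 165), (sel (ones 4060) ip4 166), (sel (ones 4060) ip4 167), (sel (ones 4060) ip4 168), (sel (ones 4060) ip4 169), (sel (ones 4060) ip4 170), (sel (ones 4060)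 ip4 171), (sel (ones 4060) ip4 172), (sel (ones 4060) ip4 173), (sel (ones 4060) ip4 174), (sel (ones 4060) ip4 175), (sel (ones 4060) ip4 176), (sel (ones 4060) ip4 177), (sel (ones 4060) ip4 178), (sel (ones 4060) ip4 179), (sel (ones 4060) ip4 180), (sel (ones 4060) ip4 181), (sel (ones 4060) ip4 182), (sel (ones 4060) ip4 183), (sel (ones 4060) ip4 184), (sel (ones 4060) ip4 185), (sel (ones 4060) ip4 186), (sel (ones 4060) ip4 187), (sel (ones 4060) ip4 188), (sel (ones 4060) ip4 189), (sel (ones 4060) ip4 190), (sel (ones 4060) ip4 191), (sel (ones 4060) ip4 192), (sel (ones 4060) ip4 193), (sel (ones 4060) ip4 194), (sel (ones 4060) ip4 195), (sel (ones 4060) ip4 196), (sel (ones 4060) ip4 197), (sel (ones 4060) ip4 198), (sel (ones 4060)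 ip4 199), (sel (ones 4060) ip4 200), (sel (ones 4060) ip4 201), (sel (ones 4060) ip4 202), (sel (ones 4060) ip4 203), (sel (ones 4060) ip4 204), (sel (ones 4060) ip4 205), (sel (ones 4060) ip4 206), (sel (ones 4060) ip4 207), (sel (ones 4060) ip4 208), (sel (ones 4060) ip4 209), (sel (ones 4060) ip4 210), (sel (ones 4060) ip4 211), (sel (ones 4060) ip4 212), (sel (ones 4060) ip4 213), (sel (ones 4060) ip4 214), 1] = true := by decide +kernel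

theorem tl4 : T.treeLt 12 4 = true := by decide +kernel

theorem rot5_1 : T.rot 5 [8] (sel (ones 4060) ip5 1) = true := by decide +kernel

theorem rot5_1r : band (Rule.ok (2 * 2) EX RL ⟨5 :: [8], [], 32, false⟩) (lall (memL L) [8]) = true := by decide +kernel

theorem rot5_2 : T.rot 5 [7, 5, 6, 4, 4, 6, 4] (sel (ones 4060) ip5 2) = true := by decide +kernel

theorem rot5_2r : band (Rule.ok (2 * 2) EX RL ⟨5 :: [7, 5, 6, 4, 4, 6, 4], [7], 20, true⟩) (lall (memL L) [7, 5, 6, 4, 4, 6, 4]) = true := by decide +kernel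

theorem rot5_3 : T.rot 5 [6, 4, 4, 6, 4, 5, 7] (sel (ones 4060) ip5 3) = true := by decide +kernel

theorem rot5_3r : band (Rule.ok (2 * 2) EX RL ⟨5 :: [6, 4, 4, 6, 4, 5, 7], [7, 9, 6], 20, true⟩) (lall (memL L) [6, 4, 4, 6, 4, 5, 7]) = true := by decide +kernel

theorem rot5_4 : T.rot 5 [7, 2, 3, 2, 6, 6, 7, 5] (sel (ones 4060) ip5 4) = true := by decide +kernel

theorem rot5_4r : band (Rule.ok (2 * 2) EX RL ⟨5 :: [7, 2, 3, 2, 6, 6, 7, 5], [], 28, true⟩) (lall (memL L) [7, 2, 3, 2, 6, 6, 7, 5]) = true := by decide +kernel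

theorem rot5_5 : T.rot 5 [5, 7, 2, 3, 2, 6, 6, 7] (sel (ones 4060) ip5 5) = true := by decide +kernel

theorem rot5_5r : band (Rule.ok (2 * 2) EX RL ⟨5 :: [5, 7, 2, 3, 2, 6, 6, 7], [8], 28, true⟩) (lall (memL L) [5, 7, 2, 3, 2, 6, 6, 7]) = true := by decide +kernel

theorem rot5_6 : T.rot 5 [7, 5, 2, 5, 5, 6, 2, 4, 4] (sel (ones 4060) ip5 6) = true := by decide +kernel

theorem rot5_6r : band (Rule.ok (2 * 2) EX RL ⟨5 :: [7, 5, 2, 5, 5, 6, 2, 4, 4], [2, 7, 7], 21, false⟩) (lall (memL L) [7, 5, 2, 5, 5, 6, 2, 4, 4]) = true := by decide +kernel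

theorem rot5_7 : T.rot 5 [2, 5, 5, 6, 2, 4, 4, 5, 7] (sel (ones 4060) ip5 7) = true := by decide +kernel

theorem rot5_7r : band (Rule.ok (2 * 2) EX RL ⟨5 :: [2, 5, 5, 6, 2, 4, 4, 5, 7], [5, 8, 8, 2, 8], 21, false⟩) (lall (memL L) [2, 5, 5, 6, 2, 4, 4, 5, 7]) = true := by decide +kernel

theorem rot5_8 : T.rot 5 [5, 6, 2, 4, 4, 5, 7, 5, 2] (sel (ones 4060) ip5 8) = true := by decide +kernel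

theorem rot5_8r : band (Rule.ok (2 * 2) EX RL ⟨5 :: [5, 6, 2, 4, 4, 5, 7, 5, 2], [5, 8, 8], 21, false⟩) (lall (memL L) [5, 6, 2, 4, 4, 5, 7, 5, 2]) = true := by decide +kernel

theorem rot5_9 : T.rot 5 [6, 2, 4, 4, 5, 7, 5, 2, 5] (sel (ones 4060) ip5 9) = true := by decide +kernel

theorem rot5_9r : band (Rule.ok (2 * 2) EX RL ⟨5 :: [6, 2, 4, 4, 5, 7, 5, 2, 5], [5, 8], 21, false⟩) (lall (memL L) [6, 2, 4, 4, 5, 7, 5, 2, 5]) = true := by decide +kernel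

theorem rot5_10 : T.rot 5 [7, 7, 2, 8, 2, 8, 7, 5, 4, 4] (sel (ones 4060) ip5 10) = true := by decide +kernel

theorem rot5_10r : band (Rule.ok (2 * 2) EX RL ⟨5 :: [7, 7, 2, 8, 2, 8, 7, 5, 4, 4], [7], 15, true⟩) (lall (memL L) [7, 7, 2, 8, 2, 8, 7, 5, 4, 4]) = true := by decide +kernel

theorem rot5_11 : T.rot 5 [4, 4, 5, 7, 7, 2, 8, 2, 8, 7] (sel (ones 4060) ip5 11) = true := by decide +kernel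

theorem rot5_11r : band (Rule.ok (2 * 2) EX RL ⟨5 :: [4, 4, 5, 7, 7, 2, 8, 2, 8, 7], [6, 8], 15, true⟩) (lall (memL L) [4, 4, 5, 7, 7, 2, 8, 2, 8, 7]) = true := by decide +kernel

theorem rot5_12 : T.rot 5 [2, 5, 2, 4, 4, 8, 7, 7, 8, 4] (sel (ones 4060) ip5 12) = true := by decide +kernel

theorem rot5_12r : band (Rule.ok (2 * 2) EX RL ⟨5 :: [2, 5, 2, 4, 4, 8, 7, 7, 8, 4], [6, 8, 7], 15, false⟩) (lall (memL L) [2, 5, 2, 4, 4, 8, 7, 7, 8, 4]) = true := by decide +kernel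

theorem rot5_13 : T.rot 5 [2, 4, 4, 8, 7, 7, 8, 4, 5, 2] (sel (ones 4060) ip5 13) = true := by decide +kernel

theorem rot5_13r : band (Rule.ok (2 * 2) EX RL ⟨5 :: [2, 4, 4, 8, 7, 7, 8, 4, 5, 2], [6, 8, 7, 9, 2], 15, false⟩) (lall (memL L) [2, 4, 4, 8, 7, 7, 8, 4, 5, 2]) = true := by decide +kernel

theorem rot5_14 : T.rot 5 [2, 7, 7, 1, 4, 1, 7, 7, 8, 2] (sel (ones 4060) ip5 14) = true := by decide +kernel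

theorem rot5_14r : band (Rule.ok (2 * 2) EX RL ⟨5 :: [2, 7, 7, 1, 4, 1, 7, 7, 8, 2], [7, 7, 2, 8], 24, true⟩) (lall (memL L) [2, 7, 7, 1, 4, 1, 7, 7, 8, 2]) = true := by decide +kernel

theorem rot5_15 : T.rot 5 [4, 4, 1, 7, 1, 4, 4, 2, 8, 2] (sel (ones 4060) ip5 15) = true := by decide +kernel

theorem rot5_15r : band (Rule.ok (2 * 2) EX RL ⟨5 :: [4, 4, 1, 7, 1, 4, 4, 2, 8, 2], [7, 7, 2, 8, 2], 24, false⟩) (lall (memL L) [4, 4, 1, 7, 1, 4, 4, 2, 8, 2]) = true := by decide +kernel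

theorem rot5_16 : T.rot 5 [2, 3, 2, 4, 4, 2, 6, 2, 8, 4] (sel (ones 4060) ip5 16) = true := by decide +kernel

theorem rot5_16r : band (Rule.ok (2 * 2) EX RL ⟨5 :: [2, 3, 2, 4, 4, 2, 6, 2, 8, 4], [2, 8, 7], 30, true⟩) (lall (memL L) [2, 3, 2, 4, 4, 2, 6, 2, 8, 4]) = true := by decide +kernel

theorem rot5_17 : T.rot 5 [2, 3, 2, 7, 7, 2, 6, 2, 8, 7] (sel (ones 4060) ip5 17) = true := by decide +kernel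

theorem rot5_17r : band (Rule.ok (2 * 2) EX RL ⟨5 :: [2, 3, 2, 7, 7, 2, 6, 2, 8, 7], [2, 8], 30, false⟩) (lall (memL L) [2, 3, 2, 7, 7, 2, 6, 2, 8, 7]) = true := by decide +kernel

theorem rot5_18 : T.rot 5 [2, 1, 2, 7, 3, 4, 4, 2, 1, 8, 8, 2] (sel (ones 4060) ip5 18) = true := by decide +kernel

theorem rot5_18r : band (Rule.ok (2 * 2) EX RL ⟨5 :: [2, 1, 2, 7, 3, 4, 4, 2, 1, 8, 8, 2], [2, 8], 23, true⟩) (lall (memL L) [2, 1, 2, 7, 3, 4, 4, 2, 1, 8, 8, 2]) = true := by decide +kernel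

theorem rot5_19 : T.rot 5 [5, 1, 2, 7, 7, 6, 4, 2, 1, 2, 8, 2] (sel (ones 4060) ip5 19) = true := by decide +kernel

theorem rot5_19r : band (Rule.ok (2 * 2) EX RL ⟨5 :: [5, 1, 2, 7, 7, 6, 4, 2, 1, 2, 8, 2], [2, 8, 2], 23, false⟩) (lall (memL L) [5, 1, 2, 7, 7, 6, 4, 2, 1, 2, 8, 2]) = true := by decide +kernel

theorem rot5_20 : T.rot 5 [1, 2, 7, 7, 6, 4, 2, 1, 2, 8, 2, 5] (sel (ones 4060) ip5 20) = true := by decide +kernel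

theorem rot5_20r : band (Rule.ok (2 * 2) EX RL ⟨5 :: [1, 2, 7, 7, 6, 4, 2, 1, 2, 8, 2, 5], [2, 8, 2, 9], 23, false⟩) (lall (memL L) [1, 2, 7, 7, 6, 4, 2, 1, 2, 8, 2, 5]) = true := by decide +kernel

theorem rot5_21 : T.rot 5 [7, 7, 2, 1, 2, 4, 4, 6, 7, 2, 1, 2, 7] (sel (ones 4060) ip5 21) = true := by decide +kernel

theorem rot5_21r : band (Rule.ok (2 * 2) EX RL ⟨5 :: [7, 7, 2, 1, 2, 4, 4, 6, 7, 2, 1, 2, 7], [2, 6], 22, false⟩) (lall (memL L) [7, 7, 2, 1, 2, 4, 4, 6, 7, 2, 1, 2, 7]) = true := by decide +kernel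

theorem rot5_22 : T.rot 5 [6, 4, 2, 4, 2, 3, 2, 7, 2, 8, 7, 7, 3] (sel (ones 4060) ip5 22) = true := by decide +kernel

theorem rot5_22r : band (Rule.ok (2 * 2) EX RL ⟨5 :: [6, 4, 2, 4, 2, 3, 2, 7, 2, 8, 7, 7, 3], [4, 2, 6, 2, 6, 5, 8], 27, true⟩) (lall (memL L) [6, 4, 2, 4, 2, 3, 2, 7, 2, 8, 7, 7, 3]) = true := by decide +kernel

theorem rot5_23 : T.rot 5 [2, 4, 2, 6, 2, 7, 2, 7, 3, 8, 6, 4, 4] (sel (ones 4060) ip5 23) = true := by decide +kernel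

theorem rot5_23r : band (Rule.ok (2 * 2) EX RL ⟨5 :: [2, 4, 2, 6, 2, 7, 2, 7, 3, 8, 6, 4, 4], [2, 6, 2, 8], 27, false⟩) (lall (memL L) [2, 4, 2, 6, 2, 7, 2, 7, 3, 8, 6, 4, 4]) = true := by decide +kernel

theorem rot5_24 : T.rot 5 [7, 4, 4, 5, 7, 4, 4, 5, 7, 4, 4, 5, 7, 4, 4] (sel (ones 4060) ip5 24) = true := by decide +kernel

theorem rot5_24r : band (Rule.ok (2 * 2) EX RL ⟨5 :: [7, 4, 4, 5, 7, 4, 4, 5, 7, 4, 4, 5, 7, 4, 4], [7, 8], 5, false⟩) (lall (memL L) [7, 4, 4, 5, 7, 4, 4, 5, 7, 4, 4, 5, 7, 4, 4]) = true := by decide +kernel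

theorem rot5_25 : T.rot 5 [5, 5, 2, 4, 4, 5, 7, 2, 2, 4, 8, 7, 7, 2, 5] (sel (ones 4060) ip5 25) = true := by decide +kernel

theorem rot5_25r : band (Rule.ok (2 * 2) EX RL ⟨5 :: [5, 5, 2, 4, 4, 5, 7, 2, 2, 4, 8, 7, 7, 2, 5], [], 8, true⟩) (lall (memL L) [5, 5, 2, 4, 4, 5, 7, 2, 2, 4, 8, 7, 7, 2, 5]) = true := by decide +kernel

theorem rot5_26 : T.rot 5 [5, 2, 4, 4, 5, 7, 2, 2, 4, 8, 7, 7, 2, 5, 5] (sel (ones 4060) ip5 26) = true := by decide +kernel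

theorem rot5_26r : band (Rule.ok (2 * 2) EX RL ⟨5 :: [5, 2, 4, 4, 5, 7, 2, 2, 4, 8, 7, 7, 2, 5, 5], [], 8, true⟩) (lall (memL L) [5, 2, 4, 4, 5, 7, 2, 2, 4, 8, 7, 7, 2, 5, 5]) = true := by decide +kernel

theorem rot5_27 : T.rot 5 [2, 4, 4, 5, 7, 2, 2, 4, 8, 7, 7, 2, 5, 5, 5] (sel (ones 4060) ip5 27) = true := by decide +kernel

theorem rot5_27r : band (Rule.ok (2 * 2) EX RL ⟨5 :: [2, 4, 4, 5, 7, 2, 2, 4, 8, 7, 7, 2, 5, 5, 5], [], 8, true⟩) (lall (memL L) [2, 4, 4, 5, 7, 2, 2, 4, 8, 7, 7, 2, 5, 5, 5]) = true := by decide +kernel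

theorem rot5_28 : T.rot 5 [5, 5, 5, 2, 4, 4, 5, 7, 2, 2, 4, 8, 7, 7, 2] (sel (ones 4060) ip5 28) = true := by decide +kernel

theorem rot5_28r : band (Rule.ok (2 * 2) EX RL ⟨5 :: [5, 5, 5, 2, 4, 4, 5, 7, 2, 2, 4, 8, 7, 7, 2], [], 8, true⟩) (lall (memL L) [5, 5, 5, 2, 4, 4, 5, 7, 2, 2, 4, 8, 7, 7, 2]) = true := by decide +kernel

theorem rot5_29 : T.rot 5 [4, 4, 2, 1, 2, 1, 7, 8, 6, 4, 2, 1, 8, 8, 2, 8, 4] (sel (ones 4060) ip5 29) = true := by decide +kernel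

theorem rot5_29r : band (Rule.ok (2 * 2) EX RL ⟨5 :: [4, 4, 2, 1, 2, 1, 7, 8, 6, 4, 2, 1, 8, 8, 2, 8, 4], [2, 6, 6, 8], 25, true⟩) (lall (memL L) [4, 4, 2, 1, 2, 1, 7, 8, 6, 4, 2, 1, 8, 8, 2, 8, 4]) = true := by decide +kernel

theorem rot5_30 : T.rot 5 [2, 5, 5, 1, 2, 7, 3, 5, 4, 1, 2, 1, 2, 7, 7, 8, 7] (sel (ones 4060) ip5 30) = true := by decide +kernel

theorem rot5_30r : band (Rule.ok (2 * 2) EX RL ⟨5 :: [2, 5, 5, 1, 2, 7, 3, 5, 4, 1, 2, 1, 2, 7, 7, 8, 7], [2, 6, 6, 8, 6], 25, false⟩) (lall (memL L) [2, 5, 5, 1, 2, 7, 3, 5, 4, 1, 2, 1, 2, 7, 7, 8, 7]) = true := by decide +kernel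

theorem rot5_31 : T.rot 5 [5, 1, 2, 7, 3, 5, 4, 1, 2, 1, 2, 7, 7, 8, 7, 5, 2] (sel (ones 4060) ip5 31) = true := by decide +kernel

theorem rot5_31r : band (Rule.ok (2 * 2) EX RL ⟨5 :: [5, 1, 2, 7, 3, 5, 4, 1, 2, 1, 2, 7, 7, 8, 7, 5, 2], [2, 6, 6, 8, 6, 9, 2], 25, false⟩) (lall (memL L) [5, 1, 2, 7, 3, 5, 4, 1, 2, 1, 2, 7, 7, 8, 7, 5, 2]) = true := by decide +kernel

theorem rot5_32 : T.rot 5 [1, 2, 7, 3, 5, 4, 1, 2, 1, 2, 7, 7, 8, 7, 5, 2, 5] (sel (ones 4060) ip5 32) = true := by decide +kernel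

theorem rot5_32r : band (Rule.ok (2 * 2) EX RL ⟨5 :: [1, 2, 7, 3, 5, 4, 1, 2, 1, 2, 7, 7, 8, 7, 5, 2, 5], [2, 6, 6, 8, 6, 9, 2, 9], 25, false⟩) (lall (memL L) [1, 2, 7, 3, 5, 4, 1, 2, 1, 2, 7, 7, 8, 7, 5, 2, 5]) = true := by decide +kernel

theorem rot5_33 : T.rot 5 [4, 1, 2, 1, 2, 7, 7, 8, 7, 5, 2, 5, 5, 1, 2, 7, 3] (sel (ones 4060) ip5 33) = true := by decide +kernel

theorem rot5_33r : band (Rule.ok (2 * 2) EX RL ⟨5 :: [4, 1, 2, 1, 2, 7, 7, 8, 7, 5, 2, 5, 5, 1, 2, 7, 3], [0, 2, 0, 6, 8], 25, false⟩) (lall (memL L) [4, 1, 2, 1, 2, 7, 7, 8, 7, 5, 2, 5, 5, 1, 2, 7, 3]) = true := by decide +kernel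

theorem rot5_34 : T.rot 5 [1, 2, 1, 4, 2, 1, 2, 7, 2, 1, 4, 8, 7, 7, 8, 2, 4, 4, 2] (sel (ones 4060) ip5 34) = true := by decide +kernel

theorem rot5_34r : band (Rule.ok (2 * 2) EX RL ⟨5 :: [1, 2, 1, 4, 2, 1, 2, 7, 2, 1, 4, 8, 7, 7, 8, 2, 4, 4, 2], [8], 26, true⟩) (lall (memL L) [1, 2, 1, 4, 2, 1, 2, 7, 2, 1, 4, 8, 7, 7, 8, 2, 4, 4, 2]) = true := by decide +kernel

theorem rot5_35 : T.rot 5 [4, 4, 5, 7, 1, 2, 4, 2, 1, 2, 7, 1, 2, 1, 8, 2, 7, 7, 2] (sel (ones 4060) ip5 35) = true := by decide +kernel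

theorem rot5_35r : band (Rule.ok (2 * 2) EX RL ⟨5 :: [4, 4, 5, 7, 1, 2, 4, 2, 1, 2, 7, 1, 2, 1, 8, 2, 7, 7, 2], [8, 2, 6, 6, 2], 26, false⟩) (lall (memL L) [4, 4, 5, 7, 1, 2, 4, 2, 1, 2, 7, 1, 2, 1, 8, 2, 7, 7, 2]) = true := by decide +kernel

theorem rot5_36 : T.rot 5 [7, 1, 2, 4, 2, 1, 2, 7, 1, 2, 1, 8, 2, 7, 7, 2, 5, 4, 4] (sel (ones 4060) ip5 36) = true := by decide +kernel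

theorem rot5_36r : band (Rule.ok (2 * 2) EX RL ⟨5 :: [7, 1, 2, 4, 2, 1, 2, 7, 1, 2, 1, 8, 2, 7, 7, 2, 5, 4, 4], [8, 2, 6, 6, 2, 9, 7, 7], 26, false⟩) (lall (memL L) [7, 1, 2, 4, 2, 1, 2, 7, 1, 2, 1, 8, 2, 7, 7, 2, 5, 4, 4]) = true := by decide +kernel

theorem rot5_37 : T.rot 5 [5, 4, 2, 4, 8, 7, 7, 2, 5, 4, 4, 5, 7, 2, 4, 4, 5, 7, 2, 4] (sel (ones 4060) ip5 37) = true := by decide +kernel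

theorem rot5_37r : band (Rule.ok (2 * 2) EX RL ⟨5 :: [5, 4, 2, 4, 8, 7, 7, 2, 5, 4, 4, 5, 7, 2, 4, 4, 5, 7, 2, 4], [7], 13, true⟩) (lall (memL L) [5, 4, 2, 4, 8, 7, 7, 2, 5, 4, 4, 5, 7, 2, 4, 4, 5, 7, 2, 4]) = true := by decide +kernel

theorem rot5_38 : T.rot 5 [4, 2, 4, 8, 7, 7, 2, 5, 4, 4, 5, 7, 2, 4, 4, 5, 7, 2, 4, 5] (sel (ones 4060) ip5 38) = true := by decide +kernel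

theorem rot5_38r : band (Rule.ok (2 * 2) EX RL ⟨5 :: [4, 2, 4, 8, 7, 7, 2, 5, 4, 4, 5, 7, 2, 4, 4, 5, 7, 2, 4, 5], [7, 9], 13, true⟩) (lall (memL L) [4, 2, 4, 8, 7, 7, 2, 5, 4, 4, 5, 7, 2, 4, 4, 5, 7, 2, 4, 5]) = true := by decide +kernel

theorem rot5_39 : T.rot 5 [4, 4, 5, 7, 2, 4, 4, 5, 7, 2, 4, 5, 5, 4, 2, 4, 8, 7, 7, 2] (sel (ones 4060) ip5 39) = true := by decide +kernel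

theorem rot5_39r : band (Rule.ok (2 * 2) EX RL ⟨5 :: [4, 4, 5, 7, 2, 4, 4, 5, 7, 2, 4, 5, 5, 4, 2, 4, 8, 7, 7, 2], [7, 9, 9, 7, 2, 7, 8, 6, 6, 2], 13, true⟩) (lall (memL L) [4, 4, 5, 7, 2, 4, 4, 5, 7, 2, 4, 5, 5, 4, 2, 4, 8, 7, 7, 2]) = true := by decide +kernel

theorem rot5_40 : T.rot 5 [7, 2, 4, 4, 5, 7, 2, 4, 5, 5, 4, 2, 4, 8, 7, 7, 2, 5, 4, 4] (sel (ones 4060) ip5 40) = true := by decide +kernel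

theorem rot5_40r : band (Rule.ok (2 * 2) EX RL ⟨5 :: [7, 2, 4, 4, 5, 7, 2, 4, 5, 5, 4, 2, 4, 8, 7, 7, 2, 5, 4, 4], [2, 7, 8, 6, 6, 2, 7, 8], 13, true⟩) (lall (memL L) [7, 2, 4, 4, 5, 7, 2, 4, 5, 5, 4, 2, 4, 8, 7, 7, 2, 5, 4, 4]) = true := by decide +kernel

theorem rot5_41 : T.rot 5 [7, 2, 4, 5, 5, 4, 2, 4, 8, 7, 7, 2, 5, 4, 4, 5, 7, 2, 4, 4] (sel (ones 4060) ip5 41) = true := by decide +kernel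

theorem rot5_41r : band (Rule.ok (2 * 2) EX RL ⟨5 :: [7, 2, 4, 5, 5, 4, 2, 4, 8, 7, 7, 2, 5, 4, 4, 5, 7, 2, 4, 4], [2, 7, 8], 13, true⟩) (lall (memL L) [7, 2, 4, 5, 5, 4, 2, 4, 8, 7, 7, 2, 5, 4, 4, 5, 7, 2, 4, 4]) = true := by decide +kernel

theorem rot5_42 : T.rot 5 [7, 2, 7, 8, 8, 7, 2, 4, 8, 7, 7, 2, 4, 8, 7, 7, 8, 2, 4, 4] (sel (ones 4060) ip5 42) = true := by decide +kernel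

theorem rot5_42r : band (Rule.ok (2 * 2) EX RL ⟨5 :: [7, 2, 7, 8, 8, 7, 2, 4, 8, 7, 7, 2, 4, 8, 7, 7, 8, 2, 4, 4], [7, 9, 9, 7, 2, 7, 8], 13, false⟩) (lall (memL L) [7, 2, 7, 8, 8, 7, 2, 4, 8, 7, 7, 2, 4, 8, 7, 7, 8, 2, 4, 4]) = true := by decide +kernel

theorem rot5_43 : T.rot 5 [7, 2, 7, 7, 2, 8, 4, 8, 2, 7, 2, 7, 2, 4, 5, 2, 4, 2, 4, 2] (sel (ones 4060) ip5 43) = true := by decide +kernel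

theorem rot5_43r : band (Rule.ok (2 * 2) EX RL ⟨5 :: [7, 2, 7, 7, 2, 8, 4, 8, 2, 7, 2, 7, 2, 4, 5, 2, 4, 2, 4, 2], [2, 7, 2, 7, 2], 16, true⟩) (lall (memL L) [7, 2, 7, 7, 2, 8, 4, 8, 2, 7, 2, 7, 2, 4, 5, 2, 4, 2, 4, 2]) = true := by decide +kernel

theorem rot5_44 : T.rot 5 [2, 4, 2, 4, 2, 5, 7, 2, 7, 7, 2, 8, 4, 8, 2, 7, 2, 7, 2, 4] (sel (ones 4060) ip5 44) = true := by decide +kernel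

theorem rot5_44r : band (Rule.ok (2 * 2) EX RL ⟨5 :: [2, 4, 2, 4, 2, 5, 7, 2, 7, 7, 2, 8, 4, 8, 2, 7, 2, 7, 2, 4], [8], 16, true⟩) (lall (memL L) [2, 4, 2, 4, 2, 5, 7, 2, 7, 7, 2, 8, 4, 8, 2, 7, 2, 7, 2, 4]) = true := by decide +kernel

theorem rot5_45 : T.rot 5 [7, 5, 2, 4, 4, 2, 4, 8, 2, 7, 2, 7, 2, 8, 7, 2, 4, 2, 4, 2] (sel (ones 4060) ip5 45) = true := by decide +kernel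

theorem rot5_45r : band (Rule.ok (2 * 2) EX RL ⟨5 :: [7, 5, 2, 4, 4, 2, 4, 8, 2, 7, 2, 7, 2, 8, 7, 2, 4, 2, 4, 2], [8, 6, 2, 7, 2, 7, 2], 16, false⟩) (lall (memL L) [7, 5, 2, 4, 4, 2, 4, 8, 2, 7, 2, 7, 2, 8, 7, 2, 4, 2, 4, 2]) = true := by decide +kernel

theorem rot5_46 : T.rot 5 [2, 4, 4, 2, 4, 8, 2, 7, 2, 7, 2, 8, 7, 2, 4, 2, 4, 2, 5, 7] (sel (ones 4060) ip5 46) = true := by decide +kernel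

theorem rot5_46r : band (Rule.ok (2 * 2) EX RL ⟨5 :: [2, 4, 4, 2, 4, 8, 2, 7, 2, 7, 2, 8, 7, 2, 4, 2, 4, 2, 5, 7], [8, 6, 2, 7, 2, 7, 2, 9, 6], 16, false⟩) (lall (memL L) [2, 4, 4, 2, 4, 8, 2, 7, 2, 7, 2, 8, 7, 2, 4, 2, 4, 2, 5, 7]) = true := by decide +kernel

theorem rot5_47 : T.rot 5 [7, 1, 7, 2, 4, 4, 2, 4, 2, 1, 7, 5, 7, 7, 5, 1, 2, 4, 2, 7, 2, 1] (sel (ones 4060) ip5 47) = true := by decide +kernel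

theorem rot5_47r : band (Rule.ok (2 * 2) EX RL ⟨5 :: [7, 1, 7, 2, 4, 4, 2, 4, 2, 1, 7, 5, 7, 7, 5, 1, 2, 4, 2, 7, 2, 1], [0, 2, 7, 2, 6, 2, 0], 31, true⟩) (lall (memL L) [7, 1, 7, 2, 4, 4, 2, 4, 2, 1, 7, 5, 7, 7, 5, 1, 2, 4, 2, 7, 2, 1]) = true := by decide +kernel

theorem rot5_48 : T.rot 5 [7, 7, 5, 1, 2, 4, 2, 7, 2, 1, 5, 7, 1, 7, 2, 4, 4, 2, 4, 2, 1, 7] (sel (ones 4060) ip5 48) = true := by decide +kernel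

theorem rot5_48r : band (Rule.ok (2 * 2) EX RL ⟨5 :: [7, 7, 5, 1, 2, 4, 2, 7, 2, 1, 5, 7, 1, 7, 2, 4, 4, 2, 4, 2, 1, 7], [8, 7, 7, 8], 31, true⟩) (lall (memL L) [7, 7, 5, 1, 2, 4, 2, 7, 2, 1, 5, 7, 1, 7, 2, 4, 4, 2, 4, 2, 1, 7]) = true := by decide +kernel

theorem rot5_49 : T.rot 5 [1, 2, 4, 2, 7, 2, 1, 5, 7, 1, 7, 2, 4, 4, 2, 4, 2, 1, 7, 5, 7, 7] (sel (ones 4060) ip5 49) = true := by decide +kernel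

theorem rot5_49r : band (Rule.ok (2 * 2) EX RL ⟨5 :: [1, 2, 4, 2, 7, 2, 1, 5, 7, 1, 7, 2, 4, 4, 2, 4, 2, 1, 7, 5, 7, 7], [8], 31, true⟩) (lall (memL L) [1, 2, 4, 2, 7, 2, 1, 5, 7, 1, 7, 2, 4, 4, 2, 4, 2, 1, 7, 5, 7, 7]) = true := by decide +kernel

theorem rot5_50 : T.rot 5 [4, 8, 7, 7, 8, 8, 2, 4, 4, 5, 7, 2, 4, 4, 5, 7, 5, 2, 4, 8, 7, 7, 2] (sel (ones 4060) ip5 50) = true := by decide +kernel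

theorem rot5_50r : band (Rule.ok (2 * 2) EX RL ⟨5 :: [4, 8, 7, 7, 8, 8, 2, 4, 4, 5, 7, 2, 4, 4, 5, 7, 5, 2, 4, 8, 7, 7, 2], [], 9, true⟩) (lall (memL L) [4, 8, 7, 7, 8, 8, 2, 4, 4, 5, 7, 2, 4, 4, 5, 7, 5, 2, 4, 8, 7, 7, 2]) = true := by decide +kernel

theorem rot5_51 : T.rot 5 [7, 2, 4, 4, 5, 7, 5, 2, 4, 8, 7, 7, 2, 5, 4, 8, 7, 7, 8, 8, 2, 4, 4] (sel (ones 4060) ip5 51) = true := by decide +kernel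

theorem rot5_51r : band (Rule.ok (2 * 2) EX RL ⟨5 :: [7, 2, 4, 4, 5, 7, 5, 2, 4, 8, 7, 7, 2, 5, 4, 8, 7, 7, 8, 8, 2, 4, 4], [9, 7, 8, 6, 6, 8, 8, 2, 7, 7], 9, true⟩) (lall (memL L) [7, 2, 4, 4, 5, 7, 5, 2, 4, 8, 7, 7, 2, 5, 4, 8, 7, 7, 8, 8, 2, 4, 4]) = true := by decide +kernel

theorem rot5_52 : T.rot 5 [7, 5, 2, 4, 8, 7, 7, 2, 5, 4, 8, 7, 7, 8, 8, 2, 4, 4, 5, 7, 2, 4, 4] (sel (ones 4060) ip5 52) = true := by decide +kernel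

theorem rot5_52r : band (Rule.ok (2 * 2) EX RL ⟨5 :: [7, 5, 2, 4, 8, 7, 7, 2, 5, 4, 8, 7, 7, 8, 8, 2, 4, 4, 5, 7, 2, 4, 4], [2, 7, 7, 9, 6, 2, 8, 7, 8], 9, true⟩) (lall (memL L) [7, 5, 2, 4, 8, 7, 7, 2, 5, 4, 8, 7, 7, 8, 8, 2, 4, 4, 5, 7, 2, 4, 4]) = true := by decide +kernel

theorem rot5_53 : T.rot 5 [2, 4, 8, 7, 7, 2, 5, 4, 8, 7, 7, 8, 8, 2, 4, 4, 5, 7, 2, 4, 4, 5, 7] (sel (ones 4060) ip5 53) = true := by decide +kernel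

theorem rot5_53r : band (Rule.ok (2 * 2) EX RL ⟨5 :: [2, 4, 8, 7, 7, 2, 5, 4, 8, 7, 7, 8, 8, 2, 4, 4, 5, 7, 2, 4, 4, 5, 7], [2, 7, 7, 9, 6, 2, 8], 9, true⟩) (lall (memL L) [2, 4, 8, 7, 7, 2, 5, 4, 8, 7, 7, 8, 8, 2, 4, 4, 5, 7, 2, 4, 4, 5, 7]) = true := by decide +kernel

theorem rot5_54 : T.rot 5 [7, 2, 8, 4, 8, 7, 7, 2, 4, 8, 7, 7, 2, 5, 5, 4, 4, 5, 7, 8, 2, 4, 4] (sel (ones 4060) ip5 54) = true := by decide +kernel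

theorem rot5_54r : band (Rule.ok (2 * 2) EX RL ⟨5 :: [7, 2, 8, 4, 8, 7, 7, 2, 4, 8, 7, 7, 2, 5, 5, 4, 4, 5, 7, 8, 2, 4, 4], [2, 7, 7], 9, false⟩) (lall (memL L) [7, 2, 8, 4, 8, 7, 7, 2, 4, 8, 7, 7, 2, 5, 5, 4, 4, 5, 7, 8, 2, 4, 4]) = true := by decide +kernel

theorem rot5_55 : T.rot 5 [5, 4, 4, 5, 7, 8, 2, 4, 4, 5, 7, 2, 8, 4, 8, 7, 7, 2, 4, 8, 7, 7, 2] (sel (ones 4060) ip5 55) = true := by decide +kernel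

theorem rot5_55r : band (Rule.ok (2 * 2) EX RL ⟨5 :: [5, 4, 4, 5, 7, 8, 2, 4, 4, 5, 7, 2, 8, 4, 8, 7, 7, 2, 4, 8, 7, 7, 2], [9, 7, 8, 6, 6, 8, 8], 9, false⟩) (lall (memL L) [5, 4, 4, 5, 7, 8, 2, 4, 4, 5, 7, 2, 8, 4, 8, 7, 7, 2, 4, 8, 7, 7, 2]) = true := by decide +kernel

theorem rot5_56 : T.rot 5 [4, 4, 5, 7, 8, 2, 4, 4, 5, 7, 2, 8, 4, 8, 7, 7, 2, 4, 8, 7, 7, 2, 5] (sel (ones 4060) ip5 56) = true := by decide +kernel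

theorem rot5_56r : band (Rule.ok (2 * 2) EX RL ⟨5 :: [4, 4, 5, 7, 8, 2, 4, 4, 5, 7, 2, 8, 4, 8, 7, 7, 2, 4, 8, 7, 7, 2, 5], [9, 7, 8, 6, 6, 8], 9, false⟩) (lall (memL L) [4, 4, 5, 7, 8, 2, 4, 4, 5, 7, 2, 8, 4, 8, 7, 7, 2, 4, 8, 7, 7, 2, 5]) = true := by decide +kernel

theorem rot5_57 : T.rot 5 [7, 8, 2, 4, 4, 5, 7, 2, 8, 4, 8, 7, 7, 2, 4, 8, 7, 7, 2, 5, 5, 4, 4] (sel (ones 4060) ip5 57) = true := by decide +kernel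

theorem rot5_57r : band (Rule.ok (2 * 2) EX RL ⟨5 :: [7, 8, 2, 4, 4, 5, 7, 2, 8, 4, 8, 7, 7, 2, 4, 8, 7, 7, 2, 5, 5, 4, 4], [9, 7, 8], 9, false⟩) (lall (memL L) [7, 8, 2, 4, 4, 5, 7, 2, 8, 4, 8, 7, 7, 2, 4, 8, 7, 7, 2, 5, 5, 4, 4]) = true := by decide +kernel

theorem rot5_58 : T.rot 5 [7, 2, 5, 4, 4, 5, 7, 4, 2, 4, 8, 7, 7, 2, 7, 4, 8, 7, 7, 8, 2, 4, 4] (sel (ones 4060) ip5 58) = true := by decide +kernel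

theorem rot5_58r : band (Rule.ok (2 * 2) EX RL ⟨5 :: [7, 2, 5, 4, 4, 5, 7, 4, 2, 4, 8, 7, 7, 2, 7, 4, 8, 7, 7, 8, 2, 4, 4], [7, 8, 6, 6, 8, 2, 7, 8], 12, true⟩) (lall (memL L) [7, 2, 5, 4, 4, 5, 7, 4, 2, 4, 8, 7, 7, 2, 7, 4, 8, 7, 7, 8, 2, 4, 4]) = true := by decide +kernel

theorem rot5_59 : T.rot 5 [4, 4, 5, 7, 4, 2, 4, 8, 7, 7, 2, 7, 4, 8, 7, 7, 8, 2, 4, 4, 5, 7, 2] (sel (ones 4060) ip5 59) = true := by decide +kernel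

theorem rot5_59r : band (Rule.ok (2 * 2) EX RL ⟨5 :: [4, 4, 5, 7, 4, 2, 4, 8, 7, 7, 2, 7, 4, 8, 7, 7, 8, 2, 4, 4, 5, 7, 2], [7, 8, 6, 6, 8], 12, true⟩) (lall (memL L) [4, 4, 5, 7, 4, 2, 4, 8, 7, 7, 2, 7, 4, 8, 7, 7, 8, 2, 4, 4, 5, 7, 2]) = true := by decide +kernel

theorem rot5_60 : T.rot 5 [7, 4, 2, 4, 8, 7, 7, 2, 7, 4, 8, 7, 7, 8, 2, 4, 4, 5, 7, 2, 5, 4, 4] (sel (ones 4060) ip5 60) = true := by decide +kernel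

theorem rot5_60r : band (Rule.ok (2 * 2) EX RL ⟨5 :: [7, 4, 2, 4, 8, 7, 7, 2, 7, 4, 8, 7, 7, 8, 2, 4, 4, 5, 7, 2, 5, 4, 4], [7, 8], 12, true⟩) (lall (memL L) [7, 4, 2, 4, 8, 7, 7, 2, 7, 4, 8, 7, 7, 8, 2, 4, 4, 5, 7, 2, 5, 4, 4]) = true := by decide +kernel

theorem rot5_61 : T.rot 5 [4, 4, 5, 7, 4, 2, 4, 4, 5, 7, 2, 7, 4, 8, 7, 7, 8, 2, 4, 8, 7, 7, 2] (sel (ones 4060) ip5 61) = true := by decide +kernel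

theorem rot5_61r : band (Rule.ok (2 * 2) EX RL ⟨5 :: [4, 4, 5, 7, 4, 2, 4, 4, 5, 7, 2, 7, 4, 8, 7, 7, 8, 2, 4, 8, 7, 7, 2], [7, 2, 7, 8, 6, 6, 2, 8, 6, 6, 8], 12, false⟩) (lall (memL L) [4, 4, 5, 7, 4, 2, 4, 4, 5, 7, 2, 7, 4, 8, 7, 7, 8, 2, 4, 8, 7, 7, 2]) = true := by decide +kernel

theorem rot5_62 : T.rot 5 [7, 4, 2, 4, 4, 5, 7, 2, 7, 4, 8, 7, 7, 8, 2, 4, 8, 7, 7, 2, 5, 4, 4] (sel (ones 4060) ip5 62) = true := by decide +kernel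

theorem rot5_62r : band (Rule.ok (2 * 2) EX RL ⟨5 :: [7, 4, 2, 4, 4, 5, 7, 2, 7, 4, 8, 7, 7, 8, 2, 4, 8, 7, 7, 2, 5, 4, 4], [7, 2, 7, 8, 6, 6, 2, 8], 12, false⟩) (lall (memL L) [7, 4, 2, 4, 4, 5, 7, 2, 7, 4, 8, 7, 7, 8, 2, 4, 8, 7, 7, 2, 5, 4, 4]) = true := by decide +kernel

theorem rot5_63 : T.rot 5 [7, 2, 7, 4, 8, 7, 7, 8, 2, 4, 8, 7, 7, 2, 5, 4, 4, 5, 7, 4, 2, 4, 4] (sel (ones 4060) ip5 63) = true := by decide +kernel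

theorem rot5_63r : band (Rule.ok (2 * 2) EX RL ⟨5 :: [7, 2, 7, 4, 8, 7, 7, 8, 2, 4, 8, 7, 7, 2, 5, 4, 4, 5, 7, 4, 2, 4, 4], [7, 2, 7, 8], 12, false⟩) (lall (memL L) [7, 2, 7, 4, 8, 7, 7, 8, 2, 4, 8, 7, 7, 2, 5, 4, 4, 5, 7, 4, 2, 4, 4]) = true := by decide +kernel

theorem rot5_64 : T.rot 5 [7, 5, 2, 1, 2, 1, 4, 2, 7, 6, 2, 1, 2, 4, 2, 4, 2, 1, 2, 8, 7, 2, 8, 7] (sel (ones 4060) ip5 64) = true := by decide +kernel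

theorem rot5_64r : band (Rule.ok (2 * 2) EX RL ⟨5 :: [7, 5, 2, 1, 2, 1, 4, 2, 7, 6, 2, 1, 2, 4, 2, 4, 2, 1, 2, 8, 7, 2, 8, 7], [2, 8, 7, 8], 29, true⟩) (lall (memL L) [7, 5, 2, 1, 2, 1, 4, 2, 7, 6, 2, 1, 2, 4, 2, 4, 2, 1, 2, 8, 7, 2, 8, 7]) = true := by decide +kernel

theorem rot5_65 : T.rot 5 [2, 1, 2, 1, 4, 2, 7, 6, 2, 1, 2, 4, 2, 4, 2, 1, 2, 8, 7, 2, 8, 7, 5, 7] (sel (ones 4060) ip5 65) = true := by decide +kernel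

theorem rot5_65r : band (Rule.ok (2 * 2) EX RL ⟨5 :: [2, 1, 2, 1, 4, 2, 7, 6, 2, 1, 2, 4, 2, 4, 2, 1, 2, 8, 7, 2, 8, 7, 5, 7], [2, 8], 29, true⟩) (lall (memL L) [2, 1, 2, 1, 4, 2, 7, 6, 2, 1, 2, 4, 2, 4, 2, 1, 2, 8, 7, 2, 8, 7, 5, 7]) = true := by decide +kernel

theorem rot5_66 : T.rot 5 [2, 4, 5, 2, 1, 2, 7, 2, 7, 2, 1, 2, 3, 4, 2, 7, 1, 2, 1, 2, 8, 4, 8, 4] (sel (ones 4060) ip5 66) = true := by decide +kernel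

theorem rot5_66r : band (Rule.ok (2 * 2) EX RL ⟨5 :: [2, 4, 5, 2, 1, 2, 7, 2, 7, 2, 1, 2, 3, 4, 2, 7, 1, 2, 1, 2, 8, 4, 8, 4], [2, 8, 7, 8, 7], 29, false⟩) (lall (memL L) [2, 4, 5, 2, 1, 2, 7, 2, 7, 2, 1, 2, 3, 4, 2, 7, 1, 2, 1, 2, 8, 4, 8, 4]) = true := by decide +kernel

theorem rot5_67 : T.rot 5 [2, 1, 2, 7, 2, 7, 2, 1, 2, 3, 4, 2, 7, 1, 2, 1, 2, 8, 4, 8, 4, 5, 2, 4] (sel (ones 4060) ip5 67) = true := by decide +kernel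

theorem rot5_67r : band (Rule.ok (2 * 2) EX RL ⟨5 :: [2, 1, 2, 7, 2, 7, 2, 1, 2, 3, 4, 2, 7, 1, 2, 1, 2, 8, 4, 8, 4, 5, 2, 4], [2, 8, 7, 8, 7, 9, 2, 7], 29, false⟩) (lall (memL L) [2, 1, 2, 7, 2, 7, 2, 1, 2, 3, 4, 2, 7, 1, 2, 1, 2, 8, 4, 8, 4, 5, 2, 4]) = true := by decide +kernel

theorem rot5_68 : T.rot 5 [7, 2, 2, 4, 4, 5, 7, 2, 2, 4, 4, 5, 7, 2, 2, 4, 4, 5, 7, 2, 8, 5, 2, 4, 4] (sel (ones 4060) ip5 68) = true := by decide +kernel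

theorem rot5_68r : band (Rule.ok (2 * 2) EX RL ⟨5 :: [7, 2, 2, 4, 4, 5, 7, 2, 2, 4, 4, 5, 7, 2, 2, 4, 4, 5, 7, 2, 8, 5, 2, 4, 4], [7, 8], 5, false⟩) (lall (memL L) [7, 2, 2, 4, 4, 5, 7, 2, 2, 4, 4, 5, 7, 2, 2, 4, 4, 5, 7, 2, 8, 5, 2, 4, 4]) = true := by decide +kernel

theorem rot5_69 : T.rot 5 [7, 2, 2, 4, 4, 5, 7, 2, 2, 4, 4, 5, 7, 2, 8, 5, 2, 4, 4, 5, 7, 2, 2, 4, 4] (sel (ones 4060) ip5 69) = true := by decide +kernel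

theorem rot5_69r : band (Rule.ok (2 * 2) EX RL ⟨5 :: [7, 2, 2, 4, 4, 5, 7, 2, 2, 4, 4, 5, 7, 2, 8, 5, 2, 4, 4, 5, 7, 2, 2, 4, 4], [7, 8], 5, false⟩) (lall (memL L) [7, 2, 2, 4, 4, 5, 7, 2, 2, 4, 4, 5, 7, 2, 8, 5, 2, 4, 4, 5, 7, 2, 2, 4, 4]) = true := by decide +kernel

theorem rot5_70 : T.rot 5 [7, 2, 8, 5, 2, 4, 4, 5, 7, 2, 2, 4, 4, 5, 7, 2, 2, 4, 4, 5, 7, 2, 2, 4, 4] (sel (ones 4060) ip5 70) = true := by decide +kernel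

theorem rot5_70r : band (Rule.ok (2 * 2) EX RL ⟨5 :: [7, 2, 8, 5, 2, 4, 4, 5, 7, 2, 2, 4, 4, 5, 7, 2, 2, 4, 4, 5, 7, 2, 2, 4, 4], [7, 8], 5, false⟩) (lall (memL L) [7, 2, 8, 5, 2, 4, 4, 5, 7, 2, 2, 4, 4, 5, 7, 2, 2, 4, 4, 5, 7, 2, 2, 4, 4]) = true := by decide +kernel

theorem rot5_71 : T.rot 5 [7, 2, 8, 2, 4, 4, 5, 7, 2, 8, 2, 4, 4, 5, 7, 2, 8, 2, 4, 4, 5, 7, 2, 8, 2, 4, 4] (sel (ones 4060) ip5 71) = true := by decide +kernel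

theorem rot5_71r : band (Rule.ok (2 * 2) EX RL ⟨5 :: [7, 2, 8, 2, 4, 4, 5, 7, 2, 8, 2, 4, 4, 5, 7, 2, 8, 2, 4, 4, 5, 7, 2, 8, 2, 4, 4], [2, 7, 7], 0, true⟩) (lall (memL L) [7, 2, 8, 2, 4, 4, 5, 7, 2, 8, 2, 4, 4, 5, 7, 2, 8, 2, 4, 4, 5, 7, 2, 8, 2, 4, 4]) = true := by decide +kernel

theorem rot5_72 : T.rot 5 [2, 4, 8, 7, 7, 2, 5, 2, 4, 8, 7, 7, 2, 5, 2, 4, 8, 7, 7, 2, 5, 2, 4, 8, 7, 7, 2] (sel (ones 4060) ip5 72) = true := by decide +kernel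

theorem rot5_72r : band (Rule.ok (2 * 2) EX RL ⟨5 :: [2, 4, 8, 7, 7, 2, 5, 2, 4, 8, 7, 7, 2, 5, 2, 4, 8, 7, 7, 2, 5, 2, 4, 8, 7, 7, 2], [], 0, false⟩) (lall (memL L) [2, 4, 8, 7, 7, 2, 5, 2, 4, 8, 7, 7, 2, 5, 2, 4, 8, 7, 7, 2, 5, 2, 4, 8, 7, 7, 2]) = true := by decide +kernel

theorem rot5_73 : T.rot 5 [4, 4, 2, 7, 7, 8, 7, 2, 4, 5, 2, 4, 4, 5, 7, 2, 7, 2, 4, 8, 7, 7, 2, 4, 8, 7, 2, 4] (sel (ones 4060) ip5 73) = true := by decide +kernel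

theorem rot5_73r : band (Rule.ok (2 * 2) EX RL ⟨5 :: [4, 4, 2, 7, 7, 8, 7, 2, 4, 5, 2, 4, 4, 5, 7, 2, 7, 2, 4, 8, 7, 7, 2, 4, 8, 7, 2, 4], [2, 7], 17, true⟩) (lall (memL L) [4, 4, 2, 7, 7, 8, 7, 2, 4, 5, 2, 4, 4, 5, 7, 2, 7, 2, 4, 8, 7, 7, 2, 4, 8, 7, 2, 4]) = true := by decide +kernel

theorem rot5_74 : T.rot 5 [2, 4, 4, 5, 7, 2, 7, 2, 4, 8, 7, 7, 2, 4, 8, 7, 2, 4, 5, 4, 4, 2, 7, 7, 8, 7, 2, 4] (sel (ones 4060) ip5 74) = true := by decide +kernel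

theorem rot5_74r : band (Rule.ok (2 * 2) EX RL ⟨5 :: [2, 4, 4, 5, 7, 2, 7, 2, 4, 8, 7, 7, 2, 4, 8, 7, 2, 4, 5, 4, 4, 2, 7, 7, 8, 7, 2, 4], [2, 7, 9, 7, 7, 2, 6, 6, 8, 6, 2, 7], 17, true⟩) (lall (memL L) [2, 4, 4, 5, 7, 2, 7, 2, 4, 8, 7, 7, 2, 4, 8, 7, 2, 4, 5, 4, 4, 2, 7, 7, 8, 7, 2, 4]) = true := by decide +kernel

theorem rot5_75 : T.rot 5 [7, 2, 7, 2, 4, 8, 7, 7, 2, 4, 8, 7, 2, 4, 5, 4, 4, 2, 7, 7, 8, 7, 2, 4, 5, 2, 4, 4] (sel (ones 4060) ip5 75) = true := by decide +kernel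

theorem rot5_75r : band (Rule.ok (2 * 2) EX RL ⟨5 :: [7, 2, 7, 2, 4, 8, 7, 7, 2, 4, 8, 7, 2, 4, 5, 4, 4, 2, 7, 7, 8, 7, 2, 4, 5, 2, 4, 4], [7, 9, 6, 2, 7, 7, 9, 6, 2, 7, 2, 7, 8], 17, true⟩) (lall (memL L) [7, 2, 7, 2, 4, 8, 7, 7, 2, 4, 8, 7, 2, 4, 5, 4, 4, 2, 7, 7, 8, 7, 2, 4, 5, 2, 4, 4]) = true := by decide +kernel

theorem rot5_76 : T.rot 5 [7, 2, 4, 4, 5, 7, 2, 4, 2, 4, 8, 7, 7, 2, 8, 7, 2, 4, 5, 4, 4, 2, 7, 7, 8, 7, 2, 4] (sel (ones 4060) ip5 76) = true := by decide +kernel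

theorem rot5_76r : band (Rule.ok (2 * 2) EX RL ⟨5 :: [7, 2, 4, 4, 5, 7, 2, 4, 2, 4, 8, 7, 7, 2, 8, 7, 2, 4, 5, 4, 4, 2, 7, 7, 8, 7, 2, 4], [7], 17, false⟩) (lall (memL L) [7, 2, 4, 4, 5, 7, 2, 4, 2, 4, 8, 7, 7, 2, 8, 7, 2, 4, 5, 4, 4, 2, 7, 7, 8, 7, 2, 4]) = true := by decide +kernel

theorem rot5_77 : T.rot 5 [7, 2, 4, 2, 4, 8, 7, 7, 2, 8, 7, 2, 4, 5, 4, 4, 2, 7, 7, 8, 7, 2, 4, 5, 7, 2, 4, 4] (sel (ones 4060) ip5 77) = true := by decide +kernel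

theorem rot5_77r : band (Rule.ok (2 * 2) EX RL ⟨5 :: [7, 2, 4, 2, 4, 8, 7, 7, 2, 8, 7, 2, 4, 5, 4, 4, 2, 7, 7, 8, 7, 2, 4, 5, 7, 2, 4, 4], [7, 9, 6, 2, 7, 7], 17, false⟩) (lall (memL L) [7, 2, 4, 2, 4, 8, 7, 7, 2, 8, 7, 2, 4, 5, 4, 4, 2, 7, 7, 8, 7, 2, 4, 5, 7, 2, 4, 4]) = true := by decide +kernel

theorem rot5_78 : T.rot 5 [4, 4, 2, 7, 7, 8, 7, 2, 4, 5, 7, 2, 4, 4, 5, 7, 2, 4, 2, 4, 8, 7, 7, 2, 8, 7, 2, 4] (sel (ones 4060) ip5 78) = true := by decide +kernel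

theorem rot5_78r : band (Rule.ok (2 * 2) EX RL ⟨5 :: [4, 4, 2, 7, 7, 8, 7, 2, 4, 5, 7, 2, 4, 4, 5, 7, 2, 4, 2, 4, 8, 7, 7, 2, 8, 7, 2, 4], [2, 7, 9, 7, 7, 2, 6, 6, 8], 17, false⟩) (lall (memL L) [4, 4, 2, 7, 7, 8, 7, 2, 4, 5, 7, 2, 4, 4, 5, 7, 2, 4, 2, 4, 8, 7, 7, 2, 8, 7, 2, 4]) = true := by decide +kernel

theorem rot5_79 : T.rot 5 [2, 4, 8, 7, 7, 2, 8, 7, 2, 4, 4, 5, 7, 2, 4, 4, 5, 7, 8, 2, 4, 4, 5, 7, 2, 2, 4, 4, 5, 7, 2, 4] (sel (ones 4060) ip5 79) = true := by decide +kernel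

theorem rot5_79r : band (Rule.ok (2 * 2) EX RL ⟨5 :: [2, 4, 8, 7, 7, 2, 8, 7, 2, 4, 4, 5, 7, 2, 4, 4, 5, 7, 8, 2, 4, 4, 5, 7, 2, 2, 4, 4, 5, 7, 2, 4], [7], 14, true⟩) (lall (memL L) [2, 4, 8, 7, 7, 2, 8, 7, 2, 4, 4, 5, 7, 2, 4, 4, 5, 7, 8, 2, 4, 4, 5, 7, 2, 2, 4, 4, 5, 7, 2, 4]) = true := by decide +kernel

theorem rot5_80 : T.rot 5 [7, 2, 4, 4, 5, 7, 8, 2, 4, 4, 5, 7, 2, 2, 4, 4, 5, 7, 2, 4, 5, 2, 4, 8, 7, 7, 2, 8, 7, 2, 4, 4] (sel (ones 4060) ip5 80) = true := by decide +kernel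

theorem rot5_80r : band (Rule.ok (2 * 2) EX RL ⟨5 :: [7, 2, 4, 4, 5, 7, 8, 2, 4, 4, 5, 7, 2, 2, 4, 4, 5, 7, 2, 4, 5, 2, 4, 8, 7, 7, 2, 8, 7, 2, 4, 4], [7, 9, 2, 7, 8, 6, 6, 2, 8, 6, 2, 7, 7], 14, true⟩) (lall (memL L) [7, 2, 4, 4, 5, 7, 8, 2, 4, 4, 5, 7, 2, 2, 4, 4, 5, 7, 2, 4, 5, 2, 4, 8, 7, 7, 2, 8, 7, 2, 4, 4]) = true := by decide +kernel

theorem rot5_81 : T.rot 5 [7, 8, 2, 4, 4, 5, 7, 2, 2, 4, 4, 5, 7, 2, 4, 5, 2, 4, 8, 7, 7, 2, 8, 7, 2, 4, 4, 5, 7, 2, 4, 4] (sel (ones 4060) ip5 81) = true := by decide +kernel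

theorem rot5_81r : band (Rule.ok (2 * 2) EX RL ⟨5 :: [7, 8, 2, 4, 4, 5, 7, 2, 2, 4, 4, 5, 7, 2, 4, 5, 2, 4, 8, 7, 7, 2, 8, 7, 2, 4, 4, 5, 7, 2, 4, 4], [2, 7, 8, 6, 8, 6, 6, 2, 9, 7, 8], 14, true⟩) (lall (memL L) [7, 8, 2, 4, 4, 5, 7, 2, 2, 4, 4, 5, 7, 2, 4, 5, 2, 4, 8, 7, 7, 2, 8, 7, 2, 4, 4, 5, 7, 2, 4, 4]) = true := by decide +kernel

theorem rot5_82 : T.rot 5 [7, 2, 2, 4, 4, 5, 7, 2, 4, 5, 2, 4, 8, 7, 7, 2, 8, 7, 2, 4, 4, 5, 7, 2, 4, 4, 5, 7, 8, 2, 4, 4] (sel (ones 4060) ip5 82) = true := by decide +kernel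

theorem rot5_82r : band (Rule.ok (2 * 2) EX RL ⟨5 :: [7, 2, 2, 4, 4, 5, 7, 2, 4, 5, 2, 4, 8, 7, 7, 2, 8, 7, 2, 4, 4, 5, 7, 2, 4, 4, 5, 7, 8, 2, 4, 4], [2, 7, 8, 6, 8], 14, true⟩) (lall (memL L) [7, 2, 2, 4, 4, 5, 7, 2, 4, 5, 2, 4, 8, 7, 7, 2, 8, 7, 2, 4, 4, 5, 7, 2, 4, 4, 5, 7, 8, 2, 4, 4]) = true := by decide +kernel

theorem rot5_83 : T.rot 5 [7, 2, 4, 5, 2, 4, 8, 7, 7, 2, 8, 7, 2, 4, 4, 5, 7, 2, 4, 4, 5, 7, 8, 2, 4, 4, 5, 7, 2, 2, 4, 4] (sel (ones 4060) ip5 83) = true := by decide +kernel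

theorem rot5_83r : band (Rule.ok (2 * 2) EX RL ⟨5 :: [7, 2, 4, 5, 2, 4, 8, 7, 7, 2, 8, 7, 2, 4, 4, 5, 7, 2, 4, 4, 5, 7, 8, 2, 4, 4, 5, 7, 2, 2, 4, 4], [2, 7, 8], 14, true⟩) (lall (memL L) [7, 2, 4, 5, 2, 4, 8, 7, 7, 2, 8, 7, 2, 4, 4, 5, 7, 2, 4, 4, 5, 7, 8, 2, 4, 4, 5, 7, 2, 2, 4, 4]) = true := by decide +kernel

theorem rot5_84 : T.rot 5 [4, 8, 7, 7, 2, 4, 8, 7, 7, 2, 4, 5, 2, 4, 4, 5, 7, 2, 8, 7, 2, 4, 8, 7, 7, 2, 2, 4, 8, 7, 7, 2] (sel (ones 4060) ip5 84) = true := by decide +kernel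

theorem rot5_84r : band (Rule.ok (2 * 2) EX RL ⟨5 :: [4, 8, 7, 7, 2, 4, 8, 7, 7, 2, 4, 5, 2, 4, 4, 5, 7, 2, 8, 7, 2, 4, 8, 7, 7, 2, 2, 4, 8, 7, 7, 2], [2, 7, 8, 6, 8, 6, 6, 2], 14, false⟩) (lall (memL L) [4, 8, 7, 7, 2, 4, 8, 7, 7, 2, 4, 5, 2, 4, 4, 5, 7, 2, 8, 7, 2, 4, 8, 7, 7, 2, 2, 4, 8, 7, 7, 2]) = true := by decide +kernel

theorem rot5_85 : T.rot 5 [2, 4, 4, 5, 7, 2, 8, 7, 2, 4, 8, 7, 7, 2, 2, 4, 8, 7, 7, 2, 5, 4, 8, 7, 7, 2, 4, 8, 7, 7, 2, 4] (sel (ones 4060) ip5 85) = true := by decide +kernel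

theorem rot5_85r : band (Rule.ok (2 * 2) EX RL ⟨5 :: [2, 4, 4, 5, 7, 2, 8, 7, 2, 4, 8, 7, 7, 2, 2, 4, 8, 7, 7, 2, 5, 4, 8, 7, 7, 2, 4, 8, 7, 7, 2, 4], [7, 9, 2, 7, 8, 6, 6, 2, 8], 14, false⟩) (lall (memL L) [2, 4, 4, 5, 7, 2, 8, 7, 2, 4, 8, 7, 7, 2, 2, 4, 8, 7, 7, 2, 5, 4, 8, 7, 7, 2, 4, 8, 7, 7, 2, 4]) = true := by decide +kernel

theorem rot5_86 : T.rot 5 [7, 2, 8, 7, 2, 4, 8, 7, 7, 2, 2, 4, 8, 7, 7, 2, 5, 4, 8, 7, 7, 2, 4, 8, 7, 7, 2, 4, 5, 2, 4, 4] (sel (ones 4060) ip5 86) = true := by decide +kernel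

theorem rot5_86r : band (Rule.ok (2 * 2) EX RL ⟨5 :: [7, 2, 8, 7, 2, 4, 8, 7, 7, 2, 2, 4, 8, 7, 7, 2, 5, 4, 8, 7, 7, 2, 4, 8, 7, 7, 2, 4, 5, 2, 4, 4], [7, 9, 2, 7, 8], 14, false⟩) (lall (memL L) [7, 2, 8, 7, 2, 4, 8, 7, 7, 2, 2, 4, 8, 7, 7, 2, 5, 4, 8, 7, 7, 2, 4, 8, 7, 7, 2, 4, 5, 2, 4, 4]) = true := by decide +kernel

theorem rot5_87 : T.rot 5 [7, 2, 4, 4, 5, 7, 2, 4, 4, 5, 7, 2, 8, 2, 4, 8, 7, 7, 2, 5, 5, 2, 4, 8, 7, 7, 2, 4, 8, 7, 7, 8, 2, 4, 4] (sel (ones 4060) ip5 87) = true := by decide +kernel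

theorem rot5_87r : band (Rule.ok (2 * 2) EX RL ⟨5 :: [7, 2, 4, 4, 5, 7, 2, 4, 4, 5, 7, 2, 8, 2, 4, 8, 7, 7, 2, 5, 5, 2, 4, 8, 7, 7, 2, 4, 8, 7, 7, 8, 2, 4, 4], [7, 8, 6, 6, 8, 2, 7, 7], 1, true⟩) (lall (memL L) [7, 2, 4, 4, 5, 7, 2, 4, 4, 5, 7, 2, 8, 2, 4, 8, 7, 7, 2, 5, 5, 2, 4, 8, 7, 7, 2, 4, 8, 7, 7, 8, 2, 4, 4]) = true := by decide +kernel

theorem rot5_88 : T.rot 5 [7, 2, 4, 4, 5, 7, 2, 8, 2, 4, 8, 7, 7, 2, 5, 5, 2, 4, 8, 7, 7, 2, 4, 8, 7, 7, 8, 2, 4, 4, 5, 7, 2, 4, 4] (sel (ones 4060) ip5 88) = true := by decide +kernel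

theorem rot5_88r : band (Rule.ok (2 * 2) EX RL ⟨5 :: [7, 2, 4, 4, 5, 7, 2, 8, 2, 4, 8, 7, 7, 2, 5, 5, 2, 4, 8, 7, 7, 2, 4, 8, 7, 7, 8, 2, 4, 4, 5, 7, 2, 4, 4], [7, 8, 6, 6, 8, 2, 7, 7, 9, 6, 2, 7, 7], 1, true⟩) (lall (memL L) [7, 2, 4, 4, 5, 7, 2, 8, 2, 4, 8, 7, 7, 2, 5, 5, 2, 4, 8, 7, 7, 2, 4, 8, 7, 7, 8, 2, 4, 4, 5, 7, 2, 4, 4]) = true := by decide +kernel

theorem rot5_89 : T.rot 5 [7, 2, 8, 2, 4, 8, 7, 7, 2, 5, 5, 2, 4, 8, 7, 7, 2, 4, 8, 7, 7, 8, 2, 4, 4, 5, 7, 2, 4, 4, 5, 7, 2, 4, 4] (sel (ones 4060) ip5 89) = true := by decide +kernel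

theorem rot5_89r : band (Rule.ok (2 * 2) EX RL ⟨5 :: [7, 2, 8, 2, 4, 8, 7, 7, 2, 5, 5, 2, 4, 8, 7, 7, 2, 4, 8, 7, 7, 8, 2, 4, 4, 5, 7, 2, 4, 4, 5, 7, 2, 4, 4], [2, 7, 7, 9, 6, 2, 8, 8, 2, 7, 7, 9, 6, 2, 9, 2, 7, 8], 1, true⟩) (lall (memL L) [7, 2, 8, 2, 4, 8, 7, 7, 2, 5, 5, 2, 4, 8, 7, 7, 2, 4, 8, 7, 7, 8, 2, 4, 4, 5, 7, 2, 4, 4, 5, 7, 2, 4, 4]) = true := by decide +kernel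

theorem rot5_90 : T.rot 5 [5, 2, 4, 8, 7, 7, 2, 4, 8, 7, 7, 8, 2, 4, 4, 5, 7, 2, 4, 4, 5, 7, 2, 4, 4, 5, 7, 2, 8, 2, 4, 8, 7, 7, 2] (sel (ones 4060) ip5 90) = true := by decide +kernel

theorem rot5_90r : band (Rule.ok (2 * 2) EX RL ⟨5 :: [5, 2, 4, 8, 7, 7, 2, 4, 8, 7, 7, 8, 2, 4, 4, 5, 7, 2, 4, 4, 5, 7, 2, 4, 4, 5, 7, 2, 8, 2, 4, 8, 7, 7, 2], [2, 7, 7, 9, 6, 2, 8, 8], 1, true⟩) (lall (memL L) [5, 2, 4, 8, 7, 7, 2, 4, 8, 7, 7, 8, 2, 4, 4, 5, 7, 2, 4, 4, 5, 7, 2, 4, 4, 5, 7, 2, 8, 2, 4, 8, 7, 7, 2]) = true := by decide +kernel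

theorem rot5_91 : T.rot 5 [2, 4, 8, 7, 7, 2, 4, 8, 7, 7, 8, 2, 4, 4, 5, 7, 2, 4, 4, 5, 7, 2, 4, 4, 5, 7, 2, 8, 2, 4, 8, 7, 7, 2, 5] (sel (ones 4060) ip5 91) = true := by decide +kernel

theorem rot5_91r : band (Rule.ok (2 * 2) EX RL ⟨5 :: [2, 4, 8, 7, 7, 2, 4, 8, 7, 7, 8, 2, 4, 4, 5, 7, 2, 4, 4, 5, 7, 2, 4, 4, 5, 7, 2, 8, 2, 4, 8, 7, 7, 2, 5], [2, 7, 7, 9, 6, 2, 8], 1, true⟩) (lall (memL L) [2, 4, 8, 7, 7, 2, 4, 8, 7, 7, 8, 2, 4, 4, 5, 7, 2, 4, 4, 5, 7, 2, 4, 4, 5, 7, 2, 8, 2, 4, 8, 7, 7, 2, 5]) = true := by decide +kernel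

theorem rot5_92 : T.rot 5 [7, 2, 8, 8, 2, 4, 4, 5, 7, 2, 5, 2, 4, 8, 7, 7, 2, 4, 8, 7, 7, 2, 4, 8, 7, 7, 2, 5, 4, 4, 5, 7, 2, 4, 4] (sel (ones 4060) ip5 92) = true := by decide +kernel

theorem rot5_92r : band (Rule.ok (2 * 2) EX RL ⟨5 :: [7, 2, 8, 8, 2, 4, 4, 5, 7, 2, 5, 2, 4, 8, 7, 7, 2, 4, 8, 7, 7, 2, 4, 8, 7, 7, 2, 5, 4, 4, 5, 7, 2, 4, 4], [2, 7, 7], 1, false⟩) (lall (memL L) [7, 2, 8, 8, 2, 4, 4, 5, 7, 2, 5, 2, 4, 8, 7, 7, 2, 4, 8, 7, 7, 2, 4, 8, 7, 7, 2, 5, 4, 4, 5, 7, 2, 4, 4]) = true := by decide +kernel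

theorem rot5_93 : T.rot 5 [7, 2, 5, 2, 4, 8, 7, 7, 2, 4, 8, 7, 7, 2, 4, 8, 7, 7, 2, 5, 4, 4, 5, 7, 2, 4, 4, 5, 7, 2, 8, 8, 2, 4, 4] (sel (ones 4060) ip5 93) = true := by decide +kernel

theorem rot5_93r : band (Rule.ok (2 * 2) EX RL ⟨5 :: [7, 2, 5, 2, 4, 8, 7, 7, 2, 4, 8, 7, 7, 2, 4, 8, 7, 7, 2, 5, 4, 4, 5, 7, 2, 4, 4, 5, 7, 2, 8, 8, 2, 4, 4], [2, 7, 7, 9, 6, 2, 8, 8, 2, 7, 7], 1, false⟩) (lall (memL L) [7, 2, 5, 2, 4, 8, 7, 7, 2, 4, 8, 7, 7, 2, 4, 8, 7, 7, 2, 5, 4, 4, 5, 7, 2, 4, 4, 5, 7, 2, 8, 8, 2, 4, 4]) = true := by decide +kernel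

theorem rot5_94 : T.rot 5 [2, 4, 8, 7, 7, 2, 4, 8, 7, 7, 2, 4, 8, 7, 7, 2, 5, 4, 4, 5, 7, 2, 4, 4, 5, 7, 2, 8, 8, 2, 4, 4, 5, 7, 2] (sel (ones 4060) ip5 94) = true := by decide +kernel

theorem rot5_94r : band (Rule.ok (2 * 2) EX RL ⟨5 :: [2, 4, 8, 7, 7, 2, 4, 8, 7, 7, 2, 4, 8, 7, 7, 2, 5, 4, 4, 5, 7, 2, 4, 4, 5, 7, 2, 8, 8, 2, 4, 4, 5, 7, 2], [2, 7, 7, 9, 6, 2, 8, 8, 2, 7, 7, 9, 6, 2], 1, false⟩) (lall (memL L) [2, 4, 8, 7, 7, 2, 4, 8, 7, 7, 2, 4, 8, 7, 7, 2, 5, 4, 4, 5, 7, 2, 4, 4, 5, 7, 2, 8, 8, 2, 4, 4, 5, 7, 2]) = true := by decide +kernel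

theorem rot5_95 : T.rot 5 [4, 4, 5, 7, 2, 4, 4, 5, 7, 2, 8, 8, 2, 4, 4, 5, 7, 2, 5, 2, 4, 8, 7, 7, 2, 4, 8, 7, 7, 2, 4, 8, 7, 7, 2] (sel (ones 4060) ip5 95) = true := by decide +kernel

theorem rot5_95r : band (Rule.ok (2 * 2) EX RL ⟨5 :: [4, 4, 5, 7, 2, 4, 4, 5, 7, 2, 8, 8, 2, 4, 4, 5, 7, 2, 5, 2, 4, 8, 7, 7, 2, 4, 8, 7, 7, 2, 4, 8, 7, 7, 2], [7, 8, 6, 6, 8], 1, false⟩) (lall (memL L) [4, 4, 5, 7, 2, 4, 4, 5, 7, 2, 8, 8, 2, 4, 4, 5, 7, 2, 5, 2, 4, 8, 7, 7, 2, 4, 8, 7, 7, 2, 4, 8, 7, 7, 2]) = true := by decide +kernel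

theorem rot5_96 : T.rot 5 [7, 2, 4, 4, 5, 7, 2, 8, 8, 2, 4, 4, 5, 7, 2, 5, 2, 4, 8, 7, 7, 2, 4, 8, 7, 7, 2, 4, 8, 7, 7, 2, 5, 4, 4] (sel (ones 4060) ip5 96) = true := by decide +kernel

theorem rot5_96r : band (Rule.ok (2 * 2) EX RL ⟨5 :: [7, 2, 4, 4, 5, 7, 2, 8, 8, 2, 4, 4, 5, 7, 2, 5, 2, 4, 8, 7, 7, 2, 4, 8, 7, 7, 2, 4, 8, 7, 7, 2, 5, 4, 4], [7, 8], 1, false⟩) (lall (memL L) [7, 2, 4, 4, 5, 7, 2, 8, 8, 2, 4, 4, 5, 7, 2, 5, 2, 4, 8, 7, 7, 2, 4, 8, 7, 7, 2, 4, 8, 7, 7, 2, 5, 4, 4]) = true := by decide +kernel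

theorem rot5_97 : T.rot 5 [7, 2, 4, 8, 7, 7, 8, 2, 4, 4, 5, 7, 2, 8, 2, 4, 4, 5, 7, 2, 4, 4, 5, 7, 8, 2, 4, 4, 5, 7, 2, 8, 2, 4, 4] (sel (ones 4060) ip5 97) = true := by decide +kernel

theorem rot5_97r : band (Rule.ok (2 * 2) EX RL ⟨5 :: [7, 2, 4, 8, 7, 7, 8, 2, 4, 4, 5, 7, 2, 8, 2, 4, 4, 5, 7, 2, 4, 4, 5, 7, 8, 2, 4, 4, 5, 7, 2, 8, 2, 4, 4], [8, 2, 7, 7], 3, true⟩) (lall (memL L) [7, 2, 4, 8, 7, 7, 8, 2, 4, 4, 5, 7, 2, 8, 2, 4, 4, 5, 7, 2, 4, 4, 5, 7, 8, 2, 4, 4, 5, 7, 2, 8, 2, 4, 4]) = true := by decide +kernel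

theorem rot5_98 : T.rot 5 [7, 2, 8, 2, 4, 4, 5, 7, 2, 4, 4, 5, 7, 8, 2, 4, 4, 5, 7, 2, 8, 2, 4, 4, 5, 7, 2, 4, 8, 7, 7, 8, 2, 4, 4] (sel (ones 4060) ip5 98) = true := by decide +kernel

theorem rot5_98r : band (Rule.ok (2 * 2) EX RL ⟨5 :: [7, 2, 8, 2, 4, 4, 5, 7, 2, 4, 4, 5, 7, 8, 2, 4, 4, 5, 7, 2, 8, 2, 4, 4, 5, 7, 2, 4, 8, 7, 7, 8, 2, 4, 4], [8, 2, 7, 7, 9, 6, 2, 7, 8, 6, 6, 8, 2, 7, 7], 3, true⟩) (lall (memL L) [7, 2, 8, 2, 4, 4, 5, 7, 2, 4, 4, 5, 7, 8, 2, 4, 4, 5, 7, 2, 8, 2, 4, 4, 5, 7, 2, 4, 8, 7, 7, 8, 2, 4, 4]) = true := by decide +kernel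

theorem rot5_99 : T.rot 5 [7, 2, 4, 4, 5, 7, 8, 2, 4, 4, 5, 7, 2, 8, 2, 4, 4, 5, 7, 2, 4, 8, 7, 7, 8, 2, 4, 4, 5, 7, 2, 8, 2, 4, 4] (sel (ones 4060) ip5 99) = true := by decide +kernel

theorem rot5_99r : band (Rule.ok (2 * 2) EX RL ⟨5 :: [7, 2, 4, 4, 5, 7, 8, 2, 4, 4, 5, 7, 2, 8, 2, 4, 4, 5, 7, 2, 4, 8, 7, 7, 8, 2, 4, 4, 5, 7, 2, 8, 2, 4, 4], [2, 7, 8, 6, 6, 2, 9, 7, 8, 6, 6, 2, 7, 8], 3, true⟩) (lall (memL L) [7, 2, 4, 4, 5, 7, 8, 2, 4, 4, 5, 7, 2, 8, 2, 4, 4, 5, 7, 2, 4, 8, 7, 7, 8, 2, 4, 4, 5, 7, 2, 8, 2, 4, 4]) = true := by decide +kernel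

theorem rot5_100 : T.rot 5 [7, 8, 2, 4, 4, 5, 7, 2, 8, 2, 4, 4, 5, 7, 2, 4, 8, 7, 7, 8, 2, 4, 4, 5, 7, 2, 8, 2, 4, 4, 5, 7, 2, 4, 4] (sel (ones 4060) ip5 100) = true := by decide +kernel

theorem rot5_100r : band (Rule.ok (2 * 2) EX RL ⟨5 :: [7, 8, 2, 4, 4, 5, 7, 2, 8, 2, 4, 4, 5, 7, 2, 4, 8, 7, 7, 8, 2, 4, 4, 5, 7, 2, 8, 2, 4, 4, 5, 7, 2, 4, 4], [2, 7, 8, 6, 6, 2, 9, 7, 8], 3, true⟩) (lall (memL L) [7, 8, 2, 4, 4, 5, 7, 2, 8, 2, 4, 4, 5, 7, 2, 4, 8, 7, 7, 8, 2, 4, 4, 5, 7, 2, 8, 2, 4, 4, 5, 7, 2, 4, 4]) = true := by decide +kernel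

theorem rot5_101 : T.rot 5 [7, 2, 8, 2, 4, 4, 5, 7, 2, 4, 8, 7, 7, 8, 2, 4, 4, 5, 7, 2, 8, 2, 4, 4, 5, 7, 2, 4, 4, 5, 7, 8, 2, 4, 4] (sel (ones 4060) ip5 101) = true := by decide +kernel

theorem rot5_101r : band (Rule.ok (2 * 2) EX RL ⟨5 :: [7, 2, 8, 2, 4, 4, 5, 7, 2, 4, 8, 7, 7, 8, 2, 4, 4, 5, 7, 2, 8, 2, 4, 4, 5, 7, 2, 4, 4, 5, 7, 8, 2, 4, 4], [2, 7, 8], 3, true⟩) (lall (memL L) [7, 2, 8, 2, 4, 4, 5, 7, 2, 4, 8, 7, 7, 8, 2, 4, 4, 5, 7, 2, 8, 2, 4, 4, 5, 7, 2, 4, 4, 5, 7, 8, 2, 4, 4]) = true := by decide +kernel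

theorem rot5_102 : T.rot 5 [4, 8, 7, 7, 2, 4, 8, 7, 7, 2, 5, 2, 4, 8, 7, 7, 2, 5, 4, 4, 5, 7, 2, 4, 8, 7, 7, 2, 5, 2, 4, 8, 7, 7, 2] (sel (ones 4060) ip5 102) = true := by decide +kernel

theorem rot5_102r : band (Rule.ok (2 * 2) EX RL ⟨5 :: [4, 8, 7, 7, 2, 4, 8, 7, 7, 2, 5, 2, 4, 8, 7, 7, 2, 5, 4, 4, 5, 7, 2, 4, 8, 7, 7, 2, 5, 2, 4, 8, 7, 7, 2], [2, 7, 8, 6, 6, 2], 3, false⟩) (lall (memL L) [4, 8, 7, 7, 2, 4, 8, 7, 7, 2, 5, 2, 4, 8, 7, 7, 2, 5, 4, 4, 5, 7, 2, 4, 8, 7, 7, 2, 5, 2, 4, 8, 7, 7, 2]) = true := by decide +kernel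

theorem rot5_103 : T.rot 5 [2, 4, 8, 7, 7, 2, 5, 4, 4, 5, 7, 2, 4, 8, 7, 7, 2, 5, 2, 4, 8, 7, 7, 2, 5, 4, 8, 7, 7, 2, 4, 8, 7, 7, 2] (sel (ones 4060) ip5 103) = true := by decide +kernel

theorem rot5_103r : band (Rule.ok (2 * 2) EX RL ⟨5 :: [2, 4, 8, 7, 7, 2, 5, 4, 4, 5, 7, 2, 4, 8, 7, 7, 2, 5, 2, 4, 8, 7, 7, 2, 5, 4, 8, 7, 7, 2, 4, 8, 7, 7, 2], [2, 7, 8, 6, 6, 2, 9, 7, 8, 6, 6, 2, 7, 8, 6, 6, 2], 3, false⟩) (lall (memL L) [2, 4, 8, 7, 7, 2, 5, 4, 4, 5, 7, 2, 4, 8, 7, 7, 2, 5, 2, 4, 8, 7, 7, 2, 5, 4, 8, 7, 7, 2, 4, 8, 7, 7, 2]) = true := by decide +kernel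

end Cfsg.Agent.Spor.Rua
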