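import Cfsg.Agent.Spor.Rua.D0

set_option autoImplicit false
set_option maxRecDepth 100000000
set_option Elab.async false

namespace Cfsg.Agent.Spor.Rua

theorem rot5_104 : T.rot 5 [4, 4, 5, 7, 2, 4, 8, 7, 7, 2, 5, 2, 4, 8, 7, 7, 2, 5, 4, 8, 7, 7, 2, 4, 8, 7, 7, 2, 5, 2, 4, 8, 7, 7, 2] (sel (ones 4060) ip5 104) = true := by decide +kernel

theorem rot5_104r : band (Rule.ok (2 * 2) EX RL ⟨5 :: [4, 4, 5, 7, 2, 4, 8, 7, 7, 2, 5, 2, 4, 8, 7, 7, 2, 5, 4, 8, 7, 7, 2, 4, 8, 7, 7, 2, 5, 2, 4, 8, 7, 7, 2], [8, 2, 7, 7, 9, 6, 2, 7, 8, 6, 6, 8], 3, false⟩) (lall (memL L) [4, 4, 5, 7, 2, 4, 8, 7, 7, 2, 5, 2, 4, 8, 7, 7, 2, 5, 4, 8, 7, 7, 2, 4, 8, 7, 7, 2, 5, 2, 4, 8, 7, 7, 2]) = true := by decide +kernel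

theorem rot5_105 : T.rot 5 [7, 2, 4, 8, 7, 7, 2, 5, 2, 4, 8, 7, 7, 2, 5, 4, 8, 7, 7, 2, 4, 8, 7, 7, 2, 5, 2, 4, 8, 7, 7, 2, 5, 4, 4] (sel (ones 4060) ip5 105) = true := by decide +kernel

theorem rot5_105r : band (Rule.ok (2 * 2) EX RL ⟨5 :: [7, 2, 4, 8, 7, 7, 2, 5, 2, 4, 8, 7, 7, 2, 5, 4, 8, 7, 7, 2, 4, 8, 7, 7, 2, 5, 2, 4, 8, 7, 7, 2, 5, 4, 4], [8, 2, 7, 7, 9, 6, 2, 7, 8], 3, false⟩) (lall (memL L) [7, 2, 4, 8, 7, 7, 2, 5, 2, 4, 8, 7, 7, 2, 5, 4, 8, 7, 7, 2, 4, 8, 7, 7, 2, 5, 2, 4, 8, 7, 7, 2, 5, 4, 4]) = true := by decide +kernel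

theorem rot5_106 : T.rot 5 [2, 4, 8, 7, 7, 2, 5, 4, 8, 7, 7, 2, 4, 8, 7, 7, 2, 5, 2, 4, 8, 7, 7, 2, 5, 4, 4, 5, 7, 2, 4, 8, 7, 7, 2] (sel (ones 4060) ip5 106) = true := by decide +kernel

theorem rot5_106r : band (Rule.ok (2 * 2) EX RL ⟨5 :: [2, 4, 8, 7, 7, 2, 5, 4, 8, 7, 7, 2, 4, 8, 7, 7, 2, 5, 2, 4, 8, 7, 7, 2, 5, 4, 4, 5, 7, 2, 4, 8, 7, 7, 2], [8], 3, false⟩) (lall (memL L) [2, 4, 8, 7, 7, 2, 5, 4, 8, 7, 7, 2, 4, 8, 7, 7, 2, 5, 2, 4, 8, 7, 7, 2, 5, 4, 4, 5, 7, 2, 4, 8, 7, 7, 2]) = true := by decide +kernel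

theorem rot5_107 : T.rot 5 [7, 2, 5, 2, 4, 8, 7, 7, 2, 8, 2, 4, 4, 5, 7, 2, 2, 4, 4, 5, 7, 2, 8, 4, 8, 7, 7, 4, 8, 7, 7, 8, 2, 4, 4] (sel (ones 4060) ip5 107) = true := by decide +kernel

theorem rot5_107r : band (Rule.ok (2 * 2) EX RL ⟨5 :: [7, 2, 5, 2, 4, 8, 7, 7, 2, 8, 2, 4, 4, 5, 7, 2, 2, 4, 4, 5, 7, 2, 8, 4, 8, 7, 7, 4, 8, 7, 7, 8, 2, 4, 4], [7, 8, 6, 8, 6, 6, 8, 2, 7, 7], 4, true⟩) (lall (memL L) [7, 2, 5, 2, 4, 8, 7, 7, 2, 8, 2, 4, 4, 5, 7, 2, 2, 4, 4, 5, 7, 2, 8, 4, 8, 7, 7, 4, 8, 7, 7, 8, 2, 4, 4]) = true := by decide +kernel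

theorem rot5_108 : T.rot 5 [2, 4, 8, 7, 7, 2, 8, 2, 4, 4, 5, 7, 2, 2, 4, 4, 5, 7, 2, 8, 4, 8, 7, 7, 4, 8, 7, 7, 8, 2, 4, 4, 5, 7, 2] (sel (ones 4060) ip5 108) = true := by decide +kernel

theorem rot5_108r : band (Rule.ok (2 * 2) EX RL ⟨5 :: [2, 4, 8, 7, 7, 2, 8, 2, 4, 4, 5, 7, 2, 2, 4, 4, 5, 7, 2, 8, 4, 8, 7, 7, 4, 8, 7, 7, 8, 2, 4, 4, 5, 7, 2], [7, 8, 6, 8, 6, 6, 8, 2, 7, 7, 9, 6, 2], 4, true⟩) (lall (memL L) [2, 4, 8, 7, 7, 2, 8, 2, 4, 4, 5, 7, 2, 2, 4, 4, 5, 7, 2, 8, 4, 8, 7, 7, 4, 8, 7, 7, 8, 2, 4, 4, 5, 7, 2]) = true := by decide +kernel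

theorem rot5_109 : T.rot 5 [7, 2, 2, 4, 4, 5, 7, 2, 8, 4, 8, 7, 7, 4, 8, 7, 7, 8, 2, 4, 4, 5, 7, 2, 5, 2, 4, 8, 7, 7, 2, 8, 2, 4, 4] (sel (ones 4060) ip5 109) = true := by decide +kernel

theorem rot5_109r : band (Rule.ok (2 * 2) EX RL ⟨5 :: [7, 2, 2, 4, 4, 5, 7, 2, 8, 4, 8, 7, 7, 4, 8, 7, 7, 8, 2, 4, 4, 5, 7, 2, 5, 2, 4, 8, 7, 7, 2, 8, 2, 4, 4], [9, 2, 7, 8, 6, 8], 4, true⟩) (lall (memL L) [7, 2, 2, 4, 4, 5, 7, 2, 8, 4, 8, 7, 7, 4, 8, 7, 7, 8, 2, 4, 4, 5, 7, 2, 5, 2, 4, 8, 7, 7, 2, 8, 2, 4, 4]) = true := by decide +kernel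

theorem rot5_110 : T.rot 5 [7, 2, 8, 4, 8, 7, 7, 4, 8, 7, 7, 8, 2, 4, 4, 5, 7, 2, 5, 2, 4, 8, 7, 7, 2, 8, 2, 4, 4, 5, 7, 2, 2, 4, 4] (sel (ones 4060) ip5 110) = true := by decide +kernel

theorem rot5_110r : band (Rule.ok (2 * 2) EX RL ⟨5 :: [7, 2, 8, 4, 8, 7, 7, 4, 8, 7, 7, 8, 2, 4, 4, 5, 7, 2, 5, 2, 4, 8, 7, 7, 2, 8, 2, 4, 4, 5, 7, 2, 2, 4, 4], [9, 2, 7, 8], 4, true⟩) (lall (memL L) [7, 2, 8, 4, 8, 7, 7, 4, 8, 7, 7, 8, 2, 4, 4, 5, 7, 2, 5, 2, 4, 8, 7, 7, 2, 8, 2, 4, 4, 5, 7, 2, 2, 4, 4]) = true := by decide +kernel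

theorem rot5_111 : T.rot 5 [2, 4, 8, 7, 7, 2, 2, 4, 8, 7, 7, 2, 5, 2, 4, 4, 5, 7, 2, 8, 2, 4, 8, 7, 7, 2, 5, 4, 4, 5, 7, 4, 4, 5, 7] (sel (ones 4060) ip5 111) = true := by decide +kernel

theorem rot5_111r : band (Rule.ok (2 * 2) EX RL ⟨5 :: [2, 4, 8, 7, 7, 2, 2, 4, 8, 7, 7, 2, 5, 2, 4, 4, 5, 7, 2, 8, 2, 4, 8, 7, 7, 2, 5, 4, 4, 5, 7, 4, 4, 5, 7], [], 4, false⟩) (lall (memL L) [2, 4, 8, 7, 7, 2, 2, 4, 8, 7, 7, 2, 5, 2, 4, 4, 5, 7, 2, 8, 2, 4, 8, 7, 7, 2, 5, 4, 4, 5, 7, 4, 4, 5, 7]) = true := by decide +kernel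

theorem rot5_112 : T.rot 5 [2, 4, 4, 5, 7, 2, 8, 2, 4, 8, 7, 7, 2, 5, 4, 4, 5, 7, 4, 4, 5, 7, 5, 2, 4, 8, 7, 7, 2, 2, 4, 8, 7, 7, 2] (sel (ones 4060) ip5 112) = true := by decide +kernel

theorem rot5_112r : band (Rule.ok (2 * 2) EX RL ⟨5 :: [2, 4, 4, 5, 7, 2, 8, 2, 4, 8, 7, 7, 2, 5, 4, 4, 5, 7, 4, 4, 5, 7, 5, 2, 4, 8, 7, 7, 2, 2, 4, 8, 7, 7, 2], [9, 2, 7, 8, 6, 8, 6, 6, 2], 4, false⟩) (lall (memL L) [2, 4, 4, 5, 7, 2, 8, 2, 4, 8, 7, 7, 2, 5, 4, 4, 5, 7, 4, 4, 5, 7, 5, 2, 4, 8, 7, 7, 2, 2, 4, 8, 7, 7, 2]) = true := by decide +kernel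

theorem rot5_113 : T.rot 5 [7, 2, 8, 2, 4, 8, 7, 7, 2, 5, 4, 4, 5, 7, 4, 4, 5, 7, 5, 2, 4, 8, 7, 7, 2, 2, 4, 8, 7, 7, 2, 5, 2, 4, 4] (sel (ones 4060) ip5 113) = true := by decide +kernel

theorem rot5_113r : band (Rule.ok (2 * 2) EX RL ⟨5 :: [7, 2, 8, 2, 4, 8, 7, 7, 2, 5, 4, 4, 5, 7, 4, 4, 5, 7, 5, 2, 4, 8, 7, 7, 2, 2, 4, 8, 7, 7, 2, 5, 2, 4, 4], [9, 2, 7, 8, 6, 8, 6, 6, 2, 9, 2, 7, 7], 4, false⟩) (lall (memL L) [7, 2, 8, 2, 4, 8, 7, 7, 2, 5, 4, 4, 5, 7, 4, 4, 5, 7, 5, 2, 4, 8, 7, 7, 2, 2, 4, 8, 7, 7, 2, 5, 2, 4, 4]) = true := by decide +kernel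

theorem rot5_114 : T.rot 5 [4, 4, 5, 7, 4, 4, 5, 7, 5, 2, 4, 8, 7, 7, 2, 2, 4, 8, 7, 7, 2, 5, 2, 4, 4, 5, 7, 2, 8, 2, 4, 8, 7, 7, 2] (sel (ones 4060) ip5 114) = true := by decide +kernel

theorem rot5_114r : band (Rule.ok (2 * 2) EX RL ⟨5 :: [4, 4, 5, 7, 4, 4, 5, 7, 5, 2, 4, 8, 7, 7, 2, 2, 4, 8, 7, 7, 2, 5, 2, 4, 4, 5, 7, 2, 8, 2, 4, 8, 7, 7, 2], [7, 8, 6, 8, 6, 6, 8], 4, false⟩) (lall (memL L) [4, 4, 5, 7, 4, 4, 5, 7, 5, 2, 4, 8, 7, 7, 2, 2, 4, 8, 7, 7, 2, 5, 2, 4, 4, 5, 7, 2, 8, 2, 4, 8, 7, 7, 2]) = true := by decide +kernel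

theorem rot5_115 : T.rot 5 [7, 4, 4, 5, 7, 5, 2, 4, 8, 7, 7, 2, 2, 4, 8, 7, 7, 2, 5, 2, 4, 4, 5, 7, 2, 8, 2, 4, 8, 7, 7, 2, 5, 4, 4] (sel (ones 4060) ip5 115) = true := by decide +kernel

theorem rot5_115r : band (Rule.ok (2 * 2) EX RL ⟨5 :: [7, 4, 4, 5, 7, 5, 2, 4, 8, 7, 7, 2, 2, 4, 8, 7, 7, 2, 5, 2, 4, 4, 5, 7, 2, 8, 2, 4, 8, 7, 7, 2, 5, 4, 4], [7, 8, 6, 8], 4, false⟩) (lall (memL L) [7, 4, 4, 5, 7, 5, 2, 4, 8, 7, 7, 2, 2, 4, 8, 7, 7, 2, 5, 2, 4, 4, 5, 7, 2, 8, 2, 4, 8, 7, 7, 2, 5, 4, 4]) = true := by decide +kernel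

theorem rot5_116 : T.rot 5 [7, 5, 2, 4, 8, 7, 7, 2, 2, 4, 8, 7, 7, 2, 5, 2, 4, 4, 5, 7, 2, 8, 2, 4, 8, 7, 7, 2, 5, 4, 4, 5, 7, 4, 4] (sel (ones 4060) ip5 116) = true := by decide +kernel

theorem rot5_116r : band (Rule.ok (2 * 2) EX RL ⟨5 :: [7, 5, 2, 4, 8, 7, 7, 2, 2, 4, 8, 7, 7, 2, 5, 2, 4, 4, 5, 7, 2, 8, 2, 4, 8, 7, 7, 2, 5, 4, 4, 5, 7, 4, 4], [7, 8], 4, false⟩) (lall (memL L) [7, 5, 2, 4, 8, 7, 7, 2, 2, 4, 8, 7, 7, 2, 5, 2, 4, 4, 5, 7, 2, 8, 2, 4, 8, 7, 7, 2, 5, 4, 4, 5, 7, 4, 4]) = true := by decide +kernel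

theorem rot5_117 : T.rot 5 [5, 4, 8, 7, 7, 2, 4, 8, 7, 7, 2, 8, 5, 2, 4, 8, 7, 7, 2, 2, 4, 8, 7, 7, 2, 5, 5, 2, 4, 8, 7, 7, 2, 4, 4, 5, 7] (sel (ones 4060) ip5 117) = true := by decide +kernel

theorem rot5_117r : band (Rule.ok (2 * 2) EX RL ⟨5 :: [5, 4, 8, 7, 7, 2, 4, 8, 7, 7, 2, 8, 5, 2, 4, 8, 7, 7, 2, 2, 4, 8, 7, 7, 2, 5, 5, 2, 4, 8, 7, 7, 2, 4, 4, 5, 7], [], 10, true⟩) (lall (memL L) [5, 4, 8, 7, 7, 2, 4, 8, 7, 7, 2, 8, 5, 2, 4, 8, 7, 7, 2, 2, 4, 8, 7, 7, 2, 5, 5, 2, 4, 8, 7, 7, 2, 4, 4, 5, 7]) = true := by decide +kernel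

theorem rot5_118 : T.rot 5 [4, 8, 7, 7, 2, 4, 8, 7, 7, 2, 8, 5, 2, 4, 8, 7, 7, 2, 2, 4, 8, 7, 7, 2, 5, 5, 2, 4, 8, 7, 7, 2, 4, 4, 5, 7, 5] (sel (ones 4060) ip5 118) = true := by decide +kernel

theorem rot5_118r : band (Rule.ok (2 * 2) EX RL ⟨5 :: [4, 8, 7, 7, 2, 4, 8, 7, 7, 2, 8, 5, 2, 4, 8, 7, 7, 2, 2, 4, 8, 7, 7, 2, 5, 5, 2, 4, 8, 7, 7, 2, 4, 4, 5, 7, 5], [9], 10, true⟩) (lall (memL L) [4, 8, 7, 7, 2, 4, 8, 7, 7, 2, 8, 5, 2, 4, 8, 7, 7, 2, 2, 4, 8, 7, 7, 2, 5, 5, 2, 4, 8, 7, 7, 2, 4, 4, 5, 7, 5]) = true := by decide +kernel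

theorem rot5_119 : T.rot 5 [5, 2, 4, 8, 7, 7, 2, 4, 4, 5, 7, 5, 5, 4, 8, 7, 7, 2, 4, 8, 7, 7, 2, 8, 5, 2, 4, 8, 7, 7, 2, 2, 4, 8, 7, 7, 2] (sel (ones 4060) ip5 119) = true := by decide +kernel

theorem rot5_119r : band (Rule.ok (2 * 2) EX RL ⟨5 :: [5, 2, 4, 8, 7, 7, 2, 4, 4, 5, 7, 5, 5, 4, 8, 7, 7, 2, 4, 8, 7, 7, 2, 8, 5, 2, 4, 8, 7, 7, 2, 2, 4, 8, 7, 7, 2], [7, 8, 6, 6, 2, 7, 7, 9, 6, 2, 8, 8], 10, true⟩) (lall (memL L) [5, 2, 4, 8, 7, 7, 2, 4, 4, 5, 7, 5, 5, 4, 8, 7, 7, 2, 4, 8, 7, 7, 2, 8, 5, 2, 4, 8, 7, 7, 2, 2, 4, 8, 7, 7, 2]) = true := by decide +kernel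

theorem rot5_120 : T.rot 5 [2, 4, 8, 7, 7, 2, 4, 4, 5, 7, 5, 5, 4, 8, 7, 7, 2, 4, 8, 7, 7, 2, 8, 5, 2, 4, 8, 7, 7, 2, 2, 4, 8, 7, 7, 2, 5] (sel (ones 4060) ip5 120) = true := by decide +kernel

theorem rot5_120r : band (Rule.ok (2 * 2) EX RL ⟨5 :: [2, 4, 8, 7, 7, 2, 4, 4, 5, 7, 5, 5, 4, 8, 7, 7, 2, 4, 8, 7, 7, 2, 8, 5, 2, 4, 8, 7, 7, 2, 2, 4, 8, 7, 7, 2, 5], [7, 8, 6, 6, 2, 7, 7, 9, 6, 2, 8], 10, true⟩) (lall (memL L) [2, 4, 8, 7, 7, 2, 4, 4, 5, 7, 5, 5, 4, 8, 7, 7, 2, 4, 8, 7, 7, 2, 8, 5, 2, 4, 8, 7, 7, 2, 2, 4, 8, 7, 7, 2, 5]) = true := by decide +kernel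

theorem rot5_121 : T.rot 5 [7, 5, 5, 4, 8, 7, 7, 2, 4, 8, 7, 7, 2, 8, 5, 2, 4, 8, 7, 7, 2, 2, 4, 8, 7, 7, 2, 5, 5, 2, 4, 8, 7, 7, 2, 4, 4] (sel (ones 4060) ip5 121) = true := by decide +kernel

theorem rot5_121r : band (Rule.ok (2 * 2) EX RL ⟨5 :: [7, 5, 5, 4, 8, 7, 7, 2, 4, 8, 7, 7, 2, 8, 5, 2, 4, 8, 7, 7, 2, 2, 4, 8, 7, 7, 2, 5, 5, 2, 4, 8, 7, 7, 2, 4, 4], [7, 8], 10, true⟩) (lall (memL L) [7, 5, 5, 4, 8, 7, 7, 2, 4, 8, 7, 7, 2, 8, 5, 2, 4, 8, 7, 7, 2, 2, 4, 8, 7, 7, 2, 5, 5, 2, 4, 8, 7, 7, 2, 4, 4]) = true := by decide +kernel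

theorem rot5_122 : T.rot 5 [7, 2, 8, 8, 2, 4, 4, 5, 7, 2, 2, 4, 4, 5, 7, 2, 8, 5, 2, 4, 4, 5, 7, 2, 4, 4, 5, 7, 8, 8, 4, 8, 7, 7, 2, 4, 4] (sel (ones 4060) ip5 122) = true := by decide +kernel

theorem rot5_122r : band (Rule.ok (2 * 2) EX RL ⟨5 :: [7, 2, 8, 8, 2, 4, 4, 5, 7, 2, 2, 4, 4, 5, 7, 2, 8, 5, 2, 4, 4, 5, 7, 2, 4, 4, 5, 7, 8, 8, 4, 8, 7, 7, 2, 4, 4], [7, 8, 6, 6, 2, 7, 7], 10, false⟩) (lall (memL L) [7, 2, 8, 8, 2, 4, 4, 5, 7, 2, 2, 4, 4, 5, 7, 2, 8, 5, 2, 4, 4, 5, 7, 2, 4, 4, 5, 7, 8, 8, 4, 8, 7, 7, 2, 4, 4]) = true := by decide +kernel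

theorem rot5_123 : T.rot 5 [7, 2, 2, 4, 4, 5, 7, 2, 8, 5, 2, 4, 4, 5, 7, 2, 4, 4, 5, 7, 8, 8, 4, 8, 7, 7, 2, 4, 4, 5, 7, 2, 8, 8, 2, 4, 4] (sel (ones 4060) ip5 123) = true := by decide +kernel

theorem rot5_123r : band (Rule.ok (2 * 2) EX RL ⟨5 :: [7, 2, 2, 4, 4, 5, 7, 2, 8, 5, 2, 4, 4, 5, 7, 2, 4, 4, 5, 7, 8, 8, 4, 8, 7, 7, 2, 4, 4, 5, 7, 2, 8, 8, 2, 4, 4], [9, 9, 7, 8, 6, 6, 2, 7, 8, 6, 8, 6, 8], 10, false⟩) (lall (memL L) [7, 2, 2, 4, 4, 5, 7, 2, 8, 5, 2, 4, 4, 5, 7, 2, 4, 4, 5, 7, 8, 8, 4, 8, 7, 7, 2, 4, 4, 5, 7, 2, 8, 8, 2, 4, 4]) = true := by decide +kernel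

theorem rot5_124 : T.rot 5 [7, 2, 8, 5, 2, 4, 4, 5, 7, 2, 4, 4, 5, 7, 8, 8, 4, 8, 7, 7, 2, 4, 4, 5, 7, 2, 8, 8, 2, 4, 4, 5, 7, 2, 2, 4, 4] (sel (ones 4060) ip5 124) = true := by decide +kernel

theorem rot5_124r : band (Rule.ok (2 * 2) EX RL ⟨5 :: [7, 2, 8, 5, 2, 4, 4, 5, 7, 2, 4, 4, 5, 7, 8, 8, 4, 8, 7, 7, 2, 4, 4, 5, 7, 2, 8, 8, 2, 4, 4, 5, 7, 2, 2, 4, 4], [9, 9, 7, 8, 6, 6, 2, 7, 8, 6, 8], 10, false⟩) (lall (memL L) [7, 2, 8, 5, 2, 4, 4, 5, 7, 2, 4, 4, 5, 7, 8, 8, 4, 8, 7, 7, 2, 4, 4, 5, 7, 2, 8, 8, 2, 4, 4, 5, 7, 2, 2, 4, 4]) = true := by decide +kernel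

theorem rot5_125 : T.rot 5 [7, 2, 4, 4, 5, 7, 8, 8, 4, 8, 7, 7, 2, 4, 4, 5, 7, 2, 8, 8, 2, 4, 4, 5, 7, 2, 2, 4, 4, 5, 7, 2, 8, 5, 2, 4, 4] (sel (ones 4060) ip5 125) = true := by decide +kernel

theorem rot5_125r : band (Rule.ok (2 * 2) EX RL ⟨5 :: [7, 2, 4, 4, 5, 7, 8, 8, 4, 8, 7, 7, 2, 4, 4, 5, 7, 2, 8, 8, 2, 4, 4, 5, 7, 2, 2, 4, 4, 5, 7, 2, 8, 5, 2, 4, 4], [9, 9, 7, 8, 6, 6, 2, 7, 8], 10, false⟩) (lall (memL L) [7, 2, 4, 4, 5, 7, 8, 8, 4, 8, 7, 7, 2, 4, 4, 5, 7, 2, 8, 8, 2, 4, 4, 5, 7, 2, 2, 4, 4, 5, 7, 2, 8, 5, 2, 4, 4]) = true := by decide +kernel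

theorem rot5_126 : T.rot 5 [7, 8, 8, 4, 8, 7, 7, 2, 4, 4, 5, 7, 2, 8, 8, 2, 4, 4, 5, 7, 2, 2, 4, 4, 5, 7, 2, 8, 5, 2, 4, 4, 5, 7, 2, 4, 4] (sel (ones 4060) ip5 126) = true := by decide +kernel

theorem rot5_126r : band (Rule.ok (2 * 2) EX RL ⟨5 :: [7, 8, 8, 4, 8, 7, 7, 2, 4, 4, 5, 7, 2, 8, 8, 2, 4, 4, 5, 7, 2, 2, 4, 4, 5, 7, 2, 8, 5, 2, 4, 4, 5, 7, 2, 4, 4], [9, 9, 7, 8], 10, false⟩) (lall (memL L) [7, 8, 8, 4, 8, 7, 7, 2, 4, 4, 5, 7, 2, 8, 8, 2, 4, 4, 5, 7, 2, 2, 4, 4, 5, 7, 2, 8, 5, 2, 4, 4, 5, 7, 2, 4, 4]) = true := by decide +kernel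

theorem rot5_127 : T.rot 5 [7, 2, 8, 2, 4, 4, 5, 7, 2, 2, 4, 4, 5, 7, 2, 8, 2, 4, 8, 7, 7, 2, 5, 2, 4, 8, 7, 7, 2, 5, 5, 2, 4, 8, 7, 7, 2, 8, 2, 4, 4] (sel (ones 4060) ip5 127) = true := by decide +kernel

theorem rot5_127r : band (Rule.ok (2 * 2) EX RL ⟨5 :: [7, 2, 8, 2, 4, 4, 5, 7, 2, 2, 4, 4, 5, 7, 2, 8, 2, 4, 8, 7, 7, 2, 5, 2, 4, 8, 7, 7, 2, 5, 5, 2, 4, 8, 7, 7, 2, 8, 2, 4, 4], [8, 2, 7, 7], 2, true⟩) (lall (memL L) [7, 2, 8, 2, 4, 4, 5, 7, 2, 2, 4, 4, 5, 7, 2, 8, 2, 4, 8, 7, 7, 2, 5, 2, 4, 8, 7, 7, 2, 5, 5, 2, 4, 8, 7, 7, 2, 8, 2, 4, 4]) = true := by decide +kernel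

theorem rot5_128 : T.rot 5 [7, 2, 2, 4, 4, 5, 7, 2, 8, 2, 4, 8, 7, 7, 2, 5, 2, 4, 8, 7, 7, 2, 5, 5, 2, 4, 8, 7, 7, 2, 8, 2, 4, 4, 5, 7, 2, 8, 2, 4, 4] (sel (ones 4060) ip5 128) = true := by decide +kernel

theorem rot5_128r : band (Rule.ok (2 * 2) EX RL ⟨5 :: [7, 2, 2, 4, 4, 5, 7, 2, 8, 2, 4, 8, 7, 7, 2, 5, 2, 4, 8, 7, 7, 2, 5, 5, 2, 4, 8, 7, 7, 2, 8, 2, 4, 4, 5, 7, 2, 8, 2, 4, 4], [8, 2, 7, 7, 9, 6, 2, 8, 2, 7, 7], 2, true⟩) (lall (memL L) [7, 2, 2, 4, 4, 5, 7, 2, 8, 2, 4, 8, 7, 7, 2, 5, 2, 4, 8, 7, 7, 2, 5, 5, 2, 4, 8, 7, 7, 2, 8, 2, 4, 4, 5, 7, 2, 8, 2, 4, 4]) = true := by decide +kernel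

theorem rot5_129 : T.rot 5 [7, 2, 8, 2, 4, 8, 7, 7, 2, 5, 2, 4, 8, 7, 7, 2, 5, 5, 2, 4, 8, 7, 7, 2, 8, 2, 4, 4, 5, 7, 2, 8, 2, 4, 4, 5, 7, 2, 2, 4, 4] (sel (ones 4060) ip5 129) = true := by decide +kernel

theorem rot5_129r : band (Rule.ok (2 * 2) EX RL ⟨5 :: [7, 2, 8, 2, 4, 8, 7, 7, 2, 5, 2, 4, 8, 7, 7, 2, 5, 5, 2, 4, 8, 7, 7, 2, 8, 2, 4, 4, 5, 7, 2, 8, 2, 4, 4, 5, 7, 2, 2, 4, 4], [8, 2, 7, 7, 9, 6, 2, 8, 2, 7, 7, 9, 7], 2, true⟩) (lall (memL L) [7, 2, 8, 2, 4, 8, 7, 7, 2, 5, 2, 4, 8, 7, 7, 2, 5, 5, 2, 4, 8, 7, 7, 2, 8, 2, 4, 4, 5, 7, 2, 8, 2, 4, 4, 5, 7, 2, 2, 4, 4]) = true := by decide +kernel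

theorem rot5_130 : T.rot 5 [2, 4, 8, 7, 7, 2, 5, 5, 2, 4, 8, 7, 7, 2, 8, 2, 4, 4, 5, 7, 2, 8, 2, 4, 4, 5, 7, 2, 2, 4, 4, 5, 7, 2, 8, 2, 4, 8, 7, 7, 2] (sel (ones 4060) ip5 130) = true := by decide +kernel

theorem rot5_130r : band (Rule.ok (2 * 2) EX RL ⟨5 :: [2, 4, 8, 7, 7, 2, 5, 5, 2, 4, 8, 7, 7, 2, 8, 2, 4, 4, 5, 7, 2, 8, 2, 4, 4, 5, 7, 2, 2, 4, 4, 5, 7, 2, 8, 2, 4, 8, 7, 7, 2], [2, 7, 7, 9, 6, 2, 8, 8, 2, 7, 7, 9, 6, 2, 8], 2, true⟩) (lall (memL L) [2, 4, 8, 7, 7, 2, 5, 5, 2, 4, 8, 7, 7, 2, 8, 2, 4, 4, 5, 7, 2, 8, 2, 4, 4, 5, 7, 2, 2, 4, 4, 5, 7, 2, 8, 2, 4, 8, 7, 7, 2]) = true := by decide +kernel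

theorem rot5_131 : T.rot 5 [5, 2, 4, 8, 7, 7, 2, 8, 2, 4, 4, 5, 7, 2, 8, 2, 4, 4, 5, 7, 2, 2, 4, 4, 5, 7, 2, 8, 2, 4, 8, 7, 7, 2, 5, 2, 4, 8, 7, 7, 2] (sel (ones 4060) ip5 131) = true := by decide +kernel

theorem rot5_131r : band (Rule.ok (2 * 2) EX RL ⟨5 :: [5, 2, 4, 8, 7, 7, 2, 8, 2, 4, 4, 5, 7, 2, 8, 2, 4, 4, 5, 7, 2, 2, 4, 4, 5, 7, 2, 8, 2, 4, 8, 7, 7, 2, 5, 2, 4, 8, 7, 7, 2], [2, 7, 7, 9, 6, 2, 8, 8], 2, true⟩) (lall (memL L) [5, 2, 4, 8, 7, 7, 2, 8, 2, 4, 4, 5, 7, 2, 8, 2, 4, 4, 5, 7, 2, 2, 4, 4, 5, 7, 2, 8, 2, 4, 8, 7, 7, 2, 5, 2, 4, 8, 7, 7, 2]) = true := by decide +kernel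

theorem rot5_132 : T.rot 5 [2, 4, 8, 7, 7, 2, 8, 2, 4, 4, 5, 7, 2, 8, 2, 4, 4, 5, 7, 2, 2, 4, 4, 5, 7, 2, 8, 2, 4, 8, 7, 7, 2, 5, 2, 4, 8, 7, 7, 2, 5] (sel (ones 4060) ip5 132) = true := by decide +kernel

theorem rot5_132r : band (Rule.ok (2 * 2) EX RL ⟨5 :: [2, 4, 8, 7, 7, 2, 8, 2, 4, 4, 5, 7, 2, 8, 2, 4, 4, 5, 7, 2, 2, 4, 4, 5, 7, 2, 8, 2, 4, 8, 7, 7, 2, 5, 2, 4, 8, 7, 7, 2, 5], [2, 7, 7, 9, 6, 2, 8], 2, true⟩) (lall (memL L) [2, 4, 8, 7, 7, 2, 8, 2, 4, 4, 5, 7, 2, 8, 2, 4, 4, 5, 7, 2, 2, 4, 4, 5, 7, 2, 8, 2, 4, 8, 7, 7, 2, 5, 2, 4, 8, 7, 7, 2, 5]) = true := by decide +kernel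

theorem rot5_133 : T.rot 5 [7, 2, 8, 8, 2, 4, 4, 5, 7, 2, 8, 2, 4, 4, 5, 7, 2, 5, 2, 4, 8, 7, 7, 2, 2, 4, 8, 7, 7, 2, 5, 2, 4, 8, 7, 7, 2, 5, 2, 4, 4] (sel (ones 4060) ip5 133) = true := by decide +kernel

theorem rot5_133r : band (Rule.ok (2 * 2) EX RL ⟨5 :: [7, 2, 8, 8, 2, 4, 4, 5, 7, 2, 8, 2, 4, 4, 5, 7, 2, 5, 2, 4, 8, 7, 7, 2, 2, 4, 8, 7, 7, 2, 5, 2, 4, 8, 7, 7, 2, 5, 2, 4, 4], [2, 7, 7], 2, false⟩) (lall (memL L) [7, 2, 8, 8, 2, 4, 4, 5, 7, 2, 8, 2, 4, 4, 5, 7, 2, 5, 2, 4, 8, 7, 7, 2, 2, 4, 8, 7, 7, 2, 5, 2, 4, 8, 7, 7, 2, 5, 2, 4, 4]) = true := by decide +kernel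

theorem rot5_134 : T.rot 5 [7, 2, 5, 2, 4, 8, 7, 7, 2, 2, 4, 8, 7, 7, 2, 5, 2, 4, 8, 7, 7, 2, 5, 2, 4, 4, 5, 7, 2, 8, 8, 2, 4, 4, 5, 7, 2, 8, 2, 4, 4] (sel (ones 4060) ip5 134) = true := by decide +kernel

theorem rot5_134r : band (Rule.ok (2 * 2) EX RL ⟨5 :: [7, 2, 5, 2, 4, 8, 7, 7, 2, 2, 4, 8, 7, 7, 2, 5, 2, 4, 8, 7, 7, 2, 5, 2, 4, 4, 5, 7, 2, 8, 8, 2, 4, 4, 5, 7, 2, 8, 2, 4, 4], [2, 7, 7, 9, 6, 2, 8, 8, 2, 7, 7, 9, 6, 2, 8, 2, 7, 7], 2, false⟩) (lall (memL L) [7, 2, 5, 2, 4, 8, 7, 7, 2, 2, 4, 8, 7, 7, 2, 5, 2, 4, 8, 7, 7, 2, 5, 2, 4, 4, 5, 7, 2, 8, 8, 2, 4, 4, 5, 7, 2, 8, 2, 4, 4]) = true := by decide +kernel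

theorem rot5_135 : T.rot 5 [2, 4, 8, 7, 7, 2, 2, 4, 8, 7, 7, 2, 5, 2, 4, 8, 7, 7, 2, 5, 2, 4, 4, 5, 7, 2, 8, 8, 2, 4, 4, 5, 7, 2, 8, 2, 4, 4, 5, 7, 2] (sel (ones 4060) ip5 135) = true := by decide +kernel

theorem rot5_135r : band (Rule.ok (2 * 2) EX RL ⟨5 :: [2, 4, 8, 7, 7, 2, 2, 4, 8, 7, 7, 2, 5, 2, 4, 8, 7, 7, 2, 5, 2, 4, 4, 5, 7, 2, 8, 8, 2, 4, 4, 5, 7, 2, 8, 2, 4, 4, 5, 7, 2], [8, 2, 7, 7, 9, 6, 2, 8, 2, 7, 7, 9, 7, 9, 6, 2, 8], 2, false⟩) (lall (memL L) [2, 4, 8, 7, 7, 2, 2, 4, 8, 7, 7, 2, 5, 2, 4, 8, 7, 7, 2, 5, 2, 4, 4, 5, 7, 2, 8, 8, 2, 4, 4, 5, 7, 2, 8, 2, 4, 4, 5, 7, 2]) = true := by decide +kernel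

theorem rot5_136 : T.rot 5 [2, 4, 8, 7, 7, 2, 5, 2, 4, 4, 5, 7, 2, 8, 8, 2, 4, 4, 5, 7, 2, 8, 2, 4, 4, 5, 7, 2, 5, 2, 4, 8, 7, 7, 2, 2, 4, 8, 7, 7, 2] (sel (ones 4060) ip5 136) = true := by decide +kernel

theorem rot5_136r : band (Rule.ok (2 * 2) EX RL ⟨5 :: [2, 4, 8, 7, 7, 2, 5, 2, 4, 4, 5, 7, 2, 8, 8, 2, 4, 4, 5, 7, 2, 8, 2, 4, 4, 5, 7, 2, 5, 2, 4, 8, 7, 7, 2, 2, 4, 8, 7, 7, 2], [8, 2, 7, 7, 9, 6, 2, 8], 2, false⟩) (lall (memL L) [2, 4, 8, 7, 7, 2, 5, 2, 4, 4, 5, 7, 2, 8, 8, 2, 4, 4, 5, 7, 2, 8, 2, 4, 4, 5, 7, 2, 5, 2, 4, 8, 7, 7, 2, 2, 4, 8, 7, 7, 2]) = true := by decide +kernel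

theorem rot5_137 : T.rot 5 [2, 4, 4, 5, 7, 2, 8, 8, 2, 4, 4, 5, 7, 2, 8, 2, 4, 4, 5, 7, 2, 5, 2, 4, 8, 7, 7, 2, 2, 4, 8, 7, 7, 2, 5, 2, 4, 8, 7, 7, 2] (sel (ones 4060) ip5 137) = true := by decide +kernel

theorem rot5_137r : band (Rule.ok (2 * 2) EX RL ⟨5 :: [2, 4, 4, 5, 7, 2, 8, 8, 2, 4, 4, 5, 7, 2, 8, 2, 4, 4, 5, 7, 2, 5, 2, 4, 8, 7, 7, 2, 2, 4, 8, 7, 7, 2, 5, 2, 4, 8, 7, 7, 2], [8], 2, false⟩) (lall (memL L) [2, 4, 4, 5, 7, 2, 8, 8, 2, 4, 4, 5, 7, 2, 8, 2, 4, 4, 5, 7, 2, 5, 2, 4, 8, 7, 7, 2, 2, 4, 8, 7, 7, 2, 5, 2, 4, 8, 7, 7, 2]) = true := by decide +kernel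

theorem rot5_138 : T.rot 5 [7, 2, 8, 4, 8, 7, 7, 2, 4, 4, 5, 7, 2, 8, 2, 4, 4, 5, 7, 2, 8, 4, 8, 7, 7, 2, 4, 4, 5, 7, 2, 8, 4, 8, 7, 7, 4, 8, 7, 7, 2, 4, 4] (sel (ones 4060) ip5 138) = true := by decide +kernel

theorem rot5_138r : band (Rule.ok (2 * 2) EX RL ⟨5 :: [7, 2, 8, 4, 8, 7, 7, 2, 4, 4, 5, 7, 2, 8, 2, 4, 4, 5, 7, 2, 8, 4, 8, 7, 7, 2, 4, 4, 5, 7, 2, 8, 4, 8, 7, 7, 4, 8, 7, 7, 2, 4, 4], [7, 8, 6, 8, 6, 6, 2, 7, 7], 6, true⟩) (lall (memL L) [7, 2, 8, 4, 8, 7, 7, 2, 4, 4, 5, 7, 2, 8, 2, 4, 4, 5, 7, 2, 8, 4, 8, 7, 7, 2, 4, 4, 5, 7, 2, 8, 4, 8, 7, 7, 4, 8, 7, 7, 2, 4, 4]) = true := by decide +kernel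

theorem rot5_139 : T.rot 5 [7, 2, 8, 2, 4, 4, 5, 7, 2, 8, 4, 8, 7, 7, 2, 4, 4, 5, 7, 2, 8, 4, 8, 7, 7, 4, 8, 7, 7, 2, 4, 4, 5, 7, 2, 8, 4, 8, 7, 7, 2, 4, 4] (sel (ones 4060) ip5 139) = true := by decide +kernel

theorem rot5_139r : band (Rule.ok (2 * 2) EX RL ⟨5 :: [7, 2, 8, 2, 4, 4, 5, 7, 2, 8, 4, 8, 7, 7, 2, 4, 4, 5, 7, 2, 8, 4, 8, 7, 7, 4, 8, 7, 7, 2, 4, 4, 5, 7, 2, 8, 4, 8, 7, 7, 2, 4, 4], [7, 8, 6, 8, 6, 6, 2, 7, 7, 9, 6, 2, 8, 7, 8, 6, 6, 2, 7, 7], 6, true⟩) (lall (memL L) [7, 2, 8, 2, 4, 4, 5, 7, 2, 8, 4, 8, 7, 7, 2, 4, 4, 5, 7, 2, 8, 4, 8, 7, 7, 4, 8, 7, 7, 2, 4, 4, 5, 7, 2, 8, 4, 8, 7, 7, 2, 4, 4]) = true := by decide +kernel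

theorem rot5_140 : T.rot 5 [7, 2, 8, 4, 8, 7, 7, 2, 4, 4, 5, 7, 2, 8, 4, 8, 7, 7, 4, 8, 7, 7, 2, 4, 4, 5, 7, 2, 8, 4, 8, 7, 7, 2, 4, 4, 5, 7, 2, 8, 2, 4, 4] (sel (ones 4060) ip5 140) = true := by decide +kernel

theorem rot5_140r : band (Rule.ok (2 * 2) EX RL ⟨5 :: [7, 2, 8, 4, 8, 7, 7, 2, 4, 4, 5, 7, 2, 8, 4, 8, 7, 7, 4, 8, 7, 7, 2, 4, 4, 5, 7, 2, 8, 4, 8, 7, 7, 2, 4, 4, 5, 7, 2, 8, 2, 4, 4], [9, 2, 7, 8, 6, 6, 2, 7, 7, 9, 6, 9, 2, 7, 8], 6, true⟩) (lall (memL L) [7, 2, 8, 4, 8, 7, 7, 2, 4, 4, 5, 7, 2, 8, 4, 8, 7, 7, 4, 8, 7, 7, 2, 4, 4, 5, 7, 2, 8, 4, 8, 7, 7, 2, 4, 4, 5, 7, 2, 8, 2, 4, 4]) = true := by decide +kernel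

theorem rot5_141 : T.rot 5 [7, 2, 8, 4, 8, 7, 7, 4, 8, 7, 7, 2, 4, 4, 5, 7, 2, 8, 4, 8, 7, 7, 2, 4, 4, 5, 7, 2, 8, 2, 4, 4, 5, 7, 2, 8, 4, 8, 7, 7, 2, 4, 4] (sel (ones 4060) ip5 141) = true := by decide +kernel

theorem rot5_141r : band (Rule.ok (2 * 2) EX RL ⟨5 :: [7, 2, 8, 4, 8, 7, 7, 4, 8, 7, 7, 2, 4, 4, 5, 7, 2, 8, 4, 8, 7, 7, 2, 4, 4, 5, 7, 2, 8, 2, 4, 4, 5, 7, 2, 8, 4, 8, 7, 7, 2, 4, 4], [9, 2, 7, 8], 6, true⟩) (lall (memL L) [7, 2, 8, 4, 8, 7, 7, 4, 8, 7, 7, 2, 4, 4, 5, 7, 2, 8, 4, 8, 7, 7, 2, 4, 4, 5, 7, 2, 8, 2, 4, 4, 5, 7, 2, 8, 4, 8, 7, 7, 2, 4, 4]) = true := by decide +kernel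

theorem rot5_142 : T.rot 5 [2, 4, 8, 7, 7, 2, 4, 4, 5, 7, 5, 2, 4, 8, 7, 7, 2, 5, 2, 4, 8, 7, 7, 2, 4, 4, 5, 7, 5, 2, 4, 8, 7, 7, 2, 4, 4, 5, 7, 4, 4, 5, 7] (sel (ones 4060) ip5 142) = true := by decide +kernel

theorem rot5_142r : band (Rule.ok (2 * 2) EX RL ⟨5 :: [2, 4, 8, 7, 7, 2, 4, 4, 5, 7, 5, 2, 4, 8, 7, 7, 2, 5, 2, 4, 8, 7, 7, 2, 4, 4, 5, 7, 5, 2, 4, 8, 7, 7, 2, 4, 4, 5, 7, 4, 4, 5, 7], [], 6, false⟩) (lall (memL L) [2, 4, 8, 7, 7, 2, 4, 4, 5, 7, 5, 2, 4, 8, 7, 7, 2, 5, 2, 4, 8, 7, 7, 2, 4, 4, 5, 7, 5, 2, 4, 8, 7, 7, 2, 4, 4, 5, 7, 4, 4, 5, 7]) = true := by decide +kernel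

theorem rot5_143 : T.rot 5 [7, 5, 2, 4, 8, 7, 7, 2, 5, 2, 4, 8, 7, 7, 2, 4, 4, 5, 7, 5, 2, 4, 8, 7, 7, 2, 4, 4, 5, 7, 4, 4, 5, 7, 5, 2, 4, 8, 7, 7, 2, 4, 4] (sel (ones 4060) ip5 143) = true := by decide +kernel

theorem rot5_143r : band (Rule.ok (2 * 2) EX RL ⟨5 :: [7, 5, 2, 4, 8, 7, 7, 2, 5, 2, 4, 8, 7, 7, 2, 4, 4, 5, 7, 5, 2, 4, 8, 7, 7, 2, 4, 4, 5, 7, 4, 4, 5, 7, 5, 2, 4, 8, 7, 7, 2, 4, 4], [9, 2, 7, 8, 6, 6, 2, 7, 7], 6, false⟩) (lall (memL L) [7, 5, 2, 4, 8, 7, 7, 2, 5, 2, 4, 8, 7, 7, 2, 4, 4, 5, 7, 5, 2, 4, 8, 7, 7, 2, 4, 4, 5, 7, 4, 4, 5, 7, 5, 2, 4, 8, 7, 7, 2, 4, 4]) = true := by decide +kernel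

theorem rot5_144 : T.rot 5 [2, 4, 8, 7, 7, 2, 5, 2, 4, 8, 7, 7, 2, 4, 4, 5, 7, 5, 2, 4, 8, 7, 7, 2, 4, 4, 5, 7, 4, 4, 5, 7, 5, 2, 4, 8, 7, 7, 2, 4, 4, 5, 7] (sel (ones 4060) ip5 144) = true := by decide +kernel

theorem rot5_144r : band (Rule.ok (2 * 2) EX RL ⟨5 :: [2, 4, 8, 7, 7, 2, 5, 2, 4, 8, 7, 7, 2, 4, 4, 5, 7, 5, 2, 4, 8, 7, 7, 2, 4, 4, 5, 7, 4, 4, 5, 7, 5, 2, 4, 8, 7, 7, 2, 4, 4, 5, 7], [9, 2, 7, 8, 6, 6, 2, 7, 7, 9, 6], 6, false⟩) (lall (memL L) [2, 4, 8, 7, 7, 2, 5, 2, 4, 8, 7, 7, 2, 4, 4, 5, 7, 5, 2, 4, 8, 7, 7, 2, 4, 4, 5, 7, 4, 4, 5, 7, 5, 2, 4, 8, 7, 7, 2, 4, 4, 5, 7]) = true := by decide +kernel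

theorem rot5_145 : T.rot 5 [2, 4, 8, 7, 7, 2, 4, 4, 5, 7, 5, 2, 4, 8, 7, 7, 2, 4, 4, 5, 7, 4, 4, 5, 7, 5, 2, 4, 8, 7, 7, 2, 4, 4, 5, 7, 5, 2, 4, 8, 7, 7, 2] (sel (ones 4060) ip5 145) = true := by decide +kernel

theorem rot5_145r : band (Rule.ok (2 * 2) EX RL ⟨5 :: [2, 4, 8, 7, 7, 2, 4, 4, 5, 7, 5, 2, 4, 8, 7, 7, 2, 4, 4, 5, 7, 4, 4, 5, 7, 5, 2, 4, 8, 7, 7, 2, 4, 4, 5, 7, 5, 2, 4, 8, 7, 7, 2], [9, 2, 7, 8, 6, 6, 2, 7, 7, 9, 6, 9, 2, 7, 8, 6, 6, 2], 6, false⟩) (lall (memL L) [2, 4, 8, 7, 7, 2, 4, 4, 5, 7, 5, 2, 4, 8, 7, 7, 2, 4, 4, 5, 7, 4, 4, 5, 7, 5, 2, 4, 8, 7, 7, 2, 4, 4, 5, 7, 5, 2, 4, 8, 7, 7, 2]) = true := by decide +kernel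

theorem rot5_146 : T.rot 5 [7, 5, 2, 4, 8, 7, 7, 2, 4, 4, 5, 7, 4, 4, 5, 7, 5, 2, 4, 8, 7, 7, 2, 4, 4, 5, 7, 5, 2, 4, 8, 7, 7, 2, 5, 2, 4, 8, 7, 7, 2, 4, 4] (sel (ones 4060) ip5 146) = true := by decide +kernel

theorem rot5_146r : band (Rule.ok (2 * 2) EX RL ⟨5 :: [7, 5, 2, 4, 8, 7, 7, 2, 4, 4, 5, 7, 4, 4, 5, 7, 5, 2, 4, 8, 7, 7, 2, 4, 4, 5, 7, 5, 2, 4, 8, 7, 7, 2, 5, 2, 4, 8, 7, 7, 2, 4, 4], [7, 8, 6, 8, 6, 6, 2, 7, 7, 9, 6, 2, 8, 7, 8], 6, false⟩) (lall (memL L) [7, 5, 2, 4, 8, 7, 7, 2, 4, 4, 5, 7, 4, 4, 5, 7, 5, 2, 4, 8, 7, 7, 2, 4, 4, 5, 7, 5, 2, 4, 8, 7, 7, 2, 5, 2, 4, 8, 7, 7, 2, 4, 4]) = true := by decide +kernel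

theorem rot5_147 : T.rot 5 [2, 4, 8, 7, 7, 2, 4, 4, 5, 7, 4, 4, 5, 7, 5, 2, 4, 8, 7, 7, 2, 4, 4, 5, 7, 5, 2, 4, 8, 7, 7, 2, 5, 2, 4, 8, 7, 7, 2, 4, 4, 5, 7] (sel (ones 4060) ip5 147) = true := by decide +kernel

theorem rot5_147r : band (Rule.ok (2 * 2) EX RL ⟨5 :: [2, 4, 8, 7, 7, 2, 4, 4, 5, 7, 4, 4, 5, 7, 5, 2, 4, 8, 7, 7, 2, 4, 4, 5, 7, 5, 2, 4, 8, 7, 7, 2, 5, 2, 4, 8, 7, 7, 2, 4, 4, 5, 7], [7, 8, 6, 8, 6, 6, 2, 7, 7, 9, 6, 2, 8], 6, false⟩) (lall (memL L) [2, 4, 8, 7, 7, 2, 4, 4, 5, 7, 4, 4, 5, 7, 5, 2, 4, 8, 7, 7, 2, 4, 4, 5, 7, 5, 2, 4, 8, 7, 7, 2, 5, 2, 4, 8, 7, 7, 2, 4, 4, 5, 7]) = true := by decide +kernel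

theorem rot5_148 : T.rot 5 [7, 4, 4, 5, 7, 5, 2, 4, 8, 7, 7, 2, 4, 4, 5, 7, 5, 2, 4, 8, 7, 7, 2, 5, 2, 4, 8, 7, 7, 2, 4, 4, 5, 7, 5, 2, 4, 8, 7, 7, 2, 4, 4] (sel (ones 4060) ip5 148) = true := by decide +kernel

theorem rot5_148r : band (Rule.ok (2 * 2) EX RL ⟨5 :: [7, 4, 4, 5, 7, 5, 2, 4, 8, 7, 7, 2, 4, 4, 5, 7, 5, 2, 4, 8, 7, 7, 2, 5, 2, 4, 8, 7, 7, 2, 4, 4, 5, 7, 5, 2, 4, 8, 7, 7, 2, 4, 4], [7, 8, 6, 8], 6, false⟩) (lall (memL L) [7, 4, 4, 5, 7, 5, 2, 4, 8, 7, 7, 2, 4, 4, 5, 7, 5, 2, 4, 8, 7, 7, 2, 5, 2, 4, 8, 7, 7, 2, 4, 4, 5, 7, 5, 2, 4, 8, 7, 7, 2, 4, 4]) = true := by decide +kernel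

theorem rot5_149 : T.rot 5 [7, 2, 8, 4, 8, 7, 7, 2, 4, 4, 5, 7, 2, 8, 4, 8, 7, 7, 2, 4, 4, 5, 7, 2, 8, 4, 8, 7, 7, 2, 4, 4, 5, 7, 2, 8, 4, 8, 7, 7, 2, 4, 4] (sel (ones 4060) ip5 149) = true := by decide +kernel

theorem rot5_149r : band (Rule.ok (2 * 2) EX RL ⟨5 :: [7, 2, 8, 4, 8, 7, 7, 2, 4, 4, 5, 7, 2, 8, 4, 8, 7, 7, 2, 4, 4, 5, 7, 2, 8, 4, 8, 7, 7, 2, 4, 4, 5, 7, 2, 8, 4, 8, 7, 7, 2, 4, 4], [9, 2, 7, 8], 7, true⟩) (lall (memL L) [7, 2, 8, 4, 8, 7, 7, 2, 4, 4, 5, 7, 2, 8, 4, 8, 7, 7, 2, 4, 4, 5, 7, 2, 8, 4, 8, 7, 7, 2, 4, 4, 5, 7, 2, 8, 4, 8, 7, 7, 2, 4, 4]) = true := by decide +kernel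

theorem rot5_150 : T.rot 5 [2, 4, 8, 7, 7, 2, 4, 4, 5, 7, 5, 2, 4, 8, 7, 7, 2, 4, 4, 5, 7, 5, 2, 4, 8, 7, 7, 2, 4, 4, 5, 7, 5, 2, 4, 8, 7, 7, 2, 4, 4, 5, 7] (sel (ones 4060) ip5 150) = true := by decide +kernel

theorem rot5_150r : band (Rule.ok (2 * 2) EX RL ⟨5 :: [2, 4, 8, 7, 7, 2, 4, 4, 5, 7, 5, 2, 4, 8, 7, 7, 2, 4, 4, 5, 7, 5, 2, 4, 8, 7, 7, 2, 4, 4, 5, 7, 5, 2, 4, 8, 7, 7, 2, 4, 4, 5, 7], [], 7, false⟩) (lall (memL L) [2, 4, 8, 7, 7, 2, 4, 4, 5, 7, 5, 2, 4, 8, 7, 7, 2, 4, 4, 5, 7, 5, 2, 4, 8, 7, 7, 2, 4, 4, 5, 7, 5, 2, 4, 8, 7, 7, 2, 4, 4, 5, 7]) = true := by decide +kernel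

theorem rot5_151 : T.rot 5 [7, 5, 2, 4, 8, 7, 7, 2, 4, 4, 5, 7, 5, 2, 4, 8, 7, 7, 2, 4, 4, 5, 7, 5, 2, 4, 8, 7, 7, 2, 4, 4, 5, 7, 5, 2, 4, 8, 7, 7, 2, 4, 4] (sel (ones 4060) ip5 151) = true := by decide +kernel

theorem rot5_151r : band (Rule.ok (2 * 2) EX RL ⟨5 :: [7, 5, 2, 4, 8, 7, 7, 2, 4, 4, 5, 7, 5, 2, 4, 8, 7, 7, 2, 4, 4, 5, 7, 5, 2, 4, 8, 7, 7, 2, 4, 4, 5, 7, 5, 2, 4, 8, 7, 7, 2, 4, 4], [7, 8], 7, false⟩) (lall (memL L) [7, 5, 2, 4, 8, 7, 7, 2, 4, 4, 5, 7, 5, 2, 4, 8, 7, 7, 2, 4, 4, 5, 7, 5, 2, 4, 8, 7, 7, 2, 4, 4, 5, 7, 5, 2, 4, 8, 7, 7, 2, 4, 4]) = true := by decide +kernel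

theorem cov5 : T.cover 5 [(sel (ones 4060) ip5 1), (sel (ones 4060) ip5 2), (sel (ones 4060) ip5 3), (sel (ones 4060) ip5 4), (sel (ones 4060) ip5 5), (sel (ones 4060) ip5 6), (sel (ones 4060) ip5 7), (sel (ones 4060) ip5 8), (sel (ones 4060) ip5 9), (sel (ones 4060) ip5 10), (sel (ones 4060) ip5 11), (sel (ones 4060) ip5 12), (sel (ones 4060) ip5 13), (sel (ones 4060) ip5 14), (sel (ones 4060) ip5 15), (sel (ones 4060) ip5 16), (sel (ones 4060) ip5 17), (sel (ones 4060) ip5 18), (sel (ones 4060) ip5 19), (sel (ones 4060) ip5 20), (sel (ones 4060) ip5 21), (sel (ones 4060) ip5 22), (sel (ones 4060) ip5 23), (sel (ones 4060) ip5 24), (sel (ones 4060) ip5 25), (sel (ones 4060) ip5 26), (sel (ones 4060) ip5 27), (sel (ones 4060) ip5 28), (sel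 (ones 4060) ip5 29), (sel (ones 4060) ip5 30), (sel (ones 4060) ip5 31), (sel (ones 4060) ip5 32), (sel (ones 4060) ip5 33), (sel (ones 4060) ip5 34), (sel (ones 4060) ip5 35), (sel (ones 4060) ip5 36), (sel (ones 4060) ip5 37), (sel (ones 4060) ip5 38), (sel (ones 4060) ip5 39), (sel (ones 4060) ip5 40), (sel (ones 4060) ip5 41), (sel (ones 4060) ip5 42), (sel (ones 4060) ip5 43), (sel (ones 4060) ip5 44), (sel (ones 4060) ip5 45), (sel (ones 4060) ip5 46), (sel (ones 4060) ip5 47), (sel (ones 4060) ip5 48), (sel (ones 4060) ip5 49), (sel (ones 4060) ip5 50), (sel (ones 4060) ip5 51), (sel (ones 4060) ip5 52), (sel (ones 4060) ip5 53), (sel (ones 4060) ip5 54), (sel (ones 4060) ip5 55), (sel (ones 4060) ip5 56), (sel (ones 4060) ip5 57),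 (sel (ones 4060) ip5 58), (sel (ones 4060) ip5 59), (sel (ones 4060) ip5 60), (sel (ones 4060) ip5 61), (sel (ones 4060) ip5 62), (sel (ones 4060) ip5 63), (sel (ones 4060) ip5 64), (sel (ones 4060) ip5 65), (sel (ones 4060) ip5 66), (sel (ones 4060) ip5 67), (sel (ones 4060) ip5 68), (sel (ones 4060) ip5 69), (sel (ones 4060) ip5 70), (sel (ones 4060) ip5 71), (sel (ones 4060) ip5 72), (sel (ones 4060) ip5 73), (sel (ones 4060) ip5 74), (sel (ones 4060) ip5 75), (sel (ones 4060) ip5 76), (sel (ones 4060) ip5 77), (sel (ones 4060) ip5 78), (sel (ones 4060) ip5 79), (sel (ones 4060) ip5 80), (sel (ones 4060) ip5 81), (sel (ones 4060) ip5 82), (sel (ones 4060) ip5 83), (sel (ones 4060) ip5 84), (sel (ones 4060) ip5 85), (sel (ones 4060) ip5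 86), (sel (ones 4060) ip5 87), (sel (ones 4060) ip5 88), (sel (ones 4060) ip5 89), (sel (ones 4060) ip5 90), (sel (ones 4060) ip5 91), (sel (ones 4060) ip5 92), (sel (ones 4060) ip5 93), (sel (ones 4060) ip5 94), (sel (ones 4060) ip5 95), (sel (ones 4060) ip5 96), (sel (ones 4060) ip5 97), (sel (ones 4060) ip5 98), (sel (ones 4060) ip5 99), (sel (ones 4060) ip5 100), (sel (ones 4060) ip5 101), (sel (ones 4060) ip5 102), (sel (ones 4060) ip5 103), (sel (ones 4060) ip5 104), (sel (ones 4060) ip5 105), (sel (ones 4060) ip5 106), (sel (ones 4060) ip5 107), (sel (ones 4060) ip5 108), (sel (ones 4060) ip5 109), (sel (ones 4060) ip5 110), (sel (ones 4060) ip5 111), (sel (ones 4060) ip5 112), (sel (ones 4060) ip5 113), (sel (ones 4060) ip5 114), (sel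 (ones 4060) ip5 115), (sel (ones 4060) ip5 116), (sel (ones 4060) ip5 117), (sel (ones 4060) ip5 118), (sel (ones 4060) ip5 119), (sel (ones 4060) ip5 120), (sel (ones 4060) ip5 121), (sel (ones 4060) ip5 122), (sel (ones 4060) ip5 123), (sel (ones 4060) ip5 124), (sel (ones 4060) ip5 125), (sel (ones 4060) ip5 126), (sel (ones 4060) ip5 127), (sel (ones 4060) ip5 128), (sel (ones 4060) ip5 129), (sel (ones 4060) ip5 130), (sel (ones 4060) ip5 131), (sel (ones 4060) ip5 132), (sel (ones 4060) ip5 133), (sel (ones 4060) ip5 134), (sel (ones 4060) ip5 135), (sel (ones 4060) ip5 136), (sel (ones 4060) ip5 137), (sel (ones 4060) ip5 138), (sel (ones 4060) ip5 139), (sel (ones 4060) ip5 140), (sel (ones 4060) ip5 141), (sel (ones 4060) ip5 142),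 (sel (ones 4060) ip5 143), (sel (ones 4060) ip5 144), (sel (ones 4060) ip5 145), (sel (ones 4060) ip5 146), (sel (ones 4060) ip5 147), (sel (ones 4060) ip5 148), (sel (ones 4060) ip5 149), (sel (ones 4060) ip5 150), (sel (ones 4060) ip5 151), 1] = true := by decide +kernel

theorem tl5 : T.treeLt 12 5 = true := by decide +kernel

theorem rot6_1 : T.rot 6 [3] (sel (ones 4060) ip6 1) = true := by decide +kernel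

theorem rot6_1r : band (Rule.ok (2 * 2) EX RL ⟨6 :: [3], [], 32, false⟩) (lall (memL L) [3]) = true := by decide +kernel

theorem rot6_2 : T.rot 6 [6, 6, 6] (sel (ones 4060) ip6 2) = true := by decide +kernel

theorem rot6_2r : band (Rule.ok (2 * 2) EX RL ⟨6 :: [6, 6, 6], [], 19, false⟩) (lall (memL L) [6, 6, 6]) = true := by decide +kernel

theorem rot6_3 : T.rot 6 [4, 4, 6, 4, 5, 7, 5] (sel (ones 4060) ip6 3) = true := by decide +kernel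

theorem rot6_3r : band (Rule.ok (2 * 2) EX RL ⟨6 :: [4, 4, 6, 4, 5, 7, 5], [5, 6, 6, 5], 20, true⟩) (lall (memL L) [4, 4, 6, 4, 5, 7, 5]) = true := by decide +kernel

theorem rot6_4 : T.rot 6 [4, 5, 7, 5, 6, 4, 4] (sel (ones 4060) ip6 4) = true := by decide +kernel

theorem rot6_4r : band (Rule.ok (2 * 2) EX RL ⟨6 :: [4, 5, 7, 5, 6, 4, 4], [5], 20, true⟩) (lall (memL L) [4, 5, 7, 5, 6, 4, 4]) = true := by decide +kernel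

theorem rot6_5 : T.rot 6 [6, 7, 5, 5, 7, 2, 3, 2] (sel (ones 4060) ip6 5) = true := by decide +kernel

theorem rot6_5r : band (Rule.ok (2 * 2) EX RL ⟨6 :: [6, 7, 5, 5, 7, 2, 3, 2], [8, 7, 5, 5], 28, true⟩) (lall (memL L) [6, 7, 5, 5, 7, 2, 3, 2]) = true := by decide +kernel

theorem rot6_6 : T.rot 6 [7, 5, 5, 7, 2, 3, 2, 6] (sel (ones 4060) ip6 6) = true := by decide +kernel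

theorem rot6_6r : band (Rule.ok (2 * 2) EX RL ⟨6 :: [7, 5, 5, 7, 2, 3, 2, 6], [8, 7, 5], 28, true⟩) (lall (memL L) [7, 5, 5, 7, 2, 3, 2, 6]) = true := by decide +kernel

theorem rot6_7 : T.rot 6 [2, 4, 8, 8, 4, 3, 3, 2] (sel (ones 4060) ip6 7) = true := by decide +kernel

theorem rot6_7r : band (Rule.ok (2 * 2) EX RL ⟨6 :: [2, 4, 8, 8, 4, 3, 3, 2], [9, 6, 2, 5], 28, false⟩) (lall (memL L) [2, 4, 8, 8, 4, 3, 3, 2]) = true := by decide +kernel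

theorem rot6_8 : T.rot 6 [2, 4, 4, 5, 7, 5, 2, 5, 5] (sel (ones 4060) ip6 8) = true := by decide +kernel

theorem rot6_8r : band (Rule.ok (2 * 2) EX RL ⟨6 :: [2, 4, 4, 5, 7, 5, 2, 5, 5], [5], 21, false⟩) (lall (memL L) [2, 4, 4, 5, 7, 5, 2, 5, 5]) = true := by decide +kernel

theorem rot6_9 : T.rot 6 [2, 8, 4, 5, 2, 3, 2, 4, 4, 2] (sel (ones 4060) ip6 9) = true := by decide +kernel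

theorem rot6_9r : band (Rule.ok (2 * 2) EX RL ⟨6 :: [2, 8, 4, 5, 2, 3, 2, 4, 4, 2], [5], 30, true⟩) (lall (memL L) [2, 8, 4, 5, 2, 3, 2, 4, 4, 2]) = true := by decide +kernel

theorem rot6_10 : T.rot 6 [2, 8, 7, 5, 2, 3, 2, 7, 7, 2] (sel (ones 4060) ip6 10) = true := by decide +kernel

theorem rot6_10r : band (Rule.ok (2 * 2) EX RL ⟨6 :: [2, 8, 7, 5, 2, 3, 2, 7, 7, 2], [5, 2, 6, 6, 2], 30, false⟩) (lall (memL L) [2, 8, 7, 5, 2, 3, 2, 7, 7, 2]) = true := by decide +kernel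

theorem rot6_11 : T.rot 6 [4, 2, 1, 2, 8, 2, 5, 5, 1, 2, 7, 7] (sel (ones 4060) ip6 11) = true := by decide +kernel

theorem rot6_11r : band (Rule.ok (2 * 2) EX RL ⟨6 :: [4, 2, 1, 2, 8, 2, 5, 5, 1, 2, 7, 7], [0, 2, 6, 5], 23, false⟩) (lall (memL L) [4, 2, 1, 2, 8, 2, 5, 5, 1, 2, 7, 7]) = true := by decide +kernel

theorem rot6_12 : T.rot 6 [7, 2, 1, 2, 7, 5, 7, 7, 2, 1, 2, 4, 4] (sel (ones 4060) ip6 12) = true := by decide +kernel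

theorem rot6_12r : band (Rule.ok (2 * 2) EX RL ⟨6 :: [7, 2, 1, 2, 7, 5, 7, 7, 2, 1, 2, 4, 4], [0, 2, 7, 5], 22, false⟩) (lall (memL L) [7, 2, 1, 2, 7, 5, 7, 7, 2, 1, 2, 4, 4]) = true := by decide +kernel

theorem rot6_13 : T.rot 6 [4, 2, 4, 2, 3, 2, 7, 2, 8, 7, 7, 3, 5] (sel (ones 4060) ip6 13) = true := by decide +kernel

theorem rot6_13r : band (Rule.ok (2 * 2) EX RL ⟨6 :: [4, 2, 4, 2, 3, 2, 7, 2, 8, 7, 7, 3, 5], [4, 2, 6, 2, 6, 5], 27, true⟩) (lall (memL L) [4, 2, 4, 2, 3, 2, 7, 2, 8, 7, 7, 3, 5]) = true := by decide +kernel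

theorem rot6_14 : T.rot 6 [2, 7, 2, 7, 3, 8, 6, 4, 4, 5, 2, 4, 2] (sel (ones 4060) ip6 14) = true := by decide +kernel

theorem rot6_14r : band (Rule.ok (2 * 2) EX RL ⟨6 :: [2, 7, 2, 7, 3, 8, 6, 4, 4, 5, 2, 4, 2], [], 27, false⟩) (lall (memL L) [2, 7, 2, 7, 3, 8, 6, 4, 4, 5, 2, 4, 2]) = true := by decide +kernel

theorem rot6_15 : T.rot 6 [4, 4, 5, 2, 4, 2, 6, 2, 7, 2, 7, 3, 8] (sel (ones 4060) ip6 15) = true := by decide +kernel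

theorem rot6_15r : band (Rule.ok (2 * 2) EX RL ⟨6 :: [4, 4, 5, 2, 4, 2, 6, 2, 7, 2, 7, 3, 8], [2, 6, 2, 8, 6, 6, 5], 27, false⟩) (lall (memL L) [4, 4, 5, 2, 4, 2, 6, 2, 7, 2, 7, 3, 8]) = true := by decide +kernel

theorem rot6_16 : T.rot 6 [4, 2, 1, 8, 8, 2, 8, 4, 5, 4, 4, 2, 1, 2, 1, 7, 8] (sel (ones 4060) ip6 16) = true := by decide +kernel

theorem rot6_16r : band (Rule.ok (2 * 2) EX RL ⟨6 :: [4, 2, 1, 8, 8, 2, 8, 4, 5, 4, 4, 2, 1, 2, 1, 7, 8], [0, 2, 0, 6, 8], 25, true⟩) (lall (memL L) [4, 2, 1, 8, 8, 2, 8, 4, 5, 4, 4, 2, 1, 2, 1, 7, 8]) = true := by decide +kernel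

theorem rot6_17 : T.rot 6 [2, 1, 2, 4, 2, 4, 2, 1, 2, 8, 7, 2, 8, 7, 5, 7, 5, 2, 1, 2, 1, 4, 2, 7] (sel (ones 4060) ip6 17) = true := by decide +kernel

theorem rot6_17r : band (Rule.ok (2 * 2) EX RL ⟨6 :: [2, 1, 2, 4, 2, 4, 2, 1, 2, 8, 7, 2, 8, 7, 5, 7, 5, 2, 1, 2, 1, 4, 2, 7], [0, 2, 0, 7, 2, 6], 29, true⟩) (lall (memL L) [2, 1, 2, 4, 2, 4, 2, 1, 2, 8, 7, 2, 8, 7, 5, 7, 5, 2, 1, 2, 1, 4, 2, 7]) = true := by decide +kernel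

theorem cov6 : T.cover 6 [(sel (ones 4060) ip6 1), (sel (ones 4060) ip6 2), (sel (ones 4060) ip6 3), (sel (ones 4060) ip6 4), (sel (ones 4060) ip6 5), (sel (ones 4060) ip6 6), (sel (ones 4060) ip6 7), (sel (ones 4060) ip6 8), (sel (ones 4060) ip6 9), (sel (ones 4060) ip6 10), (sel (ones 4060) ip6 11), (sel (ones 4060) ip6 12), (sel (ones 4060) ip6 13), (sel (ones 4060) ip6 14), (sel (ones 4060) ip6 15), (sel (ones 4060) ip6 16), (sel (ones 4060) ip6 17)] = true := by decide +kernel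

theorem tl6 : T.treeLt 12 6 = true := by decide +kernel

theorem rot7_1 : T.rot 7 [4] (sel (ones 4060) ip7 1) = true := by decide +kernel

theorem rot7_1r : band (Rule.ok (2 * 2) EX RL ⟨7 :: [4], [], 32, false⟩) (lall (memL L) [4]) = true := by decide +kernel

theorem rot7_2 : T.rot 7 [7, 7, 7, 7] (sel (ones 4060) ip7 2) = true := by decide +kernel

theorem rot7_2r : band (Rule.ok (2 * 2) EX RL ⟨7 :: [7, 7, 7, 7], [], 18, false⟩) (lall (memL L) [7, 7, 7, 7]) = true := by decide +kernel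

theorem rot7_3 : T.rot 7 [5, 6, 4, 4, 6, 4, 5] (sel (ones 4060) ip7 3) = true := by decide +kernel

theorem rot7_3r : band (Rule.ok (2 * 2) EX RL ⟨7 :: [5, 6, 4, 4, 6, 4, 5], [7, 9], 20, true⟩) (lall (memL L) [5, 6, 4, 4, 6, 4, 5]) = true := by decide +kernel

theorem rot7_4 : T.rot 7 [7, 3, 8, 4, 8, 7, 3] (sel (ones 4060) ip7 4) = true := by decide +kernel

theorem rot7_4r : band (Rule.ok (2 * 2) EX RL ⟨7 :: [7, 3, 8, 4, 8, 7, 3], [5], 20, false⟩) (lall (memL L) [7, 3, 8, 4, 8, 7, 3]) = true := by decide +kernel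

theorem rot7_5 : T.rot 7 [3, 8, 4, 8, 7, 3, 7] (sel (ones 4060) ip7 5) = true := by decide +kernel

theorem rot7_5r : band (Rule.ok (2 * 2) EX RL ⟨7 :: [3, 8, 4, 8, 7, 3, 7], [5, 6], 20, false⟩) (lall (memL L) [3, 8, 4, 8, 7, 3, 7]) = true := by decide +kernel

theorem rot7_6 : T.rot 7 [3, 7, 7, 3, 8, 4, 8] (sel (ones 4060) ip7 6) = true := by decide +kernel

theorem rot7_6r : band (Rule.ok (2 * 2) EX RL ⟨7 :: [3, 7, 7, 3, 8, 4, 8], [7], 20, false⟩) (lall (memL L) [3, 7, 7, 3, 8, 4, 8]) = true := by decide +kernel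

theorem rot7_7 : T.rot 7 [2, 3, 2, 6, 6, 7, 5, 5] (sel (ones 4060) ip7 7) = true := by decide +kernel

theorem rot7_7r : band (Rule.ok (2 * 2) EX RL ⟨7 :: [2, 3, 2, 6, 6, 7, 5, 5], [9], 28, true⟩) (lall (memL L) [2, 3, 2, 6, 6, 7, 5, 5]) = true := by decide +kernel

theorem rot7_8 : T.rot 7 [5, 5, 7, 2, 3, 2, 6, 6] (sel (ones 4060) ip7 8) = true := by decide +kernel

theorem rot7_8r : band (Rule.ok (2 * 2) EX RL ⟨7 :: [5, 5, 7, 2, 3, 2, 6, 6], [8, 7], 28, true⟩) (lall (memL L) [5, 5, 7, 2, 3, 2, 6, 6]) = true := by decide +kernel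

theorem rot7_9 : T.rot 7 [7, 2, 3, 8, 8, 2, 8, 4, 8] (sel (ones 4060) ip7 9) = true := by decide +kernel

theorem rot7_9r : band (Rule.ok (2 * 2) EX RL ⟨7 :: [7, 2, 3, 8, 8, 2, 8, 4, 8], [2, 7, 7], 21, true⟩) (lall (memL L) [7, 2, 3, 8, 8, 2, 8, 4, 8]) = true := by decide +kernel

theorem rot7_10 : T.rot 7 [2, 3, 8, 8, 2, 8, 4, 8, 7] (sel (ones 4060) ip7 10) = true := by decide +kernel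

theorem rot7_10r : band (Rule.ok (2 * 2) EX RL ⟨7 :: [2, 3, 8, 8, 2, 8, 4, 8, 7], [2, 7], 21, true⟩) (lall (memL L) [2, 3, 8, 8, 2, 8, 4, 8, 7]) = true := by decide +kernel

theorem rot7_11 : T.rot 7 [5, 2, 5, 5, 6, 2, 4, 4, 5] (sel (ones 4060) ip7 11) = true := by decide +kernel

theorem rot7_11r : band (Rule.ok (2 * 2) EX RL ⟨7 :: [5, 2, 5, 5, 6, 2, 4, 4, 5], [2, 7, 7, 9], 21, false⟩) (lall (memL L) [5, 2, 5, 5, 6, 2, 4, 4, 5]) = true := by decide +kernel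

theorem rot7_12 : T.rot 7 [7, 2, 8, 2, 8, 7, 5, 4, 4, 5] (sel (ones 4060) ip7 12) = true := by decide +kernel

theorem rot7_12r : band (Rule.ok (2 * 2) EX RL ⟨7 :: [7, 2, 8, 2, 8, 7, 5, 4, 4, 5], [7, 9], 15, true⟩) (lall (memL L) [7, 2, 8, 2, 8, 7, 5, 4, 4, 5]) = true := by decide +kernel

theorem rot7_13 : T.rot 7 [2, 8, 2, 8, 7, 5, 4, 4, 5, 7] (sel (ones 4060) ip7 13) = true := by decide +kernel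

theorem rot7_13r : band (Rule.ok (2 * 2) EX RL ⟨7 :: [2, 8, 2, 8, 7, 5, 4, 4, 5, 7], [7, 9, 6], 15, true⟩) (lall (memL L) [2, 8, 2, 8, 7, 5, 4, 4, 5, 7]) = true := by decide +kernel

theorem rot7_14 : T.rot 7 [5, 4, 4, 5, 7, 7, 2, 8, 2, 8] (sel (ones 4060) ip7 14) = true := by decide +kernel

theorem rot7_14r : band (Rule.ok (2 * 2) EX RL ⟨7 :: [5, 4, 4, 5, 7, 7, 2, 8, 2, 8], [6, 8, 7], 15, true⟩) (lall (memL L) [5, 4, 4, 5, 7, 7, 2, 8, 2, 8]) = true := by decide +kernel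

theorem rot7_15 : T.rot 7 [8, 4, 5, 2, 5, 2, 4, 4, 8, 7] (sel (ones 4060) ip7 15) = true := by decide +kernel

theorem rot7_15r : band (Rule.ok (2 * 2) EX RL ⟨7 :: [8, 4, 5, 2, 5, 2, 4, 4, 8, 7], [], 15, false⟩) (lall (memL L) [8, 4, 5, 2, 5, 2, 4, 4, 8, 7]) = true := by decide +kernel

theorem rot7_16 : T.rot 7 [7, 8, 4, 5, 2, 5, 2, 4, 4, 8] (sel (ones 4060) ip7 16) = true := by decide +kernel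

theorem rot7_16r : band (Rule.ok (2 * 2) EX RL ⟨7 :: [7, 8, 4, 5, 2, 5, 2, 4, 4, 8], [7], 15, false⟩) (lall (memL L) [7, 8, 4, 5, 2, 5, 2, 4, 4, 8]) = true := by decide +kernel

theorem rot7_17 : T.rot 7 [7, 8, 2, 5, 2, 7, 7, 1, 4, 1] (sel (ones 4060) ip7 17) = true := by decide +kernel

theorem rot7_17r : band (Rule.ok (2 * 2) EX RL ⟨7 :: [7, 8, 2, 5, 2, 7, 7, 1, 4, 1], [0, 7, 0], 24, true⟩) (lall (memL L) [7, 8, 2, 5, 2, 7, 7, 1, 4, 1]) = true := by decide +kernel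

theorem rot7_18 : T.rot 7 [8, 2, 5, 2, 7, 7, 1, 4, 1, 7] (sel (ones 4060) ip7 18) = true := by decide +kernel

theorem rot7_18r : band (Rule.ok (2 * 2) EX RL ⟨7 :: [8, 2, 5, 2, 7, 7, 1, 4, 1, 7], [0, 7, 0, 6], 24, true⟩) (lall (memL L) [8, 2, 5, 2, 7, 7, 1, 4, 1, 7]) = true := by decide +kernel

theorem rot7_19 : T.rot 7 [7, 1, 4, 1, 7, 7, 8, 2, 5, 2] (sel (ones 4060) ip7 19) = true := by decide +kernel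

theorem rot7_19r : band (Rule.ok (2 * 2) EX RL ⟨7 :: [7, 1, 4, 1, 7, 7, 8, 2, 5, 2], [7, 7], 24, true⟩) (lall (memL L) [7, 1, 4, 1, 7, 7, 8, 2, 5, 2]) = true := by decide +kernel

theorem rot7_20 : T.rot 7 [1, 4, 1, 7, 7, 8, 2, 5, 2, 7] (sel (ones 4060) ip7 20) = true := by decide +kernel

theorem rot7_20r : band (Rule.ok (2 * 2) EX RL ⟨7 :: [1, 4, 1, 7, 7, 8, 2, 5, 2, 7], [7], 24, true⟩) (lall (memL L) [1, 4, 1, 7, 7, 8, 2, 5, 2, 7]) = true := by decide +kernel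

theorem rot7_21 : T.rot 7 [1, 4, 4, 2, 8, 2, 5, 4, 4, 1] (sel (ones 4060) ip7 21) = true := by decide +kernel

theorem rot7_21r : band (Rule.ok (2 * 2) EX RL ⟨7 :: [1, 4, 4, 2, 8, 2, 5, 4, 4, 1], [0, 7], 24, false⟩) (lall (memL L) [1, 4, 4, 2, 8, 2, 5, 4, 4, 1]) = true := by decide +kernel

theorem rot7_22 : T.rot 7 [7, 2, 6, 2, 8, 7, 5, 2, 3, 2] (sel (ones 4060) ip7 22) = true := by decide +kernel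

theorem rot7_22r : band (Rule.ok (2 * 2) EX RL ⟨7 :: [7, 2, 6, 2, 8, 7, 5, 2, 3, 2], [5, 2], 30, false⟩) (lall (memL L) [7, 2, 6, 2, 8, 7, 5, 2, 3, 2]) = true := by decide +kernel

theorem rot7_23 : T.rot 7 [2, 6, 2, 8, 7, 5, 2, 3, 2, 7] (sel (ones 4060) ip7 23) = true := by decide +kernel

theorem rot7_23r : band (Rule.ok (2 * 2) EX RL ⟨7 :: [2, 6, 2, 8, 7, 5, 2, 3, 2, 7], [5, 2, 6], 30, false⟩) (lall (memL L) [2, 6, 2, 8, 7, 5, 2, 3, 2, 7]) = true := by decide +kernel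

theorem rot7_24 : T.rot 7 [5, 2, 3, 2, 7, 7, 2, 6, 2, 8] (sel (ones 4060) ip7 24) = true := by decide +kernel

theorem rot7_24r : band (Rule.ok (2 * 2) EX RL ⟨7 :: [5, 2, 3, 2, 7, 7, 2, 6, 2, 8], [2, 8, 7], 30, false⟩) (lall (memL L) [5, 2, 3, 2, 7, 7, 2, 6, 2, 8]) = true := by decide +kernel

theorem rot7_25 : T.rot 7 [3, 4, 4, 2, 1, 8, 8, 2, 5, 2, 1, 2] (sel (ones 4060) ip7 25) = true := by decide +kernel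

theorem rot7_25r : band (Rule.ok (2 * 2) EX RL ⟨7 :: [3, 4, 4, 2, 1, 8, 8, 2, 5, 2, 1, 2], [0, 2], 23, true⟩) (lall (memL L) [3, 4, 4, 2, 1, 8, 8, 2, 5, 2, 1, 2]) = true := by decide +kernel

theorem rot7_26 : T.rot 7 [7, 6, 4, 2, 1, 2, 8, 2, 5, 5, 1, 2] (sel (ones 4060) ip7 26) = true := by decide +kernel

theorem rot7_26r : band (Rule.ok (2 * 2) EX RL ⟨7 :: [7, 6, 4, 2, 1, 2, 8, 2, 5, 5, 1, 2], [0, 2, 6, 5, 7, 7], 23, false⟩) (lall (memL L) [7, 6, 4, 2, 1, 2, 8, 2, 5, 5, 1, 2]) = true := by decide +kernel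

theorem rot7_27 : T.rot 7 [6, 4, 2, 1, 2, 8, 2, 5, 5, 1, 2, 7] (sel (ones 4060) ip7 27) = true := by decide +kernel

theorem rot7_27r : band (Rule.ok (2 * 2) EX RL ⟨7 :: [6, 4, 2, 1, 2, 8, 2, 5, 5, 1, 2, 7], [0, 2, 6, 5, 7], 23, false⟩) (lall (memL L) [6, 4, 2, 1, 2, 8, 2, 5, 5, 1, 2, 7]) = true := by decide +kernel

theorem rot7_28 : T.rot 7 [7, 2, 1, 2, 4, 4, 8, 4, 2, 1, 2, 4, 3] (sel (ones 4060) ip7 28) = true := by decide +kernel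

theorem rot7_28r : band (Rule.ok (2 * 2) EX RL ⟨7 :: [7, 2, 1, 2, 4, 4, 8, 4, 2, 1, 2, 4, 3], [0, 2, 7, 5], 22, true⟩) (lall (memL L) [7, 2, 1, 2, 4, 4, 8, 4, 2, 1, 2, 4, 3]) = true := by decide +kernel

theorem rot7_29 : T.rot 7 [2, 1, 2, 4, 4, 8, 4, 2, 1, 2, 4, 3, 7] (sel (ones 4060) ip7 29) = true := by decide +kernel

theorem rot7_29r : band (Rule.ok (2 * 2) EX RL ⟨7 :: [2, 1, 2, 4, 4, 8, 4, 2, 1, 2, 4, 3, 7], [0, 2, 7, 5, 6], 22, true⟩) (lall (memL L) [2, 1, 2, 4, 4, 8, 4, 2, 1, 2, 4, 3, 7]) = true := by decide +kernel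

theorem rot7_30 : T.rot 7 [5, 7, 7, 2, 1, 2, 4, 4, 6, 7, 2, 1, 2] (sel (ones 4060) ip7 30) = true := by decide +kernel

theorem rot7_30r : band (Rule.ok (2 * 2) EX RL ⟨7 :: [5, 7, 7, 2, 1, 2, 4, 4, 6, 7, 2, 1, 2], [2], 22, false⟩) (lall (memL L) [5, 7, 7, 2, 1, 2, 4, 4, 6, 7, 2, 1, 2]) = true := by decide +kernel

theorem rot7_31 : T.rot 7 [7, 2, 1, 2, 4, 4, 6, 7, 2, 1, 2, 7, 5] (sel (ones 4060) ip7 31) = true := by decide +kernel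

theorem rot7_31r : band (Rule.ok (2 * 2) EX RL ⟨7 :: [7, 2, 1, 2, 4, 4, 6, 7, 2, 1, 2, 7, 5], [2, 6, 9], 22, false⟩) (lall (memL L) [7, 2, 1, 2, 4, 4, 6, 7, 2, 1, 2, 7, 5]) = true := by decide +kernel

theorem rot7_32 : T.rot 7 [2, 1, 2, 4, 4, 6, 7, 2, 1, 2, 7, 5, 7] (sel (ones 4060) ip7 32) = true := by decide +kernel

theorem rot7_32r : band (Rule.ok (2 * 2) EX RL ⟨7 :: [2, 1, 2, 4, 4, 6, 7, 2, 1, 2, 7, 5, 7], [2, 6, 9, 6], 22, false⟩) (lall (memL L) [2, 1, 2, 4, 4, 6, 7, 2, 1, 2, 7, 5, 7]) = true := by decide +kernel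

theorem rot7_33 : T.rot 7 [2, 1, 2, 7, 5, 7, 7, 2, 1, 2, 4, 4, 6] (sel (ones 4060) ip7 33) = true := by decide +kernel

theorem rot7_33r : band (Rule.ok (2 * 2) EX RL ⟨7 :: [2, 1, 2, 7, 5, 7, 7, 2, 1, 2, 4, 4, 6], [0, 2, 7], 22, false⟩) (lall (memL L) [2, 1, 2, 7, 5, 7, 7, 2, 1, 2, 4, 4, 6]) = true := by decide +kernel

theorem rot7_34 : T.rot 7 [2, 8, 7, 7, 3, 5, 6, 4, 2, 4, 2, 3, 2] (sel (ones 4060) ip7 34) = true := by decide +kernel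

theorem rot7_34r : band (Rule.ok (2 * 2) EX RL ⟨7 :: [2, 8, 7, 7, 3, 5, 6, 4, 2, 4, 2, 3, 2], [2], 27, true⟩) (lall (memL L) [2, 8, 7, 7, 3, 5, 6, 4, 2, 4, 2, 3, 2]) = true := by decide +kernel

theorem rot7_35 : T.rot 7 [7, 3, 5, 6, 4, 2, 4, 2, 3, 2, 7, 2, 8] (sel (ones 4060) ip7 35) = true := by decide +kernel

theorem rot7_35r : band (Rule.ok (2 * 2) EX RL ⟨7 :: [7, 3, 5, 6, 4, 2, 4, 2, 3, 2, 7, 2, 8], [2, 6, 2, 8], 27, true⟩) (lall (memL L) [7, 3, 5, 6, 4, 2, 4, 2, 3, 2, 7, 2, 8]) = true := by decide +kernel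

theorem rot7_36 : T.rot 7 [3, 5, 6, 4, 2, 4, 2, 3, 2, 7, 2, 8, 7] (sel (ones 4060) ip7 36) = true := by decide +kernel

theorem rot7_36r : band (Rule.ok (2 * 2) EX RL ⟨7 :: [3, 5, 6, 4, 2, 4, 2, 3, 2, 7, 2, 8, 7], [2, 6, 2, 8, 6], 27, true⟩) (lall (memL L) [3, 5, 6, 4, 2, 4, 2, 3, 2, 7, 2, 8, 7]) = true := by decide +kernel

theorem rot7_37 : T.rot 7 [2, 7, 3, 8, 6, 4, 4, 5, 2, 4, 2, 6, 2] (sel (ones 4060) ip7 37) = true := by decide +kernel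

theorem rot7_37r : band (Rule.ok (2 * 2) EX RL ⟨7 :: [2, 7, 3, 8, 6, 4, 4, 5, 2, 4, 2, 6, 2], [4, 2], 27, false⟩) (lall (memL L) [2, 7, 3, 8, 6, 4, 4, 5, 2, 4, 2, 6, 2]) = true := by decide +kernel

theorem rot7_38 : T.rot 7 [3, 8, 6, 4, 4, 5, 2, 4, 2, 6, 2, 7, 2] (sel (ones 4060) ip7 38) = true := by decide +kernel

theorem rot7_38r : band (Rule.ok (2 * 2) EX RL ⟨7 :: [3, 8, 6, 4, 4, 5, 2, 4, 2, 6, 2, 7, 2], [4, 2, 6, 2], 27, false⟩) (lall (memL L) [3, 8, 6, 4, 4, 5, 2, 4, 2, 6, 2, 7, 2]) = true := by decide +kernel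

theorem rot7_39 : T.rot 7 [7, 4, 8, 7, 7, 4, 8, 7, 7, 4, 8, 7, 7, 4, 8] (sel (ones 4060) ip7 39) = true := by decide +kernel

theorem rot7_39r : band (Rule.ok (2 * 2) EX RL ⟨7 :: [7, 4, 8, 7, 7, 4, 8, 7, 7, 4, 8, 7, 7, 4, 8], [7, 7], 5, true⟩) (lall (memL L) [7, 4, 8, 7, 7, 4, 8, 7, 7, 4, 8, 7, 7, 4, 8]) = true := by decide +kernel

theorem rot7_40 : T.rot 7 [8, 6, 4, 2, 1, 8, 8, 2, 8, 4, 5, 4, 4, 2, 1, 2, 1] (sel (ones 4060) ip7 40) = true := by decide +kernel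

theorem rot7_40r : band (Rule.ok (2 * 2) EX RL ⟨7 :: [8, 6, 4, 2, 1, 8, 8, 2, 8, 4, 5, 4, 4, 2, 1, 2, 1], [0, 2, 0], 25, true⟩) (lall (memL L) [8, 6, 4, 2, 1, 8, 8, 2, 8, 4, 5, 4, 4, 2, 1, 2, 1]) = true := by decide +kernel

theorem rot7_41 : T.rot 7 [7, 8, 7, 5, 2, 5, 5, 1, 2, 7, 3, 5, 4, 1, 2, 1, 2] (sel (ones 4060) ip7 41) = true := by decide +kernel

theorem rot7_41r : band (Rule.ok (2 * 2) EX RL ⟨7 :: [7, 8, 7, 5, 2, 5, 5, 1, 2, 7, 3, 5, 4, 1, 2, 1, 2], [2], 25, false⟩) (lall (memL L) [7, 8, 7, 5, 2, 5, 5, 1, 2, 7, 3, 5, 4, 1, 2, 1, 2]) = true := by decide +kernel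

theorem rot7_42 : T.rot 7 [8, 7, 5, 2, 5, 5, 1, 2, 7, 3, 5, 4, 1, 2, 1, 2, 7] (sel (ones 4060) ip7 42) = true := by decide +kernel

theorem rot7_42r : band (Rule.ok (2 * 2) EX RL ⟨7 :: [8, 7, 5, 2, 5, 5, 1, 2, 7, 3, 5, 4, 1, 2, 1, 2, 7], [2, 6], 25, false⟩) (lall (memL L) [8, 7, 5, 2, 5, 5, 1, 2, 7, 3, 5, 4, 1, 2, 1, 2, 7]) = true := by decide +kernel

theorem rot7_43 : T.rot 7 [5, 2, 5, 5, 1, 2, 7, 3, 5, 4, 1, 2, 1, 2, 7, 7, 8] (sel (ones 4060) ip7 43) = true := by decide +kernel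

theorem rot7_43r : band (Rule.ok (2 * 2) EX RL ⟨7 :: [5, 2, 5, 5, 1, 2, 7, 3, 5, 4, 1, 2, 1, 2, 7, 7, 8], [2, 6, 6, 8], 25, false⟩) (lall (memL L) [5, 2, 5, 5, 1, 2, 7, 3, 5, 4, 1, 2, 1, 2, 7, 7, 8]) = true := by decide +kernel

theorem rot7_44 : T.rot 7 [3, 5, 4, 1, 2, 1, 2, 7, 7, 8, 7, 5, 2, 5, 5, 1, 2] (sel (ones 4060) ip7 44) = true := by decide +kernel

theorem rot7_44r : band (Rule.ok (2 * 2) EX RL ⟨7 :: [3, 5, 4, 1, 2, 1, 2, 7, 7, 8, 7, 5, 2, 5, 5, 1, 2], [0, 2, 0, 6, 8, 4, 7], 25, false⟩) (lall (memL L) [3, 5, 4, 1, 2, 1, 2, 7, 7, 8, 7, 5, 2, 5, 5, 1, 2]) = true := by decide +kernel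

theorem rot7_45 : T.rot 7 [2, 1, 4, 8, 7, 7, 8, 2, 4, 4, 2, 5, 1, 2, 1, 4, 2, 1, 2] (sel (ones 4060) ip7 45) = true := by decide +kernel

theorem rot7_45r : band (Rule.ok (2 * 2) EX RL ⟨7 :: [2, 1, 4, 8, 7, 7, 8, 2, 4, 4, 2, 5, 1, 2, 1, 4, 2, 1, 2], [0, 2, 0, 7, 2, 0, 2], 26, true⟩) (lall (memL L) [2, 1, 4, 8, 7, 7, 8, 2, 4, 4, 2, 5, 1, 2, 1, 4, 2, 1, 2]) = true := by decide +kernel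

theorem rot7_46 : T.rot 7 [7, 8, 2, 4, 4, 2, 5, 1, 2, 1, 4, 2, 1, 2, 7, 2, 1, 4, 8] (sel (ones 4060) ip7 46) = true := by decide +kernel

theorem rot7_46r : band (Rule.ok (2 * 2) EX RL ⟨7 :: [7, 8, 2, 4, 4, 2, 5, 1, 2, 1, 4, 2, 1, 2, 7, 2, 1, 4, 8], [8, 2, 6, 6, 2, 9, 7, 7], 26, true⟩) (lall (memL L) [7, 8, 2, 4, 4, 2, 5, 1, 2, 1, 4, 2, 1, 2, 7, 2, 1, 4, 8]) = true := by decide +kernel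

theorem rot7_47 : T.rot 7 [8, 2, 4, 4, 2, 5, 1, 2, 1, 4, 2, 1, 2, 7, 2, 1, 4, 8, 7] (sel (ones 4060) ip7 47) = true := by decide +kernel

theorem rot7_47r : band (Rule.ok (2 * 2) EX RL ⟨7 :: [8, 2, 4, 4, 2, 5, 1, 2, 1, 4, 2, 1, 2, 7, 2, 1, 4, 8, 7], [8, 2, 6, 6, 2, 9, 7], 26, true⟩) (lall (memL L) [8, 2, 4, 4, 2, 5, 1, 2, 1, 4, 2, 1, 2, 7, 2, 1, 4, 8, 7]) = true := by decide +kernel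

theorem rot7_48 : T.rot 7 [7, 2, 5, 4, 4, 5, 7, 1, 2, 4, 2, 1, 2, 7, 1, 2, 1, 8, 2] (sel (ones 4060) ip7 48) = true := by decide +kernel

theorem rot7_48r : band (Rule.ok (2 * 2) EX RL ⟨7 :: [7, 2, 5, 4, 4, 5, 7, 1, 2, 4, 2, 1, 2, 7, 1, 2, 1, 8, 2], [8, 2], 26, false⟩) (lall (memL L) [7, 2, 5, 4, 4, 5, 7, 1, 2, 4, 2, 1, 2, 7, 1, 2, 1, 8, 2]) = true := by decide +kernel

theorem rot7_49 : T.rot 7 [2, 5, 4, 4, 5, 7, 1, 2, 4, 2, 1, 2, 7, 1, 2, 1, 8, 2, 7] (sel (ones 4060) ip7 49) = true := by decide +kernel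

theorem rot7_49r : band (Rule.ok (2 * 2) EX RL ⟨7 :: [2, 5, 4, 4, 5, 7, 1, 2, 4, 2, 1, 2, 7, 1, 2, 1, 8, 2, 7], [8, 2, 6], 26, false⟩) (lall (memL L) [2, 5, 4, 4, 5, 7, 1, 2, 4, 2, 1, 2, 7, 1, 2, 1, 8, 2, 7]) = true := by decide +kernel

theorem rot7_50 : T.rot 7 [1, 2, 4, 2, 1, 2, 7, 1, 2, 1, 8, 2, 7, 7, 2, 5, 4, 4, 5] (sel (ones 4060) ip7 50) = true := by decide +kernel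

theorem rot7_50r : band (Rule.ok (2 * 2) EX RL ⟨7 :: [1, 2, 4, 2, 1, 2, 7, 1, 2, 1, 8, 2, 7, 7, 2, 5, 4, 4, 5], [8, 2, 6, 6, 2, 9, 7, 7, 9], 26, false⟩) (lall (memL L) [1, 2, 4, 2, 1, 2, 7, 1, 2, 1, 8, 2, 7, 7, 2, 5, 4, 4, 5]) = true := by decide +kernel

theorem rot7_51 : T.rot 7 [1, 2, 1, 8, 2, 7, 7, 2, 5, 4, 4, 5, 7, 1, 2, 4, 2, 1, 2] (sel (ones 4060) ip7 51) = true := by decide +kernel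

theorem rot7_51r : band (Rule.ok (2 * 2) EX RL ⟨7 :: [1, 2, 1, 8, 2, 7, 7, 2, 5, 4, 4, 5, 7, 1, 2, 4, 2, 1, 2], [0, 2, 0, 7], 26, false⟩) (lall (memL L) [1, 2, 1, 8, 2, 7, 7, 2, 5, 4, 4, 5, 7, 1, 2, 4, 2, 1, 2]) = true := by decide +kernel

theorem rot7_52 : T.rot 7 [7, 2, 5, 4, 4, 5, 7, 2, 4, 4, 5, 7, 2, 4, 5, 5, 4, 2, 4, 8] (sel (ones 4060) ip7 52) = true := by decide +kernel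

theorem rot7_52r : band (Rule.ok (2 * 2) EX RL ⟨7 :: [7, 2, 5, 4, 4, 5, 7, 2, 4, 4, 5, 7, 2, 4, 5, 5, 4, 2, 4, 8], [7, 9, 9, 7, 2, 7, 8], 13, true⟩) (lall (memL L) [7, 2, 5, 4, 4, 5, 7, 2, 4, 4, 5, 7, 2, 4, 5, 5, 4, 2, 4, 8]) = true := by decide +kernel

theorem rot7_53 : T.rot 7 [2, 5, 4, 4, 5, 7, 2, 4, 4, 5, 7, 2, 4, 5, 5, 4, 2, 4, 8, 7] (sel (ones 4060) ip7 53) = true := by decide +kernel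

theorem rot7_53r : band (Rule.ok (2 * 2) EX RL ⟨7 :: [2, 5, 4, 4, 5, 7, 2, 4, 4, 5, 7, 2, 4, 5, 5, 4, 2, 4, 8, 7], [7, 9, 9, 7, 2, 7, 8, 6], 13, true⟩) (lall (memL L) [2, 5, 4, 4, 5, 7, 2, 4, 4, 5, 7, 2, 4, 5, 5, 4, 2, 4, 8, 7]) = true := by decide +kernel

theorem rot7_54 : T.rot 7 [2, 4, 4, 5, 7, 2, 4, 5, 5, 4, 2, 4, 8, 7, 7, 2, 5, 4, 4, 5] (sel (ones 4060) ip7 54) = true := by decide +kernel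

theorem rot7_54r : band (Rule.ok (2 * 2) EX RL ⟨7 :: [2, 4, 4, 5, 7, 2, 4, 5, 5, 4, 2, 4, 8, 7, 7, 2, 5, 4, 4, 5], [2, 7, 8, 6, 6, 2, 7], 13, true⟩) (lall (memL L) [2, 4, 4, 5, 7, 2, 4, 5, 5, 4, 2, 4, 8, 7, 7, 2, 5, 4, 4, 5]) = true := by decide +kernel

theorem rot7_55 : T.rot 7 [2, 4, 5, 5, 4, 2, 4, 8, 7, 7, 2, 5, 4, 4, 5, 7, 2, 4, 4, 5] (sel (ones 4060) ip7 55) = true := by decide +kernel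

theorem rot7_55r : band (Rule.ok (2 * 2) EX RL ⟨7 :: [2, 4, 5, 5, 4, 2, 4, 8, 7, 7, 2, 5, 4, 4, 5, 7, 2, 4, 4, 5], [2, 7], 13, true⟩) (lall (memL L) [2, 4, 5, 5, 4, 2, 4, 8, 7, 7, 2, 5, 4, 4, 5, 7, 2, 4, 4, 5]) = true := by decide +kernel

theorem rot7_56 : T.rot 7 [7, 2, 4, 8, 7, 7, 8, 2, 4, 4, 5, 7, 2, 7, 8, 8, 7, 2, 4, 8] (sel (ones 4060) ip7 56) = true := by decide +kernel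

theorem rot7_56r : band (Rule.ok (2 * 2) EX RL ⟨7 :: [7, 2, 4, 8, 7, 7, 8, 2, 4, 4, 5, 7, 2, 7, 8, 8, 7, 2, 4, 8], [2, 7, 8], 13, false⟩) (lall (memL L) [7, 2, 4, 8, 7, 7, 8, 2, 4, 4, 5, 7, 2, 7, 8, 8, 7, 2, 4, 8]) = true := by decide +kernel

theorem rot7_57 : T.rot 7 [2, 4, 8, 7, 7, 8, 2, 4, 4, 5, 7, 2, 7, 8, 8, 7, 2, 4, 8, 7] (sel (ones 4060) ip7 57) = true := by decide +kernel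

theorem rot7_57r : band (Rule.ok (2 * 2) EX RL ⟨7 :: [2, 4, 8, 7, 7, 8, 2, 4, 4, 5, 7, 2, 7, 8, 8, 7, 2, 4, 8, 7], [2, 7, 8, 6], 13, false⟩) (lall (memL L) [2, 4, 8, 7, 7, 8, 2, 4, 4, 5, 7, 2, 7, 8, 8, 7, 2, 4, 8, 7]) = true := by decide +kernel

theorem rot7_58 : T.rot 7 [8, 2, 4, 4, 5, 7, 2, 7, 8, 8, 7, 2, 4, 8, 7, 7, 2, 4, 8, 7] (sel (ones 4060) ip7 58) = true := by decide +kernel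

theorem rot7_58r : band (Rule.ok (2 * 2) EX RL ⟨7 :: [8, 2, 4, 4, 5, 7, 2, 7, 8, 8, 7, 2, 4, 8, 7, 7, 2, 4, 8, 7], [2, 7, 8, 6, 6, 2, 7, 8, 6], 13, false⟩) (lall (memL L) [8, 2, 4, 4, 5, 7, 2, 7, 8, 8, 7, 2, 4, 8, 7, 7, 2, 4, 8, 7]) = true := by decide +kernel

theorem rot7_59 : T.rot 7 [2, 7, 8, 8, 7, 2, 4, 8, 7, 7, 2, 4, 8, 7, 7, 8, 2, 4, 4, 5] (sel (ones 4060) ip7 59) = true := by decide +kernel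

theorem rot7_59r : band (Rule.ok (2 * 2) EX RL ⟨7 :: [2, 7, 8, 8, 7, 2, 4, 8, 7, 7, 2, 4, 8, 7, 7, 8, 2, 4, 4, 5], [7, 9, 9, 7, 2, 7], 13, false⟩) (lall (memL L) [2, 7, 8, 8, 7, 2, 4, 8, 7, 7, 2, 4, 8, 7, 7, 8, 2, 4, 4, 5]) = true := by decide +kernel

theorem rot7_60 : T.rot 7 [8, 8, 7, 2, 4, 8, 7, 7, 2, 4, 8, 7, 7, 8, 2, 4, 4, 5, 7, 2] (sel (ones 4060) ip7 60) = true := by decide +kernel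

theorem rot7_60r : band (Rule.ok (2 * 2) EX RL ⟨7 :: [8, 8, 7, 2, 4, 8, 7, 7, 2, 4, 8, 7, 7, 8, 2, 4, 4, 5, 7, 2], [7, 9, 9, 7], 13, false⟩) (lall (memL L) [8, 8, 7, 2, 4, 8, 7, 7, 2, 4, 8, 7, 7, 8, 2, 4, 4, 5, 7, 2]) = true := by decide +kernel

theorem rot7_61 : T.rot 7 [2, 4, 8, 7, 7, 2, 4, 8, 7, 7, 8, 2, 4, 4, 5, 7, 2, 7, 8, 8] (sel (ones 4060) ip7 61) = true := by decide +kernel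

theorem rot7_61r : band (Rule.ok (2 * 2) EX RL ⟨7 :: [2, 4, 8, 7, 7, 2, 4, 8, 7, 7, 8, 2, 4, 4, 5, 7, 2, 7, 8, 8], [7], 13, false⟩) (lall (memL L) [2, 4, 8, 7, 7, 2, 4, 8, 7, 7, 8, 2, 4, 4, 5, 7, 2, 7, 8, 8]) = true := by decide +kernel

theorem rot7_62 : T.rot 7 [2, 7, 7, 2, 8, 4, 8, 2, 7, 2, 7, 2, 4, 5, 2, 4, 2, 4, 2, 5] (sel (ones 4060) ip7 62) = true := by decide +kernel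

theorem rot7_62r : band (Rule.ok (2 * 2) EX RL ⟨7 :: [2, 7, 7, 2, 8, 4, 8, 2, 7, 2, 7, 2, 4, 5, 2, 4, 2, 4, 2, 5], [2, 7, 2, 7, 2, 9], 16, true⟩) (lall (memL L) [2, 7, 7, 2, 8, 4, 8, 2, 7, 2, 7, 2, 4, 5, 2, 4, 2, 4, 2, 5]) = true := by decide +kernel

theorem rot7_63 : T.rot 7 [7, 2, 8, 4, 8, 2, 7, 2, 7, 2, 4, 5, 2, 4, 2, 4, 2, 5, 7, 2] (sel (ones 4060) ip7 63) = true := by decide +kernel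

theorem rot7_63r : band (Rule.ok (2 * 2) EX RL ⟨7 :: [7, 2, 8, 4, 8, 2, 7, 2, 7, 2, 4, 5, 2, 4, 2, 4, 2, 5, 7, 2], [2, 7, 2, 7, 2, 9, 6, 2], 16, true⟩) (lall (memL L) [7, 2, 8, 4, 8, 2, 7, 2, 7, 2, 4, 5, 2, 4, 2, 4, 2, 5, 7, 2]) = true := by decide +kernel

theorem rot7_64 : T.rot 7 [2, 8, 4, 8, 2, 7, 2, 7, 2, 4, 5, 2, 4, 2, 4, 2, 5, 7, 2, 7] (sel (ones 4060) ip7 64) = true := by decide +kernel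

theorem rot7_64r : band (Rule.ok (2 * 2) EX RL ⟨7 :: [2, 8, 4, 8, 2, 7, 2, 7, 2, 4, 5, 2, 4, 2, 4, 2, 5, 7, 2, 7], [2, 7, 2, 7, 2, 9, 6, 2, 6], 16, true⟩) (lall (memL L) [2, 8, 4, 8, 2, 7, 2, 7, 2, 4, 5, 2, 4, 2, 4, 2, 5, 7, 2, 7]) = true := by decide +kernel

theorem rot7_65 : T.rot 7 [2, 7, 2, 4, 5, 2, 4, 2, 4, 2, 5, 7, 2, 7, 7, 2, 8, 4, 8, 2] (sel (ones 4060) ip7 65) = true := by decide +kernel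

theorem rot7_65r : band (Rule.ok (2 * 2) EX RL ⟨7 :: [2, 7, 2, 4, 5, 2, 4, 2, 4, 2, 5, 7, 2, 7, 7, 2, 8, 4, 8, 2], [8, 6, 2, 7, 2, 7], 16, true⟩) (lall (memL L) [2, 7, 2, 4, 5, 2, 4, 2, 4, 2, 5, 7, 2, 7, 7, 2, 8, 4, 8, 2]) = true := by decide +kernel

theorem rot7_66 : T.rot 7 [2, 4, 5, 2, 4, 2, 4, 2, 5, 7, 2, 7, 7, 2, 8, 4, 8, 2, 7, 2] (sel (ones 4060) ip7 66) = true := by decide +kernel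

theorem rot7_66r : band (Rule.ok (2 * 2) EX RL ⟨7 :: [2, 4, 5, 2, 4, 2, 4, 2, 5, 7, 2, 7, 7, 2, 8, 4, 8, 2, 7, 2], [8, 6, 2, 7], 16, true⟩) (lall (memL L) [2, 4, 5, 2, 4, 2, 4, 2, 5, 7, 2, 7, 7, 2, 8, 4, 8, 2, 7, 2]) = true := by decide +kernel

theorem rot7_67 : T.rot 7 [2, 4, 2, 4, 2, 5, 7, 5, 2, 4, 4, 2, 4, 8, 2, 7, 2, 7, 2, 8] (sel (ones 4060) ip7 67) = true := by decide +kernel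

theorem rot7_67r : band (Rule.ok (2 * 2) EX RL ⟨7 :: [2, 4, 2, 4, 2, 5, 7, 5, 2, 4, 4, 2, 4, 8, 2, 7, 2, 7, 2, 8], [8], 16, false⟩) (lall (memL L) [2, 4, 2, 4, 2, 5, 7, 5, 2, 4, 4, 2, 4, 8, 2, 7, 2, 7, 2, 8]) = true := by decide +kernel

theorem rot7_68 : T.rot 7 [5, 2, 4, 4, 2, 4, 8, 2, 7, 2, 7, 2, 8, 7, 2, 4, 2, 4, 2, 5] (sel (ones 4060) ip7 68) = true := by decide +kernel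

theorem rot7_68r : band (Rule.ok (2 * 2) EX RL ⟨7 :: [5, 2, 4, 4, 2, 4, 8, 2, 7, 2, 7, 2, 8, 7, 2, 4, 2, 4, 2, 5], [8, 6, 2, 7, 2, 7, 2, 9], 16, false⟩) (lall (memL L) [5, 2, 4, 4, 2, 4, 8, 2, 7, 2, 7, 2, 8, 7, 2, 4, 2, 4, 2, 5]) = true := by decide +kernel

theorem rot7_69 : T.rot 7 [2, 7, 2, 8, 7, 2, 4, 2, 4, 2, 5, 7, 5, 2, 4, 4, 2, 4, 8, 2] (sel (ones 4060) ip7 69) = true := by decide +kernel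

theorem rot7_69r : band (Rule.ok (2 * 2) EX RL ⟨7 :: [2, 7, 2, 8, 7, 2, 4, 2, 4, 2, 5, 7, 5, 2, 4, 4, 2, 4, 8, 2], [2, 7, 2, 7], 16, false⟩) (lall (memL L) [2, 7, 2, 8, 7, 2, 4, 2, 4, 2, 5, 7, 5, 2, 4, 4, 2, 4, 8, 2]) = true := by decide +kernel

theorem rot7_70 : T.rot 7 [2, 8, 7, 2, 4, 2, 4, 2, 5, 7, 5, 2, 4, 4, 2, 4, 8, 2, 7, 2] (sel (ones 4060) ip7 70) = true := by decide +kernel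

theorem rot7_70r : band (Rule.ok (2 * 2) EX RL ⟨7 :: [2, 8, 7, 2, 4, 2, 4, 2, 5, 7, 5, 2, 4, 4, 2, 4, 8, 2, 7, 2], [2, 7], 16, false⟩) (lall (memL L) [2, 8, 7, 2, 4, 2, 4, 2, 5, 7, 5, 2, 4, 4, 2, 4, 8, 2, 7, 2]) = true := by decide +kernel

theorem rot7_71 : T.rot 7 [2, 1, 5, 7, 1, 7, 2, 4, 4, 2, 4, 2, 1, 7, 5, 7, 7, 5, 1, 2, 4, 2] (sel (ones 4060) ip7 71) = true := by decide +kernel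

theorem rot7_71r : band (Rule.ok (2 * 2) EX RL ⟨7 :: [2, 1, 5, 7, 1, 7, 2, 4, 4, 2, 4, 2, 1, 7, 5, 7, 7, 5, 1, 2, 4, 2], [0, 2, 7, 2], 31, true⟩) (lall (memL L) [2, 1, 5, 7, 1, 7, 2, 4, 4, 2, 4, 2, 1, 7, 5, 7, 7, 5, 1, 2, 4, 2]) = true := by decide +kernel

theorem rot7_72 : T.rot 7 [1, 7, 2, 4, 4, 2, 4, 2, 1, 7, 5, 7, 7, 5, 1, 2, 4, 2, 7, 2, 1, 5] (sel (ones 4060) ip7 72) = true := by decide +kernel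

theorem rot7_72r : band (Rule.ok (2 * 2) EX RL ⟨7 :: [1, 7, 2, 4, 4, 2, 4, 2, 1, 7, 5, 7, 7, 5, 1, 2, 4, 2, 7, 2, 1, 5], [0, 2, 7, 2, 6, 2, 0, 9], 31, true⟩) (lall (memL L) [1, 7, 2, 4, 4, 2, 4, 2, 1, 7, 5, 7, 7, 5, 1, 2, 4, 2, 7, 2, 1, 5]) = true := by decide +kernel

theorem rot7_73 : T.rot 7 [2, 4, 4, 2, 4, 2, 1, 7, 5, 7, 7, 5, 1, 2, 4, 2, 7, 2, 1, 5, 7, 1] (sel (ones 4060) ip7 73) = true := by decide +kernel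

theorem rot7_73r : band (Rule.ok (2 * 2) EX RL ⟨7 :: [2, 4, 4, 2, 4, 2, 1, 7, 5, 7, 7, 5, 1, 2, 4, 2, 7, 2, 1, 5, 7, 1], [0, 2, 7, 2, 6, 2, 0, 9, 6, 0], 31, true⟩) (lall (memL L) [2, 4, 4, 2, 4, 2, 1, 7, 5, 7, 7, 5, 1, 2, 4, 2, 7, 2, 1, 5, 7, 1]) = true := by decide +kernel

theorem rot7_74 : T.rot 7 [5, 7, 7, 5, 1, 2, 4, 2, 7, 2, 1, 5, 7, 1, 7, 2, 4, 4, 2, 4, 2, 1] (sel (ones 4060) ip7 74) = true := by decide +kernel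

theorem rot7_74r : band (Rule.ok (2 * 2) EX RL ⟨7 :: [5, 7, 7, 5, 1, 2, 4, 2, 7, 2, 1, 5, 7, 1, 7, 2, 4, 4, 2, 4, 2, 1], [8, 7, 7, 8, 7], 31, true⟩) (lall (memL L) [5, 7, 7, 5, 1, 2, 4, 2, 7, 2, 1, 5, 7, 1, 7, 2, 4, 4, 2, 4, 2, 1]) = true := by decide +kernel

theorem rot7_75 : T.rot 7 [7, 5, 1, 2, 4, 2, 7, 2, 1, 5, 7, 1, 7, 2, 4, 4, 2, 4, 2, 1, 7, 5] (sel (ones 4060) ip7 75) = true := by decide +kernel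

theorem rot7_75r : band (Rule.ok (2 * 2) EX RL ⟨7 :: [7, 5, 1, 2, 4, 2, 7, 2, 1, 5, 7, 1, 7, 2, 4, 4, 2, 4, 2, 1, 7, 5], [8, 7, 7], 31, true⟩) (lall (memL L) [7, 5, 1, 2, 4, 2, 7, 2, 1, 5, 7, 1, 7, 2, 4, 4, 2, 4, 2, 1, 7, 5]) = true := by decide +kernel

theorem rot7_76 : T.rot 7 [5, 1, 2, 4, 2, 7, 2, 1, 5, 7, 1, 7, 2, 4, 4, 2, 4, 2, 1, 7, 5, 7] (sel (ones 4060) ip7 76) = true := by decide +kernel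

theorem rot7_76r : band (Rule.ok (2 * 2) EX RL ⟨7 :: [5, 1, 2, 4, 2, 7, 2, 1, 5, 7, 1, 7, 2, 4, 4, 2, 4, 2, 1, 7, 5, 7], [8, 7], 31, true⟩) (lall (memL L) [5, 1, 2, 4, 2, 7, 2, 1, 5, 7, 1, 7, 2, 4, 4, 2, 4, 2, 1, 7, 5, 7]) = true := by decide +kernel

theorem rot7_77 : T.rot 7 [2, 7, 7, 2, 4, 1, 4, 8, 1, 2, 4, 2, 7, 2, 1, 8, 4, 4, 8, 4, 1, 2] (sel (ones 4060) ip7 77) = true := by decide +kernel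

theorem rot7_77r : band (Rule.ok (2 * 2) EX RL ⟨7 :: [2, 7, 7, 2, 4, 1, 4, 8, 1, 2, 4, 2, 7, 2, 1, 8, 4, 4, 8, 4, 1, 2], [8, 7, 7, 8, 7, 0, 2], 31, false⟩) (lall (memL L) [2, 7, 7, 2, 4, 1, 4, 8, 1, 2, 4, 2, 7, 2, 1, 8, 4, 4, 8, 4, 1, 2]) = true := by decide +kernel

theorem rot7_78 : T.rot 7 [7, 2, 4, 1, 4, 8, 1, 2, 4, 2, 7, 2, 1, 8, 4, 4, 8, 4, 1, 2, 7, 2] (sel (ones 4060) ip7 78) = true := by decide +kernel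

theorem rot7_78r : band (Rule.ok (2 * 2) EX RL ⟨7 :: [7, 2, 4, 1, 4, 8, 1, 2, 4, 2, 7, 2, 1, 8, 4, 4, 8, 4, 1, 2, 7, 2], [8, 7, 7, 8, 7, 0, 2, 6, 2], 31, false⟩) (lall (memL L) [7, 2, 4, 1, 4, 8, 1, 2, 4, 2, 7, 2, 1, 8, 4, 4, 8, 4, 1, 2, 7, 2]) = true := by decide +kernel

theorem rot7_79 : T.rot 7 [2, 4, 1, 4, 8, 1, 2, 4, 2, 7, 2, 1, 8, 4, 4, 8, 4, 1, 2, 7, 2, 7] (sel (ones 4060) ip7 79) = true := by decide +kernel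

theorem rot7_79r : band (Rule.ok (2 * 2) EX RL ⟨7 :: [2, 4, 1, 4, 8, 1, 2, 4, 2, 7, 2, 1, 8, 4, 4, 8, 4, 1, 2, 7, 2, 7], [8, 7, 7, 8, 7, 0, 2, 6, 2, 6], 31, false⟩) (lall (memL L) [2, 4, 1, 4, 8, 1, 2, 4, 2, 7, 2, 1, 8, 4, 4, 8, 4, 1, 2, 7, 2, 7]) = true := by decide +kernel

theorem rot7_80 : T.rot 7 [2, 1, 8, 4, 4, 8, 4, 1, 2, 7, 2, 7, 7, 2, 4, 1, 4, 8, 1, 2, 4, 2] (sel (ones 4060) ip7 80) = true := by decide +kernel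

theorem rot7_80r : band (Rule.ok (2 * 2) EX RL ⟨7 :: [2, 1, 8, 4, 4, 8, 4, 1, 2, 7, 2, 7, 7, 2, 4, 1, 4, 8, 1, 2, 4, 2], [0, 2, 7], 31, false⟩) (lall (memL L) [2, 1, 8, 4, 4, 8, 4, 1, 2, 7, 2, 7, 7, 2, 4, 1, 4, 8, 1, 2, 4, 2]) = true := by decide +kernel

theorem rot7_81 : T.rot 7 [7, 8, 8, 2, 4, 4, 5, 7, 2, 4, 4, 5, 7, 5, 2, 4, 8, 7, 7, 2, 5, 4, 8] (sel (ones 4060) ip7 81) = true := by decide +kernel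

theorem rot7_81r : band (Rule.ok (2 * 2) EX RL ⟨7 :: [7, 8, 8, 2, 4, 4, 5, 7, 2, 4, 4, 5, 7, 5, 2, 4, 8, 7, 7, 2, 5, 4, 8], [9, 7, 8], 9, true⟩) (lall (memL L) [7, 8, 8, 2, 4, 4, 5, 7, 2, 4, 4, 5, 7, 5, 2, 4, 8, 7, 7, 2, 5, 4, 8]) = true := by decide +kernel

theorem rot7_82 : T.rot 7 [8, 8, 2, 4, 4, 5, 7, 2, 4, 4, 5, 7, 5, 2, 4, 8, 7, 7, 2, 5, 4, 8, 7] (sel (ones 4060) ip7 82) = true := by decide +kernel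

theorem rot7_82r : band (Rule.ok (2 * 2) EX RL ⟨7 :: [8, 8, 2, 4, 4, 5, 7, 2, 4, 4, 5, 7, 5, 2, 4, 8, 7, 7, 2, 5, 4, 8, 7], [9, 7, 8, 6], 9, true⟩) (lall (memL L) [8, 8, 2, 4, 4, 5, 7, 2, 4, 4, 5, 7, 5, 2, 4, 8, 7, 7, 2, 5, 4, 8, 7]) = true := by decide +kernel

theorem rot7_83 : T.rot 7 [2, 4, 4, 5, 7, 5, 2, 4, 8, 7, 7, 2, 5, 4, 8, 7, 7, 8, 8, 2, 4, 4, 5] (sel (ones 4060) ip7 83) = true := by decide +kernel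

theorem rot7_83r : band (Rule.ok (2 * 2) EX RL ⟨7 :: [2, 4, 4, 5, 7, 5, 2, 4, 8, 7, 7, 2, 5, 4, 8, 7, 7, 8, 8, 2, 4, 4, 5], [9, 7, 8, 6, 6, 8, 8, 2, 7, 7, 9], 9, true⟩) (lall (memL L) [2, 4, 4, 5, 7, 5, 2, 4, 8, 7, 7, 2, 5, 4, 8, 7, 7, 8, 8, 2, 4, 4, 5]) = true := by decide +kernel

theorem rot7_84 : T.rot 7 [5, 2, 4, 8, 7, 7, 2, 5, 4, 8, 7, 7, 8, 8, 2, 4, 4, 5, 7, 2, 4, 4, 5] (sel (ones 4060) ip7 84) = true := by decide +kernel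

theorem rot7_84r : band (Rule.ok (2 * 2) EX RL ⟨7 :: [5, 2, 4, 8, 7, 7, 2, 5, 4, 8, 7, 7, 8, 8, 2, 4, 4, 5, 7, 2, 4, 4, 5], [2, 7, 7, 9, 6, 2, 8, 7], 9, true⟩) (lall (memL L) [5, 2, 4, 8, 7, 7, 2, 5, 4, 8, 7, 7, 8, 8, 2, 4, 4, 5, 7, 2, 4, 4, 5]) = true := by decide +kernel

theorem rot7_85 : T.rot 7 [7, 2, 5, 4, 8, 7, 7, 8, 8, 2, 4, 4, 5, 7, 2, 4, 4, 5, 7, 5, 2, 4, 8] (sel (ones 4060) ip7 85) = true := by decide +kernel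

theorem rot7_85r : band (Rule.ok (2 * 2) EX RL ⟨7 :: [7, 2, 5, 4, 8, 7, 7, 8, 8, 2, 4, 4, 5, 7, 2, 4, 4, 5, 7, 5, 2, 4, 8], [2, 7, 7], 9, true⟩) (lall (memL L) [7, 2, 5, 4, 8, 7, 7, 8, 8, 2, 4, 4, 5, 7, 2, 4, 4, 5, 7, 5, 2, 4, 8]) = true := by decide +kernel

theorem rot7_86 : T.rot 7 [2, 5, 4, 8, 7, 7, 8, 8, 2, 4, 4, 5, 7, 2, 4, 4, 5, 7, 5, 2, 4, 8, 7] (sel (ones 4060) ip7 86) = true := by decide +kernel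

theorem rot7_86r : band (Rule.ok (2 * 2) EX RL ⟨7 :: [2, 5, 4, 8, 7, 7, 8, 8, 2, 4, 4, 5, 7, 2, 4, 4, 5, 7, 5, 2, 4, 8, 7], [2, 7], 9, true⟩) (lall (memL L) [2, 5, 4, 8, 7, 7, 8, 8, 2, 4, 4, 5, 7, 2, 4, 4, 5, 7, 5, 2, 4, 8, 7]) = true := by decide +kernel

theorem rot7_87 : T.rot 7 [2, 8, 4, 8, 7, 7, 2, 4, 8, 7, 7, 2, 5, 5, 4, 4, 5, 7, 8, 2, 4, 4, 5] (sel (ones 4060) ip7 87) = true := by decide +kernel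

theorem rot7_87r : band (Rule.ok (2 * 2) EX RL ⟨7 :: [2, 8, 4, 8, 7, 7, 2, 4, 8, 7, 7, 2, 5, 5, 4, 4, 5, 7, 8, 2, 4, 4, 5], [2, 7, 7, 9], 9, false⟩) (lall (memL L) [2, 8, 4, 8, 7, 7, 2, 4, 8, 7, 7, 2, 5, 5, 4, 4, 5, 7, 8, 2, 4, 4, 5]) = true := by decide +kernel

theorem rot7_88 : T.rot 7 [7, 2, 4, 8, 7, 7, 2, 5, 5, 4, 4, 5, 7, 8, 2, 4, 4, 5, 7, 2, 8, 4, 8] (sel (ones 4060) ip7 88) = true := by decide +kernel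

theorem rot7_88r : band (Rule.ok (2 * 2) EX RL ⟨7 :: [7, 2, 4, 8, 7, 7, 2, 5, 5, 4, 4, 5, 7, 8, 2, 4, 4, 5, 7, 2, 8, 4, 8], [2, 7, 7, 9, 6, 2, 8, 7, 8], 9, false⟩) (lall (memL L) [7, 2, 4, 8, 7, 7, 2, 5, 5, 4, 4, 5, 7, 8, 2, 4, 4, 5, 7, 2, 8, 4, 8]) = true := by decide +kernel

theorem rot7_89 : T.rot 7 [2, 4, 8, 7, 7, 2, 5, 5, 4, 4, 5, 7, 8, 2, 4, 4, 5, 7, 2, 8, 4, 8, 7] (sel (ones 4060) ip7 89) = true := by decide +kernel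

theorem rot7_89r : band (Rule.ok (2 * 2) EX RL ⟨7 :: [2, 4, 8, 7, 7, 2, 5, 5, 4, 4, 5, 7, 8, 2, 4, 4, 5, 7, 2, 8, 4, 8, 7], [2, 7, 7, 9, 6, 2, 8, 7, 8, 6], 9, false⟩) (lall (memL L) [2, 4, 8, 7, 7, 2, 5, 5, 4, 4, 5, 7, 8, 2, 4, 4, 5, 7, 2, 8, 4, 8, 7]) = true := by decide +kernel

theorem rot7_90 : T.rot 7 [7, 2, 5, 5, 4, 4, 5, 7, 8, 2, 4, 4, 5, 7, 2, 8, 4, 8, 7, 7, 2, 4, 8] (sel (ones 4060) ip7 90) = true := by decide +kernel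

theorem rot7_90r : band (Rule.ok (2 * 2) EX RL ⟨7 :: [7, 2, 5, 5, 4, 4, 5, 7, 8, 2, 4, 4, 5, 7, 2, 8, 4, 8, 7, 7, 2, 4, 8], [9, 7, 8, 6, 6, 8, 8, 2, 7, 7], 9, false⟩) (lall (memL L) [7, 2, 5, 5, 4, 4, 5, 7, 8, 2, 4, 4, 5, 7, 2, 8, 4, 8, 7, 7, 2, 4, 8]) = true := by decide +kernel

theorem rot7_91 : T.rot 7 [2, 5, 5, 4, 4, 5, 7, 8, 2, 4, 4, 5, 7, 2, 8, 4, 8, 7, 7, 2, 4, 8, 7] (sel (ones 4060) ip7 91) = true := by decide +kernel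

theorem rot7_91r : band (Rule.ok (2 * 2) EX RL ⟨7 :: [2, 5, 5, 4, 4, 5, 7, 8, 2, 4, 4, 5, 7, 2, 8, 4, 8, 7, 7, 2, 4, 8, 7], [9, 7, 8, 6, 6, 8, 8, 2, 7], 9, false⟩) (lall (memL L) [2, 5, 5, 4, 4, 5, 7, 8, 2, 4, 4, 5, 7, 2, 8, 4, 8, 7, 7, 2, 4, 8, 7]) = true := by decide +kernel

theorem rot7_92 : T.rot 7 [8, 2, 4, 4, 5, 7, 2, 8, 4, 8, 7, 7, 2, 4, 8, 7, 7, 2, 5, 5, 4, 4, 5] (sel (ones 4060) ip7 92) = true := by decide +kernel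

theorem rot7_92r : band (Rule.ok (2 * 2) EX RL ⟨7 :: [8, 2, 4, 4, 5, 7, 2, 8, 4, 8, 7, 7, 2, 4, 8, 7, 7, 2, 5, 5, 4, 4, 5], [9, 7], 9, false⟩) (lall (memL L) [8, 2, 4, 4, 5, 7, 2, 8, 4, 8, 7, 7, 2, 4, 8, 7, 7, 2, 5, 5, 4, 4, 5]) = true := by decide +kernel

theorem rot7_93 : T.rot 7 [7, 2, 7, 4, 8, 7, 7, 8, 2, 4, 4, 5, 7, 2, 5, 4, 4, 5, 7, 4, 2, 4, 8] (sel (ones 4060) ip7 93) = true := by decide +kernel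

theorem rot7_93r : band (Rule.ok (2 * 2) EX RL ⟨7 :: [7, 2, 7, 4, 8, 7, 7, 8, 2, 4, 4, 5, 7, 2, 5, 4, 4, 5, 7, 4, 2, 4, 8], [7, 2, 7, 8], 12, true⟩) (lall (memL L) [7, 2, 7, 4, 8, 7, 7, 8, 2, 4, 4, 5, 7, 2, 5, 4, 4, 5, 7, 4, 2, 4, 8]) = true := by decide +kernel

theorem rot7_94 : T.rot 7 [2, 7, 4, 8, 7, 7, 8, 2, 4, 4, 5, 7, 2, 5, 4, 4, 5, 7, 4, 2, 4, 8, 7] (sel (ones 4060) ip7 94) = true := by decide +kernel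

theorem rot7_94r : band (Rule.ok (2 * 2) EX RL ⟨7 :: [2, 7, 4, 8, 7, 7, 8, 2, 4, 4, 5, 7, 2, 5, 4, 4, 5, 7, 4, 2, 4, 8, 7], [7, 2, 7, 8, 6], 12, true⟩) (lall (memL L) [2, 7, 4, 8, 7, 7, 8, 2, 4, 4, 5, 7, 2, 5, 4, 4, 5, 7, 4, 2, 4, 8, 7]) = true := by decide +kernel

theorem rot7_95 : T.rot 7 [7, 8, 2, 4, 4, 5, 7, 2, 5, 4, 4, 5, 7, 4, 2, 4, 8, 7, 7, 2, 7, 4, 8] (sel (ones 4060) ip7 95) = true := by decide +kernel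

theorem rot7_95r : band (Rule.ok (2 * 2) EX RL ⟨7 :: [7, 8, 2, 4, 4, 5, 7, 2, 5, 4, 4, 5, 7, 4, 2, 4, 8, 7, 7, 2, 7, 4, 8], [7, 2, 7, 8, 6, 6, 2, 8], 12, true⟩) (lall (memL L) [7, 8, 2, 4, 4, 5, 7, 2, 5, 4, 4, 5, 7, 4, 2, 4, 8, 7, 7, 2, 7, 4, 8]) = true := by decide +kernel

theorem rot7_96 : T.rot 7 [8, 2, 4, 4, 5, 7, 2, 5, 4, 4, 5, 7, 4, 2, 4, 8, 7, 7, 2, 7, 4, 8, 7] (sel (ones 4060) ip7 96) = true := by decide +kernel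

theorem rot7_96r : band (Rule.ok (2 * 2) EX RL ⟨7 :: [8, 2, 4, 4, 5, 7, 2, 5, 4, 4, 5, 7, 4, 2, 4, 8, 7, 7, 2, 7, 4, 8, 7], [7, 2, 7, 8, 6, 6, 2, 8, 6], 12, true⟩) (lall (memL L) [8, 2, 4, 4, 5, 7, 2, 5, 4, 4, 5, 7, 4, 2, 4, 8, 7, 7, 2, 7, 4, 8, 7]) = true := by decide +kernel

theorem rot7_97 : T.rot 7 [2, 5, 4, 4, 5, 7, 4, 2, 4, 8, 7, 7, 2, 7, 4, 8, 7, 7, 8, 2, 4, 4, 5] (sel (ones 4060) ip7 97) = true := by decide +kernel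

theorem rot7_97r : band (Rule.ok (2 * 2) EX RL ⟨7 :: [2, 5, 4, 4, 5, 7, 4, 2, 4, 8, 7, 7, 2, 7, 4, 8, 7, 7, 8, 2, 4, 4, 5], [7, 8, 6, 6, 8, 2, 7], 12, true⟩) (lall (memL L) [2, 5, 4, 4, 5, 7, 4, 2, 4, 8, 7, 7, 2, 7, 4, 8, 7, 7, 8, 2, 4, 4, 5]) = true := by decide +kernel

theorem rot7_98 : T.rot 7 [7, 8, 2, 4, 8, 7, 7, 2, 5, 4, 4, 5, 7, 4, 2, 4, 4, 5, 7, 2, 7, 4, 8] (sel (ones 4060) ip7 98) = true := by decide +kernel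

theorem rot7_98r : band (Rule.ok (2 * 2) EX RL ⟨7 :: [7, 8, 2, 4, 8, 7, 7, 2, 5, 4, 4, 5, 7, 4, 2, 4, 4, 5, 7, 2, 7, 4, 8], [7, 8], 12, false⟩) (lall (memL L) [7, 8, 2, 4, 8, 7, 7, 2, 5, 4, 4, 5, 7, 4, 2, 4, 4, 5, 7, 2, 7, 4, 8]) = true := by decide +kernel

theorem rot7_99 : T.rot 7 [8, 2, 4, 8, 7, 7, 2, 5, 4, 4, 5, 7, 4, 2, 4, 4, 5, 7, 2, 7, 4, 8, 7] (sel (ones 4060) ip7 99) = true := by decide +kernel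

theorem rot7_99r : band (Rule.ok (2 * 2) EX RL ⟨7 :: [8, 2, 4, 8, 7, 7, 2, 5, 4, 4, 5, 7, 4, 2, 4, 4, 5, 7, 2, 7, 4, 8, 7], [7, 8, 6], 12, false⟩) (lall (memL L) [8, 2, 4, 8, 7, 7, 2, 5, 4, 4, 5, 7, 4, 2, 4, 4, 5, 7, 2, 7, 4, 8, 7]) = true := by decide +kernel

theorem rot7_100 : T.rot 7 [7, 2, 5, 4, 4, 5, 7, 4, 2, 4, 4, 5, 7, 2, 7, 4, 8, 7, 7, 8, 2, 4, 8] (sel (ones 4060) ip7 100) = true := by decide +kernel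

theorem rot7_100r : band (Rule.ok (2 * 2) EX RL ⟨7 :: [7, 2, 5, 4, 4, 5, 7, 4, 2, 4, 4, 5, 7, 2, 7, 4, 8, 7, 7, 8, 2, 4, 8], [7, 8, 6, 6, 8, 2, 7, 8], 12, false⟩) (lall (memL L) [7, 2, 5, 4, 4, 5, 7, 4, 2, 4, 4, 5, 7, 2, 7, 4, 8, 7, 7, 8, 2, 4, 8]) = true := by decide +kernel

theorem rot7_101 : T.rot 7 [2, 5, 4, 4, 5, 7, 4, 2, 4, 4, 5, 7, 2, 7, 4, 8, 7, 7, 8, 2, 4, 8, 7] (sel (ones 4060) ip7 101) = true := by decide +kernel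

theorem rot7_101r : band (Rule.ok (2 * 2) EX RL ⟨7 :: [2, 5, 4, 4, 5, 7, 4, 2, 4, 4, 5, 7, 2, 7, 4, 8, 7, 7, 8, 2, 4, 8, 7], [7, 8, 6, 6, 8, 2, 7, 8, 6], 12, false⟩) (lall (memL L) [2, 5, 4, 4, 5, 7, 4, 2, 4, 4, 5, 7, 2, 7, 4, 8, 7, 7, 8, 2, 4, 8, 7]) = true := by decide +kernel

theorem rot7_102 : T.rot 7 [2, 7, 4, 8, 7, 7, 8, 2, 4, 8, 7, 7, 2, 5, 4, 4, 5, 7, 4, 2, 4, 4, 5] (sel (ones 4060) ip7 102) = true := by decide +kernel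

theorem rot7_102r : band (Rule.ok (2 * 2) EX RL ⟨7 :: [2, 7, 4, 8, 7, 7, 8, 2, 4, 8, 7, 7, 2, 5, 4, 4, 5, 7, 4, 2, 4, 4, 5], [7, 2, 7], 12, false⟩) (lall (memL L) [2, 7, 4, 8, 7, 7, 8, 2, 4, 8, 7, 7, 2, 5, 4, 4, 5, 7, 4, 2, 4, 4, 5]) = true := by decide +kernel

theorem rot7_103 : T.rot 7 [6, 2, 1, 2, 4, 2, 4, 2, 1, 2, 8, 7, 2, 8, 7, 5, 7, 5, 2, 1, 2, 1, 4, 2] (sel (ones 4060) ip7 103) = true := by decide +kernel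

theorem rot7_103r : band (Rule.ok (2 * 2) EX RL ⟨7 :: [6, 2, 1, 2, 4, 2, 4, 2, 1, 2, 8, 7, 2, 8, 7, 5, 7, 5, 2, 1, 2, 1, 4, 2], [0, 2, 0, 7, 2], 29, true⟩) (lall (memL L) [6, 2, 1, 2, 4, 2, 4, 2, 1, 2, 8, 7, 2, 8, 7, 5, 7, 5, 2, 1, 2, 1, 4, 2]) = true := by decide +kernel

theorem rot7_104 : T.rot 7 [2, 8, 7, 5, 7, 5, 2, 1, 2, 1, 4, 2, 7, 6, 2, 1, 2, 4, 2, 4, 2, 1, 2, 8] (sel (ones 4060) ip7 104) = true := by decide +kernel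

theorem rot7_104r : band (Rule.ok (2 * 2) EX RL ⟨7 :: [2, 8, 7, 5, 7, 5, 2, 1, 2, 1, 4, 2, 7, 6, 2, 1, 2, 4, 2, 4, 2, 1, 2, 8], [2, 8, 7, 8, 7, 9, 2, 7], 29, true⟩) (lall (memL L) [2, 8, 7, 5, 7, 5, 2, 1, 2, 1, 4, 2, 7, 6, 2, 1, 2, 4, 2, 4, 2, 1, 2, 8]) = true := by decide +kernel

theorem rot7_105 : T.rot 7 [5, 7, 5, 2, 1, 2, 1, 4, 2, 7, 6, 2, 1, 2, 4, 2, 4, 2, 1, 2, 8, 7, 2, 8] (sel (ones 4060) ip7 105) = true := by decide +kernel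

theorem rot7_105r : band (Rule.ok (2 * 2) EX RL ⟨7 :: [5, 7, 5, 2, 1, 2, 1, 4, 2, 7, 6, 2, 1, 2, 4, 2, 4, 2, 1, 2, 8, 7, 2, 8], [2, 8, 7, 8, 7], 29, true⟩) (lall (memL L) [5, 7, 5, 2, 1, 2, 1, 4, 2, 7, 6, 2, 1, 2, 4, 2, 4, 2, 1, 2, 8, 7, 2, 8]) = true := by decide +kernel

theorem rot7_106 : T.rot 7 [5, 2, 1, 2, 1, 4, 2, 7, 6, 2, 1, 2, 4, 2, 4, 2, 1, 2, 8, 7, 2, 8, 7, 5] (sel (ones 4060) ip7 106) = true := by decide +kernel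

theorem rot7_106r : band (Rule.ok (2 * 2) EX RL ⟨7 :: [5, 2, 1, 2, 1, 4, 2, 7, 6, 2, 1, 2, 4, 2, 4, 2, 1, 2, 8, 7, 2, 8, 7, 5], [2, 8, 7], 29, true⟩) (lall (memL L) [5, 2, 1, 2, 1, 4, 2, 7, 6, 2, 1, 2, 4, 2, 4, 2, 1, 2, 8, 7, 2, 8, 7, 5]) = true := by decide +kernel

theorem rot7_107 : T.rot 7 [2, 7, 2, 1, 2, 3, 4, 2, 7, 1, 2, 1, 2, 8, 4, 8, 4, 5, 2, 4, 5, 2, 1, 2] (sel (ones 4060) ip7 107) = true := by decide +kernel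

theorem rot7_107r : band (Rule.ok (2 * 2) EX RL ⟨7 :: [2, 7, 2, 1, 2, 3, 4, 2, 7, 1, 2, 1, 2, 8, 4, 8, 4, 5, 2, 4, 5, 2, 1, 2], [2, 8, 7, 8, 7, 9, 2, 7, 9, 2, 0, 2], 29, false⟩) (lall (memL L) [2, 7, 2, 1, 2, 3, 4, 2, 7, 1, 2, 1, 2, 8, 4, 8, 4, 5, 2, 4, 5, 2, 1, 2]) = true := by decide +kernel

theorem rot7_108 : T.rot 7 [2, 1, 2, 3, 4, 2, 7, 1, 2, 1, 2, 8, 4, 8, 4, 5, 2, 4, 5, 2, 1, 2, 7, 2] (sel (ones 4060) ip7 108) = true := by decide +kernel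

theorem rot7_108r : band (Rule.ok (2 * 2) EX RL ⟨7 :: [2, 1, 2, 3, 4, 2, 7, 1, 2, 1, 2, 8, 4, 8, 4, 5, 2, 4, 5, 2, 1, 2, 7, 2], [0, 2, 0, 7, 2, 6, 4, 2, 0, 2, 7], 29, false⟩) (lall (memL L) [2, 1, 2, 3, 4, 2, 7, 1, 2, 1, 2, 8, 4, 8, 4, 5, 2, 4, 5, 2, 1, 2, 7, 2]) = true := by decide +kernel

theorem rot7_109 : T.rot 7 [1, 2, 1, 2, 8, 4, 8, 4, 5, 2, 4, 5, 2, 1, 2, 7, 2, 7, 2, 1, 2, 3, 4, 2] (sel (ones 4060) ip7 109) = true := by decide +kernel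

theorem rot7_109r : band (Rule.ok (2 * 2) EX RL ⟨7 :: [1, 2, 1, 2, 8, 4, 8, 4, 5, 2, 4, 5, 2, 1, 2, 7, 2, 7, 2, 1, 2, 3, 4, 2], [0, 2, 0, 7], 29, false⟩) (lall (memL L) [1, 2, 1, 2, 8, 4, 8, 4, 5, 2, 4, 5, 2, 1, 2, 7, 2, 7, 2, 1, 2, 3, 4, 2]) = true := by decide +kernel

theorem rot7_110 : T.rot 7 [7, 2, 2, 4, 8, 7, 7, 2, 2, 4, 8, 7, 7, 2, 8, 5, 2, 4, 8, 7, 7, 2, 2, 4, 8] (sel (ones 4060) ip7 110) = true := by decide +kernel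

theorem rot7_110r : band (Rule.ok (2 * 2) EX RL ⟨7 :: [7, 2, 2, 4, 8, 7, 7, 2, 2, 4, 8, 7, 7, 2, 8, 5, 2, 4, 8, 7, 7, 2, 2, 4, 8], [7, 7], 5, true⟩) (lall (memL L) [7, 2, 2, 4, 8, 7, 7, 2, 2, 4, 8, 7, 7, 2, 8, 5, 2, 4, 8, 7, 7, 2, 2, 4, 8]) = true := by decide +kernel

theorem rot7_111 : T.rot 7 [7, 2, 2, 4, 8, 7, 7, 2, 8, 5, 2, 4, 8, 7, 7, 2, 2, 4, 8, 7, 7, 2, 2, 4, 8] (sel (ones 4060) ip7 111) = true := by decide +kernel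

theorem rot7_111r : band (Rule.ok (2 * 2) EX RL ⟨7 :: [7, 2, 2, 4, 8, 7, 7, 2, 8, 5, 2, 4, 8, 7, 7, 2, 2, 4, 8, 7, 7, 2, 2, 4, 8], [7, 7], 5, true⟩) (lall (memL L) [7, 2, 2, 4, 8, 7, 7, 2, 8, 5, 2, 4, 8, 7, 7, 2, 2, 4, 8, 7, 7, 2, 2, 4, 8]) = true := by decide +kernel

theorem rot7_112 : T.rot 7 [7, 2, 5, 2, 4, 8, 7, 7, 2, 5, 2, 4, 8, 7, 7, 2, 5, 2, 4, 8, 7, 7, 2, 5, 2, 4, 8] (sel (ones 4060) ip7 112) = true := by decide +kernel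

theorem rot7_112r : band (Rule.ok (2 * 2) EX RL ⟨7 :: [7, 2, 5, 2, 4, 8, 7, 7, 2, 5, 2, 4, 8, 7, 7, 2, 5, 2, 4, 8, 7, 7, 2, 5, 2, 4, 8], [2, 7, 7], 0, false⟩) (lall (memL L) [7, 2, 5, 2, 4, 8, 7, 7, 2, 5, 2, 4, 8, 7, 7, 2, 5, 2, 4, 8, 7, 7, 2, 5, 2, 4, 8]) = true := by decide +kernel

theorem rot7_113 : T.rot 7 [7, 8, 7, 2, 4, 5, 2, 4, 4, 5, 7, 2, 7, 2, 4, 8, 7, 7, 2, 4, 8, 7, 2, 4, 5, 4, 4, 2] (sel (ones 4060) ip7 113) = true := by decide +kernel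

theorem rot7_113r : band (Rule.ok (2 * 2) EX RL ⟨7 :: [7, 8, 7, 2, 4, 5, 2, 4, 4, 5, 7, 2, 7, 2, 4, 8, 7, 7, 2, 4, 8, 7, 2, 4, 5, 4, 4, 2], [2, 7, 9, 7, 7, 2], 17, true⟩) (lall (memL L) [7, 8, 7, 2, 4, 5, 2, 4, 4, 5, 7, 2, 7, 2, 4, 8, 7, 7, 2, 4, 8, 7, 2, 4, 5, 4, 4, 2]) = true := by decide +kernel

theorem rot7_114 : T.rot 7 [8, 7, 2, 4, 5, 2, 4, 4, 5, 7, 2, 7, 2, 4, 8, 7, 7, 2, 4, 8, 7, 2, 4, 5, 4, 4, 2, 7] (sel (ones 4060) ip7 114) = true := by decide +kernel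

theorem rot7_114r : band (Rule.ok (2 * 2) EX RL ⟨7 :: [8, 7, 2, 4, 5, 2, 4, 4, 5, 7, 2, 7, 2, 4, 8, 7, 7, 2, 4, 8, 7, 2, 4, 5, 4, 4, 2, 7], [2, 7, 9, 7, 7, 2, 6], 17, true⟩) (lall (memL L) [8, 7, 2, 4, 5, 2, 4, 4, 5, 7, 2, 7, 2, 4, 8, 7, 7, 2, 4, 8, 7, 2, 4, 5, 4, 4, 2, 7]) = true := by decide +kernel

theorem rot7_115 : T.rot 7 [2, 4, 5, 2, 4, 4, 5, 7, 2, 7, 2, 4, 8, 7, 7, 2, 4, 8, 7, 2, 4, 5, 4, 4, 2, 7, 7, 8] (sel (ones 4060) ip7 115) = true := by decide +kernel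

theorem rot7_115r : band (Rule.ok (2 * 2) EX RL ⟨7 :: [2, 4, 5, 2, 4, 4, 5, 7, 2, 7, 2, 4, 8, 7, 7, 2, 4, 8, 7, 2, 4, 5, 4, 4, 2, 7, 7, 8], [2, 7, 9, 7, 7, 2, 6, 6, 8], 17, true⟩) (lall (memL L) [2, 4, 5, 2, 4, 4, 5, 7, 2, 7, 2, 4, 8, 7, 7, 2, 4, 8, 7, 2, 4, 5, 4, 4, 2, 7, 7, 8]) = true := by decide +kernel

theorem rot7_116 : T.rot 7 [2, 7, 2, 4, 8, 7, 7, 2, 4, 8, 7, 2, 4, 5, 4, 4, 2, 7, 7, 8, 7, 2, 4, 5, 2, 4, 4, 5] (sel (ones 4060) ip7 116) = true := by decide +kernel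

theorem rot7_116r : band (Rule.ok (2 * 2) EX RL ⟨7 :: [2, 7, 2, 4, 8, 7, 7, 2, 4, 8, 7, 2, 4, 5, 4, 4, 2, 7, 7, 8, 7, 2, 4, 5, 2, 4, 4, 5], [7, 9, 6, 2, 7, 7, 9, 6, 2, 7, 2, 7], 17, true⟩) (lall (memL L) [2, 7, 2, 4, 8, 7, 7, 2, 4, 8, 7, 2, 4, 5, 4, 4, 2, 7, 7, 8, 7, 2, 4, 5, 2, 4, 4, 5]) = true := by decide +kernel

theorem rot7_117 : T.rot 7 [2, 4, 8, 7, 7, 2, 4, 8, 7, 2, 4, 5, 4, 4, 2, 7, 7, 8, 7, 2, 4, 5, 2, 4, 4, 5, 7, 2] (sel (ones 4060) ip7 117) = true := by decide +kernel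

theorem rot7_117r : band (Rule.ok (2 * 2) EX RL ⟨7 :: [2, 4, 8, 7, 7, 2, 4, 8, 7, 2, 4, 5, 4, 4, 2, 7, 7, 8, 7, 2, 4, 5, 2, 4, 4, 5, 7, 2], [7, 9, 6, 2, 7, 7, 9, 6, 2, 7], 17, true⟩) (lall (memL L) [2, 4, 8, 7, 7, 2, 4, 8, 7, 2, 4, 5, 4, 4, 2, 7, 7, 8, 7, 2, 4, 5, 2, 4, 4, 5, 7, 2]) = true := by decide +kernel

theorem rot7_118 : T.rot 7 [2, 4, 8, 7, 2, 4, 5, 4, 4, 2, 7, 7, 8, 7, 2, 4, 5, 2, 4, 4, 5, 7, 2, 7, 2, 4, 8, 7] (sel (ones 4060) ip7 118) = true := by decide +kernel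

theorem rot7_118r : band (Rule.ok (2 * 2) EX RL ⟨7 :: [2, 4, 8, 7, 2, 4, 5, 4, 4, 2, 7, 7, 8, 7, 2, 4, 5, 2, 4, 4, 5, 7, 2, 7, 2, 4, 8, 7], [7, 9, 6, 2, 7], 17, true⟩) (lall (memL L) [2, 4, 8, 7, 2, 4, 5, 4, 4, 2, 7, 7, 8, 7, 2, 4, 5, 2, 4, 4, 5, 7, 2, 7, 2, 4, 8, 7]) = true := by decide +kernel

theorem rot7_119 : T.rot 7 [2, 4, 5, 4, 4, 2, 7, 7, 8, 7, 2, 4, 5, 2, 4, 4, 5, 7, 2, 7, 2, 4, 8, 7, 7, 2, 4, 8] (sel (ones 4060) ip7 119) = true := by decide +kernel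

theorem rot7_119r : band (Rule.ok (2 * 2) EX RL ⟨7 :: [2, 4, 5, 4, 4, 2, 7, 7, 8, 7, 2, 4, 5, 2, 4, 4, 5, 7, 2, 7, 2, 4, 8, 7, 7, 2, 4, 8], [7], 17, true⟩) (lall (memL L) [2, 4, 5, 4, 4, 2, 7, 7, 8, 7, 2, 4, 5, 2, 4, 4, 5, 7, 2, 7, 2, 4, 8, 7, 7, 2, 4, 8]) = true := by decide +kernel

theorem rot7_120 : T.rot 7 [2, 4, 4, 5, 7, 2, 4, 2, 4, 8, 7, 7, 2, 8, 7, 2, 4, 5, 4, 4, 2, 7, 7, 8, 7, 2, 4, 5] (sel (ones 4060) ip7 120) = true := by decide +kernel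

theorem rot7_120r : band (Rule.ok (2 * 2) EX RL ⟨7 :: [2, 4, 4, 5, 7, 2, 4, 2, 4, 8, 7, 7, 2, 8, 7, 2, 4, 5, 4, 4, 2, 7, 7, 8, 7, 2, 4, 5], [7, 9], 17, false⟩) (lall (memL L) [2, 4, 4, 5, 7, 2, 4, 2, 4, 8, 7, 7, 2, 8, 7, 2, 4, 5, 4, 4, 2, 7, 7, 8, 7, 2, 4, 5]) = true := by decide +kernel

theorem rot7_121 : T.rot 7 [2, 4, 2, 4, 8, 7, 7, 2, 8, 7, 2, 4, 5, 4, 4, 2, 7, 7, 8, 7, 2, 4, 5, 7, 2, 4, 4, 5] (sel (ones 4060) ip7 121) = true := by decide +kernel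

theorem rot7_121r : band (Rule.ok (2 * 2) EX RL ⟨7 :: [2, 4, 2, 4, 8, 7, 7, 2, 8, 7, 2, 4, 5, 4, 4, 2, 7, 7, 8, 7, 2, 4, 5, 7, 2, 4, 4, 5], [7, 9, 6, 2, 7, 7, 9], 17, false⟩) (lall (memL L) [2, 4, 2, 4, 8, 7, 7, 2, 8, 7, 2, 4, 5, 4, 4, 2, 7, 7, 8, 7, 2, 4, 5, 7, 2, 4, 4, 5]) = true := by decide +kernel

theorem rot7_122 : T.rot 7 [7, 2, 8, 7, 2, 4, 5, 4, 4, 2, 7, 7, 8, 7, 2, 4, 5, 7, 2, 4, 4, 5, 7, 2, 4, 2, 4, 8] (sel (ones 4060) ip7 122) = true := by decide +kernel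

theorem rot7_122r : band (Rule.ok (2 * 2) EX RL ⟨7 :: [7, 2, 8, 7, 2, 4, 5, 4, 4, 2, 7, 7, 8, 7, 2, 4, 5, 7, 2, 4, 4, 5, 7, 2, 4, 2, 4, 8], [7, 9, 6, 2, 7, 7, 9, 6, 2, 7, 2, 7, 8], 17, false⟩) (lall (memL L) [7, 2, 8, 7, 2, 4, 5, 4, 4, 2, 7, 7, 8, 7, 2, 4, 5, 7, 2, 4, 4, 5, 7, 2, 4, 2, 4, 8]) = true := by decide +kernel

theorem rot7_123 : T.rot 7 [2, 4, 5, 4, 4, 2, 7, 7, 8, 7, 2, 4, 5, 7, 2, 4, 4, 5, 7, 2, 4, 2, 4, 8, 7, 7, 2, 8] (sel (ones 4060) ip7 123) = true := by decide +kernel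

theorem rot7_123r : band (Rule.ok (2 * 2) EX RL ⟨7 :: [2, 4, 5, 4, 4, 2, 7, 7, 8, 7, 2, 4, 5, 7, 2, 4, 4, 5, 7, 2, 4, 2, 4, 8, 7, 7, 2, 8], [2, 7, 9, 7, 7, 2, 6, 6, 8, 6, 2, 7], 17, false⟩) (lall (memL L) [2, 4, 5, 4, 4, 2, 7, 7, 8, 7, 2, 4, 5, 7, 2, 4, 4, 5, 7, 2, 4, 2, 4, 8, 7, 7, 2, 8]) = true := by decide +kernel

theorem rot7_124 : T.rot 7 [7, 8, 7, 2, 4, 5, 7, 2, 4, 4, 5, 7, 2, 4, 2, 4, 8, 7, 7, 2, 8, 7, 2, 4, 5, 4, 4, 2] (sel (ones 4060) ip7 124) = true := by decide +kernel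

theorem rot7_124r : band (Rule.ok (2 * 2) EX RL ⟨7 :: [7, 8, 7, 2, 4, 5, 7, 2, 4, 4, 5, 7, 2, 4, 2, 4, 8, 7, 7, 2, 8, 7, 2, 4, 5, 4, 4, 2], [2, 7, 9, 7, 7], 17, false⟩) (lall (memL L) [7, 8, 7, 2, 4, 5, 7, 2, 4, 4, 5, 7, 2, 4, 2, 4, 8, 7, 7, 2, 8, 7, 2, 4, 5, 4, 4, 2]) = true := by decide +kernel

theorem rot7_125 : T.rot 7 [8, 7, 2, 4, 5, 7, 2, 4, 4, 5, 7, 2, 4, 2, 4, 8, 7, 7, 2, 8, 7, 2, 4, 5, 4, 4, 2, 7] (sel (ones 4060) ip7 125) = true := by decide +kernel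

theorem rot7_125r : band (Rule.ok (2 * 2) EX RL ⟨7 :: [8, 7, 2, 4, 5, 7, 2, 4, 4, 5, 7, 2, 4, 2, 4, 8, 7, 7, 2, 8, 7, 2, 4, 5, 4, 4, 2, 7], [2, 7, 9, 7], 17, false⟩) (lall (memL L) [8, 7, 2, 4, 5, 7, 2, 4, 4, 5, 7, 2, 4, 2, 4, 8, 7, 7, 2, 8, 7, 2, 4, 5, 4, 4, 2, 7]) = true := by decide +kernel

theorem rot7_126 : T.rot 7 [2, 4, 5, 7, 2, 4, 4, 5, 7, 2, 4, 2, 4, 8, 7, 7, 2, 8, 7, 2, 4, 5, 4, 4, 2, 7, 7, 8] (sel (ones 4060) ip7 126) = true := by decide +kernel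

theorem rot7_126r : band (Rule.ok (2 * 2) EX RL ⟨7 :: [2, 4, 5, 7, 2, 4, 4, 5, 7, 2, 4, 2, 4, 8, 7, 7, 2, 8, 7, 2, 4, 5, 4, 4, 2, 7, 7, 8], [2, 7], 17, false⟩) (lall (memL L) [2, 4, 5, 7, 2, 4, 4, 5, 7, 2, 4, 2, 4, 8, 7, 7, 2, 8, 7, 2, 4, 5, 4, 4, 2, 7, 7, 8]) = true := by decide +kernel

theorem rot7_127 : T.rot 7 [7, 2, 8, 7, 2, 4, 4, 5, 7, 2, 4, 4, 5, 7, 8, 2, 4, 4, 5, 7, 2, 2, 4, 4, 5, 7, 2, 4, 5, 2, 4, 8] (sel (ones 4060) ip7 127) = true := by decide +kernel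

theorem rot7_127r : band (Rule.ok (2 * 2) EX RL ⟨7 :: [7, 2, 8, 7, 2, 4, 4, 5, 7, 2, 4, 4, 5, 7, 8, 2, 4, 4, 5, 7, 2, 2, 4, 4, 5, 7, 2, 4, 5, 2, 4, 8], [7, 9, 2, 7, 8], 14, true⟩) (lall (memL L) [7, 2, 8, 7, 2, 4, 4, 5, 7, 2, 4, 4, 5, 7, 8, 2, 4, 4, 5, 7, 2, 2, 4, 4, 5, 7, 2, 4, 5, 2, 4, 8]) = true := by decide +kernel

theorem rot7_128 : T.rot 7 [2, 8, 7, 2, 4, 4, 5, 7, 2, 4, 4, 5, 7, 8, 2, 4, 4, 5, 7, 2, 2, 4, 4, 5, 7, 2, 4, 5, 2, 4, 8, 7] (sel (ones 4060) ip7 128) = true := by decide +kernel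

theorem rot7_128r : band (Rule.ok (2 * 2) EX RL ⟨7 :: [2, 8, 7, 2, 4, 4, 5, 7, 2, 4, 4, 5, 7, 8, 2, 4, 4, 5, 7, 2, 2, 4, 4, 5, 7, 2, 4, 5, 2, 4, 8, 7], [7, 9, 2, 7, 8, 6], 14, true⟩) (lall (memL L) [2, 8, 7, 2, 4, 4, 5, 7, 2, 4, 4, 5, 7, 8, 2, 4, 4, 5, 7, 2, 2, 4, 4, 5, 7, 2, 4, 5, 2, 4, 8, 7]) = true := by decide +kernel

theorem rot7_129 : T.rot 7 [2, 4, 4, 5, 7, 2, 4, 4, 5, 7, 8, 2, 4, 4, 5, 7, 2, 2, 4, 4, 5, 7, 2, 4, 5, 2, 4, 8, 7, 7, 2, 8] (sel (ones 4060) ip7 129) = true := by decide +kernel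

theorem rot7_129r : band (Rule.ok (2 * 2) EX RL ⟨7 :: [2, 4, 4, 5, 7, 2, 4, 4, 5, 7, 8, 2, 4, 4, 5, 7, 2, 2, 4, 4, 5, 7, 2, 4, 5, 2, 4, 8, 7, 7, 2, 8], [7, 9, 2, 7, 8, 6, 6, 2, 8], 14, true⟩) (lall (memL L) [2, 4, 4, 5, 7, 2, 4, 4, 5, 7, 8, 2, 4, 4, 5, 7, 2, 2, 4, 4, 5, 7, 2, 4, 5, 2, 4, 8, 7, 7, 2, 8]) = true := by decide +kernel

theorem rot7_130 : T.rot 7 [8, 2, 4, 4, 5, 7, 2, 2, 4, 4, 5, 7, 2, 4, 5, 2, 4, 8, 7, 7, 2, 8, 7, 2, 4, 4, 5, 7, 2, 4, 4, 5] (sel (ones 4060) ip7 130) = true := by decide +kernel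

theorem rot7_130r : band (Rule.ok (2 * 2) EX RL ⟨7 :: [8, 2, 4, 4, 5, 7, 2, 2, 4, 4, 5, 7, 2, 4, 5, 2, 4, 8, 7, 7, 2, 8, 7, 2, 4, 4, 5, 7, 2, 4, 4, 5], [2, 7, 8, 6, 8, 6, 6, 2, 9, 7], 14, true⟩) (lall (memL L) [8, 2, 4, 4, 5, 7, 2, 2, 4, 4, 5, 7, 2, 4, 5, 2, 4, 8, 7, 7, 2, 8, 7, 2, 4, 4, 5, 7, 2, 4, 4, 5]) = true := by decide +kernel

theorem rot7_131 : T.rot 7 [2, 4, 5, 2, 4, 8, 7, 7, 2, 8, 7, 2, 4, 4, 5, 7, 2, 4, 4, 5, 7, 8, 2, 4, 4, 5, 7, 2, 2, 4, 4, 5] (sel (ones 4060) ip7 131) = true := by decide +kernel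

theorem rot7_131r : band (Rule.ok (2 * 2) EX RL ⟨7 :: [2, 4, 5, 2, 4, 8, 7, 7, 2, 8, 7, 2, 4, 4, 5, 7, 2, 4, 4, 5, 7, 8, 2, 4, 4, 5, 7, 2, 2, 4, 4, 5], [2, 7], 14, true⟩) (lall (memL L) [2, 4, 5, 2, 4, 8, 7, 7, 2, 8, 7, 2, 4, 4, 5, 7, 2, 4, 4, 5, 7, 8, 2, 4, 4, 5, 7, 2, 2, 4, 4, 5]) = true := by decide +kernel

theorem rot7_132 : T.rot 7 [7, 2, 2, 4, 8, 7, 7, 2, 5, 4, 8, 7, 7, 2, 4, 8, 7, 7, 2, 4, 5, 2, 4, 4, 5, 7, 2, 8, 7, 2, 4, 8] (sel (ones 4060) ip7 132) = true := by decide +kernel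

theorem rot7_132r : band (Rule.ok (2 * 2) EX RL ⟨7 :: [7, 2, 2, 4, 8, 7, 7, 2, 5, 4, 8, 7, 7, 2, 4, 8, 7, 7, 2, 4, 5, 2, 4, 4, 5, 7, 2, 8, 7, 2, 4, 8], [2, 7, 8], 14, false⟩) (lall (memL L) [7, 2, 2, 4, 8, 7, 7, 2, 5, 4, 8, 7, 7, 2, 4, 8, 7, 7, 2, 4, 5, 2, 4, 4, 5, 7, 2, 8, 7, 2, 4, 8]) = true := by decide +kernel

theorem rot7_133 : T.rot 7 [7, 2, 5, 4, 8, 7, 7, 2, 4, 8, 7, 7, 2, 4, 5, 2, 4, 4, 5, 7, 2, 8, 7, 2, 4, 8, 7, 7, 2, 2, 4, 8] (sel (ones 4060) ip7 133) = true := by decide +kernel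

theorem rot7_133r : band (Rule.ok (2 * 2) EX RL ⟨7 :: [7, 2, 5, 4, 8, 7, 7, 2, 4, 8, 7, 7, 2, 4, 5, 2, 4, 4, 5, 7, 2, 8, 7, 2, 4, 8, 7, 7, 2, 2, 4, 8], [2, 7, 8, 6, 8], 14, false⟩) (lall (memL L) [7, 2, 5, 4, 8, 7, 7, 2, 4, 8, 7, 7, 2, 4, 5, 2, 4, 4, 5, 7, 2, 8, 7, 2, 4, 8, 7, 7, 2, 2, 4, 8]) = true := by decide +kernel

theorem rot7_134 : T.rot 7 [7, 2, 4, 8, 7, 7, 2, 4, 5, 2, 4, 4, 5, 7, 2, 8, 7, 2, 4, 8, 7, 7, 2, 2, 4, 8, 7, 7, 2, 5, 4, 8] (sel (ones 4060) ip7 134) = true := by decide +kernel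

theorem rot7_134r : band (Rule.ok (2 * 2) EX RL ⟨7 :: [7, 2, 4, 8, 7, 7, 2, 4, 5, 2, 4, 4, 5, 7, 2, 8, 7, 2, 4, 8, 7, 7, 2, 2, 4, 8, 7, 7, 2, 5, 4, 8], [2, 7, 8, 6, 8, 6, 6, 2, 9, 7, 8], 14, false⟩) (lall (memL L) [7, 2, 4, 8, 7, 7, 2, 4, 5, 2, 4, 4, 5, 7, 2, 8, 7, 2, 4, 8, 7, 7, 2, 2, 4, 8, 7, 7, 2, 5, 4, 8]) = true := by decide +kernel

theorem rot7_135 : T.rot 7 [2, 4, 8, 7, 7, 2, 4, 5, 2, 4, 4, 5, 7, 2, 8, 7, 2, 4, 8, 7, 7, 2, 2, 4, 8, 7, 7, 2, 5, 4, 8, 7] (sel (ones 4060) ip7 135) = true := by decide +kernel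

theorem rot7_135r : band (Rule.ok (2 * 2) EX RL ⟨7 :: [2, 4, 8, 7, 7, 2, 4, 5, 2, 4, 4, 5, 7, 2, 8, 7, 2, 4, 8, 7, 7, 2, 2, 4, 8, 7, 7, 2, 5, 4, 8, 7], [2, 7, 8, 6, 8, 6, 6, 2, 9, 7, 8, 6], 14, false⟩) (lall (memL L) [2, 4, 8, 7, 7, 2, 4, 5, 2, 4, 4, 5, 7, 2, 8, 7, 2, 4, 8, 7, 7, 2, 2, 4, 8, 7, 7, 2, 5, 4, 8, 7]) = true := by decide +kernel

theorem rot7_136 : T.rot 7 [7, 2, 4, 5, 2, 4, 4, 5, 7, 2, 8, 7, 2, 4, 8, 7, 7, 2, 2, 4, 8, 7, 7, 2, 5, 4, 8, 7, 7, 2, 4, 8] (sel (ones 4060) ip7 136) = true := by decide +kernel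

theorem rot7_136r : band (Rule.ok (2 * 2) EX RL ⟨7 :: [7, 2, 4, 5, 2, 4, 4, 5, 7, 2, 8, 7, 2, 4, 8, 7, 7, 2, 2, 4, 8, 7, 7, 2, 5, 4, 8, 7, 7, 2, 4, 8], [7, 9, 2, 7, 8, 6, 6, 2, 8, 6, 2, 7, 7], 14, false⟩) (lall (memL L) [7, 2, 4, 5, 2, 4, 4, 5, 7, 2, 8, 7, 2, 4, 8, 7, 7, 2, 2, 4, 8, 7, 7, 2, 5, 4, 8, 7, 7, 2, 4, 8]) = true := by decide +kernel

theorem rot7_137 : T.rot 7 [2, 8, 7, 2, 4, 8, 7, 7, 2, 2, 4, 8, 7, 7, 2, 5, 4, 8, 7, 7, 2, 4, 8, 7, 7, 2, 4, 5, 2, 4, 4, 5] (sel (ones 4060) ip7 137) = true := by decide +kernel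

theorem rot7_137r : band (Rule.ok (2 * 2) EX RL ⟨7 :: [2, 8, 7, 2, 4, 8, 7, 7, 2, 2, 4, 8, 7, 7, 2, 5, 4, 8, 7, 7, 2, 4, 8, 7, 7, 2, 4, 5, 2, 4, 4, 5], [7, 9, 2, 7], 14, false⟩) (lall (memL L) [2, 8, 7, 2, 4, 8, 7, 7, 2, 2, 4, 8, 7, 7, 2, 5, 4, 8, 7, 7, 2, 4, 8, 7, 7, 2, 4, 5, 2, 4, 4, 5]) = true := by decide +kernel

theorem rot7_138 : T.rot 7 [2, 4, 8, 7, 7, 2, 2, 4, 8, 7, 7, 2, 5, 4, 8, 7, 7, 2, 4, 8, 7, 7, 2, 4, 5, 2, 4, 4, 5, 7, 2, 8] (sel (ones 4060) ip7 138) = true := by decide +kernel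

theorem rot7_138r : band (Rule.ok (2 * 2) EX RL ⟨7 :: [2, 4, 8, 7, 7, 2, 2, 4, 8, 7, 7, 2, 5, 4, 8, 7, 7, 2, 4, 8, 7, 7, 2, 4, 5, 2, 4, 4, 5, 7, 2, 8], [7], 14, false⟩) (lall (memL L) [2, 4, 8, 7, 7, 2, 2, 4, 8, 7, 7, 2, 5, 4, 8, 7, 7, 2, 4, 8, 7, 7, 2, 4, 5, 2, 4, 4, 5, 7, 2, 8]) = true := by decide +kernel

theorem rot7_139 : T.rot 7 [7, 8, 2, 4, 4, 5, 7, 2, 4, 4, 5, 7, 2, 4, 4, 5, 7, 2, 8, 2, 4, 8, 7, 7, 2, 5, 5, 2, 4, 8, 7, 7, 2, 4, 8] (sel (ones 4060) ip7 139) = true := by decide +kernel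

theorem rot7_139r : band (Rule.ok (2 * 2) EX RL ⟨7 :: [7, 8, 2, 4, 4, 5, 7, 2, 4, 4, 5, 7, 2, 4, 4, 5, 7, 2, 8, 2, 4, 8, 7, 7, 2, 5, 5, 2, 4, 8, 7, 7, 2, 4, 8], [7, 8], 1, true⟩) (lall (memL L) [7, 8, 2, 4, 4, 5, 7, 2, 4, 4, 5, 7, 2, 4, 4, 5, 7, 2, 8, 2, 4, 8, 7, 7, 2, 5, 5, 2, 4, 8, 7, 7, 2, 4, 8]) = true := by decide +kernel

theorem rot7_140 : T.rot 7 [8, 2, 4, 4, 5, 7, 2, 4, 4, 5, 7, 2, 4, 4, 5, 7, 2, 8, 2, 4, 8, 7, 7, 2, 5, 5, 2, 4, 8, 7, 7, 2, 4, 8, 7] (sel (ones 4060) ip7 140) = true := by decide +kernel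

theorem rot7_140r : band (Rule.ok (2 * 2) EX RL ⟨7 :: [8, 2, 4, 4, 5, 7, 2, 4, 4, 5, 7, 2, 4, 4, 5, 7, 2, 8, 2, 4, 8, 7, 7, 2, 5, 5, 2, 4, 8, 7, 7, 2, 4, 8, 7], [7, 8, 6], 1, true⟩) (lall (memL L) [8, 2, 4, 4, 5, 7, 2, 4, 4, 5, 7, 2, 4, 4, 5, 7, 2, 8, 2, 4, 8, 7, 7, 2, 5, 5, 2, 4, 8, 7, 7, 2, 4, 8, 7]) = true := by decide +kernel

theorem rot7_141 : T.rot 7 [7, 2, 5, 5, 2, 4, 8, 7, 7, 2, 4, 8, 7, 7, 8, 2, 4, 4, 5, 7, 2, 4, 4, 5, 7, 2, 4, 4, 5, 7, 2, 8, 2, 4, 8] (sel (ones 4060) ip7 141) = true := by decide +kernel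

theorem rot7_141r : band (Rule.ok (2 * 2) EX RL ⟨7 :: [7, 2, 5, 5, 2, 4, 8, 7, 7, 2, 4, 8, 7, 7, 8, 2, 4, 4, 5, 7, 2, 4, 4, 5, 7, 2, 4, 4, 5, 7, 2, 8, 2, 4, 8], [2, 7, 7, 9, 6, 2, 8, 8, 2, 7, 7], 1, true⟩) (lall (memL L) [7, 2, 5, 5, 2, 4, 8, 7, 7, 2, 4, 8, 7, 7, 8, 2, 4, 4, 5, 7, 2, 4, 4, 5, 7, 2, 4, 4, 5, 7, 2, 8, 2, 4, 8]) = true := by decide +kernel

theorem rot7_142 : T.rot 7 [2, 5, 5, 2, 4, 8, 7, 7, 2, 4, 8, 7, 7, 8, 2, 4, 4, 5, 7, 2, 4, 4, 5, 7, 2, 4, 4, 5, 7, 2, 8, 2, 4, 8, 7] (sel (ones 4060) ip7 142) = true := by decide +kernel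

theorem rot7_142r : band (Rule.ok (2 * 2) EX RL ⟨7 :: [2, 5, 5, 2, 4, 8, 7, 7, 2, 4, 8, 7, 7, 8, 2, 4, 4, 5, 7, 2, 4, 4, 5, 7, 2, 4, 4, 5, 7, 2, 8, 2, 4, 8, 7], [2, 7, 7, 9, 6, 2, 8, 8, 2, 7], 1, true⟩) (lall (memL L) [2, 5, 5, 2, 4, 8, 7, 7, 2, 4, 8, 7, 7, 8, 2, 4, 4, 5, 7, 2, 4, 4, 5, 7, 2, 4, 4, 5, 7, 2, 8, 2, 4, 8, 7]) = true := by decide +kernel

theorem rot7_143 : T.rot 7 [7, 2, 4, 8, 7, 7, 8, 2, 4, 4, 5, 7, 2, 4, 4, 5, 7, 2, 4, 4, 5, 7, 2, 8, 2, 4, 8, 7, 7, 2, 5, 5, 2, 4, 8] (sel (ones 4060) ip7 143) = true := by decide +kernel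

theorem rot7_143r : band (Rule.ok (2 * 2) EX RL ⟨7 :: [7, 2, 4, 8, 7, 7, 8, 2, 4, 4, 5, 7, 2, 4, 4, 5, 7, 2, 4, 4, 5, 7, 2, 8, 2, 4, 8, 7, 7, 2, 5, 5, 2, 4, 8], [2, 7, 7], 1, true⟩) (lall (memL L) [7, 2, 4, 8, 7, 7, 8, 2, 4, 4, 5, 7, 2, 4, 4, 5, 7, 2, 4, 4, 5, 7, 2, 8, 2, 4, 8, 7, 7, 2, 5, 5, 2, 4, 8]) = true := by decide +kernel

theorem rot7_144 : T.rot 7 [2, 4, 8, 7, 7, 8, 2, 4, 4, 5, 7, 2, 4, 4, 5, 7, 2, 4, 4, 5, 7, 2, 8, 2, 4, 8, 7, 7, 2, 5, 5, 2, 4, 8, 7] (sel (ones 4060) ip7 144) = true := by decide +kernel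

theorem rot7_144r : band (Rule.ok (2 * 2) EX RL ⟨7 :: [2, 4, 8, 7, 7, 8, 2, 4, 4, 5, 7, 2, 4, 4, 5, 7, 2, 4, 4, 5, 7, 2, 8, 2, 4, 8, 7, 7, 2, 5, 5, 2, 4, 8, 7], [2, 7], 1, true⟩) (lall (memL L) [2, 4, 8, 7, 7, 8, 2, 4, 4, 5, 7, 2, 4, 4, 5, 7, 2, 4, 4, 5, 7, 2, 8, 2, 4, 8, 7, 7, 2, 5, 5, 2, 4, 8, 7]) = true := by decide +kernel

theorem rot7_145 : T.rot 7 [2, 8, 8, 2, 4, 4, 5, 7, 2, 5, 2, 4, 8, 7, 7, 2, 4, 8, 7, 7, 2, 4, 8, 7, 7, 2, 5, 4, 4, 5, 7, 2, 4, 4, 5] (sel (ones 4060) ip7 145) = true := by decide +kernel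

theorem rot7_145r : band (Rule.ok (2 * 2) EX RL ⟨7 :: [2, 8, 8, 2, 4, 4, 5, 7, 2, 5, 2, 4, 8, 7, 7, 2, 4, 8, 7, 7, 2, 4, 8, 7, 7, 2, 5, 4, 4, 5, 7, 2, 4, 4, 5], [2, 7, 7, 9], 1, false⟩) (lall (memL L) [2, 8, 8, 2, 4, 4, 5, 7, 2, 5, 2, 4, 8, 7, 7, 2, 4, 8, 7, 7, 2, 4, 8, 7, 7, 2, 5, 4, 4, 5, 7, 2, 4, 4, 5]) = true := by decide +kernel

theorem rot7_146 : T.rot 7 [2, 5, 2, 4, 8, 7, 7, 2, 4, 8, 7, 7, 2, 4, 8, 7, 7, 2, 5, 4, 4, 5, 7, 2, 4, 4, 5, 7, 2, 8, 8, 2, 4, 4, 5] (sel (ones 4060) ip7 146) = true := by decide +kernel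

theorem rot7_146r : band (Rule.ok (2 * 2) EX RL ⟨7 :: [2, 5, 2, 4, 8, 7, 7, 2, 4, 8, 7, 7, 2, 4, 8, 7, 7, 2, 5, 4, 4, 5, 7, 2, 4, 4, 5, 7, 2, 8, 8, 2, 4, 4, 5], [2, 7, 7, 9, 6, 2, 8, 8, 2, 7, 7, 9], 1, false⟩) (lall (memL L) [2, 5, 2, 4, 8, 7, 7, 2, 4, 8, 7, 7, 2, 4, 8, 7, 7, 2, 5, 4, 4, 5, 7, 2, 4, 4, 5, 7, 2, 8, 8, 2, 4, 4, 5]) = true := by decide +kernel

theorem rot7_147 : T.rot 7 [7, 2, 4, 8, 7, 7, 2, 5, 4, 4, 5, 7, 2, 4, 4, 5, 7, 2, 8, 8, 2, 4, 4, 5, 7, 2, 5, 2, 4, 8, 7, 7, 2, 4, 8] (sel (ones 4060) ip7 147) = true := by decide +kernel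

theorem rot7_147r : band (Rule.ok (2 * 2) EX RL ⟨7 :: [7, 2, 4, 8, 7, 7, 2, 5, 4, 4, 5, 7, 2, 4, 4, 5, 7, 2, 8, 8, 2, 4, 4, 5, 7, 2, 5, 2, 4, 8, 7, 7, 2, 4, 8], [7, 8, 6, 6, 8, 2, 7, 7, 9, 6, 2, 7, 7], 1, false⟩) (lall (memL L) [7, 2, 4, 8, 7, 7, 2, 5, 4, 4, 5, 7, 2, 4, 4, 5, 7, 2, 8, 8, 2, 4, 4, 5, 7, 2, 5, 2, 4, 8, 7, 7, 2, 4, 8]) = true := by decide +kernel

theorem rot7_148 : T.rot 7 [2, 4, 8, 7, 7, 2, 5, 4, 4, 5, 7, 2, 4, 4, 5, 7, 2, 8, 8, 2, 4, 4, 5, 7, 2, 5, 2, 4, 8, 7, 7, 2, 4, 8, 7] (sel (ones 4060) ip7 148) = true := by decide +kernel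

theorem rot7_148r : band (Rule.ok (2 * 2) EX RL ⟨7 :: [2, 4, 8, 7, 7, 2, 5, 4, 4, 5, 7, 2, 4, 4, 5, 7, 2, 8, 8, 2, 4, 4, 5, 7, 2, 5, 2, 4, 8, 7, 7, 2, 4, 8, 7], [7, 8, 6, 6, 8, 2, 7, 7, 9, 6, 2, 7], 1, false⟩) (lall (memL L) [2, 4, 8, 7, 7, 2, 5, 4, 4, 5, 7, 2, 4, 4, 5, 7, 2, 8, 8, 2, 4, 4, 5, 7, 2, 5, 2, 4, 8, 7, 7, 2, 4, 8, 7]) = true := by decide +kernel

theorem rot7_149 : T.rot 7 [2, 5, 4, 4, 5, 7, 2, 4, 4, 5, 7, 2, 8, 8, 2, 4, 4, 5, 7, 2, 5, 2, 4, 8, 7, 7, 2, 4, 8, 7, 7, 2, 4, 8, 7] (sel (ones 4060) ip7 149) = true := by decide +kernel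

theorem rot7_149r : band (Rule.ok (2 * 2) EX RL ⟨7 :: [2, 5, 4, 4, 5, 7, 2, 4, 4, 5, 7, 2, 8, 8, 2, 4, 4, 5, 7, 2, 5, 2, 4, 8, 7, 7, 2, 4, 8, 7, 7, 2, 4, 8, 7], [7, 8, 6, 6, 8, 2, 7], 1, false⟩) (lall (memL L) [2, 5, 4, 4, 5, 7, 2, 4, 4, 5, 7, 2, 8, 8, 2, 4, 4, 5, 7, 2, 5, 2, 4, 8, 7, 7, 2, 4, 8, 7, 7, 2, 4, 8, 7]) = true := by decide +kernel

theorem rot7_150 : T.rot 7 [2, 4, 4, 5, 7, 2, 8, 8, 2, 4, 4, 5, 7, 2, 5, 2, 4, 8, 7, 7, 2, 4, 8, 7, 7, 2, 4, 8, 7, 7, 2, 5, 4, 4, 5] (sel (ones 4060) ip7 150) = true := by decide +kernel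

theorem rot7_150r : band (Rule.ok (2 * 2) EX RL ⟨7 :: [2, 4, 4, 5, 7, 2, 8, 8, 2, 4, 4, 5, 7, 2, 5, 2, 4, 8, 7, 7, 2, 4, 8, 7, 7, 2, 4, 8, 7, 7, 2, 5, 4, 4, 5], [7], 1, false⟩) (lall (memL L) [2, 4, 4, 5, 7, 2, 8, 8, 2, 4, 4, 5, 7, 2, 5, 2, 4, 8, 7, 7, 2, 4, 8, 7, 7, 2, 4, 8, 7, 7, 2, 5, 4, 4, 5]) = true := by decide +kernel

theorem rot7_151 : T.rot 7 [7, 8, 2, 4, 4, 5, 7, 2, 8, 2, 4, 4, 5, 7, 2, 4, 4, 5, 7, 8, 2, 4, 4, 5, 7, 2, 8, 2, 4, 4, 5, 7, 2, 4, 8] (sel (ones 4060) ip7 151) = true := by decide +kernel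

theorem rot7_151r : band (Rule.ok (2 * 2) EX RL ⟨7 :: [7, 8, 2, 4, 4, 5, 7, 2, 8, 2, 4, 4, 5, 7, 2, 4, 4, 5, 7, 8, 2, 4, 4, 5, 7, 2, 8, 2, 4, 4, 5, 7, 2, 4, 8], [8, 2, 7, 7, 9, 6, 2, 7, 8], 3, true⟩) (lall (memL L) [7, 8, 2, 4, 4, 5, 7, 2, 8, 2, 4, 4, 5, 7, 2, 4, 4, 5, 7, 8, 2, 4, 4, 5, 7, 2, 8, 2, 4, 4, 5, 7, 2, 4, 8]) = true := by decide +kernel

theorem rot7_152 : T.rot 7 [8, 2, 4, 4, 5, 7, 2, 8, 2, 4, 4, 5, 7, 2, 4, 4, 5, 7, 8, 2, 4, 4, 5, 7, 2, 8, 2, 4, 4, 5, 7, 2, 4, 8, 7] (sel (ones 4060) ip7 152) = true := by decide +kernel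

theorem rot7_152r : band (Rule.ok (2 * 2) EX RL ⟨7 :: [8, 2, 4, 4, 5, 7, 2, 8, 2, 4, 4, 5, 7, 2, 4, 4, 5, 7, 8, 2, 4, 4, 5, 7, 2, 8, 2, 4, 4, 5, 7, 2, 4, 8, 7], [8, 2, 7, 7, 9, 6, 2, 7, 8, 6], 3, true⟩) (lall (memL L) [8, 2, 4, 4, 5, 7, 2, 8, 2, 4, 4, 5, 7, 2, 4, 4, 5, 7, 8, 2, 4, 4, 5, 7, 2, 8, 2, 4, 4, 5, 7, 2, 4, 8, 7]) = true := by decide +kernel

theorem rot7_153 : T.rot 7 [2, 8, 2, 4, 4, 5, 7, 2, 4, 4, 5, 7, 8, 2, 4, 4, 5, 7, 2, 8, 2, 4, 4, 5, 7, 2, 4, 8, 7, 7, 8, 2, 4, 4, 5] (sel (ones 4060) ip7 153) = true := by decide +kernel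

theorem rot7_153r : band (Rule.ok (2 * 2) EX RL ⟨7 :: [2, 8, 2, 4, 4, 5, 7, 2, 4, 4, 5, 7, 8, 2, 4, 4, 5, 7, 2, 8, 2, 4, 4, 5, 7, 2, 4, 8, 7, 7, 8, 2, 4, 4, 5], [8, 2, 7, 7, 9, 6, 2, 7, 8, 6, 6, 8, 2, 7, 7, 9], 3, true⟩) (lall (memL L) [2, 8, 2, 4, 4, 5, 7, 2, 4, 4, 5, 7, 8, 2, 4, 4, 5, 7, 2, 8, 2, 4, 4, 5, 7, 2, 4, 8, 7, 7, 8, 2, 4, 4, 5]) = true := by decide +kernel

theorem rot7_154 : T.rot 7 [2, 4, 4, 5, 7, 8, 2, 4, 4, 5, 7, 2, 8, 2, 4, 4, 5, 7, 2, 4, 8, 7, 7, 8, 2, 4, 4, 5, 7, 2, 8, 2, 4, 4, 5] (sel (ones 4060) ip7 154) = true := by decide +kernel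

theorem rot7_154r : band (Rule.ok (2 * 2) EX RL ⟨7 :: [2, 4, 4, 5, 7, 8, 2, 4, 4, 5, 7, 2, 8, 2, 4, 4, 5, 7, 2, 4, 8, 7, 7, 8, 2, 4, 4, 5, 7, 2, 8, 2, 4, 4, 5], [2, 7, 8, 6, 6, 2, 9, 7, 8, 6, 6, 2, 7], 3, true⟩) (lall (memL L) [2, 4, 4, 5, 7, 8, 2, 4, 4, 5, 7, 2, 8, 2, 4, 4, 5, 7, 2, 4, 8, 7, 7, 8, 2, 4, 4, 5, 7, 2, 8, 2, 4, 4, 5]) = true := by decide +kernel

theorem rot7_155 : T.rot 7 [8, 2, 4, 4, 5, 7, 2, 8, 2, 4, 4, 5, 7, 2, 4, 8, 7, 7, 8, 2, 4, 4, 5, 7, 2, 8, 2, 4, 4, 5, 7, 2, 4, 4, 5] (sel (ones 4060) ip7 155) = true := by decide +kernel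

theorem rot7_155r : band (Rule.ok (2 * 2) EX RL ⟨7 :: [8, 2, 4, 4, 5, 7, 2, 8, 2, 4, 4, 5, 7, 2, 4, 8, 7, 7, 8, 2, 4, 4, 5, 7, 2, 8, 2, 4, 4, 5, 7, 2, 4, 4, 5], [2, 7, 8, 6, 6, 2, 9, 7], 3, true⟩) (lall (memL L) [8, 2, 4, 4, 5, 7, 2, 8, 2, 4, 4, 5, 7, 2, 4, 8, 7, 7, 8, 2, 4, 4, 5, 7, 2, 8, 2, 4, 4, 5, 7, 2, 4, 4, 5]) = true := by decide +kernel

theorem rot7_156 : T.rot 7 [7, 2, 5, 4, 8, 7, 7, 2, 4, 8, 7, 7, 2, 5, 2, 4, 8, 7, 7, 2, 5, 4, 4, 5, 7, 2, 4, 8, 7, 7, 2, 5, 2, 4, 8] (sel (ones 4060) ip7 156) = true := by decide +kernel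

theorem rot7_156r : band (Rule.ok (2 * 2) EX RL ⟨7 :: [7, 2, 5, 4, 8, 7, 7, 2, 4, 8, 7, 7, 2, 5, 2, 4, 8, 7, 7, 2, 5, 4, 4, 5, 7, 2, 4, 8, 7, 7, 2, 5, 2, 4, 8], [2, 7, 8], 3, false⟩) (lall (memL L) [7, 2, 5, 4, 8, 7, 7, 2, 4, 8, 7, 7, 2, 5, 2, 4, 8, 7, 7, 2, 5, 4, 4, 5, 7, 2, 4, 8, 7, 7, 2, 5, 2, 4, 8]) = true := by decide +kernel

theorem rot7_157 : T.rot 7 [2, 5, 4, 8, 7, 7, 2, 4, 8, 7, 7, 2, 5, 2, 4, 8, 7, 7, 2, 5, 4, 4, 5, 7, 2, 4, 8, 7, 7, 2, 5, 2, 4, 8, 7] (sel (ones 4060) ip7 157) = true := by decide +kernel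

theorem rot7_157r : band (Rule.ok (2 * 2) EX RL ⟨7 :: [2, 5, 4, 8, 7, 7, 2, 4, 8, 7, 7, 2, 5, 2, 4, 8, 7, 7, 2, 5, 4, 4, 5, 7, 2, 4, 8, 7, 7, 2, 5, 2, 4, 8, 7], [2, 7, 8, 6], 3, false⟩) (lall (memL L) [2, 5, 4, 8, 7, 7, 2, 4, 8, 7, 7, 2, 5, 2, 4, 8, 7, 7, 2, 5, 4, 4, 5, 7, 2, 4, 8, 7, 7, 2, 5, 2, 4, 8, 7]) = true := by decide +kernel

theorem rot7_158 : T.rot 7 [2, 4, 8, 7, 7, 2, 5, 2, 4, 8, 7, 7, 2, 5, 4, 4, 5, 7, 2, 4, 8, 7, 7, 2, 5, 2, 4, 8, 7, 7, 2, 5, 4, 8, 7] (sel (ones 4060) ip7 158) = true := by decide +kernel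

theorem rot7_158r : band (Rule.ok (2 * 2) EX RL ⟨7 :: [2, 4, 8, 7, 7, 2, 5, 2, 4, 8, 7, 7, 2, 5, 4, 4, 5, 7, 2, 4, 8, 7, 7, 2, 5, 2, 4, 8, 7, 7, 2, 5, 4, 8, 7], [2, 7, 8, 6, 6, 2, 9, 7, 8, 6], 3, false⟩) (lall (memL L) [2, 4, 8, 7, 7, 2, 5, 2, 4, 8, 7, 7, 2, 5, 4, 4, 5, 7, 2, 4, 8, 7, 7, 2, 5, 2, 4, 8, 7, 7, 2, 5, 4, 8, 7]) = true := by decide +kernel

theorem rot7_159 : T.rot 7 [7, 2, 5, 2, 4, 8, 7, 7, 2, 5, 4, 4, 5, 7, 2, 4, 8, 7, 7, 2, 5, 2, 4, 8, 7, 7, 2, 5, 4, 8, 7, 7, 2, 4, 8] (sel (ones 4060) ip7 159) = true := by decide +kernel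

theorem rot7_159r : band (Rule.ok (2 * 2) EX RL ⟨7 :: [7, 2, 5, 2, 4, 8, 7, 7, 2, 5, 4, 4, 5, 7, 2, 4, 8, 7, 7, 2, 5, 2, 4, 8, 7, 7, 2, 5, 4, 8, 7, 7, 2, 4, 8], [2, 7, 8, 6, 6, 2, 9, 7, 8, 6, 6, 2, 7, 8], 3, false⟩) (lall (memL L) [7, 2, 5, 2, 4, 8, 7, 7, 2, 5, 4, 4, 5, 7, 2, 4, 8, 7, 7, 2, 5, 2, 4, 8, 7, 7, 2, 5, 4, 8, 7, 7, 2, 4, 8]) = true := by decide +kernel

theorem rot7_160 : T.rot 7 [2, 5, 4, 4, 5, 7, 2, 4, 8, 7, 7, 2, 5, 2, 4, 8, 7, 7, 2, 5, 4, 8, 7, 7, 2, 4, 8, 7, 7, 2, 5, 2, 4, 8, 7] (sel (ones 4060) ip7 160) = true := by decide +kernel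

theorem rot7_160r : band (Rule.ok (2 * 2) EX RL ⟨7 :: [2, 5, 4, 4, 5, 7, 2, 4, 8, 7, 7, 2, 5, 2, 4, 8, 7, 7, 2, 5, 4, 8, 7, 7, 2, 4, 8, 7, 7, 2, 5, 2, 4, 8, 7], [8, 2, 7, 7, 9, 6, 2, 7, 8, 6, 6, 8, 2, 7], 3, false⟩) (lall (memL L) [2, 5, 4, 4, 5, 7, 2, 4, 8, 7, 7, 2, 5, 2, 4, 8, 7, 7, 2, 5, 4, 8, 7, 7, 2, 4, 8, 7, 7, 2, 5, 2, 4, 8, 7]) = true := by decide +kernel

theorem rot7_161 : T.rot 7 [2, 4, 8, 7, 7, 2, 5, 2, 4, 8, 7, 7, 2, 5, 4, 8, 7, 7, 2, 4, 8, 7, 7, 2, 5, 2, 4, 8, 7, 7, 2, 5, 4, 4, 5] (sel (ones 4060) ip7 161) = true := by decide +kernel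

theorem rot7_161r : band (Rule.ok (2 * 2) EX RL ⟨7 :: [2, 4, 8, 7, 7, 2, 5, 2, 4, 8, 7, 7, 2, 5, 4, 8, 7, 7, 2, 4, 8, 7, 7, 2, 5, 2, 4, 8, 7, 7, 2, 5, 4, 4, 5], [8, 2, 7, 7, 9, 6, 2, 7], 3, false⟩) (lall (memL L) [2, 4, 8, 7, 7, 2, 5, 2, 4, 8, 7, 7, 2, 5, 4, 8, 7, 7, 2, 4, 8, 7, 7, 2, 5, 2, 4, 8, 7, 7, 2, 5, 4, 4, 5]) = true := by decide +kernel

theorem rot7_162 : T.rot 7 [7, 2, 5, 2, 4, 8, 7, 7, 2, 5, 4, 8, 7, 7, 2, 4, 8, 7, 7, 2, 5, 2, 4, 8, 7, 7, 2, 5, 4, 4, 5, 7, 2, 4, 8] (sel (ones 4060) ip7 162) = true := by decide +kernel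

theorem rot7_162r : band (Rule.ok (2 * 2) EX RL ⟨7 :: [7, 2, 5, 2, 4, 8, 7, 7, 2, 5, 4, 8, 7, 7, 2, 4, 8, 7, 7, 2, 5, 2, 4, 8, 7, 7, 2, 5, 4, 4, 5, 7, 2, 4, 8], [8, 2, 7, 7], 3, false⟩) (lall (memL L) [7, 2, 5, 2, 4, 8, 7, 7, 2, 5, 4, 8, 7, 7, 2, 4, 8, 7, 7, 2, 5, 2, 4, 8, 7, 7, 2, 5, 4, 4, 5, 7, 2, 4, 8]) = true := by decide +kernel

theorem rot7_163 : T.rot 7 [7, 8, 2, 4, 4, 5, 7, 2, 5, 2, 4, 8, 7, 7, 2, 8, 2, 4, 4, 5, 7, 2, 2, 4, 4, 5, 7, 2, 8, 4, 8, 7, 7, 4, 8] (sel (ones 4060) ip7 163) = true := by decide +kernel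

theorem rot7_163r : band (Rule.ok (2 * 2) EX RL ⟨7 :: [7, 8, 2, 4, 4, 5, 7, 2, 5, 2, 4, 8, 7, 7, 2, 8, 2, 4, 4, 5, 7, 2, 2, 4, 4, 5, 7, 2, 8, 4, 8, 7, 7, 4, 8], [7, 8, 6, 8], 4, true⟩) (lall (memL L) [7, 8, 2, 4, 4, 5, 7, 2, 5, 2, 4, 8, 7, 7, 2, 8, 2, 4, 4, 5, 7, 2, 2, 4, 4, 5, 7, 2, 8, 4, 8, 7, 7, 4, 8]) = true := by decide +kernel

theorem rot7_164 : T.rot 7 [8, 2, 4, 4, 5, 7, 2, 5, 2, 4, 8, 7, 7, 2, 8, 2, 4, 4, 5, 7, 2, 2, 4, 4, 5, 7, 2, 8, 4, 8, 7, 7, 4, 8, 7] (sel (ones 4060) ip7 164) = true := by decide +kernel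

theorem rot7_164r : band (Rule.ok (2 * 2) EX RL ⟨7 :: [8, 2, 4, 4, 5, 7, 2, 5, 2, 4, 8, 7, 7, 2, 8, 2, 4, 4, 5, 7, 2, 2, 4, 4, 5, 7, 2, 8, 4, 8, 7, 7, 4, 8, 7], [7, 8, 6, 8, 6], 4, true⟩) (lall (memL L) [8, 2, 4, 4, 5, 7, 2, 5, 2, 4, 8, 7, 7, 2, 8, 2, 4, 4, 5, 7, 2, 2, 4, 4, 5, 7, 2, 8, 4, 8, 7, 7, 4, 8, 7]) = true := by decide +kernel

theorem rot7_165 : T.rot 7 [7, 2, 8, 2, 4, 4, 5, 7, 2, 2, 4, 4, 5, 7, 2, 8, 4, 8, 7, 7, 4, 8, 7, 7, 8, 2, 4, 4, 5, 7, 2, 5, 2, 4, 8] (sel (ones 4060) ip7 165) = true := by decide +kernel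

theorem rot7_165r : band (Rule.ok (2 * 2) EX RL ⟨7 :: [7, 2, 8, 2, 4, 4, 5, 7, 2, 2, 4, 4, 5, 7, 2, 8, 4, 8, 7, 7, 4, 8, 7, 7, 8, 2, 4, 4, 5, 7, 2, 5, 2, 4, 8], [9, 2, 7, 8, 6, 8, 6, 6, 2, 9, 2, 7, 7], 4, true⟩) (lall (memL L) [7, 2, 8, 2, 4, 4, 5, 7, 2, 2, 4, 4, 5, 7, 2, 8, 4, 8, 7, 7, 4, 8, 7, 7, 8, 2, 4, 4, 5, 7, 2, 5, 2, 4, 8]) = true := by decide +kernel

theorem rot7_166 : T.rot 7 [2, 8, 2, 4, 4, 5, 7, 2, 2, 4, 4, 5, 7, 2, 8, 4, 8, 7, 7, 4, 8, 7, 7, 8, 2, 4, 4, 5, 7, 2, 5, 2, 4, 8, 7] (sel (ones 4060) ip7 166) = true := by decide +kernel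

theorem rot7_166r : band (Rule.ok (2 * 2) EX RL ⟨7 :: [2, 8, 2, 4, 4, 5, 7, 2, 2, 4, 4, 5, 7, 2, 8, 4, 8, 7, 7, 4, 8, 7, 7, 8, 2, 4, 4, 5, 7, 2, 5, 2, 4, 8, 7], [9, 2, 7, 8, 6, 8, 6, 6, 2, 9, 2, 7], 4, true⟩) (lall (memL L) [2, 8, 2, 4, 4, 5, 7, 2, 2, 4, 4, 5, 7, 2, 8, 4, 8, 7, 7, 4, 8, 7, 7, 8, 2, 4, 4, 5, 7, 2, 5, 2, 4, 8, 7]) = true := by decide +kernel

theorem rot7_167 : T.rot 7 [2, 8, 4, 8, 7, 7, 4, 8, 7, 7, 8, 2, 4, 4, 5, 7, 2, 5, 2, 4, 8, 7, 7, 2, 8, 2, 4, 4, 5, 7, 2, 2, 4, 4, 5] (sel (ones 4060) ip7 167) = true := by decide +kernel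

theorem rot7_167r : band (Rule.ok (2 * 2) EX RL ⟨7 :: [2, 8, 4, 8, 7, 7, 4, 8, 7, 7, 8, 2, 4, 4, 5, 7, 2, 5, 2, 4, 8, 7, 7, 2, 8, 2, 4, 4, 5, 7, 2, 2, 4, 4, 5], [9, 2, 7], 4, true⟩) (lall (memL L) [2, 8, 4, 8, 7, 7, 4, 8, 7, 7, 8, 2, 4, 4, 5, 7, 2, 5, 2, 4, 8, 7, 7, 2, 8, 2, 4, 4, 5, 7, 2, 2, 4, 4, 5]) = true := by decide +kernel

theorem rot7_168 : T.rot 7 [7, 2, 5, 2, 4, 4, 5, 7, 2, 8, 2, 4, 8, 7, 7, 2, 5, 4, 4, 5, 7, 4, 4, 5, 7, 5, 2, 4, 8, 7, 7, 2, 2, 4, 8] (sel (ones 4060) ip7 168) = true := by decide +kernel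

theorem rot7_168r : band (Rule.ok (2 * 2) EX RL ⟨7 :: [7, 2, 5, 2, 4, 4, 5, 7, 2, 8, 2, 4, 8, 7, 7, 2, 5, 4, 4, 5, 7, 4, 4, 5, 7, 5, 2, 4, 8, 7, 7, 2, 2, 4, 8], [9, 2, 7, 8, 6, 8], 4, false⟩) (lall (memL L) [7, 2, 5, 2, 4, 4, 5, 7, 2, 8, 2, 4, 8, 7, 7, 2, 5, 4, 4, 5, 7, 4, 4, 5, 7, 5, 2, 4, 8, 7, 7, 2, 2, 4, 8]) = true := by decide +kernel

theorem rot7_169 : T.rot 7 [2, 5, 2, 4, 4, 5, 7, 2, 8, 2, 4, 8, 7, 7, 2, 5, 4, 4, 5, 7, 4, 4, 5, 7, 5, 2, 4, 8, 7, 7, 2, 2, 4, 8, 7] (sel (ones 4060) ip7 169) = true := by decide +kernel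

theorem rot7_169r : band (Rule.ok (2 * 2) EX RL ⟨7 :: [2, 5, 2, 4, 4, 5, 7, 2, 8, 2, 4, 8, 7, 7, 2, 5, 4, 4, 5, 7, 4, 4, 5, 7, 5, 2, 4, 8, 7, 7, 2, 2, 4, 8, 7], [9, 2, 7, 8, 6, 8, 6], 4, false⟩) (lall (memL L) [2, 5, 2, 4, 4, 5, 7, 2, 8, 2, 4, 8, 7, 7, 2, 5, 4, 4, 5, 7, 4, 4, 5, 7, 5, 2, 4, 8, 7, 7, 2, 2, 4, 8, 7]) = true := by decide +kernel

theorem rot7_170 : T.rot 7 [7, 2, 5, 4, 4, 5, 7, 4, 4, 5, 7, 5, 2, 4, 8, 7, 7, 2, 2, 4, 8, 7, 7, 2, 5, 2, 4, 4, 5, 7, 2, 8, 2, 4, 8] (sel (ones 4060) ip7 170) = true := by decide +kernel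

theorem rot7_170r : band (Rule.ok (2 * 2) EX RL ⟨7 :: [7, 2, 5, 4, 4, 5, 7, 4, 4, 5, 7, 5, 2, 4, 8, 7, 7, 2, 2, 4, 8, 7, 7, 2, 5, 2, 4, 4, 5, 7, 2, 8, 2, 4, 8], [7, 8, 6, 8, 6, 6, 8, 2, 7, 7], 4, false⟩) (lall (memL L) [7, 2, 5, 4, 4, 5, 7, 4, 4, 5, 7, 5, 2, 4, 8, 7, 7, 2, 2, 4, 8, 7, 7, 2, 5, 2, 4, 4, 5, 7, 2, 8, 2, 4, 8]) = true := by decide +kernel

theorem rot7_171 : T.rot 7 [2, 5, 4, 4, 5, 7, 4, 4, 5, 7, 5, 2, 4, 8, 7, 7, 2, 2, 4, 8, 7, 7, 2, 5, 2, 4, 4, 5, 7, 2, 8, 2, 4, 8, 7] (sel (ones 4060) ip7 171) = true := by decide +kernel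

theorem rot7_171r : band (Rule.ok (2 * 2) EX RL ⟨7 :: [2, 5, 4, 4, 5, 7, 4, 4, 5, 7, 5, 2, 4, 8, 7, 7, 2, 2, 4, 8, 7, 7, 2, 5, 2, 4, 4, 5, 7, 2, 8, 2, 4, 8, 7], [7, 8, 6, 8, 6, 6, 8, 2, 7], 4, false⟩) (lall (memL L) [2, 5, 4, 4, 5, 7, 4, 4, 5, 7, 5, 2, 4, 8, 7, 7, 2, 2, 4, 8, 7, 7, 2, 5, 2, 4, 4, 5, 7, 2, 8, 2, 4, 8, 7]) = true := by decide +kernel

theorem rot7_172 : T.rot 7 [5, 2, 4, 8, 7, 7, 2, 2, 4, 8, 7, 7, 2, 5, 2, 4, 4, 5, 7, 2, 8, 2, 4, 8, 7, 7, 2, 5, 4, 4, 5, 7, 4, 4, 5] (sel (ones 4060) ip7 172) = true := by decide +kernel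

theorem rot7_172r : band (Rule.ok (2 * 2) EX RL ⟨7 :: [5, 2, 4, 8, 7, 7, 2, 2, 4, 8, 7, 7, 2, 5, 2, 4, 4, 5, 7, 2, 8, 2, 4, 8, 7, 7, 2, 5, 4, 4, 5, 7, 4, 4, 5], [7], 4, false⟩) (lall (memL L) [5, 2, 4, 8, 7, 7, 2, 2, 4, 8, 7, 7, 2, 5, 2, 4, 4, 5, 7, 2, 8, 2, 4, 8, 7, 7, 2, 5, 4, 4, 5, 7, 4, 4, 5]) = true := by decide +kernel

theorem rot7_173 : T.rot 7 [7, 2, 4, 8, 7, 7, 2, 8, 5, 2, 4, 8, 7, 7, 2, 2, 4, 8, 7, 7, 2, 5, 5, 2, 4, 8, 7, 7, 2, 4, 4, 5, 7, 5, 5, 4, 8] (sel (ones 4060) ip7 173) = true := by decide +kernel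

theorem rot7_173r : band (Rule.ok (2 * 2) EX RL ⟨7 :: [7, 2, 4, 8, 7, 7, 2, 8, 5, 2, 4, 8, 7, 7, 2, 2, 4, 8, 7, 7, 2, 5, 5, 2, 4, 8, 7, 7, 2, 4, 4, 5, 7, 5, 5, 4, 8], [9, 9, 7, 8], 10, true⟩) (lall (memL L) [7, 2, 4, 8, 7, 7, 2, 8, 5, 2, 4, 8, 7, 7, 2, 2, 4, 8, 7, 7, 2, 5, 5, 2, 4, 8, 7, 7, 2, 4, 4, 5, 7, 5, 5, 4, 8]) = true := by decide +kernel

theorem rot7_174 : T.rot 7 [2, 4, 8, 7, 7, 2, 8, 5, 2, 4, 8, 7, 7, 2, 2, 4, 8, 7, 7, 2, 5, 5, 2, 4, 8, 7, 7, 2, 4, 4, 5, 7, 5, 5, 4, 8, 7] (sel (ones 4060) ip7 174) = true := by decide +kernel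

theorem rot7_174r : band (Rule.ok (2 * 2) EX RL ⟨7 :: [2, 4, 8, 7, 7, 2, 8, 5, 2, 4, 8, 7, 7, 2, 2, 4, 8, 7, 7, 2, 5, 5, 2, 4, 8, 7, 7, 2, 4, 4, 5, 7, 5, 5, 4, 8, 7], [9, 9, 7, 8, 6], 10, true⟩) (lall (memL L) [2, 4, 8, 7, 7, 2, 8, 5, 2, 4, 8, 7, 7, 2, 2, 4, 8, 7, 7, 2, 5, 5, 2, 4, 8, 7, 7, 2, 4, 4, 5, 7, 5, 5, 4, 8, 7]) = true := by decide +kernel

theorem rot7_175 : T.rot 7 [7, 2, 8, 5, 2, 4, 8, 7, 7, 2, 2, 4, 8, 7, 7, 2, 5, 5, 2, 4, 8, 7, 7, 2, 4, 4, 5, 7, 5, 5, 4, 8, 7, 7, 2, 4, 8] (sel (ones 4060) ip7 175) = true := by decide +kernel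

theorem rot7_175r : band (Rule.ok (2 * 2) EX RL ⟨7 :: [7, 2, 8, 5, 2, 4, 8, 7, 7, 2, 2, 4, 8, 7, 7, 2, 5, 5, 2, 4, 8, 7, 7, 2, 4, 4, 5, 7, 5, 5, 4, 8, 7, 7, 2, 4, 8], [9, 9, 7, 8, 6, 6, 2, 7, 8], 10, true⟩) (lall (memL L) [7, 2, 8, 5, 2, 4, 8, 7, 7, 2, 2, 4, 8, 7, 7, 2, 5, 5, 2, 4, 8, 7, 7, 2, 4, 4, 5, 7, 5, 5, 4, 8, 7, 7, 2, 4, 8]) = true := by decide +kernel

theorem rot7_176 : T.rot 7 [7, 2, 2, 4, 8, 7, 7, 2, 5, 5, 2, 4, 8, 7, 7, 2, 4, 4, 5, 7, 5, 5, 4, 8, 7, 7, 2, 4, 8, 7, 7, 2, 8, 5, 2, 4, 8] (sel (ones 4060) ip7 176) = true := by decide +kernel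

theorem rot7_176r : band (Rule.ok (2 * 2) EX RL ⟨7 :: [7, 2, 2, 4, 8, 7, 7, 2, 5, 5, 2, 4, 8, 7, 7, 2, 4, 4, 5, 7, 5, 5, 4, 8, 7, 7, 2, 4, 8, 7, 7, 2, 8, 5, 2, 4, 8], [9, 9, 7, 8, 6, 6, 2, 7, 8, 6, 8], 10, true⟩) (lall (memL L) [7, 2, 2, 4, 8, 7, 7, 2, 5, 5, 2, 4, 8, 7, 7, 2, 4, 4, 5, 7, 5, 5, 4, 8, 7, 7, 2, 4, 8, 7, 7, 2, 8, 5, 2, 4, 8]) = true := by decide +kernel

theorem rot7_177 : T.rot 7 [7, 2, 5, 5, 2, 4, 8, 7, 7, 2, 4, 4, 5, 7, 5, 5, 4, 8, 7, 7, 2, 4, 8, 7, 7, 2, 8, 5, 2, 4, 8, 7, 7, 2, 2, 4, 8] (sel (ones 4060) ip7 177) = true := by decide +kernel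

theorem rot7_177r : band (Rule.ok (2 * 2) EX RL ⟨7 :: [7, 2, 5, 5, 2, 4, 8, 7, 7, 2, 4, 4, 5, 7, 5, 5, 4, 8, 7, 7, 2, 4, 8, 7, 7, 2, 8, 5, 2, 4, 8, 7, 7, 2, 2, 4, 8], [9, 9, 7, 8, 6, 6, 2, 7, 8, 6, 8, 6, 8], 10, true⟩) (lall (memL L) [7, 2, 5, 5, 2, 4, 8, 7, 7, 2, 4, 4, 5, 7, 5, 5, 4, 8, 7, 7, 2, 4, 8, 7, 7, 2, 8, 5, 2, 4, 8, 7, 7, 2, 2, 4, 8]) = true := by decide +kernel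

theorem rot7_178 : T.rot 7 [2, 5, 5, 2, 4, 8, 7, 7, 2, 4, 4, 5, 7, 5, 5, 4, 8, 7, 7, 2, 4, 8, 7, 7, 2, 8, 5, 2, 4, 8, 7, 7, 2, 2, 4, 8, 7] (sel (ones 4060) ip7 178) = true := by decide +kernel

theorem rot7_178r : band (Rule.ok (2 * 2) EX RL ⟨7 :: [2, 5, 5, 2, 4, 8, 7, 7, 2, 4, 4, 5, 7, 5, 5, 4, 8, 7, 7, 2, 4, 8, 7, 7, 2, 8, 5, 2, 4, 8, 7, 7, 2, 2, 4, 8, 7], [7, 8, 6, 6, 2, 7, 7, 9, 6, 2, 8, 8, 2, 7], 10, true⟩) (lall (memL L) [2, 5, 5, 2, 4, 8, 7, 7, 2, 4, 4, 5, 7, 5, 5, 4, 8, 7, 7, 2, 4, 8, 7, 7, 2, 8, 5, 2, 4, 8, 7, 7, 2, 2, 4, 8, 7]) = true := by decide +kernel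

theorem rot7_179 : T.rot 7 [7, 2, 4, 4, 5, 7, 5, 5, 4, 8, 7, 7, 2, 4, 8, 7, 7, 2, 8, 5, 2, 4, 8, 7, 7, 2, 2, 4, 8, 7, 7, 2, 5, 5, 2, 4, 8] (sel (ones 4060) ip7 179) = true := by decide +kernel

theorem rot7_179r : band (Rule.ok (2 * 2) EX RL ⟨7 :: [7, 2, 4, 4, 5, 7, 5, 5, 4, 8, 7, 7, 2, 4, 8, 7, 7, 2, 8, 5, 2, 4, 8, 7, 7, 2, 2, 4, 8, 7, 7, 2, 5, 5, 2, 4, 8], [7, 8, 6, 6, 2, 7, 7], 10, true⟩) (lall (memL L) [7, 2, 4, 4, 5, 7, 5, 5, 4, 8, 7, 7, 2, 4, 8, 7, 7, 2, 8, 5, 2, 4, 8, 7, 7, 2, 2, 4, 8, 7, 7, 2, 5, 5, 2, 4, 8]) = true := by decide +kernel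

theorem rot7_180 : T.rot 7 [2, 4, 4, 5, 7, 5, 5, 4, 8, 7, 7, 2, 4, 8, 7, 7, 2, 8, 5, 2, 4, 8, 7, 7, 2, 2, 4, 8, 7, 7, 2, 5, 5, 2, 4, 8, 7] (sel (ones 4060) ip7 180) = true := by decide +kernel

theorem rot7_180r : band (Rule.ok (2 * 2) EX RL ⟨7 :: [2, 4, 4, 5, 7, 5, 5, 4, 8, 7, 7, 2, 4, 8, 7, 7, 2, 8, 5, 2, 4, 8, 7, 7, 2, 2, 4, 8, 7, 7, 2, 5, 5, 2, 4, 8, 7], [7, 8, 6, 6, 2, 7], 10, true⟩) (lall (memL L) [2, 4, 4, 5, 7, 5, 5, 4, 8, 7, 7, 2, 4, 8, 7, 7, 2, 8, 5, 2, 4, 8, 7, 7, 2, 2, 4, 8, 7, 7, 2, 5, 5, 2, 4, 8, 7]) = true := by decide +kernel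

theorem rot7_181 : T.rot 7 [5, 5, 4, 8, 7, 7, 2, 4, 8, 7, 7, 2, 8, 5, 2, 4, 8, 7, 7, 2, 2, 4, 8, 7, 7, 2, 5, 5, 2, 4, 8, 7, 7, 2, 4, 4, 5] (sel (ones 4060) ip7 181) = true := by decide +kernel

theorem rot7_181r : band (Rule.ok (2 * 2) EX RL ⟨7 :: [5, 5, 4, 8, 7, 7, 2, 4, 8, 7, 7, 2, 8, 5, 2, 4, 8, 7, 7, 2, 2, 4, 8, 7, 7, 2, 5, 5, 2, 4, 8, 7, 7, 2, 4, 4, 5], [7], 10, true⟩) (lall (memL L) [5, 5, 4, 8, 7, 7, 2, 4, 8, 7, 7, 2, 8, 5, 2, 4, 8, 7, 7, 2, 2, 4, 8, 7, 7, 2, 5, 5, 2, 4, 8, 7, 7, 2, 4, 4, 5]) = true := by decide +kernel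

theorem rot7_182 : T.rot 7 [7, 2, 4, 4, 5, 7, 2, 8, 8, 2, 4, 4, 5, 7, 2, 2, 4, 4, 5, 7, 2, 8, 5, 2, 4, 4, 5, 7, 2, 4, 4, 5, 7, 8, 8, 4, 8] (sel (ones 4060) ip7 182) = true := by decide +kernel

theorem rot7_182r : band (Rule.ok (2 * 2) EX RL ⟨7 :: [7, 2, 4, 4, 5, 7, 2, 8, 8, 2, 4, 4, 5, 7, 2, 2, 4, 4, 5, 7, 2, 8, 5, 2, 4, 4, 5, 7, 2, 4, 4, 5, 7, 8, 8, 4, 8], [7, 8], 10, false⟩) (lall (memL L) [7, 2, 4, 4, 5, 7, 2, 8, 8, 2, 4, 4, 5, 7, 2, 2, 4, 4, 5, 7, 2, 8, 5, 2, 4, 4, 5, 7, 2, 4, 4, 5, 7, 8, 8, 4, 8]) = true := by decide +kernel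

theorem rot7_183 : T.rot 7 [8, 8, 4, 8, 7, 7, 2, 4, 4, 5, 7, 2, 8, 8, 2, 4, 4, 5, 7, 2, 2, 4, 4, 5, 7, 2, 8, 5, 2, 4, 4, 5, 7, 2, 4, 4, 5] (sel (ones 4060) ip7 183) = true := by decide +kernel

theorem rot7_183r : band (Rule.ok (2 * 2) EX RL ⟨7 :: [8, 8, 4, 8, 7, 7, 2, 4, 4, 5, 7, 2, 8, 8, 2, 4, 4, 5, 7, 2, 2, 4, 4, 5, 7, 2, 8, 5, 2, 4, 4, 5, 7, 2, 4, 4, 5], [9, 9, 7], 10, false⟩) (lall (memL L) [8, 8, 4, 8, 7, 7, 2, 4, 4, 5, 7, 2, 8, 8, 2, 4, 4, 5, 7, 2, 2, 4, 4, 5, 7, 2, 8, 5, 2, 4, 4, 5, 7, 2, 4, 4, 5]) = true := by decide +kernel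

theorem rot7_184 : T.rot 7 [2, 8, 2, 4, 8, 7, 7, 2, 5, 2, 4, 8, 7, 7, 2, 5, 5, 2, 4, 8, 7, 7, 2, 8, 2, 4, 4, 5, 7, 2, 8, 2, 4, 4, 5, 7, 2, 2, 4, 4, 5] (sel (ones 4060) ip7 184) = true := by decide +kernel

theorem rot7_184r : band (Rule.ok (2 * 2) EX RL ⟨7 :: [2, 8, 2, 4, 8, 7, 7, 2, 5, 2, 4, 8, 7, 7, 2, 5, 5, 2, 4, 8, 7, 7, 2, 8, 2, 4, 4, 5, 7, 2, 8, 2, 4, 4, 5, 7, 2, 2, 4, 4, 5], [8, 2, 7, 7, 9, 6, 2, 8, 2, 7, 7, 9, 7, 9], 2, true⟩) (lall (memL L) [2, 8, 2, 4, 8, 7, 7, 2, 5, 2, 4, 8, 7, 7, 2, 5, 5, 2, 4, 8, 7, 7, 2, 8, 2, 4, 4, 5, 7, 2, 8, 2, 4, 4, 5, 7, 2, 2, 4, 4, 5]) = true := by decide +kernel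

theorem rot7_185 : T.rot 7 [7, 2, 5, 2, 4, 8, 7, 7, 2, 5, 5, 2, 4, 8, 7, 7, 2, 8, 2, 4, 4, 5, 7, 2, 8, 2, 4, 4, 5, 7, 2, 2, 4, 4, 5, 7, 2, 8, 2, 4, 8] (sel (ones 4060) ip7 185) = true := by decide +kernel

theorem rot7_185r : band (Rule.ok (2 * 2) EX RL ⟨7 :: [7, 2, 5, 2, 4, 8, 7, 7, 2, 5, 5, 2, 4, 8, 7, 7, 2, 8, 2, 4, 4, 5, 7, 2, 8, 2, 4, 4, 5, 7, 2, 2, 4, 4, 5, 7, 2, 8, 2, 4, 8], [2, 7, 7, 9, 6, 2, 8, 8, 2, 7, 7, 9, 6, 2, 8, 2, 7, 7], 2, true⟩) (lall (memL L) [7, 2, 5, 2, 4, 8, 7, 7, 2, 5, 5, 2, 4, 8, 7, 7, 2, 8, 2, 4, 4, 5, 7, 2, 8, 2, 4, 4, 5, 7, 2, 2, 4, 4, 5, 7, 2, 8, 2, 4, 8]) = true := by decide +kernel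

theorem rot7_186 : T.rot 7 [2, 5, 2, 4, 8, 7, 7, 2, 5, 5, 2, 4, 8, 7, 7, 2, 8, 2, 4, 4, 5, 7, 2, 8, 2, 4, 4, 5, 7, 2, 2, 4, 4, 5, 7, 2, 8, 2, 4, 8, 7] (sel (ones 4060) ip7 186) = true := by decide +kernel

theorem rot7_186r : band (Rule.ok (2 * 2) EX RL ⟨7 :: [2, 5, 2, 4, 8, 7, 7, 2, 5, 5, 2, 4, 8, 7, 7, 2, 8, 2, 4, 4, 5, 7, 2, 8, 2, 4, 4, 5, 7, 2, 2, 4, 4, 5, 7, 2, 8, 2, 4, 8, 7], [2, 7, 7, 9, 6, 2, 8, 8, 2, 7, 7, 9, 6, 2, 8, 2, 7], 2, true⟩) (lall (memL L) [2, 5, 2, 4, 8, 7, 7, 2, 5, 5, 2, 4, 8, 7, 7, 2, 8, 2, 4, 4, 5, 7, 2, 8, 2, 4, 4, 5, 7, 2, 2, 4, 4, 5, 7, 2, 8, 2, 4, 8, 7]) = true := by decide +kernel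

theorem rot7_187 : T.rot 7 [7, 2, 5, 5, 2, 4, 8, 7, 7, 2, 8, 2, 4, 4, 5, 7, 2, 8, 2, 4, 4, 5, 7, 2, 2, 4, 4, 5, 7, 2, 8, 2, 4, 8, 7, 7, 2, 5, 2, 4, 8] (sel (ones 4060) ip7 187) = true := by decide +kernel

theorem rot7_187r : band (Rule.ok (2 * 2) EX RL ⟨7 :: [7, 2, 5, 5, 2, 4, 8, 7, 7, 2, 8, 2, 4, 4, 5, 7, 2, 8, 2, 4, 4, 5, 7, 2, 2, 4, 4, 5, 7, 2, 8, 2, 4, 8, 7, 7, 2, 5, 2, 4, 8], [2, 7, 7, 9, 6, 2, 8, 8, 2, 7, 7], 2, true⟩) (lall (memL L) [7, 2, 5, 5, 2, 4, 8, 7, 7, 2, 8, 2, 4, 4, 5, 7, 2, 8, 2, 4, 4, 5, 7, 2, 2, 4, 4, 5, 7, 2, 8, 2, 4, 8, 7, 7, 2, 5, 2, 4, 8]) = true := by decide +kernel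

theorem rot7_188 : T.rot 7 [7, 2, 8, 2, 4, 4, 5, 7, 2, 8, 2, 4, 4, 5, 7, 2, 2, 4, 4, 5, 7, 2, 8, 2, 4, 8, 7, 7, 2, 5, 2, 4, 8, 7, 7, 2, 5, 5, 2, 4, 8] (sel (ones 4060) ip7 188) = true := by decide +kernel

theorem rot7_188r : band (Rule.ok (2 * 2) EX RL ⟨7 :: [7, 2, 8, 2, 4, 4, 5, 7, 2, 8, 2, 4, 4, 5, 7, 2, 2, 4, 4, 5, 7, 2, 8, 2, 4, 8, 7, 7, 2, 5, 2, 4, 8, 7, 7, 2, 5, 5, 2, 4, 8], [2, 7, 7], 2, true⟩) (lall (memL L) [7, 2, 8, 2, 4, 4, 5, 7, 2, 8, 2, 4, 4, 5, 7, 2, 2, 4, 4, 5, 7, 2, 8, 2, 4, 8, 7, 7, 2, 5, 2, 4, 8, 7, 7, 2, 5, 5, 2, 4, 8]) = true := by decide +kernel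

theorem rot7_189 : T.rot 7 [2, 8, 8, 2, 4, 4, 5, 7, 2, 8, 2, 4, 4, 5, 7, 2, 5, 2, 4, 8, 7, 7, 2, 2, 4, 8, 7, 7, 2, 5, 2, 4, 8, 7, 7, 2, 5, 2, 4, 4, 5] (sel (ones 4060) ip7 189) = true := by decide +kernel

theorem rot7_189r : band (Rule.ok (2 * 2) EX RL ⟨7 :: [2, 8, 8, 2, 4, 4, 5, 7, 2, 8, 2, 4, 4, 5, 7, 2, 5, 2, 4, 8, 7, 7, 2, 2, 4, 8, 7, 7, 2, 5, 2, 4, 8, 7, 7, 2, 5, 2, 4, 4, 5], [2, 7, 7, 9], 2, false⟩) (lall (memL L) [2, 8, 8, 2, 4, 4, 5, 7, 2, 8, 2, 4, 4, 5, 7, 2, 5, 2, 4, 8, 7, 7, 2, 2, 4, 8, 7, 7, 2, 5, 2, 4, 8, 7, 7, 2, 5, 2, 4, 4, 5]) = true := by decide +kernel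

theorem rot7_190 : T.rot 7 [2, 5, 2, 4, 8, 7, 7, 2, 2, 4, 8, 7, 7, 2, 5, 2, 4, 8, 7, 7, 2, 5, 2, 4, 4, 5, 7, 2, 8, 8, 2, 4, 4, 5, 7, 2, 8, 2, 4, 4, 5] (sel (ones 4060) ip7 190) = true := by decide +kernel

theorem rot7_190r : band (Rule.ok (2 * 2) EX RL ⟨7 :: [2, 5, 2, 4, 8, 7, 7, 2, 2, 4, 8, 7, 7, 2, 5, 2, 4, 8, 7, 7, 2, 5, 2, 4, 4, 5, 7, 2, 8, 8, 2, 4, 4, 5, 7, 2, 8, 2, 4, 4, 5], [8, 2, 7, 7, 9, 6, 2, 8, 2, 7, 7, 9, 7, 9, 6, 2, 8, 2, 7], 2, false⟩) (lall (memL L) [2, 5, 2, 4, 8, 7, 7, 2, 2, 4, 8, 7, 7, 2, 5, 2, 4, 8, 7, 7, 2, 5, 2, 4, 4, 5, 7, 2, 8, 8, 2, 4, 4, 5, 7, 2, 8, 2, 4, 4, 5]) = true := by decide +kernel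

theorem rot7_191 : T.rot 7 [7, 2, 2, 4, 8, 7, 7, 2, 5, 2, 4, 8, 7, 7, 2, 5, 2, 4, 4, 5, 7, 2, 8, 8, 2, 4, 4, 5, 7, 2, 8, 2, 4, 4, 5, 7, 2, 5, 2, 4, 8] (sel (ones 4060) ip7 191) = true := by decide +kernel

theorem rot7_191r : band (Rule.ok (2 * 2) EX RL ⟨7 :: [7, 2, 2, 4, 8, 7, 7, 2, 5, 2, 4, 8, 7, 7, 2, 5, 2, 4, 4, 5, 7, 2, 8, 8, 2, 4, 4, 5, 7, 2, 8, 2, 4, 4, 5, 7, 2, 5, 2, 4, 8], [8, 2, 7, 7, 9, 6, 2, 8, 2, 7, 7, 9, 7], 2, false⟩) (lall (memL L) [7, 2, 2, 4, 8, 7, 7, 2, 5, 2, 4, 8, 7, 7, 2, 5, 2, 4, 4, 5, 7, 2, 8, 8, 2, 4, 4, 5, 7, 2, 8, 2, 4, 4, 5, 7, 2, 5, 2, 4, 8]) = true := by decide +kernel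

theorem rot7_192 : T.rot 7 [2, 5, 2, 4, 8, 7, 7, 2, 5, 2, 4, 4, 5, 7, 2, 8, 8, 2, 4, 4, 5, 7, 2, 8, 2, 4, 4, 5, 7, 2, 5, 2, 4, 8, 7, 7, 2, 2, 4, 8, 7] (sel (ones 4060) ip7 192) = true := by decide +kernel

theorem rot7_192r : band (Rule.ok (2 * 2) EX RL ⟨7 :: [2, 5, 2, 4, 8, 7, 7, 2, 5, 2, 4, 4, 5, 7, 2, 8, 8, 2, 4, 4, 5, 7, 2, 8, 2, 4, 4, 5, 7, 2, 5, 2, 4, 8, 7, 7, 2, 2, 4, 8, 7], [8, 2, 7, 7, 9, 6, 2, 8, 2, 7], 2, false⟩) (lall (memL L) [2, 5, 2, 4, 8, 7, 7, 2, 5, 2, 4, 4, 5, 7, 2, 8, 8, 2, 4, 4, 5, 7, 2, 8, 2, 4, 4, 5, 7, 2, 5, 2, 4, 8, 7, 7, 2, 2, 4, 8, 7]) = true := by decide +kernel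

theorem rot7_193 : T.rot 7 [7, 2, 5, 2, 4, 4, 5, 7, 2, 8, 8, 2, 4, 4, 5, 7, 2, 8, 2, 4, 4, 5, 7, 2, 5, 2, 4, 8, 7, 7, 2, 2, 4, 8, 7, 7, 2, 5, 2, 4, 8] (sel (ones 4060) ip7 193) = true := by decide +kernel

theorem rot7_193r : band (Rule.ok (2 * 2) EX RL ⟨7 :: [7, 2, 5, 2, 4, 4, 5, 7, 2, 8, 8, 2, 4, 4, 5, 7, 2, 8, 2, 4, 4, 5, 7, 2, 5, 2, 4, 8, 7, 7, 2, 2, 4, 8, 7, 7, 2, 5, 2, 4, 8], [8, 2, 7, 7], 2, false⟩) (lall (memL L) [7, 2, 5, 2, 4, 4, 5, 7, 2, 8, 8, 2, 4, 4, 5, 7, 2, 8, 2, 4, 4, 5, 7, 2, 5, 2, 4, 8, 7, 7, 2, 2, 4, 8, 7, 7, 2, 5, 2, 4, 8]) = true := by decide +kernel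

theorem rot7_194 : T.rot 7 [2, 5, 2, 4, 4, 5, 7, 2, 8, 8, 2, 4, 4, 5, 7, 2, 8, 2, 4, 4, 5, 7, 2, 5, 2, 4, 8, 7, 7, 2, 2, 4, 8, 7, 7, 2, 5, 2, 4, 8, 7] (sel (ones 4060) ip7 194) = true := by decide +kernel

theorem rot7_194r : band (Rule.ok (2 * 2) EX RL ⟨7 :: [2, 5, 2, 4, 4, 5, 7, 2, 8, 8, 2, 4, 4, 5, 7, 2, 8, 2, 4, 4, 5, 7, 2, 5, 2, 4, 8, 7, 7, 2, 2, 4, 8, 7, 7, 2, 5, 2, 4, 8, 7], [8, 2, 7], 2, false⟩) (lall (memL L) [2, 5, 2, 4, 4, 5, 7, 2, 8, 8, 2, 4, 4, 5, 7, 2, 8, 2, 4, 4, 5, 7, 2, 5, 2, 4, 8, 7, 7, 2, 2, 4, 8, 7, 7, 2, 5, 2, 4, 8, 7]) = true := by decide +kernel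

theorem rot7_195 : T.rot 7 [7, 2, 4, 4, 5, 7, 2, 8, 4, 8, 7, 7, 2, 4, 4, 5, 7, 2, 8, 2, 4, 4, 5, 7, 2, 8, 4, 8, 7, 7, 2, 4, 4, 5, 7, 2, 8, 4, 8, 7, 7, 4, 8] (sel (ones 4060) ip7 195) = true := by decide +kernel

theorem rot7_195r : band (Rule.ok (2 * 2) EX RL ⟨7 :: [7, 2, 4, 4, 5, 7, 2, 8, 4, 8, 7, 7, 2, 4, 4, 5, 7, 2, 8, 2, 4, 4, 5, 7, 2, 8, 4, 8, 7, 7, 2, 4, 4, 5, 7, 2, 8, 4, 8, 7, 7, 4, 8], [7, 8, 6, 8], 6, true⟩) (lall (memL L) [7, 2, 4, 4, 5, 7, 2, 8, 4, 8, 7, 7, 2, 4, 4, 5, 7, 2, 8, 2, 4, 4, 5, 7, 2, 8, 4, 8, 7, 7, 2, 4, 4, 5, 7, 2, 8, 4, 8, 7, 7, 4, 8]) = true := by decide +kernel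

theorem rot7_196 : T.rot 7 [7, 2, 4, 4, 5, 7, 2, 8, 4, 8, 7, 7, 4, 8, 7, 7, 2, 4, 4, 5, 7, 2, 8, 4, 8, 7, 7, 2, 4, 4, 5, 7, 2, 8, 2, 4, 4, 5, 7, 2, 8, 4, 8] (sel (ones 4060) ip7 196) = true := by decide +kernel

theorem rot7_196r : band (Rule.ok (2 * 2) EX RL ⟨7 :: [7, 2, 4, 4, 5, 7, 2, 8, 4, 8, 7, 7, 4, 8, 7, 7, 2, 4, 4, 5, 7, 2, 8, 4, 8, 7, 7, 2, 4, 4, 5, 7, 2, 8, 2, 4, 4, 5, 7, 2, 8, 4, 8], [9, 2, 7, 8, 6, 6, 2, 7, 7], 6, true⟩) (lall (memL L) [7, 2, 4, 4, 5, 7, 2, 8, 4, 8, 7, 7, 4, 8, 7, 7, 2, 4, 4, 5, 7, 2, 8, 4, 8, 7, 7, 2, 4, 4, 5, 7, 2, 8, 2, 4, 4, 5, 7, 2, 8, 4, 8]) = true := by decide +kernel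

theorem rot7_197 : T.rot 7 [2, 4, 4, 5, 7, 2, 8, 4, 8, 7, 7, 4, 8, 7, 7, 2, 4, 4, 5, 7, 2, 8, 4, 8, 7, 7, 2, 4, 4, 5, 7, 2, 8, 2, 4, 4, 5, 7, 2, 8, 4, 8, 7] (sel (ones 4060) ip7 197) = true := by decide +kernel

theorem rot7_197r : band (Rule.ok (2 * 2) EX RL ⟨7 :: [2, 4, 4, 5, 7, 2, 8, 4, 8, 7, 7, 4, 8, 7, 7, 2, 4, 4, 5, 7, 2, 8, 4, 8, 7, 7, 2, 4, 4, 5, 7, 2, 8, 2, 4, 4, 5, 7, 2, 8, 4, 8, 7], [9, 2, 7, 8, 6, 6, 2, 7], 6, true⟩) (lall (memL L) [2, 4, 4, 5, 7, 2, 8, 4, 8, 7, 7, 4, 8, 7, 7, 2, 4, 4, 5, 7, 2, 8, 4, 8, 7, 7, 2, 4, 4, 5, 7, 2, 8, 2, 4, 4, 5, 7, 2, 8, 4, 8, 7]) = true := by decide +kernel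

theorem rot7_198 : T.rot 7 [7, 2, 4, 4, 5, 7, 5, 2, 4, 8, 7, 7, 2, 5, 2, 4, 8, 7, 7, 2, 4, 4, 5, 7, 5, 2, 4, 8, 7, 7, 2, 4, 4, 5, 7, 4, 4, 5, 7, 5, 2, 4, 8] (sel (ones 4060) ip7 198) = true := by decide +kernel

theorem rot7_198r : band (Rule.ok (2 * 2) EX RL ⟨7 :: [7, 2, 4, 4, 5, 7, 5, 2, 4, 8, 7, 7, 2, 5, 2, 4, 8, 7, 7, 2, 4, 4, 5, 7, 5, 2, 4, 8, 7, 7, 2, 4, 4, 5, 7, 4, 4, 5, 7, 5, 2, 4, 8], [9, 2, 7, 8], 6, false⟩) (lall (memL L) [7, 2, 4, 4, 5, 7, 5, 2, 4, 8, 7, 7, 2, 5, 2, 4, 8, 7, 7, 2, 4, 4, 5, 7, 5, 2, 4, 8, 7, 7, 2, 4, 4, 5, 7, 4, 4, 5, 7, 5, 2, 4, 8]) = true := by decide +kernel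

theorem rot7_199 : T.rot 7 [5, 2, 4, 8, 7, 7, 2, 5, 2, 4, 8, 7, 7, 2, 4, 4, 5, 7, 5, 2, 4, 8, 7, 7, 2, 4, 4, 5, 7, 4, 4, 5, 7, 5, 2, 4, 8, 7, 7, 2, 4, 4, 5] (sel (ones 4060) ip7 199) = true := by decide +kernel

theorem rot7_199r : band (Rule.ok (2 * 2) EX RL ⟨7 :: [5, 2, 4, 8, 7, 7, 2, 5, 2, 4, 8, 7, 7, 2, 4, 4, 5, 7, 5, 2, 4, 8, 7, 7, 2, 4, 4, 5, 7, 4, 4, 5, 7, 5, 2, 4, 8, 7, 7, 2, 4, 4, 5], [9, 2, 7, 8, 6, 6, 2, 7, 7, 9], 6, false⟩) (lall (memL L) [5, 2, 4, 8, 7, 7, 2, 5, 2, 4, 8, 7, 7, 2, 4, 4, 5, 7, 5, 2, 4, 8, 7, 7, 2, 4, 4, 5, 7, 4, 4, 5, 7, 5, 2, 4, 8, 7, 7, 2, 4, 4, 5]) = true := by decide +kernel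

theorem rot7_200 : T.rot 7 [7, 2, 5, 2, 4, 8, 7, 7, 2, 4, 4, 5, 7, 5, 2, 4, 8, 7, 7, 2, 4, 4, 5, 7, 4, 4, 5, 7, 5, 2, 4, 8, 7, 7, 2, 4, 4, 5, 7, 5, 2, 4, 8] (sel (ones 4060) ip7 200) = true := by decide +kernel

theorem rot7_200r : band (Rule.ok (2 * 2) EX RL ⟨7 :: [7, 2, 5, 2, 4, 8, 7, 7, 2, 4, 4, 5, 7, 5, 2, 4, 8, 7, 7, 2, 4, 4, 5, 7, 4, 4, 5, 7, 5, 2, 4, 8, 7, 7, 2, 4, 4, 5, 7, 5, 2, 4, 8], [9, 2, 7, 8, 6, 6, 2, 7, 7, 9, 6, 9, 2, 7, 8], 6, false⟩) (lall (memL L) [7, 2, 5, 2, 4, 8, 7, 7, 2, 4, 4, 5, 7, 5, 2, 4, 8, 7, 7, 2, 4, 4, 5, 7, 4, 4, 5, 7, 5, 2, 4, 8, 7, 7, 2, 4, 4, 5, 7, 5, 2, 4, 8]) = true := by decide +kernel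

theorem rot7_201 : T.rot 7 [7, 2, 4, 4, 5, 7, 5, 2, 4, 8, 7, 7, 2, 4, 4, 5, 7, 4, 4, 5, 7, 5, 2, 4, 8, 7, 7, 2, 4, 4, 5, 7, 5, 2, 4, 8, 7, 7, 2, 5, 2, 4, 8] (sel (ones 4060) ip7 201) = true := by decide +kernel

theorem rot7_201r : band (Rule.ok (2 * 2) EX RL ⟨7 :: [7, 2, 4, 4, 5, 7, 5, 2, 4, 8, 7, 7, 2, 4, 4, 5, 7, 4, 4, 5, 7, 5, 2, 4, 8, 7, 7, 2, 4, 4, 5, 7, 5, 2, 4, 8, 7, 7, 2, 5, 2, 4, 8], [7, 8, 6, 8, 6, 6, 2, 7, 7, 9, 6, 2, 8, 7, 8, 6, 6, 2, 7, 7], 6, false⟩) (lall (memL L) [7, 2, 4, 4, 5, 7, 5, 2, 4, 8, 7, 7, 2, 4, 4, 5, 7, 4, 4, 5, 7, 5, 2, 4, 8, 7, 7, 2, 4, 4, 5, 7, 5, 2, 4, 8, 7, 7, 2, 5, 2, 4, 8]) = true := by decide +kernel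

theorem rot7_202 : T.rot 7 [2, 4, 4, 5, 7, 5, 2, 4, 8, 7, 7, 2, 4, 4, 5, 7, 4, 4, 5, 7, 5, 2, 4, 8, 7, 7, 2, 4, 4, 5, 7, 5, 2, 4, 8, 7, 7, 2, 5, 2, 4, 8, 7] (sel (ones 4060) ip7 202) = true := by decide +kernel

theorem rot7_202r : band (Rule.ok (2 * 2) EX RL ⟨7 :: [2, 4, 4, 5, 7, 5, 2, 4, 8, 7, 7, 2, 4, 4, 5, 7, 4, 4, 5, 7, 5, 2, 4, 8, 7, 7, 2, 4, 4, 5, 7, 5, 2, 4, 8, 7, 7, 2, 5, 2, 4, 8, 7], [7, 8, 6, 8, 6, 6, 2, 7, 7, 9, 6, 2, 8, 7, 8, 6, 6, 2, 7], 6, false⟩) (lall (memL L) [2, 4, 4, 5, 7, 5, 2, 4, 8, 7, 7, 2, 4, 4, 5, 7, 4, 4, 5, 7, 5, 2, 4, 8, 7, 7, 2, 4, 4, 5, 7, 5, 2, 4, 8, 7, 7, 2, 5, 2, 4, 8, 7]) = true := by decide +kernel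

theorem rot7_203 : T.rot 7 [7, 2, 4, 4, 5, 7, 4, 4, 5, 7, 5, 2, 4, 8, 7, 7, 2, 4, 4, 5, 7, 5, 2, 4, 8, 7, 7, 2, 5, 2, 4, 8, 7, 7, 2, 4, 4, 5, 7, 5, 2, 4, 8] (sel (ones 4060) ip7 203) = true := by decide +kernel

theorem rot7_203r : band (Rule.ok (2 * 2) EX RL ⟨7 :: [7, 2, 4, 4, 5, 7, 4, 4, 5, 7, 5, 2, 4, 8, 7, 7, 2, 4, 4, 5, 7, 5, 2, 4, 8, 7, 7, 2, 5, 2, 4, 8, 7, 7, 2, 4, 4, 5, 7, 5, 2, 4, 8], [7, 8, 6, 8, 6, 6, 2, 7, 7], 6, false⟩) (lall (memL L) [7, 2, 4, 4, 5, 7, 4, 4, 5, 7, 5, 2, 4, 8, 7, 7, 2, 4, 4, 5, 7, 5, 2, 4, 8, 7, 7, 2, 5, 2, 4, 8, 7, 7, 2, 4, 4, 5, 7, 5, 2, 4, 8]) = true := by decide +kernel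

theorem rot7_204 : T.rot 7 [2, 4, 4, 5, 7, 2, 8, 4, 8, 7, 7, 2, 4, 4, 5, 7, 2, 8, 4, 8, 7, 7, 2, 4, 4, 5, 7, 2, 8, 4, 8, 7, 7, 2, 4, 4, 5, 7, 2, 8, 4, 8, 7] (sel (ones 4060) ip7 204) = true := by decide +kernel

theorem rot7_204r : band (Rule.ok (2 * 2) EX RL ⟨7 :: [2, 4, 4, 5, 7, 2, 8, 4, 8, 7, 7, 2, 4, 4, 5, 7, 2, 8, 4, 8, 7, 7, 2, 4, 4, 5, 7, 2, 8, 4, 8, 7, 7, 2, 4, 4, 5, 7, 2, 8, 4, 8, 7], [7, 8, 6], 7, true⟩) (lall (memL L) [2, 4, 4, 5, 7, 2, 8, 4, 8, 7, 7, 2, 4, 4, 5, 7, 2, 8, 4, 8, 7, 7, 2, 4, 4, 5, 7, 2, 8, 4, 8, 7, 7, 2, 4, 4, 5, 7, 2, 8, 4, 8, 7]) = true := by decide +kernel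

end Cfsg.Agent.Spor.Rua
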