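import Cfsg.Agent.Spor.Rua.D0

set_option autoImplicit false
set_option maxRecDepth 100000000
set_option Elab.async false

namespace Cfsg.Agent.Spor.Rua

theorem rot7_205 : T.rot 7 [7, 2, 4, 4, 5, 7, 5, 2, 4, 8, 7, 7, 2, 4, 4, 5, 7, 5, 2, 4, 8, 7, 7, 2, 4, 4, 5, 7, 5, 2, 4, 8, 7, 7, 2, 4, 4, 5, 7, 5, 2, 4, 8] (sel (ones 4060) ip7 205) = true := by decide +kernel

theorem rot7_205r : band (Rule.ok (2 * 2) EX RL ⟨7 :: [7, 2, 4, 4, 5, 7, 5, 2, 4, 8, 7, 7, 2, 4, 4, 5, 7, 5, 2, 4, 8, 7, 7, 2, 4, 4, 5, 7, 5, 2, 4, 8, 7, 7, 2, 4, 4, 5, 7, 5, 2, 4, 8], [9, 2, 7, 8], 7, false⟩) (lall (memL L) [7, 2, 4, 4, 5, 7, 5, 2, 4, 8, 7, 7, 2, 4, 4, 5, 7, 5, 2, 4, 8, 7, 7, 2, 4, 4, 5, 7, 5, 2, 4, 8, 7, 7, 2, 4, 4, 5, 7, 5, 2, 4, 8]) = true := by decide +kernel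

theorem rot7_206 : T.rot 7 [2, 4, 4, 5, 7, 5, 2, 4, 8, 7, 7, 2, 4, 4, 5, 7, 5, 2, 4, 8, 7, 7, 2, 4, 4, 5, 7, 5, 2, 4, 8, 7, 7, 2, 4, 4, 5, 7, 5, 2, 4, 8, 7] (sel (ones 4060) ip7 206) = true := by decide +kernel

theorem rot7_206r : band (Rule.ok (2 * 2) EX RL ⟨7 :: [2, 4, 4, 5, 7, 5, 2, 4, 8, 7, 7, 2, 4, 4, 5, 7, 5, 2, 4, 8, 7, 7, 2, 4, 4, 5, 7, 5, 2, 4, 8, 7, 7, 2, 4, 4, 5, 7, 5, 2, 4, 8, 7], [9, 2, 7, 8, 6], 7, false⟩) (lall (memL L) [2, 4, 4, 5, 7, 5, 2, 4, 8, 7, 7, 2, 4, 4, 5, 7, 5, 2, 4, 8, 7, 7, 2, 4, 4, 5, 7, 5, 2, 4, 8, 7, 7, 2, 4, 4, 5, 7, 5, 2, 4, 8, 7]) = true := by decide +kernel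

theorem cov7 : T.cover 7 [(sel (ones 4060) ip7 1), (sel (ones 4060) ip7 2), (sel (ones 4060) ip7 3), (sel (ones 4060) ip7 4), (sel (ones 4060) ip7 5), (sel (ones 4060) ip7 6), (sel (ones 4060) ip7 7), (sel (ones 4060) ip7 8), (sel (ones 4060) ip7 9), (sel (ones 4060) ip7 10), (sel (ones 4060) ip7 11), (sel (ones 4060) ip7 12), (sel (ones 4060) ip7 13), (sel (ones 4060) ip7 14), (sel (ones 4060) ip7 15), (sel (ones 4060) ip7 16), (sel (ones 4060) ip7 17), (sel (ones 4060) ip7 18), (sel (ones 4060) ip7 19), (sel (ones 4060) ip7 20), (sel (ones 4060) ip7 21), (sel (ones 4060) ip7 22), (sel (ones 4060) ip7 23), (sel (ones 4060) ip7 24), (sel (ones 4060) ip7 25), (sel (ones 4060) ip7 26), (sel (ones 4060) ip7 27), (sel (ones 4060) ip7 28), (sel (ones 4060) ip7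 29), (sel (ones 4060) ip7 30), (sel (ones 4060) ip7 31), (sel (ones 4060) ip7 32), (sel (ones 4060) ip7 33), (sel (ones 4060) ip7 34), (sel (ones 4060) ip7 35), (sel (ones 4060) ip7 36), (sel (ones 4060) ip7 37), (sel (ones 4060) ip7 38), (sel (ones 4060) ip7 39), (sel (ones 4060) ip7 40), (sel (ones 4060) ip7 41), (sel (ones 4060) ip7 42), (sel (ones 4060) ip7 43), (sel (ones 4060) ip7 44), (sel (ones 4060) ip7 45), (sel (ones 4060) ip7 46), (sel (ones 4060) ip7 47), (sel (ones 4060) ip7 48), (sel (ones 4060) ip7 49), (sel (ones 4060) ip7 50), (sel (ones 4060) ip7 51), (sel (ones 4060) ip7 52), (sel (ones 4060) ip7 53), (sel (ones 4060) ip7 54), (sel (ones 4060) ip7 55), (sel (ones 4060) ip7 56), (sel (ones 4060) ip7 57), (sel (ones 4060) ip7 58), (sel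 (ones 4060) ip7 59), (sel (ones 4060) ip7 60), (sel (ones 4060) ip7 61), (sel (ones 4060) ip7 62), (sel (ones 4060) ip7 63), (sel (ones 4060) ip7 64), (sel (ones 4060) ip7 65), (sel (ones 4060) ip7 66), (sel (ones 4060) ip7 67), (sel (ones 4060) ip7 68), (sel (ones 4060) ip7 69), (sel (ones 4060) ip7 70), (sel (ones 4060) ip7 71), (sel (ones 4060) ip7 72), (sel (ones 4060) ip7 73), (sel (ones 4060) ip7 74), (sel (ones 4060) ip7 75), (sel (ones 4060) ip7 76), (sel (ones 4060) ip7 77), (sel (ones 4060) ip7 78), (sel (ones 4060) ip7 79), (sel (ones 4060) ip7 80), (sel (ones 4060) ip7 81), (sel (ones 4060) ip7 82), (sel (ones 4060) ip7 83), (sel (ones 4060) ip7 84), (sel (ones 4060) ip7 85), (sel (ones 4060) ip7 86), (sel (ones 4060) ip7 87), (sel (ones 4060)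 ip7 88), (sel (ones 4060) ip7 89), (sel (ones 4060) ip7 90), (sel (ones 4060) ip7 91), (sel (ones 4060) ip7 92), (sel (ones 4060) ip7 93), (sel (ones 4060) ip7 94), (sel (ones 4060) ip7 95), (sel (ones 4060) ip7 96), (sel (ones 4060) ip7 97), (sel (ones 4060) ip7 98), (sel (ones 4060) ip7 99), (sel (ones 4060) ip7 100), (sel (ones 4060) ip7 101), (sel (ones 4060) ip7 102), (sel (ones 4060) ip7 103), (sel (ones 4060) ip7 104), (sel (ones 4060) ip7 105), (sel (ones 4060) ip7 106), (sel (ones 4060) ip7 107), (sel (ones 4060) ip7 108), (sel (ones 4060) ip7 109), (sel (ones 4060) ip7 110), (sel (ones 4060) ip7 111), (sel (ones 4060) ip7 112), (sel (ones 4060) ip7 113), (sel (ones 4060) ip7 114), (sel (ones 4060) ip7 115), (sel (ones 4060) ip7 116), (sel (ones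 4060) ip7 117), (sel (ones 4060) ip7 118), (sel (ones 4060) ip7 119), (sel (ones 4060) ip7 120), (sel (ones 4060) ip7 121), (sel (ones 4060) ip7 122), (sel (ones 4060) ip7 123), (sel (ones 4060) ip7 124), (sel (ones 4060) ip7 125), (sel (ones 4060) ip7 126), (sel (ones 4060) ip7 127), (sel (ones 4060) ip7 128), (sel (ones 4060) ip7 129), (sel (ones 4060) ip7 130), (sel (ones 4060) ip7 131), (sel (ones 4060) ip7 132), (sel (ones 4060) ip7 133), (sel (ones 4060) ip7 134), (sel (ones 4060) ip7 135), (sel (ones 4060) ip7 136), (sel (ones 4060) ip7 137), (sel (ones 4060) ip7 138), (sel (ones 4060) ip7 139), (sel (ones 4060) ip7 140), (sel (ones 4060) ip7 141), (sel (ones 4060) ip7 142), (sel (ones 4060) ip7 143), (sel (ones 4060) ip7 144), (sel (ones 4060) ip7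 145), (sel (ones 4060) ip7 146), (sel (ones 4060) ip7 147), (sel (ones 4060) ip7 148), (sel (ones 4060) ip7 149), (sel (ones 4060) ip7 150), (sel (ones 4060) ip7 151), (sel (ones 4060) ip7 152), (sel (ones 4060) ip7 153), (sel (ones 4060) ip7 154), (sel (ones 4060) ip7 155), (sel (ones 4060) ip7 156), (sel (ones 4060) ip7 157), (sel (ones 4060) ip7 158), (sel (ones 4060) ip7 159), (sel (ones 4060) ip7 160), (sel (ones 4060) ip7 161), (sel (ones 4060) ip7 162), (sel (ones 4060) ip7 163), (sel (ones 4060) ip7 164), (sel (ones 4060) ip7 165), (sel (ones 4060) ip7 166), (sel (ones 4060) ip7 167), (sel (ones 4060) ip7 168), (sel (ones 4060) ip7 169), (sel (ones 4060) ip7 170), (sel (ones 4060) ip7 171), (sel (ones 4060) ip7 172), (sel (ones 4060) ip7 173), (sel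 (ones 4060) ip7 174), (sel (ones 4060) ip7 175), (sel (ones 4060) ip7 176), (sel (ones 4060) ip7 177), (sel (ones 4060) ip7 178), (sel (ones 4060) ip7 179), (sel (ones 4060) ip7 180), (sel (ones 4060) ip7 181), (sel (ones 4060) ip7 182), (sel (ones 4060) ip7 183), (sel (ones 4060) ip7 184), (sel (ones 4060) ip7 185), (sel (ones 4060) ip7 186), (sel (ones 4060) ip7 187), (sel (ones 4060) ip7 188), (sel (ones 4060) ip7 189), (sel (ones 4060) ip7 190), (sel (ones 4060) ip7 191), (sel (ones 4060) ip7 192), (sel (ones 4060) ip7 193), (sel (ones 4060) ip7 194), (sel (ones 4060) ip7 195), (sel (ones 4060) ip7 196), (sel (ones 4060) ip7 197), (sel (ones 4060) ip7 198), (sel (ones 4060) ip7 199), (sel (ones 4060) ip7 200), (sel (ones 4060) ip7 201), (sel (ones 4060)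 ip7 202), (sel (ones 4060) ip7 203), (sel (ones 4060) ip7 204), (sel (ones 4060) ip7 205), (sel (ones 4060) ip7 206)] = true := by decide +kernel

theorem tl7 : T.treeLt 12 7 = true := by decide +kernel

theorem rot8_1 : T.rot 8 [5] (sel (ones 4060) ip8 1) = true := by decide +kernel

theorem rot8_1r : band (Rule.ok (2 * 2) EX RL ⟨8 :: [5], [], 32, false⟩) (lall (memL L) [5]) = true := by decide +kernel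

theorem rot8_2 : T.rot 8 [4, 8, 7, 3, 7, 7, 3] (sel (ones 4060) ip8 2) = true := by decide +kernel

theorem rot8_2r : band (Rule.ok (2 * 2) EX RL ⟨8 :: [4, 8, 7, 3, 7, 7, 3], [7, 9, 6, 9], 20, false⟩) (lall (memL L) [4, 8, 7, 3, 7, 7, 3]) = true := by decide +kernel

theorem rot8_3 : T.rot 8 [7, 3, 7, 7, 3, 8, 4] (sel (ones 4060) ip8 3) = true := by decide +kernel

theorem rot8_3r : band (Rule.ok (2 * 2) EX RL ⟨8 :: [7, 3, 7, 7, 3, 8, 4], [7, 9], 20, false⟩) (lall (memL L) [7, 3, 7, 7, 3, 8, 4]) = true := by decide +kernel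

theorem rot8_4 : T.rot 8 [4, 3, 3, 2, 6, 2, 4, 8] (sel (ones 4060) ip8 4) = true := by decide +kernel

theorem rot8_4r : band (Rule.ok (2 * 2) EX RL ⟨8 :: [4, 3, 3, 2, 6, 2, 4, 8], [], 28, false⟩) (lall (memL L) [4, 3, 3, 2, 6, 2, 4, 8]) = true := by decide +kernel

theorem rot8_5 : T.rot 8 [8, 4, 3, 3, 2, 6, 2, 4] (sel (ones 4060) ip8 5) = true := by decide +kernel

theorem rot8_5r : band (Rule.ok (2 * 2) EX RL ⟨8 :: [8, 4, 3, 3, 2, 6, 2, 4], [9], 28, false⟩) (lall (memL L) [8, 4, 3, 3, 2, 6, 2, 4]) = true := by decide +kernel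

theorem rot8_6 : T.rot 8 [8, 2, 8, 4, 8, 7, 7, 2, 3] (sel (ones 4060) ip8 6) = true := by decide +kernel

theorem rot8_6r : band (Rule.ok (2 * 2) EX RL ⟨8 :: [8, 2, 8, 4, 8, 7, 7, 2, 3], [5], 21, true⟩) (lall (memL L) [8, 2, 8, 4, 8, 7, 7, 2, 3]) = true := by decide +kernel

theorem rot8_7 : T.rot 8 [2, 8, 4, 8, 7, 7, 2, 3, 8] (sel (ones 4060) ip8 7) = true := by decide +kernel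

theorem rot8_7r : band (Rule.ok (2 * 2) EX RL ⟨8 :: [2, 8, 4, 8, 7, 7, 2, 3, 8], [5, 8], 21, true⟩) (lall (memL L) [2, 8, 4, 8, 7, 7, 2, 3, 8]) = true := by decide +kernel

theorem rot8_8 : T.rot 8 [4, 8, 7, 7, 2, 3, 8, 8, 2] (sel (ones 4060) ip8 8) = true := by decide +kernel

theorem rot8_8r : band (Rule.ok (2 * 2) EX RL ⟨8 :: [4, 8, 7, 7, 2, 3, 8, 8, 2], [5, 8, 8, 2], 21, true⟩) (lall (memL L) [4, 8, 7, 7, 2, 3, 8, 8, 2]) = true := by decide +kernel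

theorem rot8_9 : T.rot 8 [7, 7, 2, 3, 8, 8, 2, 8, 4] (sel (ones 4060) ip8 9) = true := by decide +kernel

theorem rot8_9r : band (Rule.ok (2 * 2) EX RL ⟨8 :: [7, 7, 2, 3, 8, 8, 2, 8, 4], [2, 7, 7, 9], 21, true⟩) (lall (memL L) [7, 7, 2, 3, 8, 8, 2, 8, 4]) = true := by decide +kernel

theorem rot8_10 : T.rot 8 [2, 8, 7, 5, 4, 4, 5, 7, 7, 2] (sel (ones 4060) ip8 10) = true := by decide +kernel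

theorem rot8_10r : band (Rule.ok (2 * 2) EX RL ⟨8 :: [2, 8, 7, 5, 4, 4, 5, 7, 7, 2], [7, 9, 6, 6, 2], 15, true⟩) (lall (memL L) [2, 8, 7, 5, 4, 4, 5, 7, 7, 2]) = true := by decide +kernel

theorem rot8_11 : T.rot 8 [7, 5, 4, 4, 5, 7, 7, 2, 8, 2] (sel (ones 4060) ip8 11) = true := by decide +kernel

theorem rot8_11r : band (Rule.ok (2 * 2) EX RL ⟨8 :: [7, 5, 4, 4, 5, 7, 7, 2, 8, 2], [6, 8, 7, 9], 15, true⟩) (lall (memL L) [7, 5, 4, 4, 5, 7, 7, 2, 8, 2]) = true := by decide +kernel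

theorem rot8_12 : T.rot 8 [4, 5, 2, 5, 2, 4, 4, 8, 7, 7] (sel (ones 4060) ip8 12) = true := by decide +kernel

theorem rot8_12r : band (Rule.ok (2 * 2) EX RL ⟨8 :: [4, 5, 2, 5, 2, 4, 4, 8, 7, 7], [6], 15, false⟩) (lall (memL L) [4, 5, 2, 5, 2, 4, 4, 8, 7, 7]) = true := by decide +kernel

theorem rot8_13 : T.rot 8 [7, 7, 8, 4, 5, 2, 5, 2, 4, 4] (sel (ones 4060) ip8 13) = true := by decide +kernel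

theorem rot8_13r : band (Rule.ok (2 * 2) EX RL ⟨8 :: [7, 7, 8, 4, 5, 2, 5, 2, 4, 4], [7, 9], 15, false⟩) (lall (memL L) [7, 7, 8, 4, 5, 2, 5, 2, 4, 4]) = true := by decide +kernel

theorem rot8_14 : T.rot 8 [2, 5, 2, 7, 7, 1, 4, 1, 7, 7] (sel (ones 4060) ip8 14) = true := by decide +kernel

theorem rot8_14r : band (Rule.ok (2 * 2) EX RL ⟨8 :: [2, 5, 2, 7, 7, 1, 4, 1, 7, 7], [0, 7, 0, 6, 6], 24, true⟩) (lall (memL L) [2, 5, 2, 7, 7, 1, 4, 1, 7, 7]) = true := by decide +kernel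

theorem rot8_15 : T.rot 8 [2, 5, 4, 4, 1, 7, 1, 4, 4, 2] (sel (ones 4060) ip8 15) = true := by decide +kernel

theorem rot8_15r : band (Rule.ok (2 * 2) EX RL ⟨8 :: [2, 5, 4, 4, 1, 7, 1, 4, 4, 2], [7, 7, 2], 24, false⟩) (lall (memL L) [2, 5, 4, 4, 1, 7, 1, 4, 4, 2]) = true := by decide +kernel

theorem rot8_16 : T.rot 8 [4, 5, 2, 3, 2, 4, 4, 2, 6, 2] (sel (ones 4060) ip8 16) = true := by decide +kernel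

theorem rot8_16r : band (Rule.ok (2 * 2) EX RL ⟨8 :: [4, 5, 2, 3, 2, 4, 4, 2, 6, 2], [2], 30, true⟩) (lall (memL L) [4, 5, 2, 3, 2, 4, 4, 2, 6, 2]) = true := by decide +kernel

theorem rot8_17 : T.rot 8 [7, 5, 2, 3, 2, 7, 7, 2, 6, 2] (sel (ones 4060) ip8 17) = true := by decide +kernel

theorem rot8_17r : band (Rule.ok (2 * 2) EX RL ⟨8 :: [7, 5, 2, 3, 2, 7, 7, 2, 6, 2], [2, 8, 7, 9], 30, false⟩) (lall (memL L) [7, 5, 2, 3, 2, 7, 7, 2, 6, 2]) = true := by decide +kernel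

theorem rot8_18 : T.rot 8 [8, 2, 5, 2, 1, 2, 7, 3, 4, 4, 2, 1] (sel (ones 4060) ip8 18) = true := by decide +kernel

theorem rot8_18r : band (Rule.ok (2 * 2) EX RL ⟨8 :: [8, 2, 5, 2, 1, 2, 7, 3, 4, 4, 2, 1], [2, 8, 2, 9, 9], 23, true⟩) (lall (memL L) [8, 2, 5, 2, 1, 2, 7, 3, 4, 4, 2, 1]) = true := by decide +kernel

theorem rot8_19 : T.rot 8 [2, 5, 2, 1, 2, 7, 3, 4, 4, 2, 1, 8] (sel (ones 4060) ip8 19) = true := by decide +kernel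

theorem rot8_19r : band (Rule.ok (2 * 2) EX RL ⟨8 :: [2, 5, 2, 1, 2, 7, 3, 4, 4, 2, 1, 8], [2, 8, 2, 9], 23, true⟩) (lall (memL L) [2, 5, 2, 1, 2, 7, 3, 4, 4, 2, 1, 8]) = true := by decide +kernel

theorem rot8_20 : T.rot 8 [2, 5, 5, 1, 2, 7, 7, 6, 4, 2, 1, 2] (sel (ones 4060) ip8 20) = true := by decide +kernel

theorem rot8_20r : band (Rule.ok (2 * 2) EX RL ⟨8 :: [2, 5, 5, 1, 2, 7, 7, 6, 4, 2, 1, 2], [2], 23, false⟩) (lall (memL L) [2, 5, 5, 1, 2, 7, 7, 6, 4, 2, 1, 2]) = true := by decide +kernel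

theorem rot8_21 : T.rot 8 [4, 2, 1, 2, 4, 3, 7, 7, 2, 1, 2, 4, 4] (sel (ones 4060) ip8 21) = true := by decide +kernel

theorem rot8_21r : band (Rule.ok (2 * 2) EX RL ⟨8 :: [4, 2, 1, 2, 4, 3, 7, 7, 2, 1, 2, 4, 4], [2, 6, 9], 22, true⟩) (lall (memL L) [4, 2, 1, 2, 4, 3, 7, 7, 2, 1, 2, 4, 4]) = true := by decide +kernel

theorem rot8_22 : T.rot 8 [7, 7, 3, 5, 6, 4, 2, 4, 2, 3, 2, 7, 2] (sel (ones 4060) ip8 22) = true := by decide +kernel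

theorem rot8_22r : band (Rule.ok (2 * 2) EX RL ⟨8 :: [7, 7, 3, 5, 6, 4, 2, 4, 2, 3, 2, 7, 2], [2, 6, 2], 27, true⟩) (lall (memL L) [7, 7, 3, 5, 6, 4, 2, 4, 2, 3, 2, 7, 2]) = true := by decide +kernel

theorem rot8_23 : T.rot 8 [6, 4, 4, 5, 2, 4, 2, 6, 2, 7, 2, 7, 3] (sel (ones 4060) ip8 23) = true := by decide +kernel

theorem rot8_23r : band (Rule.ok (2 * 2) EX RL ⟨8 :: [6, 4, 4, 5, 2, 4, 2, 6, 2, 7, 2, 7, 3], [4, 2, 6, 2, 6, 5], 27, false⟩) (lall (memL L) [6, 4, 4, 5, 2, 4, 2, 6, 2, 7, 2, 7, 3]) = true := by decide +kernel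

theorem rot8_24 : T.rot 8 [7, 7, 4, 8, 7, 7, 4, 8, 7, 7, 4, 8, 7, 7, 4] (sel (ones 4060) ip8 24) = true := by decide +kernel

theorem rot8_24r : band (Rule.ok (2 * 2) EX RL ⟨8 :: [7, 7, 4, 8, 7, 7, 4, 8, 7, 7, 4, 8, 7, 7, 4], [7], 5, true⟩) (lall (memL L) [7, 7, 4, 8, 7, 7, 4, 8, 7, 7, 4, 8, 7, 7, 4]) = true := by decide +kernel

theorem rot8_25 : T.rot 8 [2, 4, 4, 5, 7, 2, 2, 4, 8, 7, 7, 2, 8, 8, 8] (sel (ones 4060) ip8 25) = true := by decide +kernel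

theorem rot8_25r : band (Rule.ok (2 * 2) EX RL ⟨8 :: [2, 4, 4, 5, 7, 2, 2, 4, 8, 7, 7, 2, 8, 8, 8], [], 8, false⟩) (lall (memL L) [2, 4, 4, 5, 7, 2, 2, 4, 8, 7, 7, 2, 8, 8, 8]) = true := by decide +kernel

theorem rot8_26 : T.rot 8 [8, 8, 8, 2, 4, 4, 5, 7, 2, 2, 4, 8, 7, 7, 2] (sel (ones 4060) ip8 26) = true := by decide +kernel

theorem rot8_26r : band (Rule.ok (2 * 2) EX RL ⟨8 :: [8, 8, 8, 2, 4, 4, 5, 7, 2, 2, 4, 8, 7, 7, 2], [], 8, false⟩) (lall (memL L) [8, 8, 8, 2, 4, 4, 5, 7, 2, 2, 4, 8, 7, 7, 2]) = true := by decide +kernel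

theorem rot8_27 : T.rot 8 [8, 8, 2, 4, 4, 5, 7, 2, 2, 4, 8, 7, 7, 2, 8] (sel (ones 4060) ip8 27) = true := by decide +kernel

theorem rot8_27r : band (Rule.ok (2 * 2) EX RL ⟨8 :: [8, 8, 2, 4, 4, 5, 7, 2, 2, 4, 8, 7, 7, 2, 8], [], 8, false⟩) (lall (memL L) [8, 8, 2, 4, 4, 5, 7, 2, 2, 4, 8, 7, 7, 2, 8]) = true := by decide +kernel

theorem rot8_28 : T.rot 8 [8, 2, 4, 4, 5, 7, 2, 2, 4, 8, 7, 7, 2, 8, 8] (sel (ones 4060) ip8 28) = true := by decide +kernel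

theorem rot8_28r : band (Rule.ok (2 * 2) EX RL ⟨8 :: [8, 2, 4, 4, 5, 7, 2, 2, 4, 8, 7, 7, 2, 8, 8], [], 8, false⟩) (lall (memL L) [8, 2, 4, 4, 5, 7, 2, 2, 4, 8, 7, 7, 2, 8, 8]) = true := by decide +kernel

theorem rot8_29 : T.rot 8 [6, 4, 2, 1, 8, 8, 2, 8, 4, 5, 4, 4, 2, 1, 2, 1, 7] (sel (ones 4060) ip8 29) = true := by decide +kernel

theorem rot8_29r : band (Rule.ok (2 * 2) EX RL ⟨8 :: [6, 4, 2, 1, 8, 8, 2, 8, 4, 5, 4, 4, 2, 1, 2, 1, 7], [0, 2, 0, 6], 25, true⟩) (lall (memL L) [6, 4, 2, 1, 8, 8, 2, 8, 4, 5, 4, 4, 2, 1, 2, 1, 7]) = true := by decide +kernel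

theorem rot8_30 : T.rot 8 [8, 2, 8, 4, 5, 4, 4, 2, 1, 2, 1, 7, 8, 6, 4, 2, 1] (sel (ones 4060) ip8 30) = true := by decide +kernel

theorem rot8_30r : band (Rule.ok (2 * 2) EX RL ⟨8 :: [8, 2, 8, 4, 5, 4, 4, 2, 1, 2, 1, 7, 8, 6, 4, 2, 1], [2, 6, 6, 8, 6, 9, 2, 9, 9], 25, true⟩) (lall (memL L) [8, 2, 8, 4, 5, 4, 4, 2, 1, 2, 1, 7, 8, 6, 4, 2, 1]) = true := by decide +kernel

theorem rot8_31 : T.rot 8 [2, 8, 4, 5, 4, 4, 2, 1, 2, 1, 7, 8, 6, 4, 2, 1, 8] (sel (ones 4060) ip8 31) = true := by decide +kernel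

theorem rot8_31r : band (Rule.ok (2 * 2) EX RL ⟨8 :: [2, 8, 4, 5, 4, 4, 2, 1, 2, 1, 7, 8, 6, 4, 2, 1, 8], [2, 6, 6, 8, 6, 9, 2, 9], 25, true⟩) (lall (memL L) [2, 8, 4, 5, 4, 4, 2, 1, 2, 1, 7, 8, 6, 4, 2, 1, 8]) = true := by decide +kernel

theorem rot8_32 : T.rot 8 [4, 5, 4, 4, 2, 1, 2, 1, 7, 8, 6, 4, 2, 1, 8, 8, 2] (sel (ones 4060) ip8 32) = true := by decide +kernel

theorem rot8_32r : band (Rule.ok (2 * 2) EX RL ⟨8 :: [4, 5, 4, 4, 2, 1, 2, 1, 7, 8, 6, 4, 2, 1, 8, 8, 2], [2, 6, 6, 8, 6, 9], 25, true⟩) (lall (memL L) [4, 5, 4, 4, 2, 1, 2, 1, 7, 8, 6, 4, 2, 1, 8, 8, 2]) = true := by decide +kernel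

theorem rot8_33 : T.rot 8 [7, 5, 2, 5, 5, 1, 2, 7, 3, 5, 4, 1, 2, 1, 2, 7, 7] (sel (ones 4060) ip8 33) = true := by decide +kernel

theorem rot8_33r : band (Rule.ok (2 * 2) EX RL ⟨8 :: [7, 5, 2, 5, 5, 1, 2, 7, 3, 5, 4, 1, 2, 1, 2, 7, 7], [2, 6, 6], 25, false⟩) (lall (memL L) [7, 5, 2, 5, 5, 1, 2, 7, 3, 5, 4, 1, 2, 1, 2, 7, 7]) = true := by decide +kernel

theorem rot8_34 : T.rot 8 [7, 7, 8, 2, 4, 4, 2, 5, 1, 2, 1, 4, 2, 1, 2, 7, 2, 1, 4] (sel (ones 4060) ip8 34) = true := by decide +kernel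

theorem rot8_34r : band (Rule.ok (2 * 2) EX RL ⟨8 :: [7, 7, 8, 2, 4, 4, 2, 5, 1, 2, 1, 4, 2, 1, 2, 7, 2, 1, 4], [8, 2, 6, 6, 2, 9, 7, 7, 9], 26, true⟩) (lall (memL L) [7, 7, 8, 2, 4, 4, 2, 5, 1, 2, 1, 4, 2, 1, 2, 7, 2, 1, 4]) = true := by decide +kernel

theorem rot8_35 : T.rot 8 [2, 4, 4, 2, 5, 1, 2, 1, 4, 2, 1, 2, 7, 2, 1, 4, 8, 7, 7] (sel (ones 4060) ip8 35) = true := by decide +kernel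

theorem rot8_35r : band (Rule.ok (2 * 2) EX RL ⟨8 :: [2, 4, 4, 2, 5, 1, 2, 1, 4, 2, 1, 2, 7, 2, 1, 4, 8, 7, 7], [8, 2, 6, 6, 2, 9], 26, true⟩) (lall (memL L) [2, 4, 4, 2, 5, 1, 2, 1, 4, 2, 1, 2, 7, 2, 1, 4, 8, 7, 7]) = true := by decide +kernel

theorem rot8_36 : T.rot 8 [2, 7, 7, 2, 5, 4, 4, 5, 7, 1, 2, 4, 2, 1, 2, 7, 1, 2, 1] (sel (ones 4060) ip8 36) = true := by decide +kernel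

theorem rot8_36r : band (Rule.ok (2 * 2) EX RL ⟨8 :: [2, 7, 7, 2, 5, 4, 4, 5, 7, 1, 2, 4, 2, 1, 2, 7, 1, 2, 1], [], 26, false⟩) (lall (memL L) [2, 7, 7, 2, 5, 4, 4, 5, 7, 1, 2, 4, 2, 1, 2, 7, 1, 2, 1]) = true := by decide +kernel

theorem rot8_37 : T.rot 8 [7, 7, 2, 5, 4, 4, 5, 7, 2, 4, 4, 5, 7, 2, 4, 5, 5, 4, 2, 4] (sel (ones 4060) ip8 37) = true := by decide +kernel

theorem rot8_37r : band (Rule.ok (2 * 2) EX RL ⟨8 :: [7, 7, 2, 5, 4, 4, 5, 7, 2, 4, 4, 5, 7, 2, 4, 5, 5, 4, 2, 4], [7, 9, 9, 7, 2, 7], 13, true⟩) (lall (memL L) [7, 7, 2, 5, 4, 4, 5, 7, 2, 4, 4, 5, 7, 2, 4, 5, 5, 4, 2, 4]) = true := by decide +kernel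

theorem rot8_38 : T.rot 8 [7, 7, 2, 4, 8, 7, 7, 8, 2, 4, 4, 5, 7, 2, 7, 8, 8, 7, 2, 4] (sel (ones 4060) ip8 38) = true := by decide +kernel

theorem rot8_38r : band (Rule.ok (2 * 2) EX RL ⟨8 :: [7, 7, 2, 4, 8, 7, 7, 8, 2, 4, 4, 5, 7, 2, 7, 8, 8, 7, 2, 4], [2, 7], 13, false⟩) (lall (memL L) [7, 7, 2, 4, 8, 7, 7, 8, 2, 4, 4, 5, 7, 2, 7, 8, 8, 7, 2, 4]) = true := by decide +kernel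

theorem rot8_39 : T.rot 8 [7, 7, 8, 2, 4, 4, 5, 7, 2, 7, 8, 8, 7, 2, 4, 8, 7, 7, 2, 4] (sel (ones 4060) ip8 39) = true := by decide +kernel

theorem rot8_39r : band (Rule.ok (2 * 2) EX RL ⟨8 :: [7, 7, 8, 2, 4, 4, 5, 7, 2, 7, 8, 8, 7, 2, 4, 8, 7, 7, 2, 4], [2, 7, 8, 6, 6, 2, 7], 13, false⟩) (lall (memL L) [7, 7, 8, 2, 4, 4, 5, 7, 2, 7, 8, 8, 7, 2, 4, 8, 7, 7, 2, 4]) = true := by decide +kernel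

theorem rot8_40 : T.rot 8 [2, 4, 4, 5, 7, 2, 7, 8, 8, 7, 2, 4, 8, 7, 7, 2, 4, 8, 7, 7] (sel (ones 4060) ip8 40) = true := by decide +kernel

theorem rot8_40r : band (Rule.ok (2 * 2) EX RL ⟨8 :: [2, 4, 4, 5, 7, 2, 7, 8, 8, 7, 2, 4, 8, 7, 7, 2, 4, 8, 7, 7], [2, 7, 8, 6, 6, 2, 7, 8, 6, 6], 13, false⟩) (lall (memL L) [2, 4, 4, 5, 7, 2, 7, 8, 8, 7, 2, 4, 8, 7, 7, 2, 4, 8, 7, 7]) = true := by decide +kernel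

theorem rot8_41 : T.rot 8 [8, 7, 2, 4, 8, 7, 7, 2, 4, 8, 7, 7, 8, 2, 4, 4, 5, 7, 2, 7] (sel (ones 4060) ip8 41) = true := by decide +kernel

theorem rot8_41r : band (Rule.ok (2 * 2) EX RL ⟨8 :: [8, 7, 2, 4, 8, 7, 7, 2, 4, 8, 7, 7, 8, 2, 4, 4, 5, 7, 2, 7], [7, 9, 9], 13, false⟩) (lall (memL L) [8, 7, 2, 4, 8, 7, 7, 2, 4, 8, 7, 7, 8, 2, 4, 4, 5, 7, 2, 7]) = true := by decide +kernel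

theorem rot8_42 : T.rot 8 [7, 2, 4, 8, 7, 7, 2, 4, 8, 7, 7, 8, 2, 4, 4, 5, 7, 2, 7, 8] (sel (ones 4060) ip8 42) = true := by decide +kernel

theorem rot8_42r : band (Rule.ok (2 * 2) EX RL ⟨8 :: [7, 2, 4, 8, 7, 7, 2, 4, 8, 7, 7, 8, 2, 4, 4, 5, 7, 2, 7, 8], [7, 9], 13, false⟩) (lall (memL L) [7, 2, 4, 8, 7, 7, 2, 4, 8, 7, 7, 8, 2, 4, 4, 5, 7, 2, 7, 8]) = true := by decide +kernel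

theorem rot8_43 : T.rot 8 [4, 8, 2, 7, 2, 7, 2, 4, 5, 2, 4, 2, 4, 2, 5, 7, 2, 7, 7, 2] (sel (ones 4060) ip8 43) = true := by decide +kernel

theorem rot8_43r : band (Rule.ok (2 * 2) EX RL ⟨8 :: [4, 8, 2, 7, 2, 7, 2, 4, 5, 2, 4, 2, 4, 2, 5, 7, 2, 7, 7, 2], [8, 6, 2, 7, 2, 7, 2, 9, 6, 9], 16, true⟩) (lall (memL L) [4, 8, 2, 7, 2, 7, 2, 4, 5, 2, 4, 2, 4, 2, 5, 7, 2, 7, 7, 2]) = true := by decide +kernel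

theorem rot8_44 : T.rot 8 [2, 7, 2, 7, 2, 4, 5, 2, 4, 2, 4, 2, 5, 7, 2, 7, 7, 2, 8, 4] (sel (ones 4060) ip8 44) = true := by decide +kernel

theorem rot8_44r : band (Rule.ok (2 * 2) EX RL ⟨8 :: [2, 7, 2, 7, 2, 4, 5, 2, 4, 2, 4, 2, 5, 7, 2, 7, 7, 2, 8, 4], [8, 6, 2, 7, 2, 7, 2, 9], 16, true⟩) (lall (memL L) [2, 7, 2, 7, 2, 4, 5, 2, 4, 2, 4, 2, 5, 7, 2, 7, 7, 2, 8, 4]) = true := by decide +kernel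

theorem rot8_45 : T.rot 8 [7, 2, 4, 2, 4, 2, 5, 7, 5, 2, 4, 4, 2, 4, 8, 2, 7, 2, 7, 2] (sel (ones 4060) ip8 45) = true := by decide +kernel

theorem rot8_45r : band (Rule.ok (2 * 2) EX RL ⟨8 :: [7, 2, 4, 2, 4, 2, 5, 7, 5, 2, 4, 4, 2, 4, 8, 2, 7, 2, 7, 2], [], 16, false⟩) (lall (memL L) [7, 2, 4, 2, 4, 2, 5, 7, 5, 2, 4, 4, 2, 4, 8, 2, 7, 2, 7, 2]) = true := by decide +kernel

theorem rot8_46 : T.rot 8 [2, 7, 2, 7, 2, 8, 7, 2, 4, 2, 4, 2, 5, 7, 5, 2, 4, 4, 2, 4] (sel (ones 4060) ip8 46) = true := by decide +kernel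

theorem rot8_46r : band (Rule.ok (2 * 2) EX RL ⟨8 :: [2, 7, 2, 7, 2, 8, 7, 2, 4, 2, 4, 2, 5, 7, 5, 2, 4, 4, 2, 4], [2, 7, 2, 7, 2, 9], 16, false⟩) (lall (memL L) [2, 7, 2, 7, 2, 8, 7, 2, 4, 2, 4, 2, 5, 7, 5, 2, 4, 4, 2, 4]) = true := by decide +kernel

theorem rot8_47 : T.rot 8 [4, 4, 8, 4, 1, 2, 7, 2, 7, 7, 2, 4, 1, 4, 8, 1, 2, 4, 2, 7, 2, 1] (sel (ones 4060) ip8 47) = true := by decide +kernel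

theorem rot8_47r : band (Rule.ok (2 * 2) EX RL ⟨8 :: [4, 4, 8, 4, 1, 2, 7, 2, 7, 7, 2, 4, 1, 4, 8, 1, 2, 4, 2, 7, 2, 1], [], 31, false⟩) (lall (memL L) [4, 4, 8, 4, 1, 2, 7, 2, 7, 7, 2, 4, 1, 4, 8, 1, 2, 4, 2, 7, 2, 1]) = true := by decide +kernel

theorem rot8_48 : T.rot 8 [4, 1, 2, 7, 2, 7, 7, 2, 4, 1, 4, 8, 1, 2, 4, 2, 7, 2, 1, 8, 4, 4] (sel (ones 4060) ip8 48) = true := by decide +kernel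

theorem rot8_48r : band (Rule.ok (2 * 2) EX RL ⟨8 :: [4, 1, 2, 7, 2, 7, 7, 2, 4, 1, 4, 8, 1, 2, 4, 2, 7, 2, 1, 8, 4, 4], [8, 7, 7], 31, false⟩) (lall (memL L) [4, 1, 2, 7, 2, 7, 7, 2, 4, 1, 4, 8, 1, 2, 4, 2, 7, 2, 1, 8, 4, 4]) = true := by decide +kernel

theorem rot8_49 : T.rot 8 [1, 2, 4, 2, 7, 2, 1, 8, 4, 4, 8, 4, 1, 2, 7, 2, 7, 7, 2, 4, 1, 4] (sel (ones 4060) ip8 49) = true := by decide +kernel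

theorem rot8_49r : band (Rule.ok (2 * 2) EX RL ⟨8 :: [1, 2, 4, 2, 7, 2, 1, 8, 4, 4, 8, 4, 1, 2, 7, 2, 7, 7, 2, 4, 1, 4], [0, 2, 7, 2, 6, 2, 0, 9], 31, false⟩) (lall (memL L) [1, 2, 4, 2, 7, 2, 1, 8, 4, 4, 8, 4, 1, 2, 7, 2, 7, 7, 2, 4, 1, 4]) = true := by decide +kernel

theorem rot8_50 : T.rot 8 [7, 7, 8, 8, 2, 4, 4, 5, 7, 2, 4, 4, 5, 7, 5, 2, 4, 8, 7, 7, 2, 5, 4] (sel (ones 4060) ip8 50) = true := by decide +kernel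

theorem rot8_50r : band (Rule.ok (2 * 2) EX RL ⟨8 :: [7, 7, 8, 8, 2, 4, 4, 5, 7, 2, 4, 4, 5, 7, 5, 2, 4, 8, 7, 7, 2, 5, 4], [9, 7], 9, true⟩) (lall (memL L) [7, 7, 8, 8, 2, 4, 4, 5, 7, 2, 4, 4, 5, 7, 5, 2, 4, 8, 7, 7, 2, 5, 4]) = true := by decide +kernel

theorem rot8_51 : T.rot 8 [8, 2, 4, 4, 5, 7, 2, 4, 4, 5, 7, 5, 2, 4, 8, 7, 7, 2, 5, 4, 8, 7, 7] (sel (ones 4060) ip8 51) = true := by decide +kernel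

theorem rot8_51r : band (Rule.ok (2 * 2) EX RL ⟨8 :: [8, 2, 4, 4, 5, 7, 2, 4, 4, 5, 7, 5, 2, 4, 8, 7, 7, 2, 5, 4, 8, 7, 7], [9, 7, 8, 6, 6], 9, true⟩) (lall (memL L) [8, 2, 4, 4, 5, 7, 2, 4, 4, 5, 7, 5, 2, 4, 8, 7, 7, 2, 5, 4, 8, 7, 7]) = true := by decide +kernel

theorem rot8_52 : T.rot 8 [2, 4, 4, 5, 7, 2, 4, 4, 5, 7, 5, 2, 4, 8, 7, 7, 2, 5, 4, 8, 7, 7, 8] (sel (ones 4060) ip8 52) = true := by decide +kernel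

theorem rot8_52r : band (Rule.ok (2 * 2) EX RL ⟨8 :: [2, 4, 4, 5, 7, 2, 4, 4, 5, 7, 5, 2, 4, 8, 7, 7, 2, 5, 4, 8, 7, 7, 8], [9, 7, 8, 6, 6, 8], 9, true⟩) (lall (memL L) [2, 4, 4, 5, 7, 2, 4, 4, 5, 7, 5, 2, 4, 8, 7, 7, 2, 5, 4, 8, 7, 7, 8]) = true := by decide +kernel

theorem rot8_53 : T.rot 8 [7, 7, 2, 5, 4, 8, 7, 7, 8, 8, 2, 4, 4, 5, 7, 2, 4, 4, 5, 7, 5, 2, 4] (sel (ones 4060) ip8 53) = true := by decide +kernel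

theorem rot8_53r : band (Rule.ok (2 * 2) EX RL ⟨8 :: [7, 7, 2, 5, 4, 8, 7, 7, 8, 8, 2, 4, 4, 5, 7, 2, 4, 4, 5, 7, 5, 2, 4], [2, 7, 7, 9], 9, true⟩) (lall (memL L) [7, 7, 2, 5, 4, 8, 7, 7, 8, 8, 2, 4, 4, 5, 7, 2, 4, 4, 5, 7, 5, 2, 4]) = true := by decide +kernel

theorem rot8_54 : T.rot 8 [4, 8, 7, 7, 2, 4, 8, 7, 7, 2, 5, 5, 4, 4, 5, 7, 8, 2, 4, 4, 5, 7, 2] (sel (ones 4060) ip8 54) = true := by decide +kernel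

theorem rot8_54r : band (Rule.ok (2 * 2) EX RL ⟨8 :: [4, 8, 7, 7, 2, 4, 8, 7, 7, 2, 5, 5, 4, 4, 5, 7, 8, 2, 4, 4, 5, 7, 2], [2, 7, 7, 9, 6, 2], 9, false⟩) (lall (memL L) [4, 8, 7, 7, 2, 4, 8, 7, 7, 2, 5, 5, 4, 4, 5, 7, 8, 2, 4, 4, 5, 7, 2]) = true := by decide +kernel

theorem rot8_55 : T.rot 8 [7, 7, 2, 4, 8, 7, 7, 2, 5, 5, 4, 4, 5, 7, 8, 2, 4, 4, 5, 7, 2, 8, 4] (sel (ones 4060) ip8 55) = true := by decide +kernel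

theorem rot8_55r : band (Rule.ok (2 * 2) EX RL ⟨8 :: [7, 7, 2, 4, 8, 7, 7, 2, 5, 5, 4, 4, 5, 7, 8, 2, 4, 4, 5, 7, 2, 8, 4], [2, 7, 7, 9, 6, 2, 8, 7], 9, false⟩) (lall (memL L) [7, 7, 2, 4, 8, 7, 7, 2, 5, 5, 4, 4, 5, 7, 8, 2, 4, 4, 5, 7, 2, 8, 4]) = true := by decide +kernel

theorem rot8_56 : T.rot 8 [7, 7, 2, 5, 5, 4, 4, 5, 7, 8, 2, 4, 4, 5, 7, 2, 8, 4, 8, 7, 7, 2, 4] (sel (ones 4060) ip8 56) = true := by decide +kernel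

theorem rot8_56r : band (Rule.ok (2 * 2) EX RL ⟨8 :: [7, 7, 2, 5, 5, 4, 4, 5, 7, 8, 2, 4, 4, 5, 7, 2, 8, 4, 8, 7, 7, 2, 4], [9, 7, 8, 6, 6, 8, 8, 2, 7, 7, 9], 9, false⟩) (lall (memL L) [7, 7, 2, 5, 5, 4, 4, 5, 7, 8, 2, 4, 4, 5, 7, 2, 8, 4, 8, 7, 7, 2, 4]) = true := by decide +kernel

theorem rot8_57 : T.rot 8 [2, 4, 4, 5, 7, 2, 8, 4, 8, 7, 7, 2, 4, 8, 7, 7, 2, 5, 5, 4, 4, 5, 7] (sel (ones 4060) ip8 57) = true := by decide +kernel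

theorem rot8_57r : band (Rule.ok (2 * 2) EX RL ⟨8 :: [2, 4, 4, 5, 7, 2, 8, 4, 8, 7, 7, 2, 4, 8, 7, 7, 2, 5, 5, 4, 4, 5, 7], [9], 9, false⟩) (lall (memL L) [2, 4, 4, 5, 7, 2, 8, 4, 8, 7, 7, 2, 4, 8, 7, 7, 2, 5, 5, 4, 4, 5, 7]) = true := by decide +kernel

theorem rot8_58 : T.rot 8 [7, 7, 2, 7, 4, 8, 7, 7, 8, 2, 4, 4, 5, 7, 2, 5, 4, 4, 5, 7, 4, 2, 4] (sel (ones 4060) ip8 58) = true := by decide +kernel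

theorem rot8_58r : band (Rule.ok (2 * 2) EX RL ⟨8 :: [7, 7, 2, 7, 4, 8, 7, 7, 8, 2, 4, 4, 5, 7, 2, 5, 4, 4, 5, 7, 4, 2, 4], [7, 2, 7], 12, true⟩) (lall (memL L) [7, 7, 2, 7, 4, 8, 7, 7, 8, 2, 4, 4, 5, 7, 2, 5, 4, 4, 5, 7, 4, 2, 4]) = true := by decide +kernel

theorem rot8_59 : T.rot 8 [7, 7, 8, 2, 4, 4, 5, 7, 2, 5, 4, 4, 5, 7, 4, 2, 4, 8, 7, 7, 2, 7, 4] (sel (ones 4060) ip8 59) = true := by decide +kernel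

theorem rot8_59r : band (Rule.ok (2 * 2) EX RL ⟨8 :: [7, 7, 8, 2, 4, 4, 5, 7, 2, 5, 4, 4, 5, 7, 4, 2, 4, 8, 7, 7, 2, 7, 4], [7, 2, 7, 8, 6, 6, 2], 12, true⟩) (lall (memL L) [7, 7, 8, 2, 4, 4, 5, 7, 2, 5, 4, 4, 5, 7, 4, 2, 4, 8, 7, 7, 2, 7, 4]) = true := by decide +kernel

theorem rot8_60 : T.rot 8 [2, 4, 4, 5, 7, 2, 5, 4, 4, 5, 7, 4, 2, 4, 8, 7, 7, 2, 7, 4, 8, 7, 7] (sel (ones 4060) ip8 60) = true := by decide +kernel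

theorem rot8_60r : band (Rule.ok (2 * 2) EX RL ⟨8 :: [2, 4, 4, 5, 7, 2, 5, 4, 4, 5, 7, 4, 2, 4, 8, 7, 7, 2, 7, 4, 8, 7, 7], [7, 2, 7, 8, 6, 6, 2, 8, 6, 6], 12, true⟩) (lall (memL L) [2, 4, 4, 5, 7, 2, 5, 4, 4, 5, 7, 4, 2, 4, 8, 7, 7, 2, 7, 4, 8, 7, 7]) = true := by decide +kernel

theorem rot8_61 : T.rot 8 [7, 7, 8, 2, 4, 8, 7, 7, 2, 5, 4, 4, 5, 7, 4, 2, 4, 4, 5, 7, 2, 7, 4] (sel (ones 4060) ip8 61) = true := by decide +kernel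

theorem rot8_61r : band (Rule.ok (2 * 2) EX RL ⟨8 :: [7, 7, 8, 2, 4, 8, 7, 7, 2, 5, 4, 4, 5, 7, 4, 2, 4, 4, 5, 7, 2, 7, 4], [7], 12, false⟩) (lall (memL L) [7, 7, 8, 2, 4, 8, 7, 7, 2, 5, 4, 4, 5, 7, 4, 2, 4, 4, 5, 7, 2, 7, 4]) = true := by decide +kernel

theorem rot8_62 : T.rot 8 [2, 4, 8, 7, 7, 2, 5, 4, 4, 5, 7, 4, 2, 4, 4, 5, 7, 2, 7, 4, 8, 7, 7] (sel (ones 4060) ip8 62) = true := by decide +kernel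

theorem rot8_62r : band (Rule.ok (2 * 2) EX RL ⟨8 :: [2, 4, 8, 7, 7, 2, 5, 4, 4, 5, 7, 4, 2, 4, 4, 5, 7, 2, 7, 4, 8, 7, 7], [7, 8, 6, 6], 12, false⟩) (lall (memL L) [2, 4, 8, 7, 7, 2, 5, 4, 4, 5, 7, 4, 2, 4, 4, 5, 7, 2, 7, 4, 8, 7, 7]) = true := by decide +kernel

theorem rot8_63 : T.rot 8 [7, 7, 2, 5, 4, 4, 5, 7, 4, 2, 4, 4, 5, 7, 2, 7, 4, 8, 7, 7, 8, 2, 4] (sel (ones 4060) ip8 63) = true := by decide +kernel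

theorem rot8_63r : band (Rule.ok (2 * 2) EX RL ⟨8 :: [7, 7, 2, 5, 4, 4, 5, 7, 4, 2, 4, 4, 5, 7, 2, 7, 4, 8, 7, 7, 8, 2, 4], [7, 8, 6, 6, 8, 2, 7], 12, false⟩) (lall (memL L) [7, 7, 2, 5, 4, 4, 5, 7, 4, 2, 4, 4, 5, 7, 2, 7, 4, 8, 7, 7, 8, 2, 4]) = true := by decide +kernel

theorem rot8_64 : T.rot 8 [7, 2, 8, 7, 5, 7, 5, 2, 1, 2, 1, 4, 2, 7, 6, 2, 1, 2, 4, 2, 4, 2, 1, 2] (sel (ones 4060) ip8 64) = true := by decide +kernel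

theorem rot8_64r : band (Rule.ok (2 * 2) EX RL ⟨8 :: [7, 2, 8, 7, 5, 7, 5, 2, 1, 2, 1, 4, 2, 7, 6, 2, 1, 2, 4, 2, 4, 2, 1, 2], [2, 8, 7, 8, 7, 9, 2, 7, 9], 29, true⟩) (lall (memL L) [7, 2, 8, 7, 5, 7, 5, 2, 1, 2, 1, 4, 2, 7, 6, 2, 1, 2, 4, 2, 4, 2, 1, 2]) = true := by decide +kernel

theorem rot8_65 : T.rot 8 [7, 5, 7, 5, 2, 1, 2, 1, 4, 2, 7, 6, 2, 1, 2, 4, 2, 4, 2, 1, 2, 8, 7, 2] (sel (ones 4060) ip8 65) = true := by decide +kernel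

theorem rot8_65r : band (Rule.ok (2 * 2) EX RL ⟨8 :: [7, 5, 7, 5, 2, 1, 2, 1, 4, 2, 7, 6, 2, 1, 2, 4, 2, 4, 2, 1, 2, 8, 7, 2], [2, 8, 7, 8, 7, 9], 29, true⟩) (lall (memL L) [7, 5, 7, 5, 2, 1, 2, 1, 4, 2, 7, 6, 2, 1, 2, 4, 2, 4, 2, 1, 2, 8, 7, 2]) = true := by decide +kernel

theorem rot8_66 : T.rot 8 [4, 8, 4, 5, 2, 4, 5, 2, 1, 2, 7, 2, 7, 2, 1, 2, 3, 4, 2, 7, 1, 2, 1, 2] (sel (ones 4060) ip8 66) = true := by decide +kernel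

theorem rot8_66r : band (Rule.ok (2 * 2) EX RL ⟨8 :: [4, 8, 4, 5, 2, 4, 5, 2, 1, 2, 7, 2, 7, 2, 1, 2, 3, 4, 2, 7, 1, 2, 1, 2], [2], 29, false⟩) (lall (memL L) [4, 8, 4, 5, 2, 4, 5, 2, 1, 2, 7, 2, 7, 2, 1, 2, 3, 4, 2, 7, 1, 2, 1, 2]) = true := by decide +kernel

theorem rot8_67 : T.rot 8 [4, 5, 2, 4, 5, 2, 1, 2, 7, 2, 7, 2, 1, 2, 3, 4, 2, 7, 1, 2, 1, 2, 8, 4] (sel (ones 4060) ip8 67) = true := by decide +kernel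

theorem rot8_67r : band (Rule.ok (2 * 2) EX RL ⟨8 :: [4, 5, 2, 4, 5, 2, 1, 2, 7, 2, 7, 2, 1, 2, 3, 4, 2, 7, 1, 2, 1, 2, 8, 4], [2, 8, 7], 29, false⟩) (lall (memL L) [4, 5, 2, 4, 5, 2, 1, 2, 7, 2, 7, 2, 1, 2, 3, 4, 2, 7, 1, 2, 1, 2, 8, 4]) = true := by decide +kernel

theorem rot8_68 : T.rot 8 [7, 7, 2, 2, 4, 8, 7, 7, 2, 2, 4, 8, 7, 7, 2, 2, 4, 8, 7, 7, 2, 8, 5, 2, 4] (sel (ones 4060) ip8 68) = true := by decide +kernel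

theorem rot8_68r : band (Rule.ok (2 * 2) EX RL ⟨8 :: [7, 7, 2, 2, 4, 8, 7, 7, 2, 2, 4, 8, 7, 7, 2, 2, 4, 8, 7, 7, 2, 8, 5, 2, 4], [7], 5, true⟩) (lall (memL L) [7, 7, 2, 2, 4, 8, 7, 7, 2, 2, 4, 8, 7, 7, 2, 2, 4, 8, 7, 7, 2, 8, 5, 2, 4]) = true := by decide +kernel

theorem rot8_69 : T.rot 8 [7, 7, 2, 2, 4, 8, 7, 7, 2, 2, 4, 8, 7, 7, 2, 8, 5, 2, 4, 8, 7, 7, 2, 2, 4] (sel (ones 4060) ip8 69) = true := by decide +kernel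

theorem rot8_69r : band (Rule.ok (2 * 2) EX RL ⟨8 :: [7, 7, 2, 2, 4, 8, 7, 7, 2, 2, 4, 8, 7, 7, 2, 8, 5, 2, 4, 8, 7, 7, 2, 2, 4], [7], 5, true⟩) (lall (memL L) [7, 7, 2, 2, 4, 8, 7, 7, 2, 2, 4, 8, 7, 7, 2, 8, 5, 2, 4, 8, 7, 7, 2, 2, 4]) = true := by decide +kernel

theorem rot8_70 : T.rot 8 [7, 7, 2, 2, 4, 8, 7, 7, 2, 8, 5, 2, 4, 8, 7, 7, 2, 2, 4, 8, 7, 7, 2, 2, 4] (sel (ones 4060) ip8 70) = true := by decide +kernel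

theorem rot8_70r : band (Rule.ok (2 * 2) EX RL ⟨8 :: [7, 7, 2, 2, 4, 8, 7, 7, 2, 8, 5, 2, 4, 8, 7, 7, 2, 2, 4, 8, 7, 7, 2, 2, 4], [7], 5, true⟩) (lall (memL L) [7, 7, 2, 2, 4, 8, 7, 7, 2, 8, 5, 2, 4, 8, 7, 7, 2, 2, 4, 8, 7, 7, 2, 2, 4]) = true := by decide +kernel

theorem rot8_71 : T.rot 8 [7, 7, 2, 8, 5, 2, 4, 8, 7, 7, 2, 2, 4, 8, 7, 7, 2, 2, 4, 8, 7, 7, 2, 2, 4] (sel (ones 4060) ip8 71) = true := by decide +kernel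

theorem rot8_71r : band (Rule.ok (2 * 2) EX RL ⟨8 :: [7, 7, 2, 8, 5, 2, 4, 8, 7, 7, 2, 2, 4, 8, 7, 7, 2, 2, 4, 8, 7, 7, 2, 2, 4], [7], 5, true⟩) (lall (memL L) [7, 7, 2, 8, 5, 2, 4, 8, 7, 7, 2, 2, 4, 8, 7, 7, 2, 2, 4, 8, 7, 7, 2, 2, 4]) = true := by decide +kernel

theorem rot8_72 : T.rot 8 [2, 4, 4, 5, 7, 2, 8, 2, 4, 4, 5, 7, 2, 8, 2, 4, 4, 5, 7, 2, 8, 2, 4, 4, 5, 7, 2] (sel (ones 4060) ip8 72) = true := by decide +kernel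

theorem rot8_72r : band (Rule.ok (2 * 2) EX RL ⟨8 :: [2, 4, 4, 5, 7, 2, 8, 2, 4, 4, 5, 7, 2, 8, 2, 4, 4, 5, 7, 2, 8, 2, 4, 4, 5, 7, 2], [9], 0, true⟩) (lall (memL L) [2, 4, 4, 5, 7, 2, 8, 2, 4, 4, 5, 7, 2, 8, 2, 4, 4, 5, 7, 2, 8, 2, 4, 4, 5, 7, 2]) = true := by decide +kernel

theorem rot8_73 : T.rot 8 [7, 7, 2, 5, 2, 4, 8, 7, 7, 2, 5, 2, 4, 8, 7, 7, 2, 5, 2, 4, 8, 7, 7, 2, 5, 2, 4] (sel (ones 4060) ip8 73) = true := by decide +kernel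

theorem rot8_73r : band (Rule.ok (2 * 2) EX RL ⟨8 :: [7, 7, 2, 5, 2, 4, 8, 7, 7, 2, 5, 2, 4, 8, 7, 7, 2, 5, 2, 4, 8, 7, 7, 2, 5, 2, 4], [9, 2, 7], 0, false⟩) (lall (memL L) [7, 7, 2, 5, 2, 4, 8, 7, 7, 2, 5, 2, 4, 8, 7, 7, 2, 5, 2, 4, 8, 7, 7, 2, 5, 2, 4]) = true := by decide +kernel

theorem rot8_74 : T.rot 8 [7, 2, 4, 5, 2, 4, 4, 5, 7, 2, 7, 2, 4, 8, 7, 7, 2, 4, 8, 7, 2, 4, 5, 4, 4, 2, 7, 7] (sel (ones 4060) ip8 74) = true := by decide +kernel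

theorem rot8_74r : band (Rule.ok (2 * 2) EX RL ⟨8 :: [7, 2, 4, 5, 2, 4, 4, 5, 7, 2, 7, 2, 4, 8, 7, 7, 2, 4, 8, 7, 2, 4, 5, 4, 4, 2, 7, 7], [2, 7, 9, 7, 7, 2, 6, 6], 17, true⟩) (lall (memL L) [7, 2, 4, 5, 2, 4, 4, 5, 7, 2, 7, 2, 4, 8, 7, 7, 2, 4, 8, 7, 2, 4, 5, 4, 4, 2, 7, 7]) = true := by decide +kernel

theorem rot8_75 : T.rot 8 [7, 7, 2, 4, 8, 7, 2, 4, 5, 4, 4, 2, 7, 7, 8, 7, 2, 4, 5, 2, 4, 4, 5, 7, 2, 7, 2, 4] (sel (ones 4060) ip8 75) = true := by decide +kernel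

theorem rot8_75r : band (Rule.ok (2 * 2) EX RL ⟨8 :: [7, 7, 2, 4, 8, 7, 2, 4, 5, 4, 4, 2, 7, 7, 8, 7, 2, 4, 5, 2, 4, 4, 5, 7, 2, 7, 2, 4], [7, 9, 6, 2, 7, 7, 9], 17, true⟩) (lall (memL L) [7, 7, 2, 4, 8, 7, 2, 4, 5, 4, 4, 2, 7, 7, 8, 7, 2, 4, 5, 2, 4, 4, 5, 7, 2, 7, 2, 4]) = true := by decide +kernel

theorem rot8_76 : T.rot 8 [7, 2, 4, 5, 4, 4, 2, 7, 7, 8, 7, 2, 4, 5, 2, 4, 4, 5, 7, 2, 7, 2, 4, 8, 7, 7, 2, 4] (sel (ones 4060) ip8 76) = true := by decide +kernel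

theorem rot8_76r : band (Rule.ok (2 * 2) EX RL ⟨8 :: [7, 2, 4, 5, 4, 4, 2, 7, 7, 8, 7, 2, 4, 5, 2, 4, 4, 5, 7, 2, 7, 2, 4, 8, 7, 7, 2, 4], [7, 9], 17, true⟩) (lall (memL L) [7, 2, 4, 5, 4, 4, 2, 7, 7, 8, 7, 2, 4, 5, 2, 4, 4, 5, 7, 2, 7, 2, 4, 8, 7, 7, 2, 4]) = true := by decide +kernel

theorem rot8_77 : T.rot 8 [7, 7, 2, 8, 7, 2, 4, 5, 4, 4, 2, 7, 7, 8, 7, 2, 4, 5, 7, 2, 4, 4, 5, 7, 2, 4, 2, 4] (sel (ones 4060) ip8 77) = true := by decide +kernel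

theorem rot8_77r : band (Rule.ok (2 * 2) EX RL ⟨8 :: [7, 7, 2, 8, 7, 2, 4, 5, 4, 4, 2, 7, 7, 8, 7, 2, 4, 5, 7, 2, 4, 4, 5, 7, 2, 4, 2, 4], [7, 9, 6, 2, 7, 7, 9, 6, 2, 7, 2, 7], 17, false⟩) (lall (memL L) [7, 7, 2, 8, 7, 2, 4, 5, 4, 4, 2, 7, 7, 8, 7, 2, 4, 5, 7, 2, 4, 4, 5, 7, 2, 4, 2, 4]) = true := by decide +kernel

theorem rot8_78 : T.rot 8 [7, 2, 4, 5, 4, 4, 2, 7, 7, 8, 7, 2, 4, 5, 7, 2, 4, 4, 5, 7, 2, 4, 2, 4, 8, 7, 7, 2] (sel (ones 4060) ip8 78) = true := by decide +kernel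

theorem rot8_78r : band (Rule.ok (2 * 2) EX RL ⟨8 :: [7, 2, 4, 5, 4, 4, 2, 7, 7, 8, 7, 2, 4, 5, 7, 2, 4, 4, 5, 7, 2, 4, 2, 4, 8, 7, 7, 2], [2, 7, 9, 7, 7, 2, 6, 6, 8, 6, 2, 7, 9], 17, false⟩) (lall (memL L) [7, 2, 4, 5, 4, 4, 2, 7, 7, 8, 7, 2, 4, 5, 7, 2, 4, 4, 5, 7, 2, 4, 2, 4, 8, 7, 7, 2]) = true := by decide +kernel

theorem rot8_79 : T.rot 8 [7, 2, 4, 5, 7, 2, 4, 4, 5, 7, 2, 4, 2, 4, 8, 7, 7, 2, 8, 7, 2, 4, 5, 4, 4, 2, 7, 7] (sel (ones 4060) ip8 79) = true := by decide +kernel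

theorem rot8_79r : band (Rule.ok (2 * 2) EX RL ⟨8 :: [7, 2, 4, 5, 7, 2, 4, 4, 5, 7, 2, 4, 2, 4, 8, 7, 7, 2, 8, 7, 2, 4, 5, 4, 4, 2, 7, 7], [2, 7, 9], 17, false⟩) (lall (memL L) [7, 2, 4, 5, 7, 2, 4, 4, 5, 7, 2, 4, 2, 4, 8, 7, 7, 2, 8, 7, 2, 4, 5, 4, 4, 2, 7, 7]) = true := by decide +kernel

theorem rot8_80 : T.rot 8 [7, 7, 2, 8, 7, 2, 4, 4, 5, 7, 2, 4, 4, 5, 7, 8, 2, 4, 4, 5, 7, 2, 2, 4, 4, 5, 7, 2, 4, 5, 2, 4] (sel (ones 4060) ip8 80) = true := by decide +kernel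

theorem rot8_80r : band (Rule.ok (2 * 2) EX RL ⟨8 :: [7, 7, 2, 8, 7, 2, 4, 4, 5, 7, 2, 4, 4, 5, 7, 8, 2, 4, 4, 5, 7, 2, 2, 4, 4, 5, 7, 2, 4, 5, 2, 4], [7, 9, 2, 7], 14, true⟩) (lall (memL L) [7, 7, 2, 8, 7, 2, 4, 4, 5, 7, 2, 4, 4, 5, 7, 8, 2, 4, 4, 5, 7, 2, 2, 4, 4, 5, 7, 2, 4, 5, 2, 4]) = true := by decide +kernel

theorem rot8_81 : T.rot 8 [7, 2, 4, 4, 5, 7, 2, 4, 4, 5, 7, 8, 2, 4, 4, 5, 7, 2, 2, 4, 4, 5, 7, 2, 4, 5, 2, 4, 8, 7, 7, 2] (sel (ones 4060) ip8 81) = true := by decide +kernel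

theorem rot8_81r : band (Rule.ok (2 * 2) EX RL ⟨8 :: [7, 2, 4, 4, 5, 7, 2, 4, 4, 5, 7, 8, 2, 4, 4, 5, 7, 2, 2, 4, 4, 5, 7, 2, 4, 5, 2, 4, 8, 7, 7, 2], [7, 9, 2, 7, 8, 6, 6, 2], 14, true⟩) (lall (memL L) [7, 2, 4, 4, 5, 7, 2, 4, 4, 5, 7, 8, 2, 4, 4, 5, 7, 2, 2, 4, 4, 5, 7, 2, 4, 5, 2, 4, 8, 7, 7, 2]) = true := by decide +kernel

theorem rot8_82 : T.rot 8 [2, 4, 4, 5, 7, 2, 2, 4, 4, 5, 7, 2, 4, 5, 2, 4, 8, 7, 7, 2, 8, 7, 2, 4, 4, 5, 7, 2, 4, 4, 5, 7] (sel (ones 4060) ip8 82) = true := by decide +kernel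

theorem rot8_82r : band (Rule.ok (2 * 2) EX RL ⟨8 :: [2, 4, 4, 5, 7, 2, 2, 4, 4, 5, 7, 2, 4, 5, 2, 4, 8, 7, 7, 2, 8, 7, 2, 4, 4, 5, 7, 2, 4, 4, 5, 7], [2, 7, 8, 6, 8, 6, 6, 2, 9], 14, true⟩) (lall (memL L) [2, 4, 4, 5, 7, 2, 2, 4, 4, 5, 7, 2, 4, 5, 2, 4, 8, 7, 7, 2, 8, 7, 2, 4, 4, 5, 7, 2, 4, 4, 5, 7]) = true := by decide +kernel

theorem rot8_83 : T.rot 8 [7, 7, 2, 2, 4, 8, 7, 7, 2, 5, 4, 8, 7, 7, 2, 4, 8, 7, 7, 2, 4, 5, 2, 4, 4, 5, 7, 2, 8, 7, 2, 4] (sel (ones 4060) ip8 83) = true := by decide +kernel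

theorem rot8_83r : band (Rule.ok (2 * 2) EX RL ⟨8 :: [7, 7, 2, 2, 4, 8, 7, 7, 2, 5, 4, 8, 7, 7, 2, 4, 8, 7, 7, 2, 4, 5, 2, 4, 4, 5, 7, 2, 8, 7, 2, 4], [2, 7], 14, false⟩) (lall (memL L) [7, 7, 2, 2, 4, 8, 7, 7, 2, 5, 4, 8, 7, 7, 2, 4, 8, 7, 7, 2, 4, 5, 2, 4, 4, 5, 7, 2, 8, 7, 2, 4]) = true := by decide +kernel

theorem rot8_84 : T.rot 8 [7, 7, 2, 5, 4, 8, 7, 7, 2, 4, 8, 7, 7, 2, 4, 5, 2, 4, 4, 5, 7, 2, 8, 7, 2, 4, 8, 7, 7, 2, 2, 4] (sel (ones 4060) ip8 84) = true := by decide +kernel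

theorem rot8_84r : band (Rule.ok (2 * 2) EX RL ⟨8 :: [7, 7, 2, 5, 4, 8, 7, 7, 2, 4, 8, 7, 7, 2, 4, 5, 2, 4, 4, 5, 7, 2, 8, 7, 2, 4, 8, 7, 7, 2, 2, 4], [2, 7, 8, 6], 14, false⟩) (lall (memL L) [7, 7, 2, 5, 4, 8, 7, 7, 2, 4, 8, 7, 7, 2, 4, 5, 2, 4, 4, 5, 7, 2, 8, 7, 2, 4, 8, 7, 7, 2, 2, 4]) = true := by decide +kernel

theorem rot8_85 : T.rot 8 [7, 7, 2, 4, 8, 7, 7, 2, 4, 5, 2, 4, 4, 5, 7, 2, 8, 7, 2, 4, 8, 7, 7, 2, 2, 4, 8, 7, 7, 2, 5, 4] (sel (ones 4060) ip8 85) = true := by decide +kernel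

theorem rot8_85r : band (Rule.ok (2 * 2) EX RL ⟨8 :: [7, 7, 2, 4, 8, 7, 7, 2, 4, 5, 2, 4, 4, 5, 7, 2, 8, 7, 2, 4, 8, 7, 7, 2, 2, 4, 8, 7, 7, 2, 5, 4], [2, 7, 8, 6, 8, 6, 6, 2, 9, 7], 14, false⟩) (lall (memL L) [7, 7, 2, 4, 8, 7, 7, 2, 4, 5, 2, 4, 4, 5, 7, 2, 8, 7, 2, 4, 8, 7, 7, 2, 2, 4, 8, 7, 7, 2, 5, 4]) = true := by decide +kernel

theorem rot8_86 : T.rot 8 [7, 7, 2, 4, 5, 2, 4, 4, 5, 7, 2, 8, 7, 2, 4, 8, 7, 7, 2, 2, 4, 8, 7, 7, 2, 5, 4, 8, 7, 7, 2, 4] (sel (ones 4060) ip8 86) = true := by decide +kernel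

theorem rot8_86r : band (Rule.ok (2 * 2) EX RL ⟨8 :: [7, 7, 2, 4, 5, 2, 4, 4, 5, 7, 2, 8, 7, 2, 4, 8, 7, 7, 2, 2, 4, 8, 7, 7, 2, 5, 4, 8, 7, 7, 2, 4], [7, 9, 2, 7, 8, 6, 6, 2, 8, 6, 2, 7, 7, 9], 14, false⟩) (lall (memL L) [7, 7, 2, 4, 5, 2, 4, 4, 5, 7, 2, 8, 7, 2, 4, 8, 7, 7, 2, 2, 4, 8, 7, 7, 2, 5, 4, 8, 7, 7, 2, 4]) = true := by decide +kernel

theorem rot8_87 : T.rot 8 [7, 2, 4, 8, 7, 7, 2, 2, 4, 8, 7, 7, 2, 5, 4, 8, 7, 7, 2, 4, 8, 7, 7, 2, 4, 5, 2, 4, 4, 5, 7, 2] (sel (ones 4060) ip8 87) = true := by decide +kernel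

theorem rot8_87r : band (Rule.ok (2 * 2) EX RL ⟨8 :: [7, 2, 4, 8, 7, 7, 2, 2, 4, 8, 7, 7, 2, 5, 4, 8, 7, 7, 2, 4, 8, 7, 7, 2, 4, 5, 2, 4, 4, 5, 7, 2], [7, 9], 14, false⟩) (lall (memL L) [7, 2, 4, 8, 7, 7, 2, 2, 4, 8, 7, 7, 2, 5, 4, 8, 7, 7, 2, 4, 8, 7, 7, 2, 4, 5, 2, 4, 4, 5, 7, 2]) = true := by decide +kernel

theorem rot8_88 : T.rot 8 [7, 7, 8, 2, 4, 4, 5, 7, 2, 4, 4, 5, 7, 2, 4, 4, 5, 7, 2, 8, 2, 4, 8, 7, 7, 2, 5, 5, 2, 4, 8, 7, 7, 2, 4] (sel (ones 4060) ip8 88) = true := by decide +kernel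

theorem rot8_88r : band (Rule.ok (2 * 2) EX RL ⟨8 :: [7, 7, 8, 2, 4, 4, 5, 7, 2, 4, 4, 5, 7, 2, 4, 4, 5, 7, 2, 8, 2, 4, 8, 7, 7, 2, 5, 5, 2, 4, 8, 7, 7, 2, 4], [7], 1, true⟩) (lall (memL L) [7, 7, 8, 2, 4, 4, 5, 7, 2, 4, 4, 5, 7, 2, 4, 4, 5, 7, 2, 8, 2, 4, 8, 7, 7, 2, 5, 5, 2, 4, 8, 7, 7, 2, 4]) = true := by decide +kernel

theorem rot8_89 : T.rot 8 [2, 4, 4, 5, 7, 2, 4, 4, 5, 7, 2, 4, 4, 5, 7, 2, 8, 2, 4, 8, 7, 7, 2, 5, 5, 2, 4, 8, 7, 7, 2, 4, 8, 7, 7] (sel (ones 4060) ip8 89) = true := by decide +kernel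

theorem rot8_89r : band (Rule.ok (2 * 2) EX RL ⟨8 :: [2, 4, 4, 5, 7, 2, 4, 4, 5, 7, 2, 4, 4, 5, 7, 2, 8, 2, 4, 8, 7, 7, 2, 5, 5, 2, 4, 8, 7, 7, 2, 4, 8, 7, 7], [7, 8, 6, 6], 1, true⟩) (lall (memL L) [2, 4, 4, 5, 7, 2, 4, 4, 5, 7, 2, 4, 4, 5, 7, 2, 8, 2, 4, 8, 7, 7, 2, 5, 5, 2, 4, 8, 7, 7, 2, 4, 8, 7, 7]) = true := by decide +kernel

theorem rot8_90 : T.rot 8 [2, 4, 8, 7, 7, 2, 5, 5, 2, 4, 8, 7, 7, 2, 4, 8, 7, 7, 8, 2, 4, 4, 5, 7, 2, 4, 4, 5, 7, 2, 4, 4, 5, 7, 2] (sel (ones 4060) ip8 90) = true := by decide +kernel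

theorem rot8_90r : band (Rule.ok (2 * 2) EX RL ⟨8 :: [2, 4, 8, 7, 7, 2, 5, 5, 2, 4, 8, 7, 7, 2, 4, 8, 7, 7, 8, 2, 4, 4, 5, 7, 2, 4, 4, 5, 7, 2, 4, 4, 5, 7, 2], [2, 7, 7, 9, 6, 2, 8, 8, 2, 7, 7, 9, 6, 2, 9], 1, true⟩) (lall (memL L) [2, 4, 8, 7, 7, 2, 5, 5, 2, 4, 8, 7, 7, 2, 4, 8, 7, 7, 8, 2, 4, 4, 5, 7, 2, 4, 4, 5, 7, 2, 4, 4, 5, 7, 2]) = true := by decide +kernel

theorem rot8_91 : T.rot 8 [7, 7, 2, 5, 5, 2, 4, 8, 7, 7, 2, 4, 8, 7, 7, 8, 2, 4, 4, 5, 7, 2, 4, 4, 5, 7, 2, 4, 4, 5, 7, 2, 8, 2, 4] (sel (ones 4060) ip8 91) = true := by decide +kernel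

theorem rot8_91r : band (Rule.ok (2 * 2) EX RL ⟨8 :: [7, 7, 2, 5, 5, 2, 4, 8, 7, 7, 2, 4, 8, 7, 7, 8, 2, 4, 4, 5, 7, 2, 4, 4, 5, 7, 2, 4, 4, 5, 7, 2, 8, 2, 4], [2, 7, 7, 9, 6, 2, 8, 8, 2, 7, 7, 9], 1, true⟩) (lall (memL L) [7, 7, 2, 5, 5, 2, 4, 8, 7, 7, 2, 4, 8, 7, 7, 8, 2, 4, 4, 5, 7, 2, 4, 4, 5, 7, 2, 4, 4, 5, 7, 2, 8, 2, 4]) = true := by decide +kernel

theorem rot8_92 : T.rot 8 [7, 7, 2, 4, 8, 7, 7, 8, 2, 4, 4, 5, 7, 2, 4, 4, 5, 7, 2, 4, 4, 5, 7, 2, 8, 2, 4, 8, 7, 7, 2, 5, 5, 2, 4] (sel (ones 4060) ip8 92) = true := by decide +kernel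

theorem rot8_92r : band (Rule.ok (2 * 2) EX RL ⟨8 :: [7, 7, 2, 4, 8, 7, 7, 8, 2, 4, 4, 5, 7, 2, 4, 4, 5, 7, 2, 4, 4, 5, 7, 2, 8, 2, 4, 8, 7, 7, 2, 5, 5, 2, 4], [2, 7, 7, 9], 1, true⟩) (lall (memL L) [7, 7, 2, 4, 8, 7, 7, 8, 2, 4, 4, 5, 7, 2, 4, 4, 5, 7, 2, 4, 4, 5, 7, 2, 8, 2, 4, 8, 7, 7, 2, 5, 5, 2, 4]) = true := by decide +kernel

theorem rot8_93 : T.rot 8 [8, 2, 4, 4, 5, 7, 2, 5, 2, 4, 8, 7, 7, 2, 4, 8, 7, 7, 2, 4, 8, 7, 7, 2, 5, 4, 4, 5, 7, 2, 4, 4, 5, 7, 2] (sel (ones 4060) ip8 93) = true := by decide +kernel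

theorem rot8_93r : band (Rule.ok (2 * 2) EX RL ⟨8 :: [8, 2, 4, 4, 5, 7, 2, 5, 2, 4, 8, 7, 7, 2, 4, 8, 7, 7, 2, 4, 8, 7, 7, 2, 5, 4, 4, 5, 7, 2, 4, 4, 5, 7, 2], [2, 7, 7, 9, 6, 2], 1, false⟩) (lall (memL L) [8, 2, 4, 4, 5, 7, 2, 5, 2, 4, 8, 7, 7, 2, 4, 8, 7, 7, 2, 4, 8, 7, 7, 2, 5, 4, 4, 5, 7, 2, 4, 4, 5, 7, 2]) = true := by decide +kernel

theorem rot8_94 : T.rot 8 [2, 4, 4, 5, 7, 2, 5, 2, 4, 8, 7, 7, 2, 4, 8, 7, 7, 2, 4, 8, 7, 7, 2, 5, 4, 4, 5, 7, 2, 4, 4, 5, 7, 2, 8] (sel (ones 4060) ip8 94) = true := by decide +kernel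

theorem rot8_94r : band (Rule.ok (2 * 2) EX RL ⟨8 :: [2, 4, 4, 5, 7, 2, 5, 2, 4, 8, 7, 7, 2, 4, 8, 7, 7, 2, 4, 8, 7, 7, 2, 5, 4, 4, 5, 7, 2, 4, 4, 5, 7, 2, 8], [2, 7, 7, 9, 6, 2, 8], 1, false⟩) (lall (memL L) [2, 4, 4, 5, 7, 2, 5, 2, 4, 8, 7, 7, 2, 4, 8, 7, 7, 2, 4, 8, 7, 7, 2, 5, 4, 4, 5, 7, 2, 4, 4, 5, 7, 2, 8]) = true := by decide +kernel

theorem rot8_95 : T.rot 8 [7, 7, 2, 4, 8, 7, 7, 2, 4, 8, 7, 7, 2, 5, 4, 4, 5, 7, 2, 4, 4, 5, 7, 2, 8, 8, 2, 4, 4, 5, 7, 2, 5, 2, 4] (sel (ones 4060) ip8 95) = true := by decide +kernel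

theorem rot8_95r : band (Rule.ok (2 * 2) EX RL ⟨8 :: [7, 7, 2, 4, 8, 7, 7, 2, 4, 8, 7, 7, 2, 5, 4, 4, 5, 7, 2, 4, 4, 5, 7, 2, 8, 8, 2, 4, 4, 5, 7, 2, 5, 2, 4], [2, 7, 7, 9, 6, 2, 8, 8, 2, 7, 7, 9, 6, 2, 9, 2, 7], 1, false⟩) (lall (memL L) [7, 7, 2, 4, 8, 7, 7, 2, 4, 8, 7, 7, 2, 5, 4, 4, 5, 7, 2, 4, 4, 5, 7, 2, 8, 8, 2, 4, 4, 5, 7, 2, 5, 2, 4]) = true := by decide +kernel

theorem rot8_96 : T.rot 8 [7, 7, 2, 4, 8, 7, 7, 2, 5, 4, 4, 5, 7, 2, 4, 4, 5, 7, 2, 8, 8, 2, 4, 4, 5, 7, 2, 5, 2, 4, 8, 7, 7, 2, 4] (sel (ones 4060) ip8 96) = true := by decide +kernel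

theorem rot8_96r : band (Rule.ok (2 * 2) EX RL ⟨8 :: [7, 7, 2, 4, 8, 7, 7, 2, 5, 4, 4, 5, 7, 2, 4, 4, 5, 7, 2, 8, 8, 2, 4, 4, 5, 7, 2, 5, 2, 4, 8, 7, 7, 2, 4], [7, 8, 6, 6, 8, 2, 7, 7, 9, 6, 2, 7, 7, 9], 1, false⟩) (lall (memL L) [7, 7, 2, 4, 8, 7, 7, 2, 5, 4, 4, 5, 7, 2, 4, 4, 5, 7, 2, 8, 8, 2, 4, 4, 5, 7, 2, 5, 2, 4, 8, 7, 7, 2, 4]) = true := by decide +kernel

theorem rot8_97 : T.rot 8 [7, 7, 2, 5, 4, 4, 5, 7, 2, 4, 4, 5, 7, 2, 8, 8, 2, 4, 4, 5, 7, 2, 5, 2, 4, 8, 7, 7, 2, 4, 8, 7, 7, 2, 4] (sel (ones 4060) ip8 97) = true := by decide +kernel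

theorem rot8_97r : band (Rule.ok (2 * 2) EX RL ⟨8 :: [7, 7, 2, 5, 4, 4, 5, 7, 2, 4, 4, 5, 7, 2, 8, 8, 2, 4, 4, 5, 7, 2, 5, 2, 4, 8, 7, 7, 2, 4, 8, 7, 7, 2, 4], [7, 8, 6, 6, 8, 2, 7, 7, 9], 1, false⟩) (lall (memL L) [7, 7, 2, 5, 4, 4, 5, 7, 2, 4, 4, 5, 7, 2, 8, 8, 2, 4, 4, 5, 7, 2, 5, 2, 4, 8, 7, 7, 2, 4, 8, 7, 7, 2, 4]) = true := by decide +kernel

theorem rot8_98 : T.rot 8 [2, 4, 4, 5, 7, 2, 4, 8, 7, 7, 8, 2, 4, 4, 5, 7, 2, 8, 2, 4, 4, 5, 7, 2, 4, 4, 5, 7, 8, 2, 4, 4, 5, 7, 2] (sel (ones 4060) ip8 98) = true := by decide +kernel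

theorem rot8_98r : band (Rule.ok (2 * 2) EX RL ⟨8 :: [2, 4, 4, 5, 7, 2, 4, 8, 7, 7, 8, 2, 4, 4, 5, 7, 2, 8, 2, 4, 4, 5, 7, 2, 4, 4, 5, 7, 8, 2, 4, 4, 5, 7, 2], [], 3, true⟩) (lall (memL L) [2, 4, 4, 5, 7, 2, 4, 8, 7, 7, 8, 2, 4, 4, 5, 7, 2, 8, 2, 4, 4, 5, 7, 2, 4, 4, 5, 7, 8, 2, 4, 4, 5, 7, 2]) = true := by decide +kernel

theorem rot8_99 : T.rot 8 [7, 7, 8, 2, 4, 4, 5, 7, 2, 8, 2, 4, 4, 5, 7, 2, 4, 4, 5, 7, 8, 2, 4, 4, 5, 7, 2, 8, 2, 4, 4, 5, 7, 2, 4] (sel (ones 4060) ip8 99) = true := by decide +kernel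

theorem rot8_99r : band (Rule.ok (2 * 2) EX RL ⟨8 :: [7, 7, 8, 2, 4, 4, 5, 7, 2, 8, 2, 4, 4, 5, 7, 2, 4, 4, 5, 7, 8, 2, 4, 4, 5, 7, 2, 8, 2, 4, 4, 5, 7, 2, 4], [8, 2, 7, 7, 9, 6, 2, 7], 3, true⟩) (lall (memL L) [7, 7, 8, 2, 4, 4, 5, 7, 2, 8, 2, 4, 4, 5, 7, 2, 4, 4, 5, 7, 8, 2, 4, 4, 5, 7, 2, 8, 2, 4, 4, 5, 7, 2, 4]) = true := by decide +kernel

theorem rot8_100 : T.rot 8 [2, 4, 4, 5, 7, 2, 8, 2, 4, 4, 5, 7, 2, 4, 4, 5, 7, 8, 2, 4, 4, 5, 7, 2, 8, 2, 4, 4, 5, 7, 2, 4, 8, 7, 7] (sel (ones 4060) ip8 100) = true := by decide +kernel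

theorem rot8_100r : band (Rule.ok (2 * 2) EX RL ⟨8 :: [2, 4, 4, 5, 7, 2, 8, 2, 4, 4, 5, 7, 2, 4, 4, 5, 7, 8, 2, 4, 4, 5, 7, 2, 8, 2, 4, 4, 5, 7, 2, 4, 8, 7, 7], [8, 2, 7, 7, 9, 6, 2, 7, 8, 6, 6], 3, true⟩) (lall (memL L) [2, 4, 4, 5, 7, 2, 8, 2, 4, 4, 5, 7, 2, 4, 4, 5, 7, 8, 2, 4, 4, 5, 7, 2, 8, 2, 4, 4, 5, 7, 2, 4, 8, 7, 7]) = true := by decide +kernel

theorem rot8_101 : T.rot 8 [2, 4, 4, 5, 7, 2, 4, 4, 5, 7, 8, 2, 4, 4, 5, 7, 2, 8, 2, 4, 4, 5, 7, 2, 4, 8, 7, 7, 8, 2, 4, 4, 5, 7, 2] (sel (ones 4060) ip8 101) = true := by decide +kernel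

theorem rot8_101r : band (Rule.ok (2 * 2) EX RL ⟨8 :: [2, 4, 4, 5, 7, 2, 4, 4, 5, 7, 8, 2, 4, 4, 5, 7, 2, 8, 2, 4, 4, 5, 7, 2, 4, 8, 7, 7, 8, 2, 4, 4, 5, 7, 2], [2, 7, 8, 6, 6, 2, 9, 7, 8, 6, 6, 2, 7, 8, 6, 6, 2, 9], 3, true⟩) (lall (memL L) [2, 4, 4, 5, 7, 2, 4, 4, 5, 7, 8, 2, 4, 4, 5, 7, 2, 8, 2, 4, 4, 5, 7, 2, 4, 8, 7, 7, 8, 2, 4, 4, 5, 7, 2]) = true := by decide +kernel

theorem rot8_102 : T.rot 8 [2, 4, 4, 5, 7, 2, 8, 2, 4, 4, 5, 7, 2, 4, 8, 7, 7, 8, 2, 4, 4, 5, 7, 2, 8, 2, 4, 4, 5, 7, 2, 4, 4, 5, 7] (sel (ones 4060) ip8 102) = true := by decide +kernel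

theorem rot8_102r : band (Rule.ok (2 * 2) EX RL ⟨8 :: [2, 4, 4, 5, 7, 2, 8, 2, 4, 4, 5, 7, 2, 4, 8, 7, 7, 8, 2, 4, 4, 5, 7, 2, 8, 2, 4, 4, 5, 7, 2, 4, 4, 5, 7], [2, 7, 8, 6, 6, 2, 9], 3, true⟩) (lall (memL L) [2, 4, 4, 5, 7, 2, 8, 2, 4, 4, 5, 7, 2, 4, 8, 7, 7, 8, 2, 4, 4, 5, 7, 2, 8, 2, 4, 4, 5, 7, 2, 4, 4, 5, 7]) = true := by decide +kernel

theorem rot8_103 : T.rot 8 [7, 7, 2, 5, 4, 8, 7, 7, 2, 4, 8, 7, 7, 2, 5, 2, 4, 8, 7, 7, 2, 5, 4, 4, 5, 7, 2, 4, 8, 7, 7, 2, 5, 2, 4] (sel (ones 4060) ip8 103) = true := by decide +kernel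

theorem rot8_103r : band (Rule.ok (2 * 2) EX RL ⟨8 :: [7, 7, 2, 5, 4, 8, 7, 7, 2, 4, 8, 7, 7, 2, 5, 2, 4, 8, 7, 7, 2, 5, 4, 4, 5, 7, 2, 4, 8, 7, 7, 2, 5, 2, 4], [2, 7], 3, false⟩) (lall (memL L) [7, 7, 2, 5, 4, 8, 7, 7, 2, 4, 8, 7, 7, 2, 5, 2, 4, 8, 7, 7, 2, 5, 4, 4, 5, 7, 2, 4, 8, 7, 7, 2, 5, 2, 4]) = true := by decide +kernel

theorem rot8_104 : T.rot 8 [7, 7, 2, 4, 8, 7, 7, 2, 5, 2, 4, 8, 7, 7, 2, 5, 4, 4, 5, 7, 2, 4, 8, 7, 7, 2, 5, 2, 4, 8, 7, 7, 2, 5, 4] (sel (ones 4060) ip8 104) = true := by decide +kernel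

theorem rot8_104r : band (Rule.ok (2 * 2) EX RL ⟨8 :: [7, 7, 2, 4, 8, 7, 7, 2, 5, 2, 4, 8, 7, 7, 2, 5, 4, 4, 5, 7, 2, 4, 8, 7, 7, 2, 5, 2, 4, 8, 7, 7, 2, 5, 4], [2, 7, 8, 6, 6, 2, 9, 7], 3, false⟩) (lall (memL L) [7, 7, 2, 4, 8, 7, 7, 2, 5, 2, 4, 8, 7, 7, 2, 5, 4, 4, 5, 7, 2, 4, 8, 7, 7, 2, 5, 2, 4, 8, 7, 7, 2, 5, 4]) = true := by decide +kernel

theorem rot8_105 : T.rot 8 [7, 7, 2, 5, 2, 4, 8, 7, 7, 2, 5, 4, 4, 5, 7, 2, 4, 8, 7, 7, 2, 5, 2, 4, 8, 7, 7, 2, 5, 4, 8, 7, 7, 2, 4] (sel (ones 4060) ip8 105) = true := by decide +kernel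

theorem rot8_105r : band (Rule.ok (2 * 2) EX RL ⟨8 :: [7, 7, 2, 5, 2, 4, 8, 7, 7, 2, 5, 4, 4, 5, 7, 2, 4, 8, 7, 7, 2, 5, 2, 4, 8, 7, 7, 2, 5, 4, 8, 7, 7, 2, 4], [2, 7, 8, 6, 6, 2, 9, 7, 8, 6, 6, 2, 7], 3, false⟩) (lall (memL L) [7, 7, 2, 5, 2, 4, 8, 7, 7, 2, 5, 4, 4, 5, 7, 2, 4, 8, 7, 7, 2, 5, 2, 4, 8, 7, 7, 2, 5, 4, 8, 7, 7, 2, 4]) = true := by decide +kernel

theorem rot8_106 : T.rot 8 [7, 7, 2, 5, 4, 4, 5, 7, 2, 4, 8, 7, 7, 2, 5, 2, 4, 8, 7, 7, 2, 5, 4, 8, 7, 7, 2, 4, 8, 7, 7, 2, 5, 2, 4] (sel (ones 4060) ip8 106) = true := by decide +kernel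

theorem rot8_106r : band (Rule.ok (2 * 2) EX RL ⟨8 :: [7, 7, 2, 5, 4, 4, 5, 7, 2, 4, 8, 7, 7, 2, 5, 2, 4, 8, 7, 7, 2, 5, 4, 8, 7, 7, 2, 4, 8, 7, 7, 2, 5, 2, 4], [8, 2, 7, 7, 9, 6, 2, 7, 8, 6, 6, 8, 2, 7, 7, 9], 3, false⟩) (lall (memL L) [7, 7, 2, 5, 4, 4, 5, 7, 2, 4, 8, 7, 7, 2, 5, 2, 4, 8, 7, 7, 2, 5, 4, 8, 7, 7, 2, 4, 8, 7, 7, 2, 5, 2, 4]) = true := by decide +kernel

theorem rot8_107 : T.rot 8 [7, 7, 2, 5, 2, 4, 8, 7, 7, 2, 5, 4, 8, 7, 7, 2, 4, 8, 7, 7, 2, 5, 2, 4, 8, 7, 7, 2, 5, 4, 4, 5, 7, 2, 4] (sel (ones 4060) ip8 107) = true := by decide +kernel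

theorem rot8_107r : band (Rule.ok (2 * 2) EX RL ⟨8 :: [7, 7, 2, 5, 2, 4, 8, 7, 7, 2, 5, 4, 8, 7, 7, 2, 4, 8, 7, 7, 2, 5, 2, 4, 8, 7, 7, 2, 5, 4, 4, 5, 7, 2, 4], [8, 2, 7, 7, 9], 3, false⟩) (lall (memL L) [7, 7, 2, 5, 2, 4, 8, 7, 7, 2, 5, 4, 8, 7, 7, 2, 4, 8, 7, 7, 2, 5, 2, 4, 8, 7, 7, 2, 5, 4, 4, 5, 7, 2, 4]) = true := by decide +kernel

theorem rot8_108 : T.rot 8 [7, 7, 4, 8, 7, 7, 8, 2, 4, 4, 5, 7, 2, 5, 2, 4, 8, 7, 7, 2, 8, 2, 4, 4, 5, 7, 2, 2, 4, 4, 5, 7, 2, 8, 4] (sel (ones 4060) ip8 108) = true := by decide +kernel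

theorem rot8_108r : band (Rule.ok (2 * 2) EX RL ⟨8 :: [7, 7, 4, 8, 7, 7, 8, 2, 4, 4, 5, 7, 2, 5, 2, 4, 8, 7, 7, 2, 8, 2, 4, 4, 5, 7, 2, 2, 4, 4, 5, 7, 2, 8, 4], [7], 4, true⟩) (lall (memL L) [7, 7, 4, 8, 7, 7, 8, 2, 4, 4, 5, 7, 2, 5, 2, 4, 8, 7, 7, 2, 8, 2, 4, 4, 5, 7, 2, 2, 4, 4, 5, 7, 2, 8, 4]) = true := by decide +kernel

theorem rot8_109 : T.rot 8 [7, 7, 8, 2, 4, 4, 5, 7, 2, 5, 2, 4, 8, 7, 7, 2, 8, 2, 4, 4, 5, 7, 2, 2, 4, 4, 5, 7, 2, 8, 4, 8, 7, 7, 4] (sel (ones 4060) ip8 109) = true := by decide +kernel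

theorem rot8_109r : band (Rule.ok (2 * 2) EX RL ⟨8 :: [7, 7, 8, 2, 4, 4, 5, 7, 2, 5, 2, 4, 8, 7, 7, 2, 8, 2, 4, 4, 5, 7, 2, 2, 4, 4, 5, 7, 2, 8, 4, 8, 7, 7, 4], [7, 8, 6], 4, true⟩) (lall (memL L) [7, 7, 8, 2, 4, 4, 5, 7, 2, 5, 2, 4, 8, 7, 7, 2, 8, 2, 4, 4, 5, 7, 2, 2, 4, 4, 5, 7, 2, 8, 4, 8, 7, 7, 4]) = true := by decide +kernel

theorem rot8_110 : T.rot 8 [2, 4, 4, 5, 7, 2, 5, 2, 4, 8, 7, 7, 2, 8, 2, 4, 4, 5, 7, 2, 2, 4, 4, 5, 7, 2, 8, 4, 8, 7, 7, 4, 8, 7, 7] (sel (ones 4060) ip8 110) = true := by decide +kernel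

theorem rot8_110r : band (Rule.ok (2 * 2) EX RL ⟨8 :: [2, 4, 4, 5, 7, 2, 5, 2, 4, 8, 7, 7, 2, 8, 2, 4, 4, 5, 7, 2, 2, 4, 4, 5, 7, 2, 8, 4, 8, 7, 7, 4, 8, 7, 7], [7, 8, 6, 8, 6, 6], 4, true⟩) (lall (memL L) [2, 4, 4, 5, 7, 2, 5, 2, 4, 8, 7, 7, 2, 8, 2, 4, 4, 5, 7, 2, 2, 4, 4, 5, 7, 2, 8, 4, 8, 7, 7, 4, 8, 7, 7]) = true := by decide +kernel

theorem rot8_111 : T.rot 8 [7, 7, 2, 8, 2, 4, 4, 5, 7, 2, 2, 4, 4, 5, 7, 2, 8, 4, 8, 7, 7, 4, 8, 7, 7, 8, 2, 4, 4, 5, 7, 2, 5, 2, 4] (sel (ones 4060) ip8 111) = true := by decide +kernel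

theorem rot8_111r : band (Rule.ok (2 * 2) EX RL ⟨8 :: [7, 7, 2, 8, 2, 4, 4, 5, 7, 2, 2, 4, 4, 5, 7, 2, 8, 4, 8, 7, 7, 4, 8, 7, 7, 8, 2, 4, 4, 5, 7, 2, 5, 2, 4], [9, 2, 7, 8, 6, 8, 6, 6, 2, 9, 2, 7, 7, 9], 4, true⟩) (lall (memL L) [7, 7, 2, 8, 2, 4, 4, 5, 7, 2, 2, 4, 4, 5, 7, 2, 8, 4, 8, 7, 7, 4, 8, 7, 7, 8, 2, 4, 4, 5, 7, 2, 5, 2, 4]) = true := by decide +kernel

theorem rot8_112 : T.rot 8 [2, 4, 4, 5, 7, 2, 2, 4, 4, 5, 7, 2, 8, 4, 8, 7, 7, 4, 8, 7, 7, 8, 2, 4, 4, 5, 7, 2, 5, 2, 4, 8, 7, 7, 2] (sel (ones 4060) ip8 112) = true := by decide +kernel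

theorem rot8_112r : band (Rule.ok (2 * 2) EX RL ⟨8 :: [2, 4, 4, 5, 7, 2, 2, 4, 4, 5, 7, 2, 8, 4, 8, 7, 7, 4, 8, 7, 7, 8, 2, 4, 4, 5, 7, 2, 5, 2, 4, 8, 7, 7, 2], [9, 2, 7, 8, 6, 8, 6, 6, 2, 9], 4, true⟩) (lall (memL L) [2, 4, 4, 5, 7, 2, 2, 4, 4, 5, 7, 2, 8, 4, 8, 7, 7, 4, 8, 7, 7, 8, 2, 4, 4, 5, 7, 2, 5, 2, 4, 8, 7, 7, 2]) = true := by decide +kernel

theorem rot8_113 : T.rot 8 [4, 8, 7, 7, 4, 8, 7, 7, 8, 2, 4, 4, 5, 7, 2, 5, 2, 4, 8, 7, 7, 2, 8, 2, 4, 4, 5, 7, 2, 2, 4, 4, 5, 7, 2] (sel (ones 4060) ip8 113) = true := by decide +kernel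

theorem rot8_113r : band (Rule.ok (2 * 2) EX RL ⟨8 :: [4, 8, 7, 7, 4, 8, 7, 7, 8, 2, 4, 4, 5, 7, 2, 5, 2, 4, 8, 7, 7, 2, 8, 2, 4, 4, 5, 7, 2, 2, 4, 4, 5, 7, 2], [9], 4, true⟩) (lall (memL L) [4, 8, 7, 7, 4, 8, 7, 7, 8, 2, 4, 4, 5, 7, 2, 5, 2, 4, 8, 7, 7, 2, 8, 2, 4, 4, 5, 7, 2, 2, 4, 4, 5, 7, 2]) = true := by decide +kernel

theorem rot8_114 : T.rot 8 [7, 7, 2, 2, 4, 8, 7, 7, 2, 5, 2, 4, 4, 5, 7, 2, 8, 2, 4, 8, 7, 7, 2, 5, 4, 4, 5, 7, 4, 4, 5, 7, 5, 2, 4] (sel (ones 4060) ip8 114) = true := by decide +kernel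

theorem rot8_114r : band (Rule.ok (2 * 2) EX RL ⟨8 :: [7, 7, 2, 2, 4, 8, 7, 7, 2, 5, 2, 4, 4, 5, 7, 2, 8, 2, 4, 8, 7, 7, 2, 5, 4, 4, 5, 7, 4, 4, 5, 7, 5, 2, 4], [9, 2, 7], 4, false⟩) (lall (memL L) [7, 7, 2, 2, 4, 8, 7, 7, 2, 5, 2, 4, 4, 5, 7, 2, 8, 2, 4, 8, 7, 7, 2, 5, 4, 4, 5, 7, 4, 4, 5, 7, 5, 2, 4]) = true := by decide +kernel

theorem rot8_115 : T.rot 8 [7, 7, 2, 5, 2, 4, 4, 5, 7, 2, 8, 2, 4, 8, 7, 7, 2, 5, 4, 4, 5, 7, 4, 4, 5, 7, 5, 2, 4, 8, 7, 7, 2, 2, 4] (sel (ones 4060) ip8 115) = true := by decide +kernel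

theorem rot8_115r : band (Rule.ok (2 * 2) EX RL ⟨8 :: [7, 7, 2, 5, 2, 4, 4, 5, 7, 2, 8, 2, 4, 8, 7, 7, 2, 5, 4, 4, 5, 7, 4, 4, 5, 7, 5, 2, 4, 8, 7, 7, 2, 2, 4], [9, 2, 7, 8, 6], 4, false⟩) (lall (memL L) [7, 7, 2, 5, 2, 4, 4, 5, 7, 2, 8, 2, 4, 8, 7, 7, 2, 5, 4, 4, 5, 7, 4, 4, 5, 7, 5, 2, 4, 8, 7, 7, 2, 2, 4]) = true := by decide +kernel

theorem rot8_116 : T.rot 8 [2, 4, 8, 7, 7, 2, 5, 4, 4, 5, 7, 4, 4, 5, 7, 5, 2, 4, 8, 7, 7, 2, 2, 4, 8, 7, 7, 2, 5, 2, 4, 4, 5, 7, 2] (sel (ones 4060) ip8 116) = true := by decide +kernel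

theorem rot8_116r : band (Rule.ok (2 * 2) EX RL ⟨8 :: [2, 4, 8, 7, 7, 2, 5, 4, 4, 5, 7, 4, 4, 5, 7, 5, 2, 4, 8, 7, 7, 2, 2, 4, 8, 7, 7, 2, 5, 2, 4, 4, 5, 7, 2], [7, 8, 6, 8, 6, 6, 8, 2, 7, 7, 9, 6, 2, 9], 4, false⟩) (lall (memL L) [2, 4, 8, 7, 7, 2, 5, 4, 4, 5, 7, 4, 4, 5, 7, 5, 2, 4, 8, 7, 7, 2, 2, 4, 8, 7, 7, 2, 5, 2, 4, 4, 5, 7, 2]) = true := by decide +kernel

theorem rot8_117 : T.rot 8 [7, 7, 2, 5, 4, 4, 5, 7, 4, 4, 5, 7, 5, 2, 4, 8, 7, 7, 2, 2, 4, 8, 7, 7, 2, 5, 2, 4, 4, 5, 7, 2, 8, 2, 4] (sel (ones 4060) ip8 117) = true := by decide +kernel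

theorem rot8_117r : band (Rule.ok (2 * 2) EX RL ⟨8 :: [7, 7, 2, 5, 4, 4, 5, 7, 4, 4, 5, 7, 5, 2, 4, 8, 7, 7, 2, 2, 4, 8, 7, 7, 2, 5, 2, 4, 4, 5, 7, 2, 8, 2, 4], [7, 8, 6, 8, 6, 6, 8, 2, 7, 7, 9], 4, false⟩) (lall (memL L) [7, 7, 2, 5, 4, 4, 5, 7, 4, 4, 5, 7, 5, 2, 4, 8, 7, 7, 2, 2, 4, 8, 7, 7, 2, 5, 2, 4, 4, 5, 7, 2, 8, 2, 4]) = true := by decide +kernel

theorem rot8_118 : T.rot 8 [7, 7, 2, 4, 8, 7, 7, 2, 8, 5, 2, 4, 8, 7, 7, 2, 2, 4, 8, 7, 7, 2, 5, 5, 2, 4, 8, 7, 7, 2, 4, 4, 5, 7, 5, 5, 4] (sel (ones 4060) ip8 118) = true := by decide +kernel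

theorem rot8_118r : band (Rule.ok (2 * 2) EX RL ⟨8 :: [7, 7, 2, 4, 8, 7, 7, 2, 8, 5, 2, 4, 8, 7, 7, 2, 2, 4, 8, 7, 7, 2, 5, 5, 2, 4, 8, 7, 7, 2, 4, 4, 5, 7, 5, 5, 4], [9, 9, 7], 10, true⟩) (lall (memL L) [7, 7, 2, 4, 8, 7, 7, 2, 8, 5, 2, 4, 8, 7, 7, 2, 2, 4, 8, 7, 7, 2, 5, 5, 2, 4, 8, 7, 7, 2, 4, 4, 5, 7, 5, 5, 4]) = true := by decide +kernel

theorem rot8_119 : T.rot 8 [7, 7, 2, 8, 5, 2, 4, 8, 7, 7, 2, 2, 4, 8, 7, 7, 2, 5, 5, 2, 4, 8, 7, 7, 2, 4, 4, 5, 7, 5, 5, 4, 8, 7, 7, 2, 4] (sel (ones 4060) ip8 119) = true := by decide +kernel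

theorem rot8_119r : band (Rule.ok (2 * 2) EX RL ⟨8 :: [7, 7, 2, 8, 5, 2, 4, 8, 7, 7, 2, 2, 4, 8, 7, 7, 2, 5, 5, 2, 4, 8, 7, 7, 2, 4, 4, 5, 7, 5, 5, 4, 8, 7, 7, 2, 4], [9, 9, 7, 8, 6, 6, 2, 7], 10, true⟩) (lall (memL L) [7, 7, 2, 8, 5, 2, 4, 8, 7, 7, 2, 2, 4, 8, 7, 7, 2, 5, 5, 2, 4, 8, 7, 7, 2, 4, 4, 5, 7, 5, 5, 4, 8, 7, 7, 2, 4]) = true := by decide +kernel

theorem rot8_120 : T.rot 8 [7, 7, 2, 2, 4, 8, 7, 7, 2, 5, 5, 2, 4, 8, 7, 7, 2, 4, 4, 5, 7, 5, 5, 4, 8, 7, 7, 2, 4, 8, 7, 7, 2, 8, 5, 2, 4] (sel (ones 4060) ip8 120) = true := by decide +kernel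

theorem rot8_120r : band (Rule.ok (2 * 2) EX RL ⟨8 :: [7, 7, 2, 2, 4, 8, 7, 7, 2, 5, 5, 2, 4, 8, 7, 7, 2, 4, 4, 5, 7, 5, 5, 4, 8, 7, 7, 2, 4, 8, 7, 7, 2, 8, 5, 2, 4], [9, 9, 7, 8, 6, 6, 2, 7, 8, 6], 10, true⟩) (lall (memL L) [7, 7, 2, 2, 4, 8, 7, 7, 2, 5, 5, 2, 4, 8, 7, 7, 2, 4, 4, 5, 7, 5, 5, 4, 8, 7, 7, 2, 4, 8, 7, 7, 2, 8, 5, 2, 4]) = true := by decide +kernel

theorem rot8_121 : T.rot 8 [7, 7, 2, 5, 5, 2, 4, 8, 7, 7, 2, 4, 4, 5, 7, 5, 5, 4, 8, 7, 7, 2, 4, 8, 7, 7, 2, 8, 5, 2, 4, 8, 7, 7, 2, 2, 4] (sel (ones 4060) ip8 121) = true := by decide +kernel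

theorem rot8_121r : band (Rule.ok (2 * 2) EX RL ⟨8 :: [7, 7, 2, 5, 5, 2, 4, 8, 7, 7, 2, 4, 4, 5, 7, 5, 5, 4, 8, 7, 7, 2, 4, 8, 7, 7, 2, 8, 5, 2, 4, 8, 7, 7, 2, 2, 4], [9, 9, 7, 8, 6, 6, 2, 7, 8, 6, 8, 6], 10, true⟩) (lall (memL L) [7, 7, 2, 5, 5, 2, 4, 8, 7, 7, 2, 4, 4, 5, 7, 5, 5, 4, 8, 7, 7, 2, 4, 8, 7, 7, 2, 8, 5, 2, 4, 8, 7, 7, 2, 2, 4]) = true := by decide +kernel

theorem rot8_122 : T.rot 8 [7, 7, 2, 4, 4, 5, 7, 5, 5, 4, 8, 7, 7, 2, 4, 8, 7, 7, 2, 8, 5, 2, 4, 8, 7, 7, 2, 2, 4, 8, 7, 7, 2, 5, 5, 2, 4] (sel (ones 4060) ip8 122) = true := by decide +kernel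

theorem rot8_122r : band (Rule.ok (2 * 2) EX RL ⟨8 :: [7, 7, 2, 4, 4, 5, 7, 5, 5, 4, 8, 7, 7, 2, 4, 8, 7, 7, 2, 8, 5, 2, 4, 8, 7, 7, 2, 2, 4, 8, 7, 7, 2, 5, 5, 2, 4], [7, 8, 6, 6, 2, 7, 7, 9], 10, true⟩) (lall (memL L) [7, 7, 2, 4, 4, 5, 7, 5, 5, 4, 8, 7, 7, 2, 4, 8, 7, 7, 2, 8, 5, 2, 4, 8, 7, 7, 2, 2, 4, 8, 7, 7, 2, 5, 5, 2, 4]) = true := by decide +kernel

theorem rot8_123 : T.rot 8 [7, 7, 2, 4, 4, 5, 7, 2, 8, 8, 2, 4, 4, 5, 7, 2, 2, 4, 4, 5, 7, 2, 8, 5, 2, 4, 4, 5, 7, 2, 4, 4, 5, 7, 8, 8, 4] (sel (ones 4060) ip8 123) = true := by decide +kernel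

theorem rot8_123r : band (Rule.ok (2 * 2) EX RL ⟨8 :: [7, 7, 2, 4, 4, 5, 7, 2, 8, 8, 2, 4, 4, 5, 7, 2, 2, 4, 4, 5, 7, 2, 8, 5, 2, 4, 4, 5, 7, 2, 4, 4, 5, 7, 8, 8, 4], [7], 10, false⟩) (lall (memL L) [7, 7, 2, 4, 4, 5, 7, 2, 8, 8, 2, 4, 4, 5, 7, 2, 2, 4, 4, 5, 7, 2, 8, 5, 2, 4, 4, 5, 7, 2, 4, 4, 5, 7, 8, 8, 4]) = true := by decide +kernel

theorem rot8_124 : T.rot 8 [8, 2, 4, 4, 5, 7, 2, 2, 4, 4, 5, 7, 2, 8, 5, 2, 4, 4, 5, 7, 2, 4, 4, 5, 7, 8, 8, 4, 8, 7, 7, 2, 4, 4, 5, 7, 2] (sel (ones 4060) ip8 124) = true := by decide +kernel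

theorem rot8_124r : band (Rule.ok (2 * 2) EX RL ⟨8 :: [8, 2, 4, 4, 5, 7, 2, 2, 4, 4, 5, 7, 2, 8, 5, 2, 4, 4, 5, 7, 2, 4, 4, 5, 7, 8, 8, 4, 8, 7, 7, 2, 4, 4, 5, 7, 2], [7, 8, 6, 6, 2, 7, 7, 9, 6, 2], 10, false⟩) (lall (memL L) [8, 2, 4, 4, 5, 7, 2, 2, 4, 4, 5, 7, 2, 8, 5, 2, 4, 4, 5, 7, 2, 4, 4, 5, 7, 8, 8, 4, 8, 7, 7, 2, 4, 4, 5, 7, 2]) = true := by decide +kernel

theorem rot8_125 : T.rot 8 [2, 4, 4, 5, 7, 2, 2, 4, 4, 5, 7, 2, 8, 5, 2, 4, 4, 5, 7, 2, 4, 4, 5, 7, 8, 8, 4, 8, 7, 7, 2, 4, 4, 5, 7, 2, 8] (sel (ones 4060) ip8 125) = true := by decide +kernel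

theorem rot8_125r : band (Rule.ok (2 * 2) EX RL ⟨8 :: [2, 4, 4, 5, 7, 2, 2, 4, 4, 5, 7, 2, 8, 5, 2, 4, 4, 5, 7, 2, 4, 4, 5, 7, 8, 8, 4, 8, 7, 7, 2, 4, 4, 5, 7, 2, 8], [7, 8, 6, 6, 2, 7, 7, 9, 6, 2, 8], 10, false⟩) (lall (memL L) [2, 4, 4, 5, 7, 2, 2, 4, 4, 5, 7, 2, 8, 5, 2, 4, 4, 5, 7, 2, 4, 4, 5, 7, 8, 8, 4, 8, 7, 7, 2, 4, 4, 5, 7, 2, 8]) = true := by decide +kernel

theorem rot8_126 : T.rot 8 [8, 4, 8, 7, 7, 2, 4, 4, 5, 7, 2, 8, 8, 2, 4, 4, 5, 7, 2, 2, 4, 4, 5, 7, 2, 8, 5, 2, 4, 4, 5, 7, 2, 4, 4, 5, 7] (sel (ones 4060) ip8 126) = true := by decide +kernel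

theorem rot8_126r : band (Rule.ok (2 * 2) EX RL ⟨8 :: [8, 4, 8, 7, 7, 2, 4, 4, 5, 7, 2, 8, 8, 2, 4, 4, 5, 7, 2, 2, 4, 4, 5, 7, 2, 8, 5, 2, 4, 4, 5, 7, 2, 4, 4, 5, 7], [9, 9], 10, false⟩) (lall (memL L) [8, 4, 8, 7, 7, 2, 4, 4, 5, 7, 2, 8, 8, 2, 4, 4, 5, 7, 2, 2, 4, 4, 5, 7, 2, 8, 5, 2, 4, 4, 5, 7, 2, 4, 4, 5, 7]) = true := by decide +kernel

theorem rot8_127 : T.rot 8 [4, 8, 7, 7, 2, 4, 4, 5, 7, 2, 8, 8, 2, 4, 4, 5, 7, 2, 2, 4, 4, 5, 7, 2, 8, 5, 2, 4, 4, 5, 7, 2, 4, 4, 5, 7, 8] (sel (ones 4060) ip8 127) = true := by decide +kernel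

theorem rot8_127r : band (Rule.ok (2 * 2) EX RL ⟨8 :: [4, 8, 7, 7, 2, 4, 4, 5, 7, 2, 8, 8, 2, 4, 4, 5, 7, 2, 2, 4, 4, 5, 7, 2, 8, 5, 2, 4, 4, 5, 7, 2, 4, 4, 5, 7, 8], [9], 10, false⟩) (lall (memL L) [4, 8, 7, 7, 2, 4, 4, 5, 7, 2, 8, 8, 2, 4, 4, 5, 7, 2, 2, 4, 4, 5, 7, 2, 8, 5, 2, 4, 4, 5, 7, 2, 4, 4, 5, 7, 8]) = true := by decide +kernel

theorem rot8_128 : T.rot 8 [2, 4, 4, 5, 7, 2, 8, 2, 4, 4, 5, 7, 2, 2, 4, 4, 5, 7, 2, 8, 2, 4, 8, 7, 7, 2, 5, 2, 4, 8, 7, 7, 2, 5, 5, 2, 4, 8, 7, 7, 2] (sel (ones 4060) ip8 128) = true := by decide +kernel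

theorem rot8_128r : band (Rule.ok (2 * 2) EX RL ⟨8 :: [2, 4, 4, 5, 7, 2, 8, 2, 4, 4, 5, 7, 2, 2, 4, 4, 5, 7, 2, 8, 2, 4, 8, 7, 7, 2, 5, 2, 4, 8, 7, 7, 2, 5, 5, 2, 4, 8, 7, 7, 2], [], 2, true⟩) (lall (memL L) [2, 4, 4, 5, 7, 2, 8, 2, 4, 4, 5, 7, 2, 2, 4, 4, 5, 7, 2, 8, 2, 4, 8, 7, 7, 2, 5, 2, 4, 8, 7, 7, 2, 5, 5, 2, 4, 8, 7, 7, 2]) = true := by decide +kernel

theorem rot8_129 : T.rot 8 [2, 4, 4, 5, 7, 2, 2, 4, 4, 5, 7, 2, 8, 2, 4, 8, 7, 7, 2, 5, 2, 4, 8, 7, 7, 2, 5, 5, 2, 4, 8, 7, 7, 2, 8, 2, 4, 4, 5, 7, 2] (sel (ones 4060) ip8 129) = true := by decide +kernel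

theorem rot8_129r : band (Rule.ok (2 * 2) EX RL ⟨8 :: [2, 4, 4, 5, 7, 2, 2, 4, 4, 5, 7, 2, 8, 2, 4, 8, 7, 7, 2, 5, 2, 4, 8, 7, 7, 2, 5, 5, 2, 4, 8, 7, 7, 2, 8, 2, 4, 4, 5, 7, 2], [8, 2, 7, 7, 9, 6, 2], 2, true⟩) (lall (memL L) [2, 4, 4, 5, 7, 2, 2, 4, 4, 5, 7, 2, 8, 2, 4, 8, 7, 7, 2, 5, 2, 4, 8, 7, 7, 2, 5, 5, 2, 4, 8, 7, 7, 2, 8, 2, 4, 4, 5, 7, 2]) = true := by decide +kernel

theorem rot8_130 : T.rot 8 [2, 4, 8, 7, 7, 2, 5, 2, 4, 8, 7, 7, 2, 5, 5, 2, 4, 8, 7, 7, 2, 8, 2, 4, 4, 5, 7, 2, 8, 2, 4, 4, 5, 7, 2, 2, 4, 4, 5, 7, 2] (sel (ones 4060) ip8 130) = true := by decide +kernel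

theorem rot8_130r : band (Rule.ok (2 * 2) EX RL ⟨8 :: [2, 4, 8, 7, 7, 2, 5, 2, 4, 8, 7, 7, 2, 5, 5, 2, 4, 8, 7, 7, 2, 8, 2, 4, 4, 5, 7, 2, 8, 2, 4, 4, 5, 7, 2, 2, 4, 4, 5, 7, 2], [8, 2, 7, 7, 9, 6, 2, 8, 2, 7, 7, 9, 7, 9, 6, 2], 2, true⟩) (lall (memL L) [2, 4, 8, 7, 7, 2, 5, 2, 4, 8, 7, 7, 2, 5, 5, 2, 4, 8, 7, 7, 2, 8, 2, 4, 4, 5, 7, 2, 8, 2, 4, 4, 5, 7, 2, 2, 4, 4, 5, 7, 2]) = true := by decide +kernel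

theorem rot8_131 : T.rot 8 [7, 7, 2, 8, 2, 4, 4, 5, 7, 2, 8, 2, 4, 4, 5, 7, 2, 2, 4, 4, 5, 7, 2, 8, 2, 4, 8, 7, 7, 2, 5, 2, 4, 8, 7, 7, 2, 5, 5, 2, 4] (sel (ones 4060) ip8 131) = true := by decide +kernel

theorem rot8_131r : band (Rule.ok (2 * 2) EX RL ⟨8 :: [7, 7, 2, 8, 2, 4, 4, 5, 7, 2, 8, 2, 4, 4, 5, 7, 2, 2, 4, 4, 5, 7, 2, 8, 2, 4, 8, 7, 7, 2, 5, 2, 4, 8, 7, 7, 2, 5, 5, 2, 4], [2, 7, 7, 9], 2, true⟩) (lall (memL L) [7, 7, 2, 8, 2, 4, 4, 5, 7, 2, 8, 2, 4, 4, 5, 7, 2, 2, 4, 4, 5, 7, 2, 8, 2, 4, 8, 7, 7, 2, 5, 2, 4, 8, 7, 7, 2, 5, 5, 2, 4]) = true := by decide +kernel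

theorem rot8_132 : T.rot 8 [8, 2, 4, 4, 5, 7, 2, 8, 2, 4, 4, 5, 7, 2, 5, 2, 4, 8, 7, 7, 2, 2, 4, 8, 7, 7, 2, 5, 2, 4, 8, 7, 7, 2, 5, 2, 4, 4, 5, 7, 2] (sel (ones 4060) ip8 132) = true := by decide +kernel

theorem rot8_132r : band (Rule.ok (2 * 2) EX RL ⟨8 :: [8, 2, 4, 4, 5, 7, 2, 8, 2, 4, 4, 5, 7, 2, 5, 2, 4, 8, 7, 7, 2, 2, 4, 8, 7, 7, 2, 5, 2, 4, 8, 7, 7, 2, 5, 2, 4, 4, 5, 7, 2], [2, 7, 7, 9, 6, 2], 2, false⟩) (lall (memL L) [8, 2, 4, 4, 5, 7, 2, 8, 2, 4, 4, 5, 7, 2, 5, 2, 4, 8, 7, 7, 2, 2, 4, 8, 7, 7, 2, 5, 2, 4, 8, 7, 7, 2, 5, 2, 4, 4, 5, 7, 2]) = true := by decide +kernel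

theorem rot8_133 : T.rot 8 [2, 4, 4, 5, 7, 2, 8, 2, 4, 4, 5, 7, 2, 5, 2, 4, 8, 7, 7, 2, 2, 4, 8, 7, 7, 2, 5, 2, 4, 8, 7, 7, 2, 5, 2, 4, 4, 5, 7, 2, 8] (sel (ones 4060) ip8 133) = true := by decide +kernel

theorem rot8_133r : band (Rule.ok (2 * 2) EX RL ⟨8 :: [2, 4, 4, 5, 7, 2, 8, 2, 4, 4, 5, 7, 2, 5, 2, 4, 8, 7, 7, 2, 2, 4, 8, 7, 7, 2, 5, 2, 4, 8, 7, 7, 2, 5, 2, 4, 4, 5, 7, 2, 8], [2, 7, 7, 9, 6, 2, 8], 2, false⟩) (lall (memL L) [2, 4, 4, 5, 7, 2, 8, 2, 4, 4, 5, 7, 2, 5, 2, 4, 8, 7, 7, 2, 2, 4, 8, 7, 7, 2, 5, 2, 4, 8, 7, 7, 2, 5, 2, 4, 4, 5, 7, 2, 8]) = true := by decide +kernel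

theorem rot8_134 : T.rot 8 [2, 4, 4, 5, 7, 2, 5, 2, 4, 8, 7, 7, 2, 2, 4, 8, 7, 7, 2, 5, 2, 4, 8, 7, 7, 2, 5, 2, 4, 4, 5, 7, 2, 8, 8, 2, 4, 4, 5, 7, 2] (sel (ones 4060) ip8 134) = true := by decide +kernel

theorem rot8_134r : band (Rule.ok (2 * 2) EX RL ⟨8 :: [2, 4, 4, 5, 7, 2, 5, 2, 4, 8, 7, 7, 2, 2, 4, 8, 7, 7, 2, 5, 2, 4, 8, 7, 7, 2, 5, 2, 4, 4, 5, 7, 2, 8, 8, 2, 4, 4, 5, 7, 2], [2, 7, 7, 9, 6, 2, 8, 8, 2, 7, 7, 9, 6, 2], 2, false⟩) (lall (memL L) [2, 4, 4, 5, 7, 2, 5, 2, 4, 8, 7, 7, 2, 2, 4, 8, 7, 7, 2, 5, 2, 4, 8, 7, 7, 2, 5, 2, 4, 4, 5, 7, 2, 8, 8, 2, 4, 4, 5, 7, 2]) = true := by decide +kernel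

theorem rot8_135 : T.rot 8 [7, 7, 2, 2, 4, 8, 7, 7, 2, 5, 2, 4, 8, 7, 7, 2, 5, 2, 4, 4, 5, 7, 2, 8, 8, 2, 4, 4, 5, 7, 2, 8, 2, 4, 4, 5, 7, 2, 5, 2, 4] (sel (ones 4060) ip8 135) = true := by decide +kernel

theorem rot8_135r : band (Rule.ok (2 * 2) EX RL ⟨8 :: [7, 7, 2, 2, 4, 8, 7, 7, 2, 5, 2, 4, 8, 7, 7, 2, 5, 2, 4, 4, 5, 7, 2, 8, 8, 2, 4, 4, 5, 7, 2, 8, 2, 4, 4, 5, 7, 2, 5, 2, 4], [8, 2, 7, 7, 9, 6, 2, 8, 2, 7, 7, 9, 7, 9], 2, false⟩) (lall (memL L) [7, 7, 2, 2, 4, 8, 7, 7, 2, 5, 2, 4, 8, 7, 7, 2, 5, 2, 4, 4, 5, 7, 2, 8, 8, 2, 4, 4, 5, 7, 2, 8, 2, 4, 4, 5, 7, 2, 5, 2, 4]) = true := by decide +kernel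

theorem rot8_136 : T.rot 8 [7, 7, 2, 5, 2, 4, 8, 7, 7, 2, 5, 2, 4, 4, 5, 7, 2, 8, 8, 2, 4, 4, 5, 7, 2, 8, 2, 4, 4, 5, 7, 2, 5, 2, 4, 8, 7, 7, 2, 2, 4] (sel (ones 4060) ip8 136) = true := by decide +kernel

theorem rot8_136r : band (Rule.ok (2 * 2) EX RL ⟨8 :: [7, 7, 2, 5, 2, 4, 8, 7, 7, 2, 5, 2, 4, 4, 5, 7, 2, 8, 8, 2, 4, 4, 5, 7, 2, 8, 2, 4, 4, 5, 7, 2, 5, 2, 4, 8, 7, 7, 2, 2, 4], [8, 2, 7, 7, 9, 6, 2, 8, 2, 7, 7, 9], 2, false⟩) (lall (memL L) [7, 7, 2, 5, 2, 4, 8, 7, 7, 2, 5, 2, 4, 4, 5, 7, 2, 8, 8, 2, 4, 4, 5, 7, 2, 8, 2, 4, 4, 5, 7, 2, 5, 2, 4, 8, 7, 7, 2, 2, 4]) = true := by decide +kernel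

theorem rot8_137 : T.rot 8 [7, 7, 2, 5, 2, 4, 4, 5, 7, 2, 8, 8, 2, 4, 4, 5, 7, 2, 8, 2, 4, 4, 5, 7, 2, 5, 2, 4, 8, 7, 7, 2, 2, 4, 8, 7, 7, 2, 5, 2, 4] (sel (ones 4060) ip8 137) = true := by decide +kernel

theorem rot8_137r : band (Rule.ok (2 * 2) EX RL ⟨8 :: [7, 7, 2, 5, 2, 4, 4, 5, 7, 2, 8, 8, 2, 4, 4, 5, 7, 2, 8, 2, 4, 4, 5, 7, 2, 5, 2, 4, 8, 7, 7, 2, 2, 4, 8, 7, 7, 2, 5, 2, 4], [8, 2, 7, 7, 9], 2, false⟩) (lall (memL L) [7, 7, 2, 5, 2, 4, 4, 5, 7, 2, 8, 8, 2, 4, 4, 5, 7, 2, 8, 2, 4, 4, 5, 7, 2, 5, 2, 4, 8, 7, 7, 2, 2, 4, 8, 7, 7, 2, 5, 2, 4]) = true := by decide +kernel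

theorem rot8_138 : T.rot 8 [7, 7, 4, 8, 7, 7, 2, 4, 4, 5, 7, 2, 8, 4, 8, 7, 7, 2, 4, 4, 5, 7, 2, 8, 2, 4, 4, 5, 7, 2, 8, 4, 8, 7, 7, 2, 4, 4, 5, 7, 2, 8, 4] (sel (ones 4060) ip8 138) = true := by decide +kernel

theorem rot8_138r : band (Rule.ok (2 * 2) EX RL ⟨8 :: [7, 7, 4, 8, 7, 7, 2, 4, 4, 5, 7, 2, 8, 4, 8, 7, 7, 2, 4, 4, 5, 7, 2, 8, 2, 4, 4, 5, 7, 2, 8, 4, 8, 7, 7, 2, 4, 4, 5, 7, 2, 8, 4], [7], 6, true⟩) (lall (memL L) [7, 7, 4, 8, 7, 7, 2, 4, 4, 5, 7, 2, 8, 4, 8, 7, 7, 2, 4, 4, 5, 7, 2, 8, 2, 4, 4, 5, 7, 2, 8, 4, 8, 7, 7, 2, 4, 4, 5, 7, 2, 8, 4]) = true := by decide +kernel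

theorem rot8_139 : T.rot 8 [7, 7, 2, 4, 4, 5, 7, 2, 8, 4, 8, 7, 7, 2, 4, 4, 5, 7, 2, 8, 2, 4, 4, 5, 7, 2, 8, 4, 8, 7, 7, 2, 4, 4, 5, 7, 2, 8, 4, 8, 7, 7, 4] (sel (ones 4060) ip8 139) = true := by decide +kernel

theorem rot8_139r : band (Rule.ok (2 * 2) EX RL ⟨8 :: [7, 7, 2, 4, 4, 5, 7, 2, 8, 4, 8, 7, 7, 2, 4, 4, 5, 7, 2, 8, 2, 4, 4, 5, 7, 2, 8, 4, 8, 7, 7, 2, 4, 4, 5, 7, 2, 8, 4, 8, 7, 7, 4], [7, 8, 6], 6, true⟩) (lall (memL L) [7, 7, 2, 4, 4, 5, 7, 2, 8, 4, 8, 7, 7, 2, 4, 4, 5, 7, 2, 8, 2, 4, 4, 5, 7, 2, 8, 4, 8, 7, 7, 2, 4, 4, 5, 7, 2, 8, 4, 8, 7, 7, 4]) = true := by decide +kernel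

theorem rot8_140 : T.rot 8 [4, 8, 7, 7, 2, 4, 4, 5, 7, 2, 8, 2, 4, 4, 5, 7, 2, 8, 4, 8, 7, 7, 2, 4, 4, 5, 7, 2, 8, 4, 8, 7, 7, 4, 8, 7, 7, 2, 4, 4, 5, 7, 2] (sel (ones 4060) ip8 140) = true := by decide +kernel

theorem rot8_140r : band (Rule.ok (2 * 2) EX RL ⟨8 :: [4, 8, 7, 7, 2, 4, 4, 5, 7, 2, 8, 2, 4, 4, 5, 7, 2, 8, 4, 8, 7, 7, 2, 4, 4, 5, 7, 2, 8, 4, 8, 7, 7, 4, 8, 7, 7, 2, 4, 4, 5, 7, 2], [7, 8, 6, 8, 6, 6, 2, 7, 7, 9, 6, 2], 6, true⟩) (lall (memL L) [4, 8, 7, 7, 2, 4, 4, 5, 7, 2, 8, 2, 4, 4, 5, 7, 2, 8, 4, 8, 7, 7, 2, 4, 4, 5, 7, 2, 8, 4, 8, 7, 7, 4, 8, 7, 7, 2, 4, 4, 5, 7, 2]) = true := by decide +kernel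

theorem rot8_141 : T.rot 8 [2, 4, 4, 5, 7, 2, 8, 4, 8, 7, 7, 2, 4, 4, 5, 7, 2, 8, 4, 8, 7, 7, 4, 8, 7, 7, 2, 4, 4, 5, 7, 2, 8, 4, 8, 7, 7, 2, 4, 4, 5, 7, 2] (sel (ones 4060) ip8 141) = true := by decide +kernel

theorem rot8_141r : band (Rule.ok (2 * 2) EX RL ⟨8 :: [2, 4, 4, 5, 7, 2, 8, 4, 8, 7, 7, 2, 4, 4, 5, 7, 2, 8, 4, 8, 7, 7, 4, 8, 7, 7, 2, 4, 4, 5, 7, 2, 8, 4, 8, 7, 7, 2, 4, 4, 5, 7, 2], [9, 2, 7, 8, 6, 6, 2, 7, 7, 9, 6, 9, 2, 7, 8, 6, 6, 2, 9], 6, true⟩) (lall (memL L) [2, 4, 4, 5, 7, 2, 8, 4, 8, 7, 7, 2, 4, 4, 5, 7, 2, 8, 4, 8, 7, 7, 4, 8, 7, 7, 2, 4, 4, 5, 7, 2, 8, 4, 8, 7, 7, 2, 4, 4, 5, 7, 2]) = true := by decide +kernel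

theorem rot8_142 : T.rot 8 [4, 8, 7, 7, 2, 4, 4, 5, 7, 2, 8, 4, 8, 7, 7, 4, 8, 7, 7, 2, 4, 4, 5, 7, 2, 8, 4, 8, 7, 7, 2, 4, 4, 5, 7, 2, 8, 2, 4, 4, 5, 7, 2] (sel (ones 4060) ip8 142) = true := by decide +kernel

theorem rot8_142r : band (Rule.ok (2 * 2) EX RL ⟨8 :: [4, 8, 7, 7, 2, 4, 4, 5, 7, 2, 8, 4, 8, 7, 7, 4, 8, 7, 7, 2, 4, 4, 5, 7, 2, 8, 4, 8, 7, 7, 2, 4, 4, 5, 7, 2, 8, 2, 4, 4, 5, 7, 2], [9, 2, 7, 8, 6, 6, 2, 7, 7, 9, 6, 9], 6, true⟩) (lall (memL L) [4, 8, 7, 7, 2, 4, 4, 5, 7, 2, 8, 4, 8, 7, 7, 4, 8, 7, 7, 2, 4, 4, 5, 7, 2, 8, 4, 8, 7, 7, 2, 4, 4, 5, 7, 2, 8, 2, 4, 4, 5, 7, 2]) = true := by decide +kernel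

theorem rot8_143 : T.rot 8 [7, 7, 2, 4, 4, 5, 7, 2, 8, 4, 8, 7, 7, 4, 8, 7, 7, 2, 4, 4, 5, 7, 2, 8, 4, 8, 7, 7, 2, 4, 4, 5, 7, 2, 8, 2, 4, 4, 5, 7, 2, 8, 4] (sel (ones 4060) ip8 143) = true := by decide +kernel

theorem rot8_143r : band (Rule.ok (2 * 2) EX RL ⟨8 :: [7, 7, 2, 4, 4, 5, 7, 2, 8, 4, 8, 7, 7, 4, 8, 7, 7, 2, 4, 4, 5, 7, 2, 8, 4, 8, 7, 7, 2, 4, 4, 5, 7, 2, 8, 2, 4, 4, 5, 7, 2, 8, 4], [9, 2, 7, 8, 6, 6, 2, 7, 7, 9], 6, true⟩) (lall (memL L) [7, 7, 2, 4, 4, 5, 7, 2, 8, 4, 8, 7, 7, 4, 8, 7, 7, 2, 4, 4, 5, 7, 2, 8, 4, 8, 7, 7, 2, 4, 4, 5, 7, 2, 8, 2, 4, 4, 5, 7, 2, 8, 4]) = true := by decide +kernel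

theorem rot8_144 : T.rot 8 [4, 8, 7, 7, 4, 8, 7, 7, 2, 4, 4, 5, 7, 2, 8, 4, 8, 7, 7, 2, 4, 4, 5, 7, 2, 8, 2, 4, 4, 5, 7, 2, 8, 4, 8, 7, 7, 2, 4, 4, 5, 7, 2] (sel (ones 4060) ip8 144) = true := by decide +kernel

theorem rot8_144r : band (Rule.ok (2 * 2) EX RL ⟨8 :: [4, 8, 7, 7, 4, 8, 7, 7, 2, 4, 4, 5, 7, 2, 8, 4, 8, 7, 7, 2, 4, 4, 5, 7, 2, 8, 2, 4, 4, 5, 7, 2, 8, 4, 8, 7, 7, 2, 4, 4, 5, 7, 2], [9], 6, true⟩) (lall (memL L) [4, 8, 7, 7, 4, 8, 7, 7, 2, 4, 4, 5, 7, 2, 8, 4, 8, 7, 7, 2, 4, 4, 5, 7, 2, 8, 2, 4, 4, 5, 7, 2, 8, 4, 8, 7, 7, 2, 4, 4, 5, 7, 2]) = true := by decide +kernel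

theorem rot8_145 : T.rot 8 [7, 7, 2, 4, 4, 5, 7, 5, 2, 4, 8, 7, 7, 2, 5, 2, 4, 8, 7, 7, 2, 4, 4, 5, 7, 5, 2, 4, 8, 7, 7, 2, 4, 4, 5, 7, 4, 4, 5, 7, 5, 2, 4] (sel (ones 4060) ip8 145) = true := by decide +kernel

theorem rot8_145r : band (Rule.ok (2 * 2) EX RL ⟨8 :: [7, 7, 2, 4, 4, 5, 7, 5, 2, 4, 8, 7, 7, 2, 5, 2, 4, 8, 7, 7, 2, 4, 4, 5, 7, 5, 2, 4, 8, 7, 7, 2, 4, 4, 5, 7, 4, 4, 5, 7, 5, 2, 4], [9, 2, 7], 6, false⟩) (lall (memL L) [7, 7, 2, 4, 4, 5, 7, 5, 2, 4, 8, 7, 7, 2, 5, 2, 4, 8, 7, 7, 2, 4, 4, 5, 7, 5, 2, 4, 8, 7, 7, 2, 4, 4, 5, 7, 4, 4, 5, 7, 5, 2, 4]) = true := by decide +kernel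

theorem rot8_146 : T.rot 8 [7, 7, 2, 5, 2, 4, 8, 7, 7, 2, 4, 4, 5, 7, 5, 2, 4, 8, 7, 7, 2, 4, 4, 5, 7, 4, 4, 5, 7, 5, 2, 4, 8, 7, 7, 2, 4, 4, 5, 7, 5, 2, 4] (sel (ones 4060) ip8 146) = true := by decide +kernel

theorem rot8_146r : band (Rule.ok (2 * 2) EX RL ⟨8 :: [7, 7, 2, 5, 2, 4, 8, 7, 7, 2, 4, 4, 5, 7, 5, 2, 4, 8, 7, 7, 2, 4, 4, 5, 7, 4, 4, 5, 7, 5, 2, 4, 8, 7, 7, 2, 4, 4, 5, 7, 5, 2, 4], [9, 2, 7, 8, 6, 6, 2, 7, 7, 9, 6, 9, 2, 7], 6, false⟩) (lall (memL L) [7, 7, 2, 5, 2, 4, 8, 7, 7, 2, 4, 4, 5, 7, 5, 2, 4, 8, 7, 7, 2, 4, 4, 5, 7, 4, 4, 5, 7, 5, 2, 4, 8, 7, 7, 2, 4, 4, 5, 7, 5, 2, 4]) = true := by decide +kernel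

theorem rot8_147 : T.rot 8 [7, 7, 2, 4, 4, 5, 7, 5, 2, 4, 8, 7, 7, 2, 4, 4, 5, 7, 4, 4, 5, 7, 5, 2, 4, 8, 7, 7, 2, 4, 4, 5, 7, 5, 2, 4, 8, 7, 7, 2, 5, 2, 4] (sel (ones 4060) ip8 147) = true := by decide +kernel

theorem rot8_147r : band (Rule.ok (2 * 2) EX RL ⟨8 :: [7, 7, 2, 4, 4, 5, 7, 5, 2, 4, 8, 7, 7, 2, 4, 4, 5, 7, 4, 4, 5, 7, 5, 2, 4, 8, 7, 7, 2, 4, 4, 5, 7, 5, 2, 4, 8, 7, 7, 2, 5, 2, 4], [7, 8, 6, 8, 6, 6, 2, 7, 7, 9, 6, 2, 8, 7, 8, 6, 6, 2, 7, 7, 9], 6, false⟩) (lall (memL L) [7, 7, 2, 4, 4, 5, 7, 5, 2, 4, 8, 7, 7, 2, 4, 4, 5, 7, 4, 4, 5, 7, 5, 2, 4, 8, 7, 7, 2, 4, 4, 5, 7, 5, 2, 4, 8, 7, 7, 2, 5, 2, 4]) = true := by decide +kernel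

theorem rot8_148 : T.rot 8 [7, 7, 2, 4, 4, 5, 7, 4, 4, 5, 7, 5, 2, 4, 8, 7, 7, 2, 4, 4, 5, 7, 5, 2, 4, 8, 7, 7, 2, 5, 2, 4, 8, 7, 7, 2, 4, 4, 5, 7, 5, 2, 4] (sel (ones 4060) ip8 148) = true := by decide +kernel

theorem rot8_148r : band (Rule.ok (2 * 2) EX RL ⟨8 :: [7, 7, 2, 4, 4, 5, 7, 4, 4, 5, 7, 5, 2, 4, 8, 7, 7, 2, 4, 4, 5, 7, 5, 2, 4, 8, 7, 7, 2, 5, 2, 4, 8, 7, 7, 2, 4, 4, 5, 7, 5, 2, 4], [7, 8, 6, 8, 6, 6, 2, 7, 7, 9], 6, false⟩) (lall (memL L) [7, 7, 2, 4, 4, 5, 7, 4, 4, 5, 7, 5, 2, 4, 8, 7, 7, 2, 4, 4, 5, 7, 5, 2, 4, 8, 7, 7, 2, 5, 2, 4, 8, 7, 7, 2, 4, 4, 5, 7, 5, 2, 4]) = true := by decide +kernel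

theorem rot8_149 : T.rot 8 [7, 7, 2, 4, 4, 5, 7, 2, 8, 4, 8, 7, 7, 2, 4, 4, 5, 7, 2, 8, 4, 8, 7, 7, 2, 4, 4, 5, 7, 2, 8, 4, 8, 7, 7, 2, 4, 4, 5, 7, 2, 8, 4] (sel (ones 4060) ip8 149) = true := by decide +kernel

theorem rot8_149r : band (Rule.ok (2 * 2) EX RL ⟨8 :: [7, 7, 2, 4, 4, 5, 7, 2, 8, 4, 8, 7, 7, 2, 4, 4, 5, 7, 2, 8, 4, 8, 7, 7, 2, 4, 4, 5, 7, 2, 8, 4, 8, 7, 7, 2, 4, 4, 5, 7, 2, 8, 4], [7], 7, true⟩) (lall (memL L) [7, 7, 2, 4, 4, 5, 7, 2, 8, 4, 8, 7, 7, 2, 4, 4, 5, 7, 2, 8, 4, 8, 7, 7, 2, 4, 4, 5, 7, 2, 8, 4, 8, 7, 7, 2, 4, 4, 5, 7, 2, 8, 4]) = true := by decide +kernel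

theorem rot8_150 : T.rot 8 [4, 8, 7, 7, 2, 4, 4, 5, 7, 2, 8, 4, 8, 7, 7, 2, 4, 4, 5, 7, 2, 8, 4, 8, 7, 7, 2, 4, 4, 5, 7, 2, 8, 4, 8, 7, 7, 2, 4, 4, 5, 7, 2] (sel (ones 4060) ip8 150) = true := by decide +kernel

theorem rot8_150r : band (Rule.ok (2 * 2) EX RL ⟨8 :: [4, 8, 7, 7, 2, 4, 4, 5, 7, 2, 8, 4, 8, 7, 7, 2, 4, 4, 5, 7, 2, 8, 4, 8, 7, 7, 2, 4, 4, 5, 7, 2, 8, 4, 8, 7, 7, 2, 4, 4, 5, 7, 2], [9], 7, true⟩) (lall (memL L) [4, 8, 7, 7, 2, 4, 4, 5, 7, 2, 8, 4, 8, 7, 7, 2, 4, 4, 5, 7, 2, 8, 4, 8, 7, 7, 2, 4, 4, 5, 7, 2, 8, 4, 8, 7, 7, 2, 4, 4, 5, 7, 2]) = true := by decide +kernel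

theorem rot8_151 : T.rot 8 [7, 7, 2, 4, 4, 5, 7, 5, 2, 4, 8, 7, 7, 2, 4, 4, 5, 7, 5, 2, 4, 8, 7, 7, 2, 4, 4, 5, 7, 5, 2, 4, 8, 7, 7, 2, 4, 4, 5, 7, 5, 2, 4] (sel (ones 4060) ip8 151) = true := by decide +kernel

theorem rot8_151r : band (Rule.ok (2 * 2) EX RL ⟨8 :: [7, 7, 2, 4, 4, 5, 7, 5, 2, 4, 8, 7, 7, 2, 4, 4, 5, 7, 5, 2, 4, 8, 7, 7, 2, 4, 4, 5, 7, 5, 2, 4, 8, 7, 7, 2, 4, 4, 5, 7, 5, 2, 4], [9, 2, 7], 7, false⟩) (lall (memL L) [7, 7, 2, 4, 4, 5, 7, 5, 2, 4, 8, 7, 7, 2, 4, 4, 5, 7, 5, 2, 4, 8, 7, 7, 2, 4, 4, 5, 7, 5, 2, 4, 8, 7, 7, 2, 4, 4, 5, 7, 5, 2, 4]) = true := by decide +kernel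

theorem cov8 : T.cover 8 [(sel (ones 4060) ip8 1), (sel (ones 4060) ip8 2), (sel (ones 4060) ip8 3), (sel (ones 4060) ip8 4), (sel (ones 4060) ip8 5), (sel (ones 4060) ip8 6), (sel (ones 4060) ip8 7), (sel (ones 4060) ip8 8), (sel (ones 4060) ip8 9), (sel (ones 4060) ip8 10), (sel (ones 4060) ip8 11), (sel (ones 4060) ip8 12), (sel (ones 4060) ip8 13), (sel (ones 4060) ip8 14), (sel (ones 4060) ip8 15), (sel (ones 4060) ip8 16), (sel (ones 4060) ip8 17), (sel (ones 4060) ip8 18), (sel (ones 4060) ip8 19), (sel (ones 4060) ip8 20), (sel (ones 4060) ip8 21), (sel (ones 4060) ip8 22), (sel (ones 4060) ip8 23), (sel (ones 4060) ip8 24), (sel (ones 4060) ip8 25), (sel (ones 4060) ip8 26), (sel (ones 4060) ip8 27), (sel (ones 4060) ip8 28), (sel (ones 4060) ip8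 29), (sel (ones 4060) ip8 30), (sel (ones 4060) ip8 31), (sel (ones 4060) ip8 32), (sel (ones 4060) ip8 33), (sel (ones 4060) ip8 34), (sel (ones 4060) ip8 35), (sel (ones 4060) ip8 36), (sel (ones 4060) ip8 37), (sel (ones 4060) ip8 38), (sel (ones 4060) ip8 39), (sel (ones 4060) ip8 40), (sel (ones 4060) ip8 41), (sel (ones 4060) ip8 42), (sel (ones 4060) ip8 43), (sel (ones 4060) ip8 44), (sel (ones 4060) ip8 45), (sel (ones 4060) ip8 46), (sel (ones 4060) ip8 47), (sel (ones 4060) ip8 48), (sel (ones 4060) ip8 49), (sel (ones 4060) ip8 50), (sel (ones 4060) ip8 51), (sel (ones 4060) ip8 52), (sel (ones 4060) ip8 53), (sel (ones 4060) ip8 54), (sel (ones 4060) ip8 55), (sel (ones 4060) ip8 56), (sel (ones 4060) ip8 57), (sel (ones 4060) ip8 58), (sel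 (ones 4060) ip8 59), (sel (ones 4060) ip8 60), (sel (ones 4060) ip8 61), (sel (ones 4060) ip8 62), (sel (ones 4060) ip8 63), (sel (ones 4060) ip8 64), (sel (ones 4060) ip8 65), (sel (ones 4060) ip8 66), (sel (ones 4060) ip8 67), (sel (ones 4060) ip8 68), (sel (ones 4060) ip8 69), (sel (ones 4060) ip8 70), (sel (ones 4060) ip8 71), (sel (ones 4060) ip8 72), (sel (ones 4060) ip8 73), (sel (ones 4060) ip8 74), (sel (ones 4060) ip8 75), (sel (ones 4060) ip8 76), (sel (ones 4060) ip8 77), (sel (ones 4060) ip8 78), (sel (ones 4060) ip8 79), (sel (ones 4060) ip8 80), (sel (ones 4060) ip8 81), (sel (ones 4060) ip8 82), (sel (ones 4060) ip8 83), (sel (ones 4060) ip8 84), (sel (ones 4060) ip8 85), (sel (ones 4060) ip8 86), (sel (ones 4060) ip8 87), (sel (ones 4060)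 ip8 88), (sel (ones 4060) ip8 89), (sel (ones 4060) ip8 90), (sel (ones 4060) ip8 91), (sel (ones 4060) ip8 92), (sel (ones 4060) ip8 93), (sel (ones 4060) ip8 94), (sel (ones 4060) ip8 95), (sel (ones 4060) ip8 96), (sel (ones 4060) ip8 97), (sel (ones 4060) ip8 98), (sel (ones 4060) ip8 99), (sel (ones 4060) ip8 100), (sel (ones 4060) ip8 101), (sel (ones 4060) ip8 102), (sel (ones 4060) ip8 103), (sel (ones 4060) ip8 104), (sel (ones 4060) ip8 105), (sel (ones 4060) ip8 106), (sel (ones 4060) ip8 107), (sel (ones 4060) ip8 108), (sel (ones 4060) ip8 109), (sel (ones 4060) ip8 110), (sel (ones 4060) ip8 111), (sel (ones 4060) ip8 112), (sel (ones 4060) ip8 113), (sel (ones 4060) ip8 114), (sel (ones 4060) ip8 115), (sel (ones 4060) ip8 116), (sel (ones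 4060) ip8 117), (sel (ones 4060) ip8 118), (sel (ones 4060) ip8 119), (sel (ones 4060) ip8 120), (sel (ones 4060) ip8 121), (sel (ones 4060) ip8 122), (sel (ones 4060) ip8 123), (sel (ones 4060) ip8 124), (sel (ones 4060) ip8 125), (sel (ones 4060) ip8 126), (sel (ones 4060) ip8 127), (sel (ones 4060) ip8 128), (sel (ones 4060) ip8 129), (sel (ones 4060) ip8 130), (sel (ones 4060) ip8 131), (sel (ones 4060) ip8 132), (sel (ones 4060) ip8 133), (sel (ones 4060) ip8 134), (sel (ones 4060) ip8 135), (sel (ones 4060) ip8 136), (sel (ones 4060) ip8 137), (sel (ones 4060) ip8 138), (sel (ones 4060) ip8 139), (sel (ones 4060) ip8 140), (sel (ones 4060) ip8 141), (sel (ones 4060) ip8 142), (sel (ones 4060) ip8 143), (sel (ones 4060) ip8 144), (sel (ones 4060) ip8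 145), (sel (ones 4060) ip8 146), (sel (ones 4060) ip8 147), (sel (ones 4060) ip8 148), (sel (ones 4060) ip8 149), (sel (ones 4060) ip8 150), (sel (ones 4060) ip8 151)] = true := by decide +kernel

theorem tl8 : T.treeLt 12 8 = true := by decide +kernel

end Cfsg.Agent.Spor.Rua
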