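import Cfsg.Agent.Spor.Cert
import Cfsg.Agent.Spor.Rua.C0
import Cfsg.Agent.Spor.Rua.C1
import Cfsg.Agent.Spor.Rua.C2
import Cfsg.Agent.Spor.Rua.C3

set_option autoImplicit false
set_option maxRecDepth 100000000
set_option Elab.async false
set_option linter.unusedSectionVars false

namespace Cfsg.Agent.Spor.Rua

theorem hT : T.Ok 12 := T.ok_of 12 (show AllP (fun n => Net.okb 12 n = true) [n0, n1, n2, n3, n4] from AllP.cons ok0 (AllP.cons ok1 (AllP.cons ok2 (AllP.cons ok3 (AllP.cons ok4 (AllP.nil))))))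

noncomputable def fP : ℕ → Equiv.Perm ℕ := T.fP gs

theorem hsq : ∀ j < 2, j < 5 → T.fP gs j * T.fP gs j = 1 :=
  Tab.sq (show AllP (fun z => evA T.τ [z, z] = 1) [1, 2] from AllP.cons (hT.one rel0) (AllP.cons (hT.one rel1) (AllP.nil))) 5 rfl

theorem hiv : IvOk (2 * 2) (atm 5 (T.fP gs)) := ivOk_atm hsq

theorem pz1 : PZ T (atm 5 (T.fP gs)) EX 1 := PZ.of_atom (y := 2 * 0) (by decide +kernel) (atm_two_mul _ (by decide))
theorem pz2 : PZ T (atm 5 (T.fP gs)) EX 2 := PZ.of_atom (y := 2 * 1) (by decide +kernel) (atm_two_mul _ (by decide))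
theorem pz3 : PZ T (atm 5 (T.fP gs)) EX 3 := PZ.of_atom (y := 2 * 2) (by decide +kernel) (atm_two_mul _ (by decide))
theorem pz4 : PZ T (atm 5 (T.fP gs)) EX 4 := PZ.of_atom (y := 2 * 3) (by decide +kernel) (atm_two_mul _ (by decide))
theorem pz5 : PZ T (atm 5 (T.fP gs)) EX 5 := PZ.of_atom (y := 2 * 4) (by decide +kernel) (atm_two_mul _ (by decide))
theorem pz6 : PZ T (atm 5 (T.fP gs)) EX 6 := PZ.of_inv hiv pz3 (by decide +kernel)
theorem pz7 : PZ T (atm 5 (T.fP gs)) EX 7 := PZ.of_inv hiv pz4 (by decide +kernel)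
theorem pz8 : PZ T (atm 5 (T.fP gs)) EX 8 := PZ.of_inv hiv pz5 (by decide +kernel)
theorem hPZ : AllP (PZ T (atm 5 (T.fP gs)) EX) L :=
  show AllP (PZ T (atm 5 (T.fP gs)) EX) [1, 2, 3, 4, 5, 6, 7, 8] from AllP.cons pz1 (AllP.cons pz2 (AllP.cons pz3 (AllP.cons pz4 (AllP.cons pz5 (AllP.cons pz6 (AllP.cons pz7 (AllP.cons pz8 (AllP.nil))))))))

theorem hrel : ∀ l ∈ RL, ev (atm 5 (T.fP gs)) l = 1 :=
  relAll_sound hiv (W := [[2, 4, 4, 5, 7, 2, 8, 2, 4, 4, 5, 7, 2, 8, 2, 4, 4, 5, 7, 2, 8, 2, 4, 4, 5, 7, 2, 8], [4, 8, 7, 7, 8, 2, 4, 4, 5, 7, 2, 4, 4, 5, 7, 2, 4, 4, 5, 7, 2, 8, 2, 4, 8, 7, 7, 2, 5, 5, 2, 4, 8, 7, 7, 2], [8, 2, 4, 4, 5, 7, 2, 8, 2, 4, 4, 5, 7, 2, 2, 4, 4, 5, 7, 2, 8, 2, 4, 8, 7, 7, 2, 5, 2, 4, 8, 7, 7, 2, 5, 5, 2, 4, 8, 7, 7, 2], [8, 2, 4, 4, 5, 7, 2, 4, 8, 7, 7, 8, 2, 4, 4, 5, 7, 2, 8, 2, 4, 4, 5, 7, 2, 4, 4, 5, 7, 8, 2, 4, 4, 5, 7, 2], [4, 8, 7, 7, 4, 8, 7, 7, 8,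 2, 4, 4, 5, 7, 2, 5, 2, 4, 8, 7, 7, 2, 8, 2, 4, 4, 5, 7, 2, 2, 4, 4, 5, 7, 2, 8], [4, 8, 7, 7, 4, 8, 7, 7, 4, 8, 7, 7, 4, 8, 7, 7], [4, 8, 7, 7, 4, 8, 7, 7, 2, 4, 4, 5, 7, 2, 8, 4, 8, 7, 7, 2, 4, 4, 5, 7, 2, 8, 2, 4, 4, 5, 7, 2, 8, 4, 8, 7, 7, 2, 4, 4, 5, 7, 2, 8], [4, 8, 7, 7, 2, 4, 4, 5, 7, 2, 8, 4, 8, 7, 7, 2, 4, 4, 5, 7, 2, 8, 4, 8, 7, 7, 2, 4, 4, 5, 7, 2, 8, 4, 8, 7, 7, 2, 4, 4, 5, 7, 2, 8], [5, 5, 5, 2, 4, 4, 5, 7, 2, 2, 4, 8, 7, 7, 2, 5], [5, 4, 8, 7, 7, 8, 8, 2, 4, 4, 5, 7, 2, 4, 4, 5, 7, 5, 2, 4, 8, 7, 7, 2], [5, 5, 4, 8, 7, 7, 2, 4, 8, 7, 7, 2, 8, 5, 2, 4, 8, 7, 7, 2, 2, 4, 8, 7, 7, 2, 5, 5, 2, 4, 8, 7, 7, 2, 4, 4, 5, 7], [5, 2, 4, 4, 5, 7, 2, 2, 4, 4, 5, 7, 2, 2, 4, 4, 5, 7, 2, 2, 4, 4, 5, 7, 2, 8], [4, 2, 4, 8, 7, 7, 2, 7, 4, 8, 7, 7, 8, 2, 4, 4, 5, 7, 2, 5, 4, 4, 5, 7], [4, 5, 5, 4, 2, 4, 8, 7, 7, 2, 5, 4, 4, 5, 7, 2, 4, 4, 5, 7, 2], [4, 5, 2, 4, 8, 7, 7, 2,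 8, 7, 2, 4, 4, 5, 7, 2, 4, 4, 5, 7, 8, 2, 4, 4, 5, 7, 2, 2, 4, 4, 5, 7, 2], [4, 5, 7, 7, 2, 8, 2, 8, 7, 5, 4], [2, 4, 2, 4, 2, 5, 7, 2, 7, 7, 2, 8, 4, 8, 2, 7, 2, 7, 2, 4, 5], [2, 4, 5, 4, 4, 2, 7, 7, 8, 7, 2, 4, 5, 2, 4, 4, 5, 7, 2, 7, 2, 4, 8, 7, 7, 2, 4, 8, 7], [4, 4, 4, 4, 4], [3, 3, 3, 3], [4, 5, 7, 5, 6, 4, 4, 6], [3, 8, 8, 2, 8, 4, 8, 7, 7, 2], [1, 2, 4, 3, 7, 7, 2, 1, 2, 4, 4, 8, 4, 2], [1, 2, 7, 3, 4, 4, 2, 1, 8, 8, 2, 5, 2], [1, 4, 1, 7, 7, 8, 2, 5, 2, 7, 7], [1, 2, 1, 7, 8, 6, 4, 2, 1, 8, 8, 2, 8, 4, 5, 4, 4, 2], [1, 2, 1, 4, 2, 1, 2, 7, 2, 1, 4, 8, 7, 7, 8, 2, 4, 4, 2, 5], [2, 7, 2, 8, 7, 7, 3, 5, 6, 4, 2, 4, 2, 3], [5, 7, 2, 3, 2, 6, 6, 7, 5], [1, 2, 1, 4, 2, 7, 6, 2, 1, 2, 4, 2, 4, 2, 1, 2, 8, 7, 2, 8, 7, 5, 7, 5, 2], [2, 8, 4, 5, 2, 3, 2, 4, 4, 2, 6], [1, 2, 4, 2, 7, 2, 1, 5, 7, 1, 7, 2, 4, 4, 2, 4, 2, 1, 7, 5, 7, 7, 5]]) (rules := [⟨[2, 4, 4, 5, 7, 2, 8, 2,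 4, 4, 5, 7, 2, 8, 2, 4, 4, 5, 7, 2, 8, 2, 4, 4, 5, 7, 2, 8], [], 0, true⟩, ⟨[4, 8, 7, 7, 8, 2, 4, 4, 5, 7, 2, 4, 4, 5, 7, 2, 4, 4, 5, 7, 2, 8, 2, 4, 8, 7, 7, 2, 5, 5, 2, 4, 8, 7, 7, 2], [], 1, true⟩, ⟨[8, 2, 4, 4, 5, 7, 2, 8, 2, 4, 4, 5, 7, 2, 2, 4, 4, 5, 7, 2, 8, 2, 4, 8, 7, 7, 2, 5, 2, 4, 8, 7, 7, 2, 5, 5, 2, 4, 8, 7, 7, 2], [], 2, true⟩, ⟨[8, 2, 4, 4, 5, 7, 2, 4, 8, 7, 7, 8, 2, 4, 4, 5, 7, 2, 8, 2, 4, 4, 5, 7, 2, 4, 4, 5, 7, 8, 2, 4, 4, 5, 7, 2], [], 3, true⟩, ⟨[4, 8, 7, 7, 4, 8, 7, 7, 8, 2, 4, 4, 5, 7, 2, 5, 2, 4, 8, 7, 7, 2, 8, 2, 4, 4, 5, 7, 2, 2, 4, 4, 5, 7, 2, 8], [], 4, true⟩, ⟨[4, 8, 7, 7, 4, 8, 7, 7, 4, 8, 7, 7, 4, 8, 7, 7], [], 5, true⟩, ⟨[4, 8, 7, 7, 4, 8, 7, 7, 2, 4, 4, 5, 7, 2, 8, 4, 8, 7, 7, 2, 4, 4, 5, 7, 2, 8, 2, 4, 4, 5, 7, 2, 8, 4, 8, 7, 7, 2, 4, 4, 5, 7, 2, 8], [], 6, true⟩, ⟨[4, 8, 7, 7, 2, 4, 4, 5, 7, 2, 8, 4, 8, 7, 7, 2, 4, 4, 5, 7, 2, 8, 4, 8, 7,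 7, 2, 4, 4, 5, 7, 2, 8, 4, 8, 7, 7, 2, 4, 4, 5, 7, 2, 8], [], 7, true⟩, ⟨[5, 5, 5, 2, 4, 4, 5, 7, 2, 2, 4, 8, 7, 7, 2, 5], [], 8, true⟩, ⟨[5, 4, 8, 7, 7, 8, 8, 2, 4, 4, 5, 7, 2, 4, 4, 5, 7, 5, 2, 4, 8, 7, 7, 2], [], 9, true⟩, ⟨[5, 5, 4, 8, 7, 7, 2, 4, 8, 7, 7, 2, 8, 5, 2, 4, 8, 7, 7, 2, 2, 4, 8, 7, 7, 2, 5, 5, 2, 4, 8, 7, 7, 2, 4, 4, 5, 7], [], 10, true⟩, ⟨[5, 2, 4, 4, 5, 7, 2, 2, 4, 4, 5, 7, 2, 2, 4, 4, 5, 7, 2, 2, 4, 4, 5, 7, 2, 8], [], 11, true⟩, ⟨[4, 2, 4, 8, 7, 7, 2, 7, 4, 8, 7, 7, 8, 2, 4, 4, 5, 7, 2, 5, 4, 4, 5, 7], [], 12, true⟩, ⟨[4, 5, 5, 4, 2, 4, 8, 7, 7, 2, 5, 4, 4, 5, 7, 2, 4, 4, 5, 7, 2], [], 13, true⟩, ⟨[4, 5, 2, 4, 8, 7, 7, 2, 8, 7, 2, 4, 4, 5, 7, 2, 4, 4, 5, 7, 8, 2, 4, 4, 5, 7, 2, 2, 4, 4, 5, 7, 2], [], 14, true⟩, ⟨[4, 5, 7, 7, 2, 8, 2, 8, 7, 5, 4], [], 15, true⟩, ⟨[2, 4, 2, 4, 2, 5, 7, 2, 7, 7, 2, 8, 4, 8, 2, 7, 2, 7, 2, 4, 5], [], 16, true⟩, ⟨[2, 4, 5,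 4, 4, 2, 7, 7, 8, 7, 2, 4, 5, 2, 4, 4, 5, 7, 2, 7, 2, 4, 8, 7, 7, 2, 4, 8, 7], [], 17, true⟩, ⟨[4, 4, 4, 4, 4], [], 18, true⟩, ⟨[3, 3, 3, 3], [], 19, true⟩, ⟨[4, 5, 7, 5, 6, 4, 4, 6], [], 20, true⟩, ⟨[3, 8, 8, 2, 8, 4, 8, 7, 7, 2], [], 21, true⟩, ⟨[1, 2, 4, 3, 7, 7, 2, 1, 2, 4, 4, 8, 4, 2], [], 22, true⟩, ⟨[1, 2, 7, 3, 4, 4, 2, 1, 8, 8, 2, 5, 2], [], 23, true⟩, ⟨[1, 4, 1, 7, 7, 8, 2, 5, 2, 7, 7], [], 24, true⟩, ⟨[1, 2, 1, 7, 8, 6, 4, 2, 1, 8, 8, 2, 8, 4, 5, 4, 4, 2], [], 25, true⟩, ⟨[1, 2, 1, 4, 2, 1, 2, 7, 2, 1, 4, 8, 7, 7, 8, 2, 4, 4, 2, 5], [], 26, true⟩, ⟨[2, 7, 2, 8, 7, 7, 3, 5, 6, 4, 2, 4, 2, 3], [], 27, true⟩, ⟨[5, 7, 2, 3, 2, 6, 6, 7, 5], [], 28, true⟩, ⟨[1, 2, 1, 4, 2, 7, 6, 2, 1, 2, 4, 2, 4, 2, 1, 2, 8, 7, 2, 8, 7, 5, 7, 5, 2], [], 29, true⟩, ⟨[2, 8, 4, 5, 2, 3, 2, 4, 4, 2, 6], [], 30, true⟩, ⟨[1, 2, 4, 2, 7, 2, 1, 5, 7, 1, 7, 2, 4, 4, 2, 4, 2, 1, 7, 5, 7, 7, 5],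 [], 31, true⟩]) hPZ (AllP.cons (hT.one rel2) (AllP.cons (hT.one rel3) (AllP.cons (hT.one rel4) (AllP.cons (hT.one rel5) (AllP.cons (hT.one rel6) (AllP.cons (hT.one rel7) (AllP.cons (hT.one rel8) (AllP.cons (hT.one rel9) (AllP.cons (hT.one rel10) (AllP.cons (hT.one rel11) (AllP.cons (hT.one rel12) (AllP.cons (hT.one rel13) (AllP.cons (hT.one rel14) (AllP.cons (hT.one rel15) (AllP.cons (hT.one rel16) (AllP.cons (hT.one rel17) (AllP.cons (hT.one rel18) (AllP.cons (hT.one rel19) (AllP.cons (hT.one rel20) (AllP.cons (hT.one rel21) (AllP.cons (hT.one rel22) (AllP.cons (hT.one rel23) (AllP.cons (hT.one rel24) (AllP.cons (hT.one rel25) (AllP.cons (hT.one rel26) (AllP.cons (hT.one rel27) (AllP.cons (hT.one rel28) (AllP.cons (hT.one rel29) (AllP.cons (hT.one rel30) (AllP.cons (hT.one rel31) (AllP.cons (hT.one rel32) (AllP.cons (hT.one rel33) (AllP.nil)))))))))))))))))))))))))))))))))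 (by decide +kernel)

section
variable {G : Type} [Group G] {a : ℕ → G} (hi : IvOk (2 * 2) a) (hR : ∀ r ∈ RL, ev a r = 1)
  {H : Subgroup G} (hb : ∀ z ∈ base, letV a EX z ∈ H)
include hi hR hb

theorem let1 : LetOk H (letV a EX) T L 1 :=
  LetOk.of hT tl1 cov1 (AllP.cons (Just.rot hT hi hR rot1_1 rot1_1r) (AllP.cons (Just.rot hT hi hR rot1_2 rot1_2r) (AllP.cons (Just.rot hT hi hR rot1_3 rot1_3r) (AllP.cons (Just.rot hT hi hR rot1_4 rot1_4r) (AllP.cons (Just.rot hT hi hR rot1_5 rot1_5r) (AllP.cons (Just.rot hT hi hR rot1_6 rot1_6r) (AllP.cons (Just.rot hT hi hR rot1_7 rot1_7r) (AllP.cons (Just.rot hT hi hR rot1_8 rot1_8r) (AllP.cons (Just.rot hT hi hR rot1_9 rot1_9r) (AllP.cons (Just.rot hT hi hR rot1_10 rot1_10r) (AllP.cons (Just.rot hT hi hR rot1_11 rot1_11r) (AllP.cons (Just.rot hT hi hR rot1_12 rot1_12r) (AllP.cons (Just.rot hT hi hR rot1_13 rot1_13r) (AllP.cons (Just.rot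 hT hi hR rot1_14 rot1_14r) (AllP.cons (Just.rot hT hi hR rot1_15 rot1_15r) (AllP.cons (Just.rot hT hi hR rot1_16 rot1_16r) (AllP.cons (Just.rot hT hi hR rot1_17 rot1_17r) (AllP.cons (Just.rot hT hi hR rot1_18 rot1_18r) (AllP.cons (Just.rot hT hi hR rot1_19 rot1_19r) (AllP.cons (Just.rot hT hi hR rot1_20 rot1_20r) (AllP.cons (Just.rot hT hi hR rot1_21 rot1_21r) (AllP.cons (Just.rot hT hi hR rot1_22 rot1_22r) (AllP.cons (Just.rot hT hi hR rot1_23 rot1_23r) (AllP.cons (Just.rot hT hi hR rot1_24 rot1_24r) (AllP.cons (Just.rot hT hi hR rot1_25 rot1_25r) (AllP.cons (Just.rot hT hi hR rot1_26 rot1_26r) (AllP.cons (Just.rot hT hi hR rot1_27 rot1_27r) (AllP.cons (Just.rot hT hi hR rot1_28 rot1_28r) (AllP.cons (Just.rot hT hi hR rot1_29 rot1_29r) (AllP.cons (Just.rot hT hi hR rot1_30 rot1_30r) (AllP.cons (Just.rot hT hi hR rot1_31 rot1_31r) (AllP.cons (Just.rot hT hi hR rot1_32 rot1_32r)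 (AllP.cons (Just.rot hT hi hR rot1_33 rot1_33r) (AllP.cons (Just.rot hT hi hR rot1_34 rot1_34r) (AllP.cons (Just.rot hT hi hR rot1_35 rot1_35r) (AllP.cons (Just.rot hT hi hR rot1_36 rot1_36r) (AllP.cons (Just.rot hT hi hR rot1_37 rot1_37r) (AllP.cons (Just.rot hT hi hR rot1_38 rot1_38r) (AllP.cons (Just.rot hT hi hR rot1_39 rot1_39r) (AllP.cons (Just.rot hT hi hR rot1_40 rot1_40r) (AllP.cons (Just.rot hT hi hR rot1_41 rot1_41r) (AllP.cons (Just.rot hT hi hR rot1_42 rot1_42r) (AllP.cons (Just.rot hT hi hR rot1_43 rot1_43r) (AllP.nil))))))))))))))))))))))))))))))))))))))))))))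
theorem let2 : LetOk H (letV a EX) T L 2 :=
  LetOk.of hT tl2 cov2 (AllP.cons (Just.rot hT hi hR rot2_1 rot2_1r) (AllP.cons (Just.rot hT hi hR rot2_2 rot2_2r) (AllP.cons (Just.rot hT hi hR rot2_3 rot2_3r) (AllP.cons (Just.rot hT hi hR rot2_4 rot2_4r) (AllP.cons (Just.rot hT hi hR rot2_5 rot2_5r) (AllP.cons (Just.rot hT hi hR rot2_6 rot2_6r) (AllP.cons (Just.rot hT hi hR rot2_7 rot2_7r) (AllP.cons (Just.rot hT hi hR rot2_8 rot2_8r) (AllP.cons (Just.rot hT hi hR rot2_9 rot2_9r) (AllP.cons (Just.rot hT hi hR rot2_10 rot2_10r) (AllP.cons (Just.rot hT hi hR rot2_11 rot2_11r) (AllP.cons (Just.rot hT hi hR rot2_12 rot2_12r) (AllP.cons (Just.rot hT hi hR rot2_13 rot2_13r) (AllP.cons (Just.rot hT hi hR rot2_14 rot2_14r) (AllP.cons (Just.rot hT hi hR rot2_15 rot2_15r) (AllP.cons (Just.rot hT hi hR rot2_16 rot2_16r) (AllP.cons (Just.rot hT hi hR rot2_17 rot2_17r) (AllP.cons (Just.rot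 hT hi hR rot2_18 rot2_18r) (AllP.cons (Just.rot hT hi hR rot2_19 rot2_19r) (AllP.cons (Just.rot hT hi hR rot2_20 rot2_20r) (AllP.cons (Just.rot hT hi hR rot2_21 rot2_21r) (AllP.cons (Just.rot hT hi hR rot2_22 rot2_22r) (AllP.cons (Just.rot hT hi hR rot2_23 rot2_23r) (AllP.cons (Just.rot hT hi hR rot2_24 rot2_24r) (AllP.cons (Just.rot hT hi hR rot2_25 rot2_25r) (AllP.cons (Just.rot hT hi hR rot2_26 rot2_26r) (AllP.cons (Just.rot hT hi hR rot2_27 rot2_27r) (AllP.cons (Just.rot hT hi hR rot2_28 rot2_28r) (AllP.cons (Just.rot hT hi hR rot2_29 rot2_29r) (AllP.cons (Just.rot hT hi hR rot2_30 rot2_30r) (AllP.cons (Just.rot hT hi hR rot2_31 rot2_31r) (AllP.cons (Just.rot hT hi hR rot2_32 rot2_32r) (AllP.cons (Just.rot hT hi hR rot2_33 rot2_33r) (AllP.cons (Just.rot hT hi hR rot2_34 rot2_34r) (AllP.cons (Just.rot hT hi hR rot2_35 rot2_35r) (AllP.cons (Just.rot hT hi hR rot2_36 rot2_36r)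 (AllP.cons (Just.rot hT hi hR rot2_37 rot2_37r) (AllP.cons (Just.rot hT hi hR rot2_38 rot2_38r) (AllP.cons (Just.rot hT hi hR rot2_39 rot2_39r) (AllP.cons (Just.rot hT hi hR rot2_40 rot2_40r) (AllP.cons (Just.rot hT hi hR rot2_41 rot2_41r) (AllP.cons (Just.rot hT hi hR rot2_42 rot2_42r) (AllP.cons (Just.rot hT hi hR rot2_43 rot2_43r) (AllP.cons (Just.rot hT hi hR rot2_44 rot2_44r) (AllP.cons (Just.rot hT hi hR rot2_45 rot2_45r) (AllP.cons (Just.rot hT hi hR rot2_46 rot2_46r) (AllP.cons (Just.rot hT hi hR rot2_47 rot2_47r) (AllP.cons (Just.rot hT hi hR rot2_48 rot2_48r) (AllP.cons (Just.rot hT hi hR rot2_49 rot2_49r) (AllP.cons (Just.rot hT hi hR rot2_50 rot2_50r) (AllP.cons (Just.rot hT hi hR rot2_51 rot2_51r) (AllP.cons (Just.rot hT hi hR rot2_52 rot2_52r) (AllP.cons (Just.rot hT hi hR rot2_53 rot2_53r) (AllP.cons (Just.rot hT hi hR rot2_54 rot2_54r) (AllP.cons (Just.rot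 hT hi hR rot2_55 rot2_55r) (AllP.cons (Just.rot hT hi hR rot2_56 rot2_56r) (AllP.cons (Just.rot hT hi hR rot2_57 rot2_57r) (AllP.cons (Just.rot hT hi hR rot2_58 rot2_58r) (AllP.cons (Just.rot hT hi hR rot2_59 rot2_59r) (AllP.cons (Just.rot hT hi hR rot2_60 rot2_60r) (AllP.cons (Just.rot hT hi hR rot2_61 rot2_61r) (AllP.cons (Just.rot hT hi hR rot2_62 rot2_62r) (AllP.cons (Just.rot hT hi hR rot2_63 rot2_63r) (AllP.cons (Just.rot hT hi hR rot2_64 rot2_64r) (AllP.cons (Just.rot hT hi hR rot2_65 rot2_65r) (AllP.cons (Just.rot hT hi hR rot2_66 rot2_66r) (AllP.cons (Just.rot hT hi hR rot2_67 rot2_67r) (AllP.cons (Just.rot hT hi hR rot2_68 rot2_68r) (AllP.cons (Just.rot hT hi hR rot2_69 rot2_69r) (AllP.cons (Just.rot hT hi hR rot2_70 rot2_70r) (AllP.cons (Just.rot hT hi hR rot2_71 rot2_71r) (AllP.cons (Just.rot hT hi hR rot2_72 rot2_72r) (AllP.cons (Just.rot hT hi hR rot2_73 rot2_73r)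 (AllP.cons (Just.rot hT hi hR rot2_74 rot2_74r) (AllP.cons (Just.rot hT hi hR rot2_75 rot2_75r) (AllP.cons (Just.rot hT hi hR rot2_76 rot2_76r) (AllP.cons (Just.rot hT hi hR rot2_77 rot2_77r) (AllP.cons (Just.rot hT hi hR rot2_78 rot2_78r) (AllP.cons (Just.rot hT hi hR rot2_79 rot2_79r) (AllP.cons (Just.rot hT hi hR rot2_80 rot2_80r) (AllP.cons (Just.rot hT hi hR rot2_81 rot2_81r) (AllP.cons (Just.rot hT hi hR rot2_82 rot2_82r) (AllP.cons (Just.rot hT hi hR rot2_83 rot2_83r) (AllP.cons (Just.rot hT hi hR rot2_84 rot2_84r) (AllP.cons (Just.rot hT hi hR rot2_85 rot2_85r) (AllP.cons (Just.rot hT hi hR rot2_86 rot2_86r) (AllP.cons (Just.rot hT hi hR rot2_87 rot2_87r) (AllP.cons (Just.rot hT hi hR rot2_88 rot2_88r) (AllP.cons (Just.rot hT hi hR rot2_89 rot2_89r) (AllP.cons (Just.rot hT hi hR rot2_90 rot2_90r) (AllP.cons (Just.rot hT hi hR rot2_91 rot2_91r) (AllP.cons (Just.rot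 hT hi hR rot2_92 rot2_92r) (AllP.cons (Just.rot hT hi hR rot2_93 rot2_93r) (AllP.cons (Just.rot hT hi hR rot2_94 rot2_94r) (AllP.cons (Just.rot hT hi hR rot2_95 rot2_95r) (AllP.cons (Just.rot hT hi hR rot2_96 rot2_96r) (AllP.cons (Just.rot hT hi hR rot2_97 rot2_97r) (AllP.cons (Just.rot hT hi hR rot2_98 rot2_98r) (AllP.cons (Just.rot hT hi hR rot2_99 rot2_99r) (AllP.cons (Just.rot hT hi hR rot2_100 rot2_100r) (AllP.cons (Just.rot hT hi hR rot2_101 rot2_101r) (AllP.cons (Just.rot hT hi hR rot2_102 rot2_102r) (AllP.cons (Just.rot hT hi hR rot2_103 rot2_103r) (AllP.cons (Just.rot hT hi hR rot2_104 rot2_104r) (AllP.cons (Just.rot hT hi hR rot2_105 rot2_105r) (AllP.cons (Just.rot hT hi hR rot2_106 rot2_106r) (AllP.cons (Just.rot hT hi hR rot2_107 rot2_107r) (AllP.cons (Just.rot hT hi hR rot2_108 rot2_108r) (AllP.cons (Just.rot hT hi hR rot2_109 rot2_109r) (AllP.cons (Just.rot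 hT hi hR rot2_110 rot2_110r) (AllP.cons (Just.rot hT hi hR rot2_111 rot2_111r) (AllP.cons (Just.rot hT hi hR rot2_112 rot2_112r) (AllP.cons (Just.rot hT hi hR rot2_113 rot2_113r) (AllP.cons (Just.rot hT hi hR rot2_114 rot2_114r) (AllP.cons (Just.rot hT hi hR rot2_115 rot2_115r) (AllP.cons (Just.rot hT hi hR rot2_116 rot2_116r) (AllP.cons (Just.rot hT hi hR rot2_117 rot2_117r) (AllP.cons (Just.rot hT hi hR rot2_118 rot2_118r) (AllP.cons (Just.rot hT hi hR rot2_119 rot2_119r) (AllP.cons (Just.rot hT hi hR rot2_120 rot2_120r) (AllP.cons (Just.rot hT hi hR rot2_121 rot2_121r) (AllP.cons (Just.rot hT hi hR rot2_122 rot2_122r) (AllP.cons (Just.rot hT hi hR rot2_123 rot2_123r) (AllP.cons (Just.rot hT hi hR rot2_124 rot2_124r) (AllP.cons (Just.rot hT hi hR rot2_125 rot2_125r) (AllP.cons (Just.rot hT hi hR rot2_126 rot2_126r) (AllP.cons (Just.rot hT hi hR rot2_127 rot2_127r) (AllP.cons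 (Just.rot hT hi hR rot2_128 rot2_128r) (AllP.cons (Just.rot hT hi hR rot2_129 rot2_129r) (AllP.cons (Just.rot hT hi hR rot2_130 rot2_130r) (AllP.cons (Just.rot hT hi hR rot2_131 rot2_131r) (AllP.cons (Just.rot hT hi hR rot2_132 rot2_132r) (AllP.cons (Just.rot hT hi hR rot2_133 rot2_133r) (AllP.cons (Just.rot hT hi hR rot2_134 rot2_134r) (AllP.cons (Just.rot hT hi hR rot2_135 rot2_135r) (AllP.cons (Just.rot hT hi hR rot2_136 rot2_136r) (AllP.cons (Just.rot hT hi hR rot2_137 rot2_137r) (AllP.cons (Just.rot hT hi hR rot2_138 rot2_138r) (AllP.cons (Just.rot hT hi hR rot2_139 rot2_139r) (AllP.cons (Just.rot hT hi hR rot2_140 rot2_140r) (AllP.cons (Just.rot hT hi hR rot2_141 rot2_141r) (AllP.cons (Just.rot hT hi hR rot2_142 rot2_142r) (AllP.cons (Just.rot hT hi hR rot2_143 rot2_143r) (AllP.cons (Just.rot hT hi hR rot2_144 rot2_144r) (AllP.cons (Just.rot hT hi hR rot2_145 rot2_145r)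 (AllP.cons (Just.rot hT hi hR rot2_146 rot2_146r) (AllP.cons (Just.rot hT hi hR rot2_147 rot2_147r) (AllP.cons (Just.rot hT hi hR rot2_148 rot2_148r) (AllP.cons (Just.rot hT hi hR rot2_149 rot2_149r) (AllP.cons (Just.rot hT hi hR rot2_150 rot2_150r) (AllP.cons (Just.rot hT hi hR rot2_151 rot2_151r) (AllP.cons (Just.rot hT hi hR rot2_152 rot2_152r) (AllP.cons (Just.rot hT hi hR rot2_153 rot2_153r) (AllP.cons (Just.rot hT hi hR rot2_154 rot2_154r) (AllP.cons (Just.rot hT hi hR rot2_155 rot2_155r) (AllP.cons (Just.rot hT hi hR rot2_156 rot2_156r) (AllP.cons (Just.rot hT hi hR rot2_157 rot2_157r) (AllP.cons (Just.rot hT hi hR rot2_158 rot2_158r) (AllP.cons (Just.rot hT hi hR rot2_159 rot2_159r) (AllP.cons (Just.rot hT hi hR rot2_160 rot2_160r) (AllP.cons (Just.rot hT hi hR rot2_161 rot2_161r) (AllP.cons (Just.rot hT hi hR rot2_162 rot2_162r) (AllP.cons (Just.rot hT hi hR rot2_163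 rot2_163r) (AllP.cons (Just.rot hT hi hR rot2_164 rot2_164r) (AllP.cons (Just.rot hT hi hR rot2_165 rot2_165r) (AllP.cons (Just.rot hT hi hR rot2_166 rot2_166r) (AllP.cons (Just.rot hT hi hR rot2_167 rot2_167r) (AllP.cons (Just.rot hT hi hR rot2_168 rot2_168r) (AllP.cons (Just.rot hT hi hR rot2_169 rot2_169r) (AllP.cons (Just.rot hT hi hR rot2_170 rot2_170r) (AllP.cons (Just.rot hT hi hR rot2_171 rot2_171r) (AllP.cons (Just.rot hT hi hR rot2_172 rot2_172r) (AllP.cons (Just.rot hT hi hR rot2_173 rot2_173r) (AllP.cons (Just.rot hT hi hR rot2_174 rot2_174r) (AllP.cons (Just.rot hT hi hR rot2_175 rot2_175r) (AllP.cons (Just.rot hT hi hR rot2_176 rot2_176r) (AllP.cons (Just.rot hT hi hR rot2_177 rot2_177r) (AllP.cons (Just.rot hT hi hR rot2_178 rot2_178r) (AllP.cons (Just.rot hT hi hR rot2_179 rot2_179r) (AllP.cons (Just.rot hT hi hR rot2_180 rot2_180r) (AllP.cons (Just.rot hT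 hi hR rot2_181 rot2_181r) (AllP.cons (Just.rot hT hi hR rot2_182 rot2_182r) (AllP.cons (Just.rot hT hi hR rot2_183 rot2_183r) (AllP.cons (Just.rot hT hi hR rot2_184 rot2_184r) (AllP.cons (Just.rot hT hi hR rot2_185 rot2_185r) (AllP.cons (Just.rot hT hi hR rot2_186 rot2_186r) (AllP.cons (Just.rot hT hi hR rot2_187 rot2_187r) (AllP.cons (Just.rot hT hi hR rot2_188 rot2_188r) (AllP.cons (Just.rot hT hi hR rot2_189 rot2_189r) (AllP.cons (Just.rot hT hi hR rot2_190 rot2_190r) (AllP.cons (Just.rot hT hi hR rot2_191 rot2_191r) (AllP.cons (Just.rot hT hi hR rot2_192 rot2_192r) (AllP.cons (Just.rot hT hi hR rot2_193 rot2_193r) (AllP.cons (Just.rot hT hi hR rot2_194 rot2_194r) (AllP.cons (Just.rot hT hi hR rot2_195 rot2_195r) (AllP.cons (Just.rot hT hi hR rot2_196 rot2_196r) (AllP.cons (Just.rot hT hi hR rot2_197 rot2_197r) (AllP.cons (Just.rot hT hi hR rot2_198 rot2_198r) (AllP.cons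 (Just.rot hT hi hR rot2_199 rot2_199r) (AllP.cons (Just.rot hT hi hR rot2_200 rot2_200r) (AllP.cons (Just.rot hT hi hR rot2_201 rot2_201r) (AllP.cons (Just.rot hT hi hR rot2_202 rot2_202r) (AllP.cons (Just.base (hb 2 (by decide))) (AllP.nil))))))))))))))))))))))))))))))))))))))))))))))))))))))))))))))))))))))))))))))))))))))))))))))))))))))))))))))))))))))))))))))))))))))))))))))))))))))))))))))))))))))))))))))))))))))))))))))))))))))))))))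
theorem let3 : LetOk H (letV a EX) T L 3 :=
  LetOk.of hT tl3 cov3 (AllP.cons (Just.rot hT hi hR rot3_1 rot3_1r) (AllP.cons (Just.rot hT hi hR rot3_2 rot3_2r) (AllP.cons (Just.rot hT hi hR rot3_3 rot3_3r) (AllP.cons (Just.rot hT hi hR rot3_4 rot3_4r) (AllP.cons (Just.rot hT hi hR rot3_5 rot3_5r) (AllP.cons (Just.rot hT hi hR rot3_6 rot3_6r) (AllP.cons (Just.rot hT hi hR rot3_7 rot3_7r) (AllP.cons (Just.rot hT hi hR rot3_8 rot3_8r) (AllP.cons (Just.rot hT hi hR rot3_9 rot3_9r) (AllP.cons (Just.rot hT hi hR rot3_10 rot3_10r) (AllP.cons (Just.rot hT hi hR rot3_11 rot3_11r) (AllP.cons (Just.rot hT hi hR rot3_12 rot3_12r) (AllP.cons (Just.rot hT hi hR rot3_13 rot3_13r) (AllP.cons (Just.rot hT hi hR rot3_14 rot3_14r) (AllP.cons (Just.rot hT hi hR rot3_15 rot3_15r) (AllP.cons (Just.rot hT hi hR rot3_16 rot3_16r) (AllP.cons (Just.rot hT hi hR rot3_17 rot3_17r) (AllP.nil))))))))))))))))))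
theorem let4 : LetOk H (letV a EX) T L 4 :=
  LetOk.of hT tl4 cov4 (AllP.cons (Just.rot hT hi hR rot4_1 rot4_1r) (AllP.cons (Just.rot hT hi hR rot4_2 rot4_2r) (AllP.cons (Just.rot hT hi hR rot4_3 rot4_3r) (AllP.cons (Just.rot hT hi hR rot4_4 rot4_4r) (AllP.cons (Just.rot hT hi hR rot4_5 rot4_5r) (AllP.cons (Just.rot hT hi hR rot4_6 rot4_6r) (AllP.cons (Just.rot hT hi hR rot4_7 rot4_7r) (AllP.cons (Just.rot hT hi hR rot4_8 rot4_8r) (AllP.cons (Just.rot hT hi hR rot4_9 rot4_9r) (AllP.cons (Just.rot hT hi hR rot4_10 rot4_10r) (AllP.cons (Just.rot hT hi hR rot4_11 rot4_11r) (AllP.cons (Just.rot hT hi hR rot4_12 rot4_12r) (AllP.cons (Just.rot hT hi hR rot4_13 rot4_13r) (AllP.cons (Just.rot hT hi hR rot4_14 rot4_14r) (AllP.cons (Just.rot hT hi hR rot4_15 rot4_15r) (AllP.cons (Just.rot hT hi hR rot4_16 rot4_16r) (AllP.cons (Just.rot hT hi hR rot4_17 rot4_17r) (AllP.cons (Just.rot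 hT hi hR rot4_18 rot4_18r) (AllP.cons (Just.rot hT hi hR rot4_19 rot4_19r) (AllP.cons (Just.rot hT hi hR rot4_20 rot4_20r) (AllP.cons (Just.rot hT hi hR rot4_21 rot4_21r) (AllP.cons (Just.rot hT hi hR rot4_22 rot4_22r) (AllP.cons (Just.rot hT hi hR rot4_23 rot4_23r) (AllP.cons (Just.rot hT hi hR rot4_24 rot4_24r) (AllP.cons (Just.rot hT hi hR rot4_25 rot4_25r) (AllP.cons (Just.rot hT hi hR rot4_26 rot4_26r) (AllP.cons (Just.rot hT hi hR rot4_27 rot4_27r) (AllP.cons (Just.rot hT hi hR rot4_28 rot4_28r) (AllP.cons (Just.rot hT hi hR rot4_29 rot4_29r) (AllP.cons (Just.rot hT hi hR rot4_30 rot4_30r) (AllP.cons (Just.rot hT hi hR rot4_31 rot4_31r) (AllP.cons (Just.rot hT hi hR rot4_32 rot4_32r) (AllP.cons (Just.rot hT hi hR rot4_33 rot4_33r) (AllP.cons (Just.rot hT hi hR rot4_34 rot4_34r) (AllP.cons (Just.rot hT hi hR rot4_35 rot4_35r) (AllP.cons (Just.rot hT hi hR rot4_36 rot4_36r)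 (AllP.cons (Just.rot hT hi hR rot4_37 rot4_37r) (AllP.cons (Just.rot hT hi hR rot4_38 rot4_38r) (AllP.cons (Just.rot hT hi hR rot4_39 rot4_39r) (AllP.cons (Just.rot hT hi hR rot4_40 rot4_40r) (AllP.cons (Just.rot hT hi hR rot4_41 rot4_41r) (AllP.cons (Just.rot hT hi hR rot4_42 rot4_42r) (AllP.cons (Just.rot hT hi hR rot4_43 rot4_43r) (AllP.cons (Just.rot hT hi hR rot4_44 rot4_44r) (AllP.cons (Just.rot hT hi hR rot4_45 rot4_45r) (AllP.cons (Just.rot hT hi hR rot4_46 rot4_46r) (AllP.cons (Just.rot hT hi hR rot4_47 rot4_47r) (AllP.cons (Just.rot hT hi hR rot4_48 rot4_48r) (AllP.cons (Just.rot hT hi hR rot4_49 rot4_49r) (AllP.cons (Just.rot hT hi hR rot4_50 rot4_50r) (AllP.cons (Just.rot hT hi hR rot4_51 rot4_51r) (AllP.cons (Just.rot hT hi hR rot4_52 rot4_52r) (AllP.cons (Just.rot hT hi hR rot4_53 rot4_53r) (AllP.cons (Just.rot hT hi hR rot4_54 rot4_54r) (AllP.cons (Just.rot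 hT hi hR rot4_55 rot4_55r) (AllP.cons (Just.rot hT hi hR rot4_56 rot4_56r) (AllP.cons (Just.rot hT hi hR rot4_57 rot4_57r) (AllP.cons (Just.rot hT hi hR rot4_58 rot4_58r) (AllP.cons (Just.rot hT hi hR rot4_59 rot4_59r) (AllP.cons (Just.rot hT hi hR rot4_60 rot4_60r) (AllP.cons (Just.rot hT hi hR rot4_61 rot4_61r) (AllP.cons (Just.rot hT hi hR rot4_62 rot4_62r) (AllP.cons (Just.rot hT hi hR rot4_63 rot4_63r) (AllP.cons (Just.rot hT hi hR rot4_64 rot4_64r) (AllP.cons (Just.rot hT hi hR rot4_65 rot4_65r) (AllP.cons (Just.rot hT hi hR rot4_66 rot4_66r) (AllP.cons (Just.rot hT hi hR rot4_67 rot4_67r) (AllP.cons (Just.rot hT hi hR rot4_68 rot4_68r) (AllP.cons (Just.rot hT hi hR rot4_69 rot4_69r) (AllP.cons (Just.rot hT hi hR rot4_70 rot4_70r) (AllP.cons (Just.rot hT hi hR rot4_71 rot4_71r) (AllP.cons (Just.rot hT hi hR rot4_72 rot4_72r) (AllP.cons (Just.rot hT hi hR rot4_73 rot4_73r)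 (AllP.cons (Just.rot hT hi hR rot4_74 rot4_74r) (AllP.cons (Just.rot hT hi hR rot4_75 rot4_75r) (AllP.cons (Just.rot hT hi hR rot4_76 rot4_76r) (AllP.cons (Just.rot hT hi hR rot4_77 rot4_77r) (AllP.cons (Just.rot hT hi hR rot4_78 rot4_78r) (AllP.cons (Just.rot hT hi hR rot4_79 rot4_79r) (AllP.cons (Just.rot hT hi hR rot4_80 rot4_80r) (AllP.cons (Just.rot hT hi hR rot4_81 rot4_81r) (AllP.cons (Just.rot hT hi hR rot4_82 rot4_82r) (AllP.cons (Just.rot hT hi hR rot4_83 rot4_83r) (AllP.cons (Just.rot hT hi hR rot4_84 rot4_84r) (AllP.cons (Just.rot hT hi hR rot4_85 rot4_85r) (AllP.cons (Just.rot hT hi hR rot4_86 rot4_86r) (AllP.cons (Just.rot hT hi hR rot4_87 rot4_87r) (AllP.cons (Just.rot hT hi hR rot4_88 rot4_88r) (AllP.cons (Just.rot hT hi hR rot4_89 rot4_89r) (AllP.cons (Just.rot hT hi hR rot4_90 rot4_90r) (AllP.cons (Just.rot hT hi hR rot4_91 rot4_91r) (AllP.cons (Just.rot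 hT hi hR rot4_92 rot4_92r) (AllP.cons (Just.rot hT hi hR rot4_93 rot4_93r) (AllP.cons (Just.rot hT hi hR rot4_94 rot4_94r) (AllP.cons (Just.rot hT hi hR rot4_95 rot4_95r) (AllP.cons (Just.rot hT hi hR rot4_96 rot4_96r) (AllP.cons (Just.rot hT hi hR rot4_97 rot4_97r) (AllP.cons (Just.rot hT hi hR rot4_98 rot4_98r) (AllP.cons (Just.rot hT hi hR rot4_99 rot4_99r) (AllP.cons (Just.rot hT hi hR rot4_100 rot4_100r) (AllP.cons (Just.rot hT hi hR rot4_101 rot4_101r) (AllP.cons (Just.rot hT hi hR rot4_102 rot4_102r) (AllP.cons (Just.rot hT hi hR rot4_103 rot4_103r) (AllP.cons (Just.rot hT hi hR rot4_104 rot4_104r) (AllP.cons (Just.rot hT hi hR rot4_105 rot4_105r) (AllP.cons (Just.rot hT hi hR rot4_106 rot4_106r) (AllP.cons (Just.rot hT hi hR rot4_107 rot4_107r) (AllP.cons (Just.rot hT hi hR rot4_108 rot4_108r) (AllP.cons (Just.rot hT hi hR rot4_109 rot4_109r) (AllP.cons (Just.rot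 hT hi hR rot4_110 rot4_110r) (AllP.cons (Just.rot hT hi hR rot4_111 rot4_111r) (AllP.cons (Just.rot hT hi hR rot4_112 rot4_112r) (AllP.cons (Just.rot hT hi hR rot4_113 rot4_113r) (AllP.cons (Just.rot hT hi hR rot4_114 rot4_114r) (AllP.cons (Just.rot hT hi hR rot4_115 rot4_115r) (AllP.cons (Just.rot hT hi hR rot4_116 rot4_116r) (AllP.cons (Just.rot hT hi hR rot4_117 rot4_117r) (AllP.cons (Just.rot hT hi hR rot4_118 rot4_118r) (AllP.cons (Just.rot hT hi hR rot4_119 rot4_119r) (AllP.cons (Just.rot hT hi hR rot4_120 rot4_120r) (AllP.cons (Just.rot hT hi hR rot4_121 rot4_121r) (AllP.cons (Just.rot hT hi hR rot4_122 rot4_122r) (AllP.cons (Just.rot hT hi hR rot4_123 rot4_123r) (AllP.cons (Just.rot hT hi hR rot4_124 rot4_124r) (AllP.cons (Just.rot hT hi hR rot4_125 rot4_125r) (AllP.cons (Just.rot hT hi hR rot4_126 rot4_126r) (AllP.cons (Just.rot hT hi hR rot4_127 rot4_127r) (AllP.cons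 (Just.rot hT hi hR rot4_128 rot4_128r) (AllP.cons (Just.rot hT hi hR rot4_129 rot4_129r) (AllP.cons (Just.rot hT hi hR rot4_130 rot4_130r) (AllP.cons (Just.rot hT hi hR rot4_131 rot4_131r) (AllP.cons (Just.rot hT hi hR rot4_132 rot4_132r) (AllP.cons (Just.rot hT hi hR rot4_133 rot4_133r) (AllP.cons (Just.rot hT hi hR rot4_134 rot4_134r) (AllP.cons (Just.rot hT hi hR rot4_135 rot4_135r) (AllP.cons (Just.rot hT hi hR rot4_136 rot4_136r) (AllP.cons (Just.rot hT hi hR rot4_137 rot4_137r) (AllP.cons (Just.rot hT hi hR rot4_138 rot4_138r) (AllP.cons (Just.rot hT hi hR rot4_139 rot4_139r) (AllP.cons (Just.rot hT hi hR rot4_140 rot4_140r) (AllP.cons (Just.rot hT hi hR rot4_141 rot4_141r) (AllP.cons (Just.rot hT hi hR rot4_142 rot4_142r) (AllP.cons (Just.rot hT hi hR rot4_143 rot4_143r) (AllP.cons (Just.rot hT hi hR rot4_144 rot4_144r) (AllP.cons (Just.rot hT hi hR rot4_145 rot4_145r)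 (AllP.cons (Just.rot hT hi hR rot4_146 rot4_146r) (AllP.cons (Just.rot hT hi hR rot4_147 rot4_147r) (AllP.cons (Just.rot hT hi hR rot4_148 rot4_148r) (AllP.cons (Just.rot hT hi hR rot4_149 rot4_149r) (AllP.cons (Just.rot hT hi hR rot4_150 rot4_150r) (AllP.cons (Just.rot hT hi hR rot4_151 rot4_151r) (AllP.cons (Just.rot hT hi hR rot4_152 rot4_152r) (AllP.cons (Just.rot hT hi hR rot4_153 rot4_153r) (AllP.cons (Just.rot hT hi hR rot4_154 rot4_154r) (AllP.cons (Just.rot hT hi hR rot4_155 rot4_155r) (AllP.cons (Just.rot hT hi hR rot4_156 rot4_156r) (AllP.cons (Just.rot hT hi hR rot4_157 rot4_157r) (AllP.cons (Just.rot hT hi hR rot4_158 rot4_158r) (AllP.cons (Just.rot hT hi hR rot4_159 rot4_159r) (AllP.cons (Just.rot hT hi hR rot4_160 rot4_160r) (AllP.cons (Just.rot hT hi hR rot4_161 rot4_161r) (AllP.cons (Just.rot hT hi hR rot4_162 rot4_162r) (AllP.cons (Just.rot hT hi hR rot4_163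 rot4_163r) (AllP.cons (Just.rot hT hi hR rot4_164 rot4_164r) (AllP.cons (Just.rot hT hi hR rot4_165 rot4_165r) (AllP.cons (Just.rot hT hi hR rot4_166 rot4_166r) (AllP.cons (Just.rot hT hi hR rot4_167 rot4_167r) (AllP.cons (Just.rot hT hi hR rot4_168 rot4_168r) (AllP.cons (Just.rot hT hi hR rot4_169 rot4_169r) (AllP.cons (Just.rot hT hi hR rot4_170 rot4_170r) (AllP.cons (Just.rot hT hi hR rot4_171 rot4_171r) (AllP.cons (Just.rot hT hi hR rot4_172 rot4_172r) (AllP.cons (Just.rot hT hi hR rot4_173 rot4_173r) (AllP.cons (Just.rot hT hi hR rot4_174 rot4_174r) (AllP.cons (Just.rot hT hi hR rot4_175 rot4_175r) (AllP.cons (Just.rot hT hi hR rot4_176 rot4_176r) (AllP.cons (Just.rot hT hi hR rot4_177 rot4_177r) (AllP.cons (Just.rot hT hi hR rot4_178 rot4_178r) (AllP.cons (Just.rot hT hi hR rot4_179 rot4_179r) (AllP.cons (Just.rot hT hi hR rot4_180 rot4_180r) (AllP.cons (Just.rot hT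 hi hR rot4_181 rot4_181r) (AllP.cons (Just.rot hT hi hR rot4_182 rot4_182r) (AllP.cons (Just.rot hT hi hR rot4_183 rot4_183r) (AllP.cons (Just.rot hT hi hR rot4_184 rot4_184r) (AllP.cons (Just.rot hT hi hR rot4_185 rot4_185r) (AllP.cons (Just.rot hT hi hR rot4_186 rot4_186r) (AllP.cons (Just.rot hT hi hR rot4_187 rot4_187r) (AllP.cons (Just.rot hT hi hR rot4_188 rot4_188r) (AllP.cons (Just.rot hT hi hR rot4_189 rot4_189r) (AllP.cons (Just.rot hT hi hR rot4_190 rot4_190r) (AllP.cons (Just.rot hT hi hR rot4_191 rot4_191r) (AllP.cons (Just.rot hT hi hR rot4_192 rot4_192r) (AllP.cons (Just.rot hT hi hR rot4_193 rot4_193r) (AllP.cons (Just.rot hT hi hR rot4_194 rot4_194r) (AllP.cons (Just.rot hT hi hR rot4_195 rot4_195r) (AllP.cons (Just.rot hT hi hR rot4_196 rot4_196r) (AllP.cons (Just.rot hT hi hR rot4_197 rot4_197r) (AllP.cons (Just.rot hT hi hR rot4_198 rot4_198r) (AllP.cons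 (Just.rot hT hi hR rot4_199 rot4_199r) (AllP.cons (Just.rot hT hi hR rot4_200 rot4_200r) (AllP.cons (Just.rot hT hi hR rot4_201 rot4_201r) (AllP.cons (Just.rot hT hi hR rot4_202 rot4_202r) (AllP.cons (Just.rot hT hi hR rot4_203 rot4_203r) (AllP.cons (Just.rot hT hi hR rot4_204 rot4_204r) (AllP.cons (Just.rot hT hi hR rot4_205 rot4_205r) (AllP.cons (Just.rot hT hi hR rot4_206 rot4_206r) (AllP.cons (Just.rot hT hi hR rot4_207 rot4_207r) (AllP.cons (Just.rot hT hi hR rot4_208 rot4_208r) (AllP.cons (Just.rot hT hi hR rot4_209 rot4_209r) (AllP.cons (Just.rot hT hi hR rot4_210 rot4_210r) (AllP.cons (Just.rot hT hi hR rot4_211 rot4_211r) (AllP.cons (Just.rot hT hi hR rot4_212 rot4_212r) (AllP.cons (Just.rot hT hi hR rot4_213 rot4_213r) (AllP.cons (Just.rot hT hi hR rot4_214 rot4_214r) (AllP.cons (Just.base (hb 4 (by decide))) (AllP.nil))))))))))))))))))))))))))))))))))))))))))))))))))))))))))))))))))))))))))))))))))))))))))))))))))))))))))))))))))))))))))))))))))))))))))))))))))))))))))))))))))))))))))))))))))))))))))))))))))))))))))))))))))))))))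
theorem let5 : LetOk H (letV a EX) T L 5 :=
  LetOk.of hT tl5 cov5 (AllP.cons (Just.rot hT hi hR rot5_1 rot5_1r) (AllP.cons (Just.rot hT hi hR rot5_2 rot5_2r) (AllP.cons (Just.rot hT hi hR rot5_3 rot5_3r) (AllP.cons (Just.rot hT hi hR rot5_4 rot5_4r) (AllP.cons (Just.rot hT hi hR rot5_5 rot5_5r) (AllP.cons (Just.rot hT hi hR rot5_6 rot5_6r) (AllP.cons (Just.rot hT hi hR rot5_7 rot5_7r) (AllP.cons (Just.rot hT hi hR rot5_8 rot5_8r) (AllP.cons (Just.rot hT hi hR rot5_9 rot5_9r) (AllP.cons (Just.rot hT hi hR rot5_10 rot5_10r) (AllP.cons (Just.rot hT hi hR rot5_11 rot5_11r) (AllP.cons (Just.rot hT hi hR rot5_12 rot5_12r) (AllP.cons (Just.rot hT hi hR rot5_13 rot5_13r) (AllP.cons (Just.rot hT hi hR rot5_14 rot5_14r) (AllP.cons (Just.rot hT hi hR rot5_15 rot5_15r) (AllP.cons (Just.rot hT hi hR rot5_16 rot5_16r) (AllP.cons (Just.rot hT hi hR rot5_17 rot5_17r) (AllP.cons (Just.rot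 hT hi hR rot5_18 rot5_18r) (AllP.cons (Just.rot hT hi hR rot5_19 rot5_19r) (AllP.cons (Just.rot hT hi hR rot5_20 rot5_20r) (AllP.cons (Just.rot hT hi hR rot5_21 rot5_21r) (AllP.cons (Just.rot hT hi hR rot5_22 rot5_22r) (AllP.cons (Just.rot hT hi hR rot5_23 rot5_23r) (AllP.cons (Just.rot hT hi hR rot5_24 rot5_24r) (AllP.cons (Just.rot hT hi hR rot5_25 rot5_25r) (AllP.cons (Just.rot hT hi hR rot5_26 rot5_26r) (AllP.cons (Just.rot hT hi hR rot5_27 rot5_27r) (AllP.cons (Just.rot hT hi hR rot5_28 rot5_28r) (AllP.cons (Just.rot hT hi hR rot5_29 rot5_29r) (AllP.cons (Just.rot hT hi hR rot5_30 rot5_30r) (AllP.cons (Just.rot hT hi hR rot5_31 rot5_31r) (AllP.cons (Just.rot hT hi hR rot5_32 rot5_32r) (AllP.cons (Just.rot hT hi hR rot5_33 rot5_33r) (AllP.cons (Just.rot hT hi hR rot5_34 rot5_34r) (AllP.cons (Just.rot hT hi hR rot5_35 rot5_35r) (AllP.cons (Just.rot hT hi hR rot5_36 rot5_36r)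 (AllP.cons (Just.rot hT hi hR rot5_37 rot5_37r) (AllP.cons (Just.rot hT hi hR rot5_38 rot5_38r) (AllP.cons (Just.rot hT hi hR rot5_39 rot5_39r) (AllP.cons (Just.rot hT hi hR rot5_40 rot5_40r) (AllP.cons (Just.rot hT hi hR rot5_41 rot5_41r) (AllP.cons (Just.rot hT hi hR rot5_42 rot5_42r) (AllP.cons (Just.rot hT hi hR rot5_43 rot5_43r) (AllP.cons (Just.rot hT hi hR rot5_44 rot5_44r) (AllP.cons (Just.rot hT hi hR rot5_45 rot5_45r) (AllP.cons (Just.rot hT hi hR rot5_46 rot5_46r) (AllP.cons (Just.rot hT hi hR rot5_47 rot5_47r) (AllP.cons (Just.rot hT hi hR rot5_48 rot5_48r) (AllP.cons (Just.rot hT hi hR rot5_49 rot5_49r) (AllP.cons (Just.rot hT hi hR rot5_50 rot5_50r) (AllP.cons (Just.rot hT hi hR rot5_51 rot5_51r) (AllP.cons (Just.rot hT hi hR rot5_52 rot5_52r) (AllP.cons (Just.rot hT hi hR rot5_53 rot5_53r) (AllP.cons (Just.rot hT hi hR rot5_54 rot5_54r) (AllP.cons (Just.rot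 hT hi hR rot5_55 rot5_55r) (AllP.cons (Just.rot hT hi hR rot5_56 rot5_56r) (AllP.cons (Just.rot hT hi hR rot5_57 rot5_57r) (AllP.cons (Just.rot hT hi hR rot5_58 rot5_58r) (AllP.cons (Just.rot hT hi hR rot5_59 rot5_59r) (AllP.cons (Just.rot hT hi hR rot5_60 rot5_60r) (AllP.cons (Just.rot hT hi hR rot5_61 rot5_61r) (AllP.cons (Just.rot hT hi hR rot5_62 rot5_62r) (AllP.cons (Just.rot hT hi hR rot5_63 rot5_63r) (AllP.cons (Just.rot hT hi hR rot5_64 rot5_64r) (AllP.cons (Just.rot hT hi hR rot5_65 rot5_65r) (AllP.cons (Just.rot hT hi hR rot5_66 rot5_66r) (AllP.cons (Just.rot hT hi hR rot5_67 rot5_67r) (AllP.cons (Just.rot hT hi hR rot5_68 rot5_68r) (AllP.cons (Just.rot hT hi hR rot5_69 rot5_69r) (AllP.cons (Just.rot hT hi hR rot5_70 rot5_70r) (AllP.cons (Just.rot hT hi hR rot5_71 rot5_71r) (AllP.cons (Just.rot hT hi hR rot5_72 rot5_72r) (AllP.cons (Just.rot hT hi hR rot5_73 rot5_73r)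 (AllP.cons (Just.rot hT hi hR rot5_74 rot5_74r) (AllP.cons (Just.rot hT hi hR rot5_75 rot5_75r) (AllP.cons (Just.rot hT hi hR rot5_76 rot5_76r) (AllP.cons (Just.rot hT hi hR rot5_77 rot5_77r) (AllP.cons (Just.rot hT hi hR rot5_78 rot5_78r) (AllP.cons (Just.rot hT hi hR rot5_79 rot5_79r) (AllP.cons (Just.rot hT hi hR rot5_80 rot5_80r) (AllP.cons (Just.rot hT hi hR rot5_81 rot5_81r) (AllP.cons (Just.rot hT hi hR rot5_82 rot5_82r) (AllP.cons (Just.rot hT hi hR rot5_83 rot5_83r) (AllP.cons (Just.rot hT hi hR rot5_84 rot5_84r) (AllP.cons (Just.rot hT hi hR rot5_85 rot5_85r) (AllP.cons (Just.rot hT hi hR rot5_86 rot5_86r) (AllP.cons (Just.rot hT hi hR rot5_87 rot5_87r) (AllP.cons (Just.rot hT hi hR rot5_88 rot5_88r) (AllP.cons (Just.rot hT hi hR rot5_89 rot5_89r) (AllP.cons (Just.rot hT hi hR rot5_90 rot5_90r) (AllP.cons (Just.rot hT hi hR rot5_91 rot5_91r) (AllP.cons (Just.rot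 hT hi hR rot5_92 rot5_92r) (AllP.cons (Just.rot hT hi hR rot5_93 rot5_93r) (AllP.cons (Just.rot hT hi hR rot5_94 rot5_94r) (AllP.cons (Just.rot hT hi hR rot5_95 rot5_95r) (AllP.cons (Just.rot hT hi hR rot5_96 rot5_96r) (AllP.cons (Just.rot hT hi hR rot5_97 rot5_97r) (AllP.cons (Just.rot hT hi hR rot5_98 rot5_98r) (AllP.cons (Just.rot hT hi hR rot5_99 rot5_99r) (AllP.cons (Just.rot hT hi hR rot5_100 rot5_100r) (AllP.cons (Just.rot hT hi hR rot5_101 rot5_101r) (AllP.cons (Just.rot hT hi hR rot5_102 rot5_102r) (AllP.cons (Just.rot hT hi hR rot5_103 rot5_103r) (AllP.cons (Just.rot hT hi hR rot5_104 rot5_104r) (AllP.cons (Just.rot hT hi hR rot5_105 rot5_105r) (AllP.cons (Just.rot hT hi hR rot5_106 rot5_106r) (AllP.cons (Just.rot hT hi hR rot5_107 rot5_107r) (AllP.cons (Just.rot hT hi hR rot5_108 rot5_108r) (AllP.cons (Just.rot hT hi hR rot5_109 rot5_109r) (AllP.cons (Just.rot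 hT hi hR rot5_110 rot5_110r) (AllP.cons (Just.rot hT hi hR rot5_111 rot5_111r) (AllP.cons (Just.rot hT hi hR rot5_112 rot5_112r) (AllP.cons (Just.rot hT hi hR rot5_113 rot5_113r) (AllP.cons (Just.rot hT hi hR rot5_114 rot5_114r) (AllP.cons (Just.rot hT hi hR rot5_115 rot5_115r) (AllP.cons (Just.rot hT hi hR rot5_116 rot5_116r) (AllP.cons (Just.rot hT hi hR rot5_117 rot5_117r) (AllP.cons (Just.rot hT hi hR rot5_118 rot5_118r) (AllP.cons (Just.rot hT hi hR rot5_119 rot5_119r) (AllP.cons (Just.rot hT hi hR rot5_120 rot5_120r) (AllP.cons (Just.rot hT hi hR rot5_121 rot5_121r) (AllP.cons (Just.rot hT hi hR rot5_122 rot5_122r) (AllP.cons (Just.rot hT hi hR rot5_123 rot5_123r) (AllP.cons (Just.rot hT hi hR rot5_124 rot5_124r) (AllP.cons (Just.rot hT hi hR rot5_125 rot5_125r) (AllP.cons (Just.rot hT hi hR rot5_126 rot5_126r) (AllP.cons (Just.rot hT hi hR rot5_127 rot5_127r) (AllP.cons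 (Just.rot hT hi hR rot5_128 rot5_128r) (AllP.cons (Just.rot hT hi hR rot5_129 rot5_129r) (AllP.cons (Just.rot hT hi hR rot5_130 rot5_130r) (AllP.cons (Just.rot hT hi hR rot5_131 rot5_131r) (AllP.cons (Just.rot hT hi hR rot5_132 rot5_132r) (AllP.cons (Just.rot hT hi hR rot5_133 rot5_133r) (AllP.cons (Just.rot hT hi hR rot5_134 rot5_134r) (AllP.cons (Just.rot hT hi hR rot5_135 rot5_135r) (AllP.cons (Just.rot hT hi hR rot5_136 rot5_136r) (AllP.cons (Just.rot hT hi hR rot5_137 rot5_137r) (AllP.cons (Just.rot hT hi hR rot5_138 rot5_138r) (AllP.cons (Just.rot hT hi hR rot5_139 rot5_139r) (AllP.cons (Just.rot hT hi hR rot5_140 rot5_140r) (AllP.cons (Just.rot hT hi hR rot5_141 rot5_141r) (AllP.cons (Just.rot hT hi hR rot5_142 rot5_142r) (AllP.cons (Just.rot hT hi hR rot5_143 rot5_143r) (AllP.cons (Just.rot hT hi hR rot5_144 rot5_144r) (AllP.cons (Just.rot hT hi hR rot5_145 rot5_145r)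 (AllP.cons (Just.rot hT hi hR rot5_146 rot5_146r) (AllP.cons (Just.rot hT hi hR rot5_147 rot5_147r) (AllP.cons (Just.rot hT hi hR rot5_148 rot5_148r) (AllP.cons (Just.rot hT hi hR rot5_149 rot5_149r) (AllP.cons (Just.rot hT hi hR rot5_150 rot5_150r) (AllP.cons (Just.rot hT hi hR rot5_151 rot5_151r) (AllP.cons (Just.base (hb 5 (by decide))) (AllP.nil)))))))))))))))))))))))))))))))))))))))))))))))))))))))))))))))))))))))))))))))))))))))))))))))))))))))))))))))))))))))))))))))))))))))))))))))))))))))))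
theorem let6 : LetOk H (letV a EX) T L 6 :=
  LetOk.of hT tl6 cov6 (AllP.cons (Just.rot hT hi hR rot6_1 rot6_1r) (AllP.cons (Just.rot hT hi hR rot6_2 rot6_2r) (AllP.cons (Just.rot hT hi hR rot6_3 rot6_3r) (AllP.cons (Just.rot hT hi hR rot6_4 rot6_4r) (AllP.cons (Just.rot hT hi hR rot6_5 rot6_5r) (AllP.cons (Just.rot hT hi hR rot6_6 rot6_6r) (AllP.cons (Just.rot hT hi hR rot6_7 rot6_7r) (AllP.cons (Just.rot hT hi hR rot6_8 rot6_8r) (AllP.cons (Just.rot hT hi hR rot6_9 rot6_9r) (AllP.cons (Just.rot hT hi hR rot6_10 rot6_10r) (AllP.cons (Just.rot hT hi hR rot6_11 rot6_11r) (AllP.cons (Just.rot hT hi hR rot6_12 rot6_12r) (AllP.cons (Just.rot hT hi hR rot6_13 rot6_13r) (AllP.cons (Just.rot hT hi hR rot6_14 rot6_14r) (AllP.cons (Just.rot hT hi hR rot6_15 rot6_15r) (AllP.cons (Just.rot hT hi hR rot6_16 rot6_16r) (AllP.cons (Just.rot hT hi hR rot6_17 rot6_17r) (AllP.nil))))))))))))))))))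
theorem let7 : LetOk H (letV a EX) T L 7 :=
  LetOk.of hT tl7 cov7 (AllP.cons (Just.rot hT hi hR rot7_1 rot7_1r) (AllP.cons (Just.rot hT hi hR rot7_2 rot7_2r) (AllP.cons (Just.rot hT hi hR rot7_3 rot7_3r) (AllP.cons (Just.rot hT hi hR rot7_4 rot7_4r) (AllP.cons (Just.rot hT hi hR rot7_5 rot7_5r) (AllP.cons (Just.rot hT hi hR rot7_6 rot7_6r) (AllP.cons (Just.rot hT hi hR rot7_7 rot7_7r) (AllP.cons (Just.rot hT hi hR rot7_8 rot7_8r) (AllP.cons (Just.rot hT hi hR rot7_9 rot7_9r) (AllP.cons (Just.rot hT hi hR rot7_10 rot7_10r) (AllP.cons (Just.rot hT hi hR rot7_11 rot7_11r) (AllP.cons (Just.rot hT hi hR rot7_12 rot7_12r) (AllP.cons (Just.rot hT hi hR rot7_13 rot7_13r) (AllP.cons (Just.rot hT hi hR rot7_14 rot7_14r) (AllP.cons (Just.rot hT hi hR rot7_15 rot7_15r) (AllP.cons (Just.rot hT hi hR rot7_16 rot7_16r) (AllP.cons (Just.rot hT hi hR rot7_17 rot7_17r) (AllP.cons (Just.rot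 hT hi hR rot7_18 rot7_18r) (AllP.cons (Just.rot hT hi hR rot7_19 rot7_19r) (AllP.cons (Just.rot hT hi hR rot7_20 rot7_20r) (AllP.cons (Just.rot hT hi hR rot7_21 rot7_21r) (AllP.cons (Just.rot hT hi hR rot7_22 rot7_22r) (AllP.cons (Just.rot hT hi hR rot7_23 rot7_23r) (AllP.cons (Just.rot hT hi hR rot7_24 rot7_24r) (AllP.cons (Just.rot hT hi hR rot7_25 rot7_25r) (AllP.cons (Just.rot hT hi hR rot7_26 rot7_26r) (AllP.cons (Just.rot hT hi hR rot7_27 rot7_27r) (AllP.cons (Just.rot hT hi hR rot7_28 rot7_28r) (AllP.cons (Just.rot hT hi hR rot7_29 rot7_29r) (AllP.cons (Just.rot hT hi hR rot7_30 rot7_30r) (AllP.cons (Just.rot hT hi hR rot7_31 rot7_31r) (AllP.cons (Just.rot hT hi hR rot7_32 rot7_32r) (AllP.cons (Just.rot hT hi hR rot7_33 rot7_33r) (AllP.cons (Just.rot hT hi hR rot7_34 rot7_34r) (AllP.cons (Just.rot hT hi hR rot7_35 rot7_35r) (AllP.cons (Just.rot hT hi hR rot7_36 rot7_36r)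 (AllP.cons (Just.rot hT hi hR rot7_37 rot7_37r) (AllP.cons (Just.rot hT hi hR rot7_38 rot7_38r) (AllP.cons (Just.rot hT hi hR rot7_39 rot7_39r) (AllP.cons (Just.rot hT hi hR rot7_40 rot7_40r) (AllP.cons (Just.rot hT hi hR rot7_41 rot7_41r) (AllP.cons (Just.rot hT hi hR rot7_42 rot7_42r) (AllP.cons (Just.rot hT hi hR rot7_43 rot7_43r) (AllP.cons (Just.rot hT hi hR rot7_44 rot7_44r) (AllP.cons (Just.rot hT hi hR rot7_45 rot7_45r) (AllP.cons (Just.rot hT hi hR rot7_46 rot7_46r) (AllP.cons (Just.rot hT hi hR rot7_47 rot7_47r) (AllP.cons (Just.rot hT hi hR rot7_48 rot7_48r) (AllP.cons (Just.rot hT hi hR rot7_49 rot7_49r) (AllP.cons (Just.rot hT hi hR rot7_50 rot7_50r) (AllP.cons (Just.rot hT hi hR rot7_51 rot7_51r) (AllP.cons (Just.rot hT hi hR rot7_52 rot7_52r) (AllP.cons (Just.rot hT hi hR rot7_53 rot7_53r) (AllP.cons (Just.rot hT hi hR rot7_54 rot7_54r) (AllP.cons (Just.rot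 hT hi hR rot7_55 rot7_55r) (AllP.cons (Just.rot hT hi hR rot7_56 rot7_56r) (AllP.cons (Just.rot hT hi hR rot7_57 rot7_57r) (AllP.cons (Just.rot hT hi hR rot7_58 rot7_58r) (AllP.cons (Just.rot hT hi hR rot7_59 rot7_59r) (AllP.cons (Just.rot hT hi hR rot7_60 rot7_60r) (AllP.cons (Just.rot hT hi hR rot7_61 rot7_61r) (AllP.cons (Just.rot hT hi hR rot7_62 rot7_62r) (AllP.cons (Just.rot hT hi hR rot7_63 rot7_63r) (AllP.cons (Just.rot hT hi hR rot7_64 rot7_64r) (AllP.cons (Just.rot hT hi hR rot7_65 rot7_65r) (AllP.cons (Just.rot hT hi hR rot7_66 rot7_66r) (AllP.cons (Just.rot hT hi hR rot7_67 rot7_67r) (AllP.cons (Just.rot hT hi hR rot7_68 rot7_68r) (AllP.cons (Just.rot hT hi hR rot7_69 rot7_69r) (AllP.cons (Just.rot hT hi hR rot7_70 rot7_70r) (AllP.cons (Just.rot hT hi hR rot7_71 rot7_71r) (AllP.cons (Just.rot hT hi hR rot7_72 rot7_72r) (AllP.cons (Just.rot hT hi hR rot7_73 rot7_73r)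 (AllP.cons (Just.rot hT hi hR rot7_74 rot7_74r) (AllP.cons (Just.rot hT hi hR rot7_75 rot7_75r) (AllP.cons (Just.rot hT hi hR rot7_76 rot7_76r) (AllP.cons (Just.rot hT hi hR rot7_77 rot7_77r) (AllP.cons (Just.rot hT hi hR rot7_78 rot7_78r) (AllP.cons (Just.rot hT hi hR rot7_79 rot7_79r) (AllP.cons (Just.rot hT hi hR rot7_80 rot7_80r) (AllP.cons (Just.rot hT hi hR rot7_81 rot7_81r) (AllP.cons (Just.rot hT hi hR rot7_82 rot7_82r) (AllP.cons (Just.rot hT hi hR rot7_83 rot7_83r) (AllP.cons (Just.rot hT hi hR rot7_84 rot7_84r) (AllP.cons (Just.rot hT hi hR rot7_85 rot7_85r) (AllP.cons (Just.rot hT hi hR rot7_86 rot7_86r) (AllP.cons (Just.rot hT hi hR rot7_87 rot7_87r) (AllP.cons (Just.rot hT hi hR rot7_88 rot7_88r) (AllP.cons (Just.rot hT hi hR rot7_89 rot7_89r) (AllP.cons (Just.rot hT hi hR rot7_90 rot7_90r) (AllP.cons (Just.rot hT hi hR rot7_91 rot7_91r) (AllP.cons (Just.rot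 hT hi hR rot7_92 rot7_92r) (AllP.cons (Just.rot hT hi hR rot7_93 rot7_93r) (AllP.cons (Just.rot hT hi hR rot7_94 rot7_94r) (AllP.cons (Just.rot hT hi hR rot7_95 rot7_95r) (AllP.cons (Just.rot hT hi hR rot7_96 rot7_96r) (AllP.cons (Just.rot hT hi hR rot7_97 rot7_97r) (AllP.cons (Just.rot hT hi hR rot7_98 rot7_98r) (AllP.cons (Just.rot hT hi hR rot7_99 rot7_99r) (AllP.cons (Just.rot hT hi hR rot7_100 rot7_100r) (AllP.cons (Just.rot hT hi hR rot7_101 rot7_101r) (AllP.cons (Just.rot hT hi hR rot7_102 rot7_102r) (AllP.cons (Just.rot hT hi hR rot7_103 rot7_103r) (AllP.cons (Just.rot hT hi hR rot7_104 rot7_104r) (AllP.cons (Just.rot hT hi hR rot7_105 rot7_105r) (AllP.cons (Just.rot hT hi hR rot7_106 rot7_106r) (AllP.cons (Just.rot hT hi hR rot7_107 rot7_107r) (AllP.cons (Just.rot hT hi hR rot7_108 rot7_108r) (AllP.cons (Just.rot hT hi hR rot7_109 rot7_109r) (AllP.cons (Just.rot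 hT hi hR rot7_110 rot7_110r) (AllP.cons (Just.rot hT hi hR rot7_111 rot7_111r) (AllP.cons (Just.rot hT hi hR rot7_112 rot7_112r) (AllP.cons (Just.rot hT hi hR rot7_113 rot7_113r) (AllP.cons (Just.rot hT hi hR rot7_114 rot7_114r) (AllP.cons (Just.rot hT hi hR rot7_115 rot7_115r) (AllP.cons (Just.rot hT hi hR rot7_116 rot7_116r) (AllP.cons (Just.rot hT hi hR rot7_117 rot7_117r) (AllP.cons (Just.rot hT hi hR rot7_118 rot7_118r) (AllP.cons (Just.rot hT hi hR rot7_119 rot7_119r) (AllP.cons (Just.rot hT hi hR rot7_120 rot7_120r) (AllP.cons (Just.rot hT hi hR rot7_121 rot7_121r) (AllP.cons (Just.rot hT hi hR rot7_122 rot7_122r) (AllP.cons (Just.rot hT hi hR rot7_123 rot7_123r) (AllP.cons (Just.rot hT hi hR rot7_124 rot7_124r) (AllP.cons (Just.rot hT hi hR rot7_125 rot7_125r) (AllP.cons (Just.rot hT hi hR rot7_126 rot7_126r) (AllP.cons (Just.rot hT hi hR rot7_127 rot7_127r) (AllP.cons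 (Just.rot hT hi hR rot7_128 rot7_128r) (AllP.cons (Just.rot hT hi hR rot7_129 rot7_129r) (AllP.cons (Just.rot hT hi hR rot7_130 rot7_130r) (AllP.cons (Just.rot hT hi hR rot7_131 rot7_131r) (AllP.cons (Just.rot hT hi hR rot7_132 rot7_132r) (AllP.cons (Just.rot hT hi hR rot7_133 rot7_133r) (AllP.cons (Just.rot hT hi hR rot7_134 rot7_134r) (AllP.cons (Just.rot hT hi hR rot7_135 rot7_135r) (AllP.cons (Just.rot hT hi hR rot7_136 rot7_136r) (AllP.cons (Just.rot hT hi hR rot7_137 rot7_137r) (AllP.cons (Just.rot hT hi hR rot7_138 rot7_138r) (AllP.cons (Just.rot hT hi hR rot7_139 rot7_139r) (AllP.cons (Just.rot hT hi hR rot7_140 rot7_140r) (AllP.cons (Just.rot hT hi hR rot7_141 rot7_141r) (AllP.cons (Just.rot hT hi hR rot7_142 rot7_142r) (AllP.cons (Just.rot hT hi hR rot7_143 rot7_143r) (AllP.cons (Just.rot hT hi hR rot7_144 rot7_144r) (AllP.cons (Just.rot hT hi hR rot7_145 rot7_145r)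 (AllP.cons (Just.rot hT hi hR rot7_146 rot7_146r) (AllP.cons (Just.rot hT hi hR rot7_147 rot7_147r) (AllP.cons (Just.rot hT hi hR rot7_148 rot7_148r) (AllP.cons (Just.rot hT hi hR rot7_149 rot7_149r) (AllP.cons (Just.rot hT hi hR rot7_150 rot7_150r) (AllP.cons (Just.rot hT hi hR rot7_151 rot7_151r) (AllP.cons (Just.rot hT hi hR rot7_152 rot7_152r) (AllP.cons (Just.rot hT hi hR rot7_153 rot7_153r) (AllP.cons (Just.rot hT hi hR rot7_154 rot7_154r) (AllP.cons (Just.rot hT hi hR rot7_155 rot7_155r) (AllP.cons (Just.rot hT hi hR rot7_156 rot7_156r) (AllP.cons (Just.rot hT hi hR rot7_157 rot7_157r) (AllP.cons (Just.rot hT hi hR rot7_158 rot7_158r) (AllP.cons (Just.rot hT hi hR rot7_159 rot7_159r) (AllP.cons (Just.rot hT hi hR rot7_160 rot7_160r) (AllP.cons (Just.rot hT hi hR rot7_161 rot7_161r) (AllP.cons (Just.rot hT hi hR rot7_162 rot7_162r) (AllP.cons (Just.rot hT hi hR rot7_163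 rot7_163r) (AllP.cons (Just.rot hT hi hR rot7_164 rot7_164r) (AllP.cons (Just.rot hT hi hR rot7_165 rot7_165r) (AllP.cons (Just.rot hT hi hR rot7_166 rot7_166r) (AllP.cons (Just.rot hT hi hR rot7_167 rot7_167r) (AllP.cons (Just.rot hT hi hR rot7_168 rot7_168r) (AllP.cons (Just.rot hT hi hR rot7_169 rot7_169r) (AllP.cons (Just.rot hT hi hR rot7_170 rot7_170r) (AllP.cons (Just.rot hT hi hR rot7_171 rot7_171r) (AllP.cons (Just.rot hT hi hR rot7_172 rot7_172r) (AllP.cons (Just.rot hT hi hR rot7_173 rot7_173r) (AllP.cons (Just.rot hT hi hR rot7_174 rot7_174r) (AllP.cons (Just.rot hT hi hR rot7_175 rot7_175r) (AllP.cons (Just.rot hT hi hR rot7_176 rot7_176r) (AllP.cons (Just.rot hT hi hR rot7_177 rot7_177r) (AllP.cons (Just.rot hT hi hR rot7_178 rot7_178r) (AllP.cons (Just.rot hT hi hR rot7_179 rot7_179r) (AllP.cons (Just.rot hT hi hR rot7_180 rot7_180r) (AllP.cons (Just.rot hT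 hi hR rot7_181 rot7_181r) (AllP.cons (Just.rot hT hi hR rot7_182 rot7_182r) (AllP.cons (Just.rot hT hi hR rot7_183 rot7_183r) (AllP.cons (Just.rot hT hi hR rot7_184 rot7_184r) (AllP.cons (Just.rot hT hi hR rot7_185 rot7_185r) (AllP.cons (Just.rot hT hi hR rot7_186 rot7_186r) (AllP.cons (Just.rot hT hi hR rot7_187 rot7_187r) (AllP.cons (Just.rot hT hi hR rot7_188 rot7_188r) (AllP.cons (Just.rot hT hi hR rot7_189 rot7_189r) (AllP.cons (Just.rot hT hi hR rot7_190 rot7_190r) (AllP.cons (Just.rot hT hi hR rot7_191 rot7_191r) (AllP.cons (Just.rot hT hi hR rot7_192 rot7_192r) (AllP.cons (Just.rot hT hi hR rot7_193 rot7_193r) (AllP.cons (Just.rot hT hi hR rot7_194 rot7_194r) (AllP.cons (Just.rot hT hi hR rot7_195 rot7_195r) (AllP.cons (Just.rot hT hi hR rot7_196 rot7_196r) (AllP.cons (Just.rot hT hi hR rot7_197 rot7_197r) (AllP.cons (Just.rot hT hi hR rot7_198 rot7_198r) (AllP.cons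 (Just.rot hT hi hR rot7_199 rot7_199r) (AllP.cons (Just.rot hT hi hR rot7_200 rot7_200r) (AllP.cons (Just.rot hT hi hR rot7_201 rot7_201r) (AllP.cons (Just.rot hT hi hR rot7_202 rot7_202r) (AllP.cons (Just.rot hT hi hR rot7_203 rot7_203r) (AllP.cons (Just.rot hT hi hR rot7_204 rot7_204r) (AllP.cons (Just.rot hT hi hR rot7_205 rot7_205r) (AllP.cons (Just.rot hT hi hR rot7_206 rot7_206r) (AllP.nil)))))))))))))))))))))))))))))))))))))))))))))))))))))))))))))))))))))))))))))))))))))))))))))))))))))))))))))))))))))))))))))))))))))))))))))))))))))))))))))))))))))))))))))))))))))))))))))))))))))))))))))))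
theorem let8 : LetOk H (letV a EX) T L 8 :=
  LetOk.of hT tl8 cov8 (AllP.cons (Just.rot hT hi hR rot8_1 rot8_1r) (AllP.cons (Just.rot hT hi hR rot8_2 rot8_2r) (AllP.cons (Just.rot hT hi hR rot8_3 rot8_3r) (AllP.cons (Just.rot hT hi hR rot8_4 rot8_4r) (AllP.cons (Just.rot hT hi hR rot8_5 rot8_5r) (AllP.cons (Just.rot hT hi hR rot8_6 rot8_6r) (AllP.cons (Just.rot hT hi hR rot8_7 rot8_7r) (AllP.cons (Just.rot hT hi hR rot8_8 rot8_8r) (AllP.cons (Just.rot hT hi hR rot8_9 rot8_9r) (AllP.cons (Just.rot hT hi hR rot8_10 rot8_10r) (AllP.cons (Just.rot hT hi hR rot8_11 rot8_11r) (AllP.cons (Just.rot hT hi hR rot8_12 rot8_12r) (AllP.cons (Just.rot hT hi hR rot8_13 rot8_13r) (AllP.cons (Just.rot hT hi hR rot8_14 rot8_14r) (AllP.cons (Just.rot hT hi hR rot8_15 rot8_15r) (AllP.cons (Just.rot hT hi hR rot8_16 rot8_16r) (AllP.cons (Just.rot hT hi hR rot8_17 rot8_17r) (AllP.cons (Just.rot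 hT hi hR rot8_18 rot8_18r) (AllP.cons (Just.rot hT hi hR rot8_19 rot8_19r) (AllP.cons (Just.rot hT hi hR rot8_20 rot8_20r) (AllP.cons (Just.rot hT hi hR rot8_21 rot8_21r) (AllP.cons (Just.rot hT hi hR rot8_22 rot8_22r) (AllP.cons (Just.rot hT hi hR rot8_23 rot8_23r) (AllP.cons (Just.rot hT hi hR rot8_24 rot8_24r) (AllP.cons (Just.rot hT hi hR rot8_25 rot8_25r) (AllP.cons (Just.rot hT hi hR rot8_26 rot8_26r) (AllP.cons (Just.rot hT hi hR rot8_27 rot8_27r) (AllP.cons (Just.rot hT hi hR rot8_28 rot8_28r) (AllP.cons (Just.rot hT hi hR rot8_29 rot8_29r) (AllP.cons (Just.rot hT hi hR rot8_30 rot8_30r) (AllP.cons (Just.rot hT hi hR rot8_31 rot8_31r) (AllP.cons (Just.rot hT hi hR rot8_32 rot8_32r) (AllP.cons (Just.rot hT hi hR rot8_33 rot8_33r) (AllP.cons (Just.rot hT hi hR rot8_34 rot8_34r) (AllP.cons (Just.rot hT hi hR rot8_35 rot8_35r) (AllP.cons (Just.rot hT hi hR rot8_36 rot8_36r)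 (AllP.cons (Just.rot hT hi hR rot8_37 rot8_37r) (AllP.cons (Just.rot hT hi hR rot8_38 rot8_38r) (AllP.cons (Just.rot hT hi hR rot8_39 rot8_39r) (AllP.cons (Just.rot hT hi hR rot8_40 rot8_40r) (AllP.cons (Just.rot hT hi hR rot8_41 rot8_41r) (AllP.cons (Just.rot hT hi hR rot8_42 rot8_42r) (AllP.cons (Just.rot hT hi hR rot8_43 rot8_43r) (AllP.cons (Just.rot hT hi hR rot8_44 rot8_44r) (AllP.cons (Just.rot hT hi hR rot8_45 rot8_45r) (AllP.cons (Just.rot hT hi hR rot8_46 rot8_46r) (AllP.cons (Just.rot hT hi hR rot8_47 rot8_47r) (AllP.cons (Just.rot hT hi hR rot8_48 rot8_48r) (AllP.cons (Just.rot hT hi hR rot8_49 rot8_49r) (AllP.cons (Just.rot hT hi hR rot8_50 rot8_50r) (AllP.cons (Just.rot hT hi hR rot8_51 rot8_51r) (AllP.cons (Just.rot hT hi hR rot8_52 rot8_52r) (AllP.cons (Just.rot hT hi hR rot8_53 rot8_53r) (AllP.cons (Just.rot hT hi hR rot8_54 rot8_54r) (AllP.cons (Just.rot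 hT hi hR rot8_55 rot8_55r) (AllP.cons (Just.rot hT hi hR rot8_56 rot8_56r) (AllP.cons (Just.rot hT hi hR rot8_57 rot8_57r) (AllP.cons (Just.rot hT hi hR rot8_58 rot8_58r) (AllP.cons (Just.rot hT hi hR rot8_59 rot8_59r) (AllP.cons (Just.rot hT hi hR rot8_60 rot8_60r) (AllP.cons (Just.rot hT hi hR rot8_61 rot8_61r) (AllP.cons (Just.rot hT hi hR rot8_62 rot8_62r) (AllP.cons (Just.rot hT hi hR rot8_63 rot8_63r) (AllP.cons (Just.rot hT hi hR rot8_64 rot8_64r) (AllP.cons (Just.rot hT hi hR rot8_65 rot8_65r) (AllP.cons (Just.rot hT hi hR rot8_66 rot8_66r) (AllP.cons (Just.rot hT hi hR rot8_67 rot8_67r) (AllP.cons (Just.rot hT hi hR rot8_68 rot8_68r) (AllP.cons (Just.rot hT hi hR rot8_69 rot8_69r) (AllP.cons (Just.rot hT hi hR rot8_70 rot8_70r) (AllP.cons (Just.rot hT hi hR rot8_71 rot8_71r) (AllP.cons (Just.rot hT hi hR rot8_72 rot8_72r) (AllP.cons (Just.rot hT hi hR rot8_73 rot8_73r)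 (AllP.cons (Just.rot hT hi hR rot8_74 rot8_74r) (AllP.cons (Just.rot hT hi hR rot8_75 rot8_75r) (AllP.cons (Just.rot hT hi hR rot8_76 rot8_76r) (AllP.cons (Just.rot hT hi hR rot8_77 rot8_77r) (AllP.cons (Just.rot hT hi hR rot8_78 rot8_78r) (AllP.cons (Just.rot hT hi hR rot8_79 rot8_79r) (AllP.cons (Just.rot hT hi hR rot8_80 rot8_80r) (AllP.cons (Just.rot hT hi hR rot8_81 rot8_81r) (AllP.cons (Just.rot hT hi hR rot8_82 rot8_82r) (AllP.cons (Just.rot hT hi hR rot8_83 rot8_83r) (AllP.cons (Just.rot hT hi hR rot8_84 rot8_84r) (AllP.cons (Just.rot hT hi hR rot8_85 rot8_85r) (AllP.cons (Just.rot hT hi hR rot8_86 rot8_86r) (AllP.cons (Just.rot hT hi hR rot8_87 rot8_87r) (AllP.cons (Just.rot hT hi hR rot8_88 rot8_88r) (AllP.cons (Just.rot hT hi hR rot8_89 rot8_89r) (AllP.cons (Just.rot hT hi hR rot8_90 rot8_90r) (AllP.cons (Just.rot hT hi hR rot8_91 rot8_91r) (AllP.cons (Just.rot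 hT hi hR rot8_92 rot8_92r) (AllP.cons (Just.rot hT hi hR rot8_93 rot8_93r) (AllP.cons (Just.rot hT hi hR rot8_94 rot8_94r) (AllP.cons (Just.rot hT hi hR rot8_95 rot8_95r) (AllP.cons (Just.rot hT hi hR rot8_96 rot8_96r) (AllP.cons (Just.rot hT hi hR rot8_97 rot8_97r) (AllP.cons (Just.rot hT hi hR rot8_98 rot8_98r) (AllP.cons (Just.rot hT hi hR rot8_99 rot8_99r) (AllP.cons (Just.rot hT hi hR rot8_100 rot8_100r) (AllP.cons (Just.rot hT hi hR rot8_101 rot8_101r) (AllP.cons (Just.rot hT hi hR rot8_102 rot8_102r) (AllP.cons (Just.rot hT hi hR rot8_103 rot8_103r) (AllP.cons (Just.rot hT hi hR rot8_104 rot8_104r) (AllP.cons (Just.rot hT hi hR rot8_105 rot8_105r) (AllP.cons (Just.rot hT hi hR rot8_106 rot8_106r) (AllP.cons (Just.rot hT hi hR rot8_107 rot8_107r) (AllP.cons (Just.rot hT hi hR rot8_108 rot8_108r) (AllP.cons (Just.rot hT hi hR rot8_109 rot8_109r) (AllP.cons (Just.rot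 hT hi hR rot8_110 rot8_110r) (AllP.cons (Just.rot hT hi hR rot8_111 rot8_111r) (AllP.cons (Just.rot hT hi hR rot8_112 rot8_112r) (AllP.cons (Just.rot hT hi hR rot8_113 rot8_113r) (AllP.cons (Just.rot hT hi hR rot8_114 rot8_114r) (AllP.cons (Just.rot hT hi hR rot8_115 rot8_115r) (AllP.cons (Just.rot hT hi hR rot8_116 rot8_116r) (AllP.cons (Just.rot hT hi hR rot8_117 rot8_117r) (AllP.cons (Just.rot hT hi hR rot8_118 rot8_118r) (AllP.cons (Just.rot hT hi hR rot8_119 rot8_119r) (AllP.cons (Just.rot hT hi hR rot8_120 rot8_120r) (AllP.cons (Just.rot hT hi hR rot8_121 rot8_121r) (AllP.cons (Just.rot hT hi hR rot8_122 rot8_122r) (AllP.cons (Just.rot hT hi hR rot8_123 rot8_123r) (AllP.cons (Just.rot hT hi hR rot8_124 rot8_124r) (AllP.cons (Just.rot hT hi hR rot8_125 rot8_125r) (AllP.cons (Just.rot hT hi hR rot8_126 rot8_126r) (AllP.cons (Just.rot hT hi hR rot8_127 rot8_127r) (AllP.cons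 (Just.rot hT hi hR rot8_128 rot8_128r) (AllP.cons (Just.rot hT hi hR rot8_129 rot8_129r) (AllP.cons (Just.rot hT hi hR rot8_130 rot8_130r) (AllP.cons (Just.rot hT hi hR rot8_131 rot8_131r) (AllP.cons (Just.rot hT hi hR rot8_132 rot8_132r) (AllP.cons (Just.rot hT hi hR rot8_133 rot8_133r) (AllP.cons (Just.rot hT hi hR rot8_134 rot8_134r) (AllP.cons (Just.rot hT hi hR rot8_135 rot8_135r) (AllP.cons (Just.rot hT hi hR rot8_136 rot8_136r) (AllP.cons (Just.rot hT hi hR rot8_137 rot8_137r) (AllP.cons (Just.rot hT hi hR rot8_138 rot8_138r) (AllP.cons (Just.rot hT hi hR rot8_139 rot8_139r) (AllP.cons (Just.rot hT hi hR rot8_140 rot8_140r) (AllP.cons (Just.rot hT hi hR rot8_141 rot8_141r) (AllP.cons (Just.rot hT hi hR rot8_142 rot8_142r) (AllP.cons (Just.rot hT hi hR rot8_143 rot8_143r) (AllP.cons (Just.rot hT hi hR rot8_144 rot8_144r) (AllP.cons (Just.rot hT hi hR rot8_145 rot8_145r)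 (AllP.cons (Just.rot hT hi hR rot8_146 rot8_146r) (AllP.cons (Just.rot hT hi hR rot8_147 rot8_147r) (AllP.cons (Just.rot hT hi hR rot8_148 rot8_148r) (AllP.cons (Just.rot hT hi hR rot8_149 rot8_149r) (AllP.cons (Just.rot hT hi hR rot8_150 rot8_150r) (AllP.cons (Just.rot hT hi hR rot8_151 rot8_151r) (AllP.nil))))))))))))))))))))))))))))))))))))))))))))))))))))))))))))))))))))))))))))))))))))))))))))))))))))))))))))))))))))))))))))))))))))))))))))))))))))))))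
theorem hlet : AllP (LetOk H (letV a EX) T L) L :=
  show AllP (LetOk H (letV a EX) T L) [1, 2, 3, 4, 5, 6, 7, 8] from AllP.cons (let1 hi hR hb) (AllP.cons (let2 hi hR hb) (AllP.cons (let3 hi hR hb) (AllP.cons (let4 hi hR hb) (AllP.cons (let5 hi hR hb) (AllP.cons (let6 hi hR hb) (AllP.cons (let7 hi hR hb) (AllP.cons (let8 hi hR hb) (AllP.nil))))))))
end

theorem cert : Cert 5 2 RL BW fP 4060 :=
  Cert.of hT ⟨hsq, hrel⟩ hPZ (fun _ _ _ hi hR _ hb => hlet hi hR hb) hcov hg (by decide +kernel)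

end Cfsg.Agent.Spor.Rua
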