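import Cfsg.Agent.Spor.Sub3
import Cfsg.Agent.Spor.Rua.S.Main
import Cfsg.Agent.Spor.Rua.L.Main
import Cfsg.Agent.Spor.DC
import Cfsg.Agent.Spor.Rub.Grp
import Cfsg.Agent.Spor.RuaA1.Main

set_option autoImplicit false
set_option maxRecDepth 100000

namespace Cfsg.Agent.Spor.Rua

theorem bound : Bound 5 2 RL 145926144000 := show Bound 5 2 RL (4060 * 35942400) from (Rua.cert.bound' Rub.bound (H := [([], 0, true), ([], 1, true), ([], 2, true), ([], 3, true), ([], 4, true), ([], 5, true), ([], 6, true), ([], 7, true), ([], 8, true), ([], 9, true), ([], 10, true), ([2, 8], 5, false), ([], 12, true), ([], 13, true), ([], 14, true), ([], 15, true), ([], 16, true), ([], 17, true), ([], 18, true), ([], 19, true), ([], 20, true), ([], 21, true), ([], 22, true), ([], 23, true), ([], 24, true), ([], 25, true), ([], 26, true), ([], 27, true), ([], 28, true), ([], 29, true), ([], 30, true), ([], 31, true)]) (H' := [([], 32, false), ([], 0, true), ([], 1, true), ([], 2, true), ([], 3, true), ([], 4, true), ([], 5, true), ([], 6, true), ([], 7, true), ([], 8, true), ([], 9, true), ([],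 10, true), ([2, 8], 5, false), ([], 12, true), ([], 13, true), ([], 14, true), ([], 15, true), ([], 16, true), ([], 17, true)]) (by decide +kernel) (by decide +kernel))

/-- the permutation group -/
noncomputable abbrev P : Subgroup (Equiv.Perm ℕ) := gsub 5 fP
noncomputable abbrev p : ℕ → P := lift P fP

theorem lbP : 145926144000 ∣ Nat.card P := by
  rw [P, L.eG]; exact L.lb

theorem cardP : Nat.card P = 145926144000 := Nat.dvd_antisymm (bound _ _ cert.pres) lbP

instance instFiniteP : Finite P := Nat.finite_of_card_ne_zero (by rw [cardP]; norm_num)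

theorem coatomP : IsCoatom (wsub 5 p BW) :=
  cert.self.coatom (by norm_num) ((map_wsub_lift fP BW).trans S.eH)
    ((Subgroup.range_subtype _).trans S.eG) S.hX S.hXc S.hY

theorem coreP : (wsub 5 p BW).normalCore = ⊥ :=
  cert.self.core_eq_bot P.subtype_injective ((Subgroup.range_subtype P).symm ▸ S.hfix)

theorem presP : Pres 5 2 RL p := cert.pres.lift

theorem perfectP : commutator P = ⊤ :=
  RuaA1.cert.bound_nil.perfect presP (gsub_lift 5 fP) [[0], [2], [4], [6], [8]] (H := [([], 0, true), ([], 1, true), ([], 2, true), ([], 3, true), ([], 4, true), ([], 5, true), ([], 6, true), ([], 7, true), ([], 8, true), ([], 9, true), ([], 10, true), ([2, 8], 5, false), ([], 12, true), ([], 13, true), ([], 14, true), ([], 15, true), ([], 16, true), ([], 17, true), ([], 18, true), ([], 19, true), ([], 20, true), ([], 21, true), ([], 22, true), ([], 23, true), ([], 24, true), ([], 25, true), ([], 26, true), ([], 27, true), ([], 28, true), ([], 29, true), ([], 30, true), ([], 31, true), ([], 33, true), ([], 34, true), ([], 35, true), ([], 36, true), ([], 39, true), ([], 40, true),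 ([], 41, true), ([], 45, true), ([], 46, true), ([], 51, true)]) (by decide +kernel)

noncomputable abbrev H : Subgroup P := wsub 5 p BW

theorem cardH : Nat.card H = 35942400 :=
  card_of_index (cardP.trans (by norm_num)) cert.self.index (by norm_num)

theorem equivH : Nonempty (Rub.P ≃* H) := by
  obtain ⟨e, -⟩ := Rub.bound.equiv (by norm_num) Rub.cert.pres
    (presP.subst (WD := BW) (H := [([], 32, false), ([], 0, true), ([], 1, true), ([], 2, true), ([], 3, true), ([], 4, true), ([], 5, true), ([], 6, true), ([], 7, true), ([], 8, true), ([], 9, true), ([], 10, true), ([2, 8], 5, false), ([], 12, true), ([], 13, true), ([], 14, true), ([], 15, true), ([], 16, true), ([], 17, true)]) (by decide +kernel)) Rub.lbP (dvd_of_eq cardH.symm)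
  exact ⟨e⟩

theorem simpleP : IsSimpleGroup P := by
  obtain ⟨e⟩ := equivH
  exact simple_of_rank coatomP coreP (cases_congr e Rub.casesP)
    (dvd_of_eq ((Subgroup.index_map_equiv _ e).trans Rub.indexT)) perfectP S.X
    (fun t x => P.subtype x = evA S.U.τ t.1) (fun _ _ _ h1 h2 => P.subtype_injective (h1.trans h2.symm))
    (cert.self.dcov ((map_wsub_lift fP BW).trans S.eH) ((Subgroup.range_subtype _).trans S.eG) S.hX S.hXc)
    [2, 5, 7] (by rw [cert.self.index]; decide +kernel) (by decide) (by decide)

end Cfsg.Agent.Spor.Rua
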